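import Cfsg.Agent.L.UB

/-! `PSU(4, 3)` has one class of involutions. -/

namespace L.U4One
open H13 H14.PK H14.PK.TS H27.PKx H27.MG L.DC L.U4 Subgroup Cfsg

theorem cls {G : Type*} [Group G] [Finite G] {e : ℕ → G} {u : G} (h : CG 1152 M I e) (i : Ind e u gs as) (c : Nat.card G = 3265920)
    (w : G) (w2 : w * w = 1) (w1 : w ≠ 1) : IsConj w (e 1) := by
  have : Fact (Nat.Prime 2) := ⟨Nat.prime_two⟩
  obtain ⟨T, hT⟩ := H26.exists_isSyl 2 h.sub
  have ix : h.sub.index = 2835 := by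
    have := h.sub.card_mul_index
    rw [h.card, c] at this; omega
  have s : H26.IsSyl 2 T ⊤ := H26.isSyl_of_not_dvd le_top hT.pg (by
    rw [← Subgroup.relIndex_mul_relIndex T h.sub _ hT.le le_top, Subgroup.relIndex_top_right, ix, Nat.prime_two.dvd_mul, not_or]
    exact ⟨hT.not_dvd, by decide⟩)
  obtain ⟨g, -, r⟩ := s.exists_cj_le (H26.isPGroup_zpowers ⟨1, by rw [pow_one, pow_two, w2]⟩) le_top
  obtain ⟨d, a, r1, r2⟩ := h.cls cok (hT.le (r (H26.conj_mem_cj (mem_zpowers w)))) (cj_sq w2) (by simpa using w1)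
  refine ((isConj_iff.2 ⟨g, rfl⟩).trans (isConj_iff.2 ⟨_, r2⟩)).trans ?_
  have i2 : IsConj (e 2) (e 1) := isConj_iff.2 ⟨u, mul_inv_eq_iff_eq_mul.2 (i 4)⟩
  have j : ∀ {a b c : ℕ}, cj M I a b = c → IsConj (e b) (e c) := fun r => isConj_iff.2 ⟨_, r ▸ h.cj _ _⟩
  simp only [List.mem_cons, List.not_mem_nil, or_false] at r1
  rcases r1 with rfl | rfl | rfl | rfl
  · exact .refl _
  · exact i2
  · exact ((isConj_iff.2 ⟨u, mul_inv_eq_iff_eq_mul.2 (i 3)⟩).trans (j (by decide +kernel : cj M I 224 8 = 2))).trans i2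
  · exact ((isConj_iff.2 ⟨u, mul_inv_eq_iff_eq_mul.2 (i 2)⟩).trans (j (by decide +kernel : cj M I 128 16 = 2))).trans i2

theorem one (K : Type) [Field K] [Fintype K] (h : Fintype.card K = 9) (x y : Cfsg.PSU 4 K 3) (x2 : x * x = 1) (y2 : y * y = 1)
    (x1 : x ≠ 1) (y1 : y ≠ 1) : IsConj x y := by
  obtain ⟨S, m⟩ := H27.U43.model K h
  have := S.finite
  obtain ⟨-, b, c, d, -, -⟩ := packX m pack
  have h' := CG.ofRules b c two
  exact (cls h' d m.card x x2 x1).trans (cls h' d m.card y y2 y1).symm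

end L.U4One
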