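import Cfsg.Agent.L.Fz1
import Cfsg.Agent.H03.FT3

/-! The easy fields of `L.Fz.Cf`. -/

set_option autoImplicit false
open Cfsg BG Subgroup H20.FtW H01.XS

namespace L.Fz
universe u
variable {G : Type u} [Group G] [Finite G] {Q B : Subgroup G} {z s t w : G}

/-- the involutions of `A` not conjugate to `z` -/
abbrev DD (A : Subgroup G) (z : G) : Set G := {t | t ∈ A ∧ t ≠ 1 ∧ ¬ IsConj z t}

theorem la (l : LX z Q) (u : ∀ P : Subgroup G, IsPGroup 2 P → Un P)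
    (st : ∀ x ∈ Q, x * x = 1 → x ≠ 1 → x ≠ z → IsConj s x ∨ IsConj t x) (wB : w ∈ B) (wz : w ≠ z) (zw : IsConj z w)
    (e : EA C_(B)) (c : Nat.card C_(B) = 2048) (e3 : C_(B) ⊓ Q = B) (zB : z ∈ B) (cB : Nat.card B = 128)
    (cov : ∀ x ∈ C_(B), ∃ g, g * x * g⁻¹ ∈ Q) (nz : ∃ x ∈ B, x ≠ 1 ∧ ¬ IsConj z x)
    (trDB : ∀ s ∈ DD C_(B) z, s ∈ B → ∀ t ∈ DD C_(B) z, t ∈ B → ∃ m ∈ N_(C_(B)), m * z * m⁻¹ = z ∧ m * s * m⁻¹ = t)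
    (trZB : ∀ x ∈ B, x ∉ DD C_(B) z → x ≠ 1 → x ≠ z → ∀ y ∈ B, y ∉ DD C_(B) z → y ≠ 1 → y ≠ z →
      ∃ m ∈ N_(C_(B)), m * z * m⁻¹ = z ∧ m * x * m⁻¹ = y)
    (cos : ∀ x ∈ C_(B), x ∉ B → ∀ y ∈ C_(B), y ∉ B → ∃ m ∈ N_(C_(B)), m * z * m⁻¹ = z ∧ m * x * m⁻¹ * y ∈ B)
    (cN : Nat.card (N_(C_(B)) ⊓ centralizer {z} : Subgroup G) ∣ 2 ^ 21 * 3 ^ 7 * 5)
    (c21 : 2 ^ 21 ∣ Nat.card (N_(C_(B)) ⊓ centralizer {z} : Subgroup G))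
    (c19 : ∀ t ∈ DD C_(B) z, t ∈ B → 2 ^ 19 ∣ Nat.card (N_(C_(B)) ⊓ centralizer {z} ⊓ centralizer {t} : Subgroup G) ∧
      ¬ 2 ^ 20 ∣ Nat.card (N_(C_(B)) ⊓ centralizer {z} ⊓ centralizer {t} : Subgroup G)) :
    Cf C_(B) N_(C_(B)) B (DD C_(B) z) z := by
  have BA : B ≤ C_(B) := e3.ge.trans inf_le_left
  have BQ : B ≤ Q := e3.ge.trans inf_le_right
  have nM : ∀ m ∈ N_(C_(B)), ∀ x ∈ C_(B), m * x * m⁻¹ ∈ C_(B) := le_norm_iff.1 le_rfl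
  have cc : ∀ x k : G, IsConj x (k * x * k⁻¹) := fun x k => isConj_iff.2 ⟨k, rfl⟩
  obtain ⟨T, hT, lT⟩ := sylow_superset Nat.prime_two e.pg (le_top (a := C_(B)))
  obtain ⟨x0, x1, x2⟩ := nz
  obtain ⟨-, -, -, r⟩ := core u l.z1 st (BQ wB) wz zw e c (BA zB) cov ⟨x0, BA x1, x2⟩ hT
    (th_eq (u T (hT.pg Nat.prime_two)) lT e c).symm
  have QB : Q ≤ N_(B) := le_norm_iff.2 fun q i b j => by
    rcases l.cm i (BQ j) with k | k <;> rw [k]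
    · simpa using j
    · simpa using mul_mem zB j
  refine ⟨e, c, le_normalizer, nM, fun m _ k => mem_centralizer_iff.2 fun b j => (k b (BA j)).symm, fun t k => ⟨k.1, k.2.1⟩,
    fun m i t k => ⟨nM m i t k.1, mt conj_eq_one_iff.1 k.2.1, fun j => k.2.2 (j.trans (cc t m).symm)⟩,
    fun a i b j => r a i.1 b j.1 i.2.1 j.2.1 (iff_of_false i.2.2 j.2.2),
    fun x i j k => r z (BA zB) x i l.z1 j (iff_of_true (.refl _) (by_contra fun n => k ⟨i, j, n⟩)),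
    l.z1, fun k => k.2.2 (.refl _), zB, BA, cB, fun m i j x k => e3.le ⟨nM m i x (BA k), ?_⟩, fun t k j => ?_,
    ⟨x0, ⟨BA x1, x2⟩, x1⟩, ⟨w, wB, fun k => k.2.2 zw, fun k => l.z1 (by simpa [k] using zw), wz⟩,
    ⟨Q, norm_cent QB, l.aes.isPGroup, fun x _ k => l.cz k⟩, trDB, trZB, cos, cN, c21, c19⟩
  · exact le_norm_iff.1 l.norm m (mem_cent1.2 (mul_inv_eq_iff_eq_mul.1 j)) x (BQ k)
  · obtain ⟨q, -, h⟩ := (⟨l.aes, l.cent, l.norm⟩ : H03.ES Q z).lx.exists_conj (BQ j) (e t k.1) fun m =>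
      (l.aes.eq_or m).elim k.2.1 fun h => k.2.2 (h ▸ .refl _)
    exact h ▸ ⟨h ▸ mul_mem k.1 (BA zB), mt conj_eq_one_iff.1 k.2.1, fun j => k.2.2 (j.trans (cc t q).symm)⟩

end L.Fz
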