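import Mathlib
import Cfsg.Agent.L.SL2Char
import Cfsg.Prelude.Def_DegreeGraph

/-!
Character degrees of `SL₂(q)` and `PSL₂(q)` (namespace `L.SLc`): `deg_cases`, `q_mem`, `add_mem`, `sub_mem`
for `S ≅ PSL₂(q)` or `SL₂(q)` (`IsL2 F S`).
-/

set_option autoImplicit false
set_option linter.unusedSectionVars false
set_option linter.unusedSimpArgs false

namespace L.SLc

open Matrix Cfsg H05
open scoped MatrixGroups

variable {F : Type*} [Field F] [Fintype F]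

theorem charDegrees_mono {G H : Type*} [Group G] [Group H] (f : G →* H) (hf : Function.Surjective f) :
    charDegrees H ⊆ charDegrees G := by
  rintro _ ⟨χ, rfl⟩
  exact ⟨⟨_, χ.2.comp_of_surjective f hf⟩, charDegree_comp _ f⟩

theorem exists_descend {χ : SL2 F → ℂ} (hχ : IsIrrCharacter (SL2 F) χ) (h : χ (-1) = χ 1) :
    ∃ ψ : PSL(2, F) → ℂ, IsIrrCharacter PSL(2, F) ψ ∧ χ = fun g => ψ (QuotientGroup.mk g) := by
  classical
  refine hχ.exists_quotient _ fun x hx => ?_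
  rcases SL2_scal_iff.1 (mem_center_iff_isScal.1 hx) with rfl | rfl
  exacts [rfl, h]

theorem mem_psl {χ : SL2 F → ℂ} (hχ : IsIrrCharacter (SL2 F) χ) (h : χ (-1) = χ 1) {d : ℕ} (hd : χ 1 = d) :
    d ∈ charDegrees PSL(2, F) := by
  obtain ⟨ψ, hψ, rfl⟩ := exists_descend hχ h
  exact ⟨⟨ψ, hψ⟩, charDegree_eq_of_apply_one hd⟩

theorem deg_cases_SL {d : ℕ} (hd : d ∈ charDegrees (SL2 F)) : d = 1 ∨ d = Fintype.card F ∨ d = Fintype.card F + 1 ∨
    d = Fintype.card F - 1 ∨ (Odd (Fintype.card F) ∧ (2 * d = Fintype.card F + 1 ∨ 2 * d = Fintype.card F - 1)) := by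
  classical
  obtain ⟨χ, rfl⟩ := hd
  obtain ⟨g₀, h₀⟩ := exists_noEig_SL (F := F)
  rcases irr_cases_deg h₀ χ.2 χ.2.charDegree_eq.symm with h | h | h | h | ⟨h1, h, -⟩ | ⟨h1, h, -⟩
  · exact Or.inl h.1
  · exact Or.inr (Or.inl h.1)
  · exact Or.inr (Or.inr (Or.inl h.1))
  · exact Or.inr (Or.inr (Or.inr (Or.inl h.1)))
  · exact Or.inr (Or.inr (Or.inr (Or.inr ⟨h1, Or.inl (by rw [Nat.odd_iff] at h1; omega)⟩)))
  · exact Or.inr (Or.inr (Or.inr (Or.inr ⟨h1, Or.inr (by rw [Nat.odd_iff] at h1; omega)⟩)))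

theorem q_mem_psl : Fintype.card F ∈ charDegrees PSL(2, F) := by
  classical
  exact mem_psl isIrr_Sts (by rw [Sts_scal isScal_neg_one, Sts_one]) Sts_one

theorem exists_pow_four_ne {X : Type*} [Group X] [Finite X] [IsCyclic X] (h : ¬ Nat.card X ∣ 4) :
    ∃ x : X, (x ^ 2) ^ 2 ≠ 1 := by
  obtain ⟨g, hg⟩ := IsCyclic.exists_ofOrder_eq_natCard (α := X)
  exact ⟨g, fun e => h (hg ▸ orderOf_dvd_of_pow_eq_one (by rwa [← pow_mul] at e))⟩

theorem add_mem_psl (h4 : 4 ≤ Fintype.card F) (h5 : Fintype.card F ≠ 5) :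
    Fintype.card F + 1 ∈ charDegrees PSL(2, F) := by
  classical
  have := isCyclic_mulChar (F := F)
  obtain ⟨β, hβ⟩ := exists_pow_four_ne (X := MulChar F ℂ) (by
    rw [card_mulChar]; intro h
    have := Nat.le_of_dvd (by decide) h
    have : Fintype.card F - 1 = 3 := by omega
    rw [this] at h; omega)
  refine mem_psl ((isIrr_R_iff _).2 hβ) ?_ (by rw [R_one]; push_cast; rfl)
  rw [R_scal _ isScal_neg_one, R_one, coe_neg, sq, MulChar.mul_apply, ← map_mul]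
  simp

theorem sub_mem_psl (h4 : 4 ≤ Fintype.card F) : Fintype.card F - 1 ∈ charDegrees PSL(2, F) := by
  classical
  obtain ⟨g₀, h₀⟩ := exists_noEig_SL (F := F)
  have := isCyclic_C h₀
  have := isCyclic_dual (C g₀)
  have := finite_dual (A := C g₀)
  obtain ⟨β, hβ⟩ := exists_pow_four_ne (X := C g₀ →* ℂˣ) (by
    rw [card_dual_cyclic, card_C h₀]; intro h
    have := Nat.le_of_dvd (by decide) h
    omega)
  refine mem_psl (isIrr_pi h₀ hβ) ?_ (by rw [pi_one, cast_card_sub_one])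
  have hz : (-1 : SL2 F) ∈ C g₀ := Subgroup.center_le_centralizer _ neg_one_mem_center
  rw [pi_scal h₀ _ (z := ⟨-1, hz⟩) isScal_neg_one, pi_one, MonoidHom.pow_apply, ← map_pow,
    show (⟨-1, hz⟩ : C g₀) ^ 2 = 1 from Subtype.ext (by simp)]
  simp

/-- `S ≅ PSL₂(F)` or `S ≅ SL₂(F)`. -/
abbrev IsL2 (F : Type*) [Field F] (S : Type*) [Group S] : Prop :=
  Nonempty (S ≃* PSL(2, F)) ∨ Nonempty (S ≃* SL(2, F))

variable {S : Type*} [Group S]

theorem IsL2.sub (h : IsL2 F S) : charDegrees S ⊆ charDegrees (SL2 F) := by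
  rcases h with ⟨⟨e⟩⟩ | ⟨⟨e⟩⟩
  · exact (charDegrees_mono e.symm.toMonoidHom e.symm.surjective).trans
      (charDegrees_mono _ (QuotientGroup.mk'_surjective _))
  · exact charDegrees_mono e.symm.toMonoidHom e.symm.surjective

theorem IsL2.sup (h : IsL2 F S) : charDegrees PSL(2, F) ⊆ charDegrees S := by
  rcases h with ⟨⟨e⟩⟩ | ⟨⟨e⟩⟩
  · exact charDegrees_mono e.toMonoidHom e.surjective
  · exact (charDegrees_mono _ (QuotientGroup.mk'_surjective _)).trans (charDegrees_mono e.toMonoidHom e.surjective)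

theorem IsL2.dvd (h : IsL2 F S) {d : ℕ} (hd : d ∈ charDegrees S) :
    d ∣ Fintype.card F ∨ d ∣ Fintype.card F + 1 ∨ d ∣ Fintype.card F - 1 := by
  rcases deg_cases_SL (h.sub hd) with h | h | h | h | ⟨-, h | h⟩
  · exact Or.inl (h ▸ one_dvd _)
  · exact Or.inl h.dvd
  · exact Or.inr (Or.inl h.dvd)
  · exact Or.inr (Or.inr h.dvd)
  · exact Or.inr (Or.inl (Dvd.intro_left _ h))
  · exact Or.inr (Or.inr (Dvd.intro_left _ h))

theorem IsL2.degreePrimes (h : IsL2 F S) (h4 : 4 ≤ Fintype.card F) (h5 : Fintype.card F ≠ 5) :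
    degreePrimes S = {r : ℕ | r.Prime ∧ r ∣ Fintype.card F * (Fintype.card F ^ 2 - 1)} := by
  ext r
  refine and_congr_right fun hr => ?_
  rw [show Fintype.card F ^ 2 - 1 = (Fintype.card F + 1) * (Fintype.card F - 1) by
    simpa using Nat.sq_sub_sq (Fintype.card F) 1, hr.dvd_mul, hr.dvd_mul]
  constructor
  · rintro ⟨d, hd, h1⟩
    exact (h.dvd hd).imp h1.trans (Or.imp h1.trans h1.trans)
  · rintro (h1 | h1 | h1)
    exacts [⟨_, h.sup q_mem_psl, h1⟩, ⟨_, h.sup (add_mem_psl h4 h5), h1⟩, ⟨_, h.sup (sub_mem_psl h4), h1⟩]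

theorem IsL2.adj (h : IsL2 F S) (h4 : 4 ≤ Fintype.card F) (h5 : Fintype.card F ≠ 5) (r s : ℕ) :
    (degreeGraph S).Adj r s ↔ (r ≠ s ∧ r.Prime ∧ s.Prime ∧ ((r ∣ Fintype.card F + 1 ∧ s ∣ Fintype.card F + 1) ∨
      (r ∣ Fintype.card F - 1 ∧ s ∣ Fintype.card F - 1))) := by
  refine and_congr_right fun h1 => and_congr_right fun hr => and_congr_right fun hs => ?_
  constructor
  · rintro ⟨d, hd, h2⟩
    rcases h.dvd hd with h3 | h3 | h3
    · obtain ⟨p, -, n, hp, hn⟩ := FiniteField.card' F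
      rw [hn] at h3
      exact absurd (((Nat.prime_dvd_prime_iff_eq hr hp).1 (hr.dvd_of_dvd_pow
        ((dvd_mul_right _ _).trans (h2.trans h3)))).trans ((Nat.prime_dvd_prime_iff_eq hs hp).1 (hs.dvd_of_dvd_pow
        ((dvd_mul_left _ _).trans (h2.trans h3)))).symm) h1
    · exact Or.inl ⟨(dvd_mul_right _ _).trans (h2.trans h3), (dvd_mul_left _ _).trans (h2.trans h3)⟩
    · exact Or.inr ⟨(dvd_mul_right _ _).trans (h2.trans h3), (dvd_mul_left _ _).trans (h2.trans h3)⟩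
  · have hc := (Nat.coprime_primes hr hs).2 h1
    rintro (⟨h2, h3⟩ | ⟨h2, h3⟩)
    exacts [⟨_, h.sup (add_mem_psl h4 h5), hc.mul_dvd_of_dvd_of_dvd h2 h3⟩,
      ⟨_, h.sup (sub_mem_psl h4), hc.mul_dvd_of_dvd_of_dvd h2 h3⟩]

end L.SLc
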