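import Cfsg.Agent.L.Fz2
import Cfsg.Agent.H27.FzC
import Cfsg.Agent.H18.FdC

/-! Fusion control by `N(A)` and the structure `L.Fz.Cf` in a group of large Fischer type. -/

set_option autoImplicit false
open Cfsg BG Subgroup H20.FtW H01.XS H01.XF

namespace L.Fz
universe u
variable {G : Type u} [Group G] [Finite G] {A X Q : Subgroup G} {z s t w x y g : G}

theorem fc (u : ∀ P : Subgroup G, IsPGroup 2 P → Un P) (e : EA A) (c : Nat.card A = 2048) (l : A ≤ X) (l' : cj g A ≤ X) :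
    ∃ k ∈ X, k * g ∈ N_(A) := by
  obtain ⟨S, s, a⟩ := sylow_superset Nat.prime_two e.pg l
  obtain ⟨k, kc, b⟩ := sylow_Jsub Nat.prime_two s (e.cj g).pg l'
  have r := (u S (s.pg Nat.prime_two)).2 _ b _ a ((e.cj g).cj k) e (by rw [BG.card_cj, BG.card_cj, c]) c
  rw [BG.cj_cj] at r
  exact ⟨k, kc, BG.cj_eq_self_iff.1 r⟩

theorem sy (u : ∀ P : Subgroup G, IsPGroup 2 P → Un P) (e : EA A) (c : Nat.card A = 2048) (X : Subgroup G) (l : A ≤ X) (k : ℕ)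
    (d : 2 ^ k ∣ Nat.card X) : 2 ^ k ∣ Nat.card ↥(N_(A) ⊓ X) := by
  obtain ⟨S, s, a⟩ := sylow_superset Nat.prime_two e.pg l
  refine (s.pow_dvd Nat.prime_two d).trans (card_dvd_of_le (le_inf (le_norm_iff_cj.2 fun m i => ?_) s.le))
  exact (u S (s.pg Nat.prime_two)).2 _ ((cj_mono m a).trans (cj_of_mem i).le) _ a (e.cj m) e ((BG.card_cj _ _).trans c) c

theorem tr (u : ∀ P : Subgroup G, IsPGroup 2 P → Un P) (e : EA A) (c : Nat.card A = 2048) (zA : z ∈ A) (hx : x ∈ A) (hy : y ∈ A)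
    (i : g ∈ C_[z]) (r : g * x * g⁻¹ = y) : ∃ m ∈ N_(A), m * z * m⁻¹ = z ∧ m * x * m⁻¹ = y := by
  have gz : g * z * g⁻¹ = z := mul_inv_eq_iff_eq_mul.2 (mem_cent1.1 i)
  obtain ⟨k, ⟨k1, k2⟩, m⟩ := fc (X := C_[z] ⊓ C_[y]) (g := g) u e c (le_inf (e.cent zA) (e.cent hy))
    (le_inf ((e.cj g).cent (gz ▸ conj_mem_cj g zA)) ((e.cj g).cent (r ▸ conj_mem_cj g hx)))
  refine ⟨_, m, mul_inv_eq_iff_eq_mul.2 (mem_cent1.1 (mul_mem k1 i)), ?_⟩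
  rw [show k * g * x * (k * g)⁻¹ = k * (g * x * g⁻¹) * k⁻¹ by group, r, mem_cent1.1 k2, mul_inv_cancel_right]

theorem two (st : ∀ x ∈ Q, x * x = 1 → x ≠ 1 → x ≠ z → (∃ h ∈ C_[z], h * s * h⁻¹ = x) ∨ ∃ h ∈ C_[z], h * t * h⁻¹ = x)
    {a b : G} (aQ : a ∈ Q) (a2 : a * a = 1) (a1 : a ≠ 1) (az : a ≠ z) (za : IsConj z a)
    (bQ : b ∈ Q) (b2 : b * b = 1) (b1 : b ≠ 1) (zb : ¬ IsConj z b)
    (xQ : x ∈ Q) (x2 : x * x = 1) (x1 : x ≠ 1) (xz : x ≠ z) (yQ : y ∈ Q) (y2 : y * y = 1) (y1 : y ≠ 1) (yz : y ≠ z)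
    (i : IsConj z x ↔ IsConj z y) : ∃ g ∈ C_[z], g * x * g⁻¹ = y := by
  have k : ∀ {r p : G}, (∃ h ∈ C_[z], h * r * h⁻¹ = p) → (IsConj z r ↔ IsConj z p) := fun ⟨h, _, e⟩ =>
    ⟨fun j => j.trans (isConj_iff.2 ⟨h, e⟩), fun j => j.trans (isConj_iff.2 ⟨h, e⟩).symm⟩
  have j : ∀ {r : G}, (∃ h ∈ C_[z], h * r * h⁻¹ = x) → (∃ h ∈ C_[z], h * r * h⁻¹ = y) → ∃ g ∈ C_[z], g * x * g⁻¹ = y := by
    rintro r ⟨h, i1, e1⟩ ⟨h', i2, e2⟩
    exact ⟨h' * h⁻¹, mul_mem i2 (inv_mem i1), by rw [← e1, ← e2]; group⟩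
  have A := (st a aQ a2 a1 az).imp k k
  have B := (st b bQ b2 b1 fun e => zb (e ▸ .refl _)).imp k k
  rcases st x xQ x2 x1 xz with p | p <;> rcases st y yQ y2 y1 yz with r | r
  · exact j p r
  · have := k p; have := k r; tauto
  · have := k p; have := k r; tauto
  · exact j p r

variable {V : Type u} [AddCommGroup V] [Module (ZMod 2) V] [Finite V] {Γ : Type u} [Group Γ] [Finite Γ]
  {T : Γ → V →+ V} {d : Γ} {M : Subgroup Γ} {β : V →+ V →+ ZMod 2} {q : V → ZMod 2} {ν : G → V} {f : C_[z] →* Γ} {π : G → Γ}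

theorem cs (b : Br z Q f π ν T d M β q) (u : ∀ P : Subgroup G, IsPGroup 2 P → Un P) (e : EA A) (c : Nat.card A = 2048) (zA : z ∈ A)
    (AM : ∀ x ∈ A, π x ∈ M) (oc : ∀ x ∈ M, ∀ y ∈ M, x * x = 1 → y * y = 1 → x ≠ 1 → y ≠ 1 → ∃ g, g * x * g⁻¹ = y)
    (hx : x ∈ A) (x1 : x ∉ Q) (hy : y ∈ A) (y1 : y ∉ Q) : ∃ m ∈ N_(A), m * z * m⁻¹ = z ∧ m * x * m⁻¹ * y ∈ A ⊓ Q := by
  have Az := e.cent zA
  have sq : ∀ x ∈ A, π x * π x = 1 := fun x i => by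
    rw [← b.mul x (Az i) x (Az i), e x i]; exact (b.ker 1 (one_mem _)).2 (one_mem _)
  obtain ⟨γ, r⟩ := oc _ (AM x hx) _ (AM y hy) (sq x hx) (sq y hy) (mt (b.ker x (Az hx)).1 x1) (mt (b.ker y (Az hy)).1 y1)
  obtain ⟨g, i, rfl⟩ := b.sur γ
  have cjm : ∀ k ∈ C_[z], ∀ a ∈ C_[z], π (k * a * k⁻¹) = π k * π a * (π k)⁻¹ := fun k i a j => by
    rw [b.mul _ (mul_mem i j) _ (inv_mem i), b.mul _ i _ j, b.inv _ i]
  have mX : ∀ a (j : a ∈ C_[z]), π a * π y = π y * π a → a ∈ (C_[π y].comap f).map C_[z].subtype := fun a j k =>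
    ⟨⟨a, j⟩, mem_cent1.2 (by rw [b.pf]; exact k), rfl⟩
  obtain ⟨_, ⟨k, k1, rfl⟩, m⟩ := fc (g := g) u e c (fun a j => mX a (Az j) (by
      rw [← b.mul _ (Az j) _ (Az hy), e.comm j hy, b.mul _ (Az hy) _ (Az j)])) fun a j0 => by
    obtain ⟨a, j, rfl⟩ := mem_cj'.1 j0
    refine mX _ (mul_mem (mul_mem i (Az j)) (inv_mem i)) ?_
    rw [cjm g i a (Az j), ← r, conj_mul, conj_mul, ← b.mul _ (Az j) _ (Az hx), e.comm j hx, b.mul _ (Az hx) _ (Az j)]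
  have kg : k.1 * g ∈ C_[z] := mul_mem k.2 i
  have k2 : π k * π y = π y * π k := by rw [← b.pf]; exact mem_cent1.1 k1
  refine ⟨_, m, mul_inv_eq_iff_eq_mul.2 (mem_cent1.1 kg), mul_mem (le_norm_iff.1 le_rfl _ m x hx) hy, ?_⟩
  have xz : k.1 * g * x * (k.1 * g)⁻¹ ∈ C_[z] := mul_mem (mul_mem kg (Az hx)) (inv_mem kg)
  refine (b.ker _ (mul_mem xz (Az hy))).1 ?_
  rw [b.mul _ xz _ (Az hy), cjm _ kg _ (Az hx), b.mul _ k.2 _ i,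
    show π k * π g * π x * (π k * π g)⁻¹ = π k * (π g * π x * (π g)⁻¹) * (π k)⁻¹ by group, r, k2, mul_inv_cancel_right, sq y hy]

theorem cf (pk : PkS.{u}) (z : G) (Q : Subgroup (Subgroup.centralizer ({z} : Set G))) [Q.Normal]
    (hF : Cfsg.IsOfLargeFischerTypeAt z Q) :
    (∀ P : Subgroup G, IsPGroup 2 P → Un P) ∧ ∃ A B : Subgroup G, Cf A N_(A) B (DD A z) z := by
  obtain ⟨V, _, _, _, π, ν, T', d, M', β, q, b⟩ := br hF
  obtain ⟨⟨-, -, -, -, g, ⟨m, i⟩, n⟩, N0, M0, nN, -, l1, l2, cN, ⟨K, _, _, cK, ⟨e⟩⟩, iM⟩ := id hF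
  have i' : g * z * g⁻¹ ∈ Q.map (centralizer {z}).subtype := ⟨_, i, rfl⟩
  have h := b.pt g i' n
  have lx := b.md.lx
  obtain ⟨S, -, s2, s3⟩ : ∃ S, (⊥ : Subgroup _) ≤ S ∧ S ≤ h.S _ ∧ Nat.card S = 256 := by
    have : Fact (Nat.Prime 2) := ⟨Nat.prime_two⟩
    have c1 := (h.S (ν (g * z * g⁻¹))).card_mul_index
    rw [h.orb.1, h.cΓ] at c1
    have c2 : Nat.card (h.S (ν (g * z * g⁻¹))) = 11520 := by omega
    obtain ⟨P⟩ : Nonempty (Sylow 2 (h.S (ν (g * z * g⁻¹)))) := inferInstance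
    refine ⟨P.1.map (h.S _).subtype, bot_le, map_subtype_le _, ?_⟩
    rw [card_map_of_injective (subtype_injective _), P.card_eq_multiplicity, c2]
    decide +kernel
  obtain ⟨L, B, Y, k⟩ := pk h S s2 s3
  obtain ⟨e1, e2, e3, e4⟩ := H20.XhE.ea b (H03.FT.pp b i' n) ((card_cj _ _).trans b.card) k
  have zB : z ∈ b.md.pull B := ⟨b.md.lx.aes.mem, b.md.zz ▸ B.zero_mem⟩
  have BA : b.md.pull B ≤ C_(b.md.pull B) := e3.ge.trans inf_le_left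
  obtain ⟨x, x1, x2, x3⟩ := H03.FT.nz b i' n k
  have oc := H03.FT.oc b h (_root_.L.U4One.one K cK) nN (by rwa [QuotientGroup.ker_mk']) l2 (by rwa [QuotientGroup.ker_mk'])
      (e.toMonoidHom.comp (QuotientGroup.mk' _)) (e.surjective.comp (QuotientGroup.mk'_surjective _)) (by ext x; simp) iM
  obtain ⟨T0⟩ : Nonempty (Sylow 2 C_[z]) := inferInstance
  obtain ⟨C, eC, cC, -⟩ := H14.XhZ.fin pk (fun s p c k => H20.XhE.ea s p c k) z Q hF T0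
  have u0 := un_of (φ := C_[z].subtype.comp (T0 : Subgroup C_[z]).subtype)
    ((subtype_injective _).comp (subtype_injective _)) eC cC
  rw [MonoidHom.range_comp, range_subtype] at u0
  have s0 := (isSylowIn_map Nat.prime_two T0).trans_idx (M := ⊤) le_top (by rw [relIndex_top_right]; exact lx.odd)
  have u := un_all s0 u0
  obtain ⟨s, t, -, -, -, -, -, -, -, st⟩ := Cfsg.Agent.S5440.result z Q hF
  replace st : ∀ x ∈ Q.map C_[z].subtype, x * x = 1 → x ≠ 1 → x ≠ z →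
      (∃ h ∈ C_[z], h * s.1 * h⁻¹ = x) ∨ ∃ h ∈ C_[z], h * t.1 * h⁻¹ = x := by
    rintro _ ⟨x, hx, rfl⟩ x2 x1 xz
    have o : orderOf x = 2 := orderOf_eq_prime (Subtype.ext ((pow_two x.1).trans x2)) fun e => x1 (congrArg Subtype.val e)
    exact (st x hx o xz).imp (fun ⟨k, e⟩ => ⟨k, k.2, congrArg Subtype.val e⟩) fun ⟨k, e⟩ => ⟨k, k.2, congrArg Subtype.val e⟩
  have wB : g * z * g⁻¹ ∈ b.md.pull B := ⟨i', k.LB k.aL⟩
  have zw : IsConj z (g * z * g⁻¹) := isConj_iff.2 ⟨g, rfl⟩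
  have tt : ∀ x' ∈ b.md.pull B, x' ≠ 1 → x' ≠ z → ∀ y ∈ b.md.pull B, y ≠ 1 → y ≠ z → (IsConj z x' ↔ IsConj z y) →
      ∃ m ∈ N_(C_(b.md.pull B)), m * z * m⁻¹ = z ∧ m * x' * m⁻¹ = y := fun x' a a1 a2 y c c1 c2 j => by
    obtain ⟨r, r1, r2⟩ := two st i' (e1 _ (BA wB)) (mt conj_eq_one_iff.1 lx.z1) n zw x1.1 (e1 _ (BA x1)) x2 x3
      a.1 (e1 _ (BA a)) a1 a2 c.1 (e1 _ (BA c)) c1 c2 j
    exact tr u e1 e2 (BA zB) (BA a) (BA c) r1 r2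
  have nz : ∀ {y}, ¬ IsConj z y → y ≠ z := fun j e => j (e ▸ .refl _)
  have cz : Nat.card C_[z] = 8192 * 19595520 := by
    have a := card_inf_mul_relIndex (QuotientGroup.mk' Q).ker ⊤
    rw [relIndex_ker, inf_top_eq, ← MonoidHom.range_eq_map, MonoidHom.range_eq_top.2 (QuotientGroup.mk'_surjective Q), card_top,
      card_top, h.cΓ, QuotientGroup.ker_mk', ← card_map_of_injective (subtype_injective _), b.card] at a
    exact a.symm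
  refine ⟨u, _, _, la lx u (s := s) (t := t) (fun x a a1 a2 a3 => (st x a a1 a2 a3).imp
      (fun ⟨k, _, e⟩ => isConj_iff.2 ⟨k, e⟩) fun ⟨k, _, e⟩ => isConj_iff.2 ⟨k, e⟩) wB n zw e1 e2 e3 zB (by rw [b.md.card_pull, k.cB])
    (fun x o => H03.FT.cov pk b i' n k oc o) ⟨x, x1, x2, x3⟩
    (fun s a a' t c c' => tt s a' a.2.1 (nz a.2.2) t c' c.2.1 (nz c.2.2) (iff_of_false a.2.2 c.2.2))
    (fun x a a0 a1 a2 y c c0 c1 c2 => tt x a a1 a2 y c c1 c2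
      (iff_of_true (by_contra fun j => a0 ⟨BA a, a1, j⟩) (by_contra fun j => c0 ⟨BA c, c1, j⟩)))
    (fun x a a1 y c c1 => ?_) (H18.Fd.cN b i' n k oc) (sy u e1 e2 _ (cent_le_cent1 zB) 21 (by rw [cz]; decide))
    fun t a a' => H27.Fz.c19 b i' n e1 (BA zB) (sy u e1 e2) a.1 a.2.1 a.2.2 a'.1⟩
  exact (cs b u e1 e2 (BA zB) (fun x j => k.YM (e4.le ⟨⟨x, cent_le_cent1 zB j⟩, j, b.pf _⟩)) oc a (fun j => a1 (e3.le ⟨a, j⟩)) c
    fun j => c1 (e3.le ⟨c, j⟩)).imp fun m r => ⟨r.1, r.2.1, e3.le r.2.2⟩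

end L.Fz
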