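import Mathlib

/-!
# Simultaneous eigenspaces (weight spaces) of families of operators (namespace `L.Wt`)

* `wt f χ` : `{v | ∀ a, f a v = χ a • v}`; `indep`, `sum_finrank_le`, `card_mul_le`
* `exists_wt` : a commuting family has a weight vector in every non-zero invariant subspace;
  `exists_wt_ne_one` : with `χ a₀ ≠ 1` when `f a₀` has finite order prime to the characteristic
* `finrank_wt_le` : transport of weight spaces along an intertwining injective map
* `heis_le` : Heisenberg relations force a large dimension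
* `exists_eq_mulShift` : every additive character of a finite field is `c ↦ ψ (c * b)`
-/

namespace L.Wt

open Module

variable {K V A : Type*} [Field K] [AddCommGroup V] [Module K V]

/-- simultaneous eigenspace -/
def wt (f : A → Module.End K V) (χ : A → K) : Submodule K V where
  carrier := {v | ∀ a, f a v = χ a • v}
  zero_mem' := fun a => by simp
  add_mem' := fun {x y} hx hy a => by rw [map_add, hx a, hy a, smul_add]
  smul_mem' := fun c x hx a => by rw [map_smul, hx a, smul_comm]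

theorem mem_wt {f : A → Module.End K V} {χ : A → K} {v : V} :
    v ∈ wt f χ ↔ ∀ a, f a v = χ a • v := Iff.rfl

theorem sum_eq_zero (f : A → Module.End K V) (s : Finset (A → K)) :
    ∀ v : (A → K) → V, (∀ χ ∈ s, v χ ∈ wt f χ) → ∑ χ ∈ s, v χ = 0 → ∀ χ ∈ s, v χ = 0 := by
  classical
  induction s using Finset.induction_on with
  | empty => simp
  | insert χ₀ s h0 ih =>
    intro v hv hs
    rw [Finset.sum_insert h0] at hs
    have key : ∀ χ ∈ s, v χ = 0 := by
      intro χ hχ
      have hne : χ ≠ χ₀ := fun h => h0 (h ▸ hχ)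
      obtain ⟨a, ha⟩ := Function.ne_iff.1 hne
      have h1 := ih (fun χ => (χ a - χ₀ a) • v χ)
        (fun χ hχ => (wt f χ).smul_mem _ (hv χ (Finset.mem_insert_of_mem hχ))) (by
          have h2 := congrArg (f a) hs
          rw [map_add, map_sum, map_zero, hv χ₀ (Finset.mem_insert_self _ _) a,
            Finset.sum_congr rfl fun χ hχ => hv χ (Finset.mem_insert_of_mem hχ) a] at h2
          have h3 := congrArg (χ₀ a • ·) hs
          simp only [smul_add, Finset.smul_sum, smul_zero] at h3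
          simp only [sub_smul, Finset.sum_sub_distrib]
          rw [sub_eq_zero]
          exact add_left_cancel (h2.trans h3.symm)) χ hχ
      exact (smul_eq_zero.1 h1).resolve_left (sub_ne_zero.2 ha)
    intro χ hχ
    rcases Finset.mem_insert.1 hχ with rfl | h
    · rwa [Finset.sum_eq_zero key, add_zero] at hs
    · exact key χ h

theorem sum_finrank_le [FiniteDimensional K V] (f : A → Module.End K V) (W : Submodule K V)
    (s : Finset (A → K)) : ∑ χ ∈ s, finrank K ↥(W ⊓ wt f χ) ≤ finrank K W := by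
  classical
  let Φ : (∀ χ : s, ↥(W ⊓ wt f χ)) →ₗ[K] W :=
    ∑ χ : s, (Submodule.inclusion inf_le_left) ∘ₗ LinearMap.proj χ
  have hΦ : Function.Injective Φ := by
    rw [injective_iff_map_eq_zero]
    intro x hx
    let v : (A → K) → V := fun χ => if h : χ ∈ s then (x ⟨χ, h⟩ : V) else 0
    have h1 := sum_eq_zero f s v (fun χ h => by
      simp only [v, dif_pos h]; exact (x ⟨χ, h⟩).2.2) (by
      have := congrArg Subtype.val hx
      simp only [Φ, LinearMap.coe_sum, Finset.sum_apply, AddSubmonoidClass.coe_finset_sum] at this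
      rw [← Finset.sum_coe_sort]
      simpa [v] using this)
    funext χ
    have := h1 χ χ.2
    simp only [v, dif_pos χ.2] at this
    exact Subtype.ext this
  have := LinearMap.finrank_le_finrank_of_injective hΦ
  rwa [Module.finrank_pi_fintype, Finset.sum_coe_sort s (fun χ => finrank K ↥(W ⊓ wt f χ))] at this

theorem card_mul_le [FiniteDimensional K V] (f : A → Module.End K V) (W : Submodule K V)
    (s : Finset (A → K)) {m : ℕ} (h : ∀ χ ∈ s, m ≤ finrank K ↥(W ⊓ wt f χ)) :
    s.card * m ≤ finrank K W := by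
  refine le_trans ?_ (sum_finrank_le f W s)
  rw [← smul_eq_mul]
  exact Finset.card_nsmul_le_sum s _ m h

theorem exists_wt [IsAlgClosed K] [FiniteDimensional K V] (f : A → Module.End K V) :
    ∀ (n : ℕ) (W : Submodule K V), finrank K W = n → W ≠ ⊥ → (∀ a, ∀ v ∈ W, f a v ∈ W) →
      (∀ a b, ∀ v ∈ W, f a (f b v) = f b (f a v)) → ∃ χ, ∃ v ∈ W, v ≠ 0 ∧ v ∈ wt f χ := by
  intro n
  induction n using Nat.strong_induction_on with
  | _ n ih =>
  intro W hn h0 hW hc
  by_cases hs : ∀ a, ∃ c : K, ∀ v ∈ W, f a v = c • v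
  · choose χ hχ using hs
    obtain ⟨v, hv, hv0⟩ := Submodule.exists_mem_ne_zero_of_ne_bot h0
    exact ⟨χ, v, hv, hv0, fun a => hχ a v hv⟩
  push Not at hs
  obtain ⟨a, ha⟩ := hs
  haveI : Nontrivial W := Submodule.nontrivial_iff_ne_bot.2 h0
  obtain ⟨c, hc'⟩ := Module.End.exists_eigenvalue ((f a).restrict (hW a))
  obtain ⟨x, hx⟩ := hc'.exists_hasEigenvector
  let W' : Submodule K V := W ⊓ LinearMap.ker (f a - c • LinearMap.id)
  have hm : ∀ v, v ∈ W' ↔ v ∈ W ∧ f a v = c • v := fun v => by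
    simp [W', sub_eq_zero]
  obtain ⟨y, hy, hy'⟩ := ha c
  have hlt : W' < W := lt_of_le_of_ne inf_le_left fun h => hy' ((hm y).1 (h ▸ hy)).2
  obtain ⟨χ, v, hv, hv0, hvχ⟩ := ih _ (hn ▸ Submodule.finrank_lt_finrank_of_lt hlt) W' rfl
    (fun h => by
      have : (x : V) ∈ W' := (hm x).2 ⟨x.2, congrArg Subtype.val hx.apply_eq_smul⟩
      rw [h, Submodule.mem_bot] at this
      exact hx.2 (Subtype.ext this))
    (fun b v hv => (hm _).2 ⟨hW b v ((hm v).1 hv).1, by
      rw [hc a b v ((hm v).1 hv).1, ((hm v).1 hv).2, map_smul]⟩)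
    (fun a b v hv => hc a b v ((hm v).1 hv).1)
  exact ⟨χ, v, ((hm v).1 hv).1, hv0, hvχ⟩

theorem pow_apply_of_fix {T : Module.End K V} {x y : V} (h : T x = x + y) (hy : T y = y) (n : ℕ) :
    (T ^ n) x = x + (n : K) • y := by
  induction n with
  | zero => simp
  | succ n ih =>
    rw [pow_succ', Module.End.mul_apply, ih, map_add, map_smul, h, hy, Nat.cast_succ, add_smul,
      one_smul]
    abel

theorem exists_wt_ne_one [IsAlgClosed K] [FiniteDimensional K V] (f : A → Module.End K V)
    (W : Submodule K V) (hW : ∀ a, ∀ v ∈ W, f a v ∈ W)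
    (hc : ∀ a b, ∀ v ∈ W, f a (f b v) = f b (f a v)) {a₀ : A} {n : ℕ} (hn : (n : K) ≠ 0)
    (h1 : f a₀ ^ n = 1) {x : V} (hx : x ∈ W) (hx' : f a₀ x ≠ x) :
    ∃ χ, χ a₀ ≠ 1 ∧ ∃ v ∈ W, v ≠ 0 ∧ v ∈ wt f χ := by
  let W' : Submodule K V := W.map (f a₀ - 1)
  have hle : W' ≤ W := by
    rintro _ ⟨y, hy, rfl⟩
    exact W.sub_mem (hW a₀ y hy) hy
  obtain ⟨χ, v, hv, hv0, hvχ⟩ := exists_wt f _ W' rfl (fun h => by
      have : (f a₀ - 1) x ∈ W' := Submodule.mem_map_of_mem hx
      rw [h, Submodule.mem_bot] at this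
      exact hx' (sub_eq_zero.1 this))
    (by
      rintro b _ ⟨y, hy, rfl⟩
      exact ⟨f b y, hW b y hy, by simp [hc a₀ b y hy]⟩)
    (fun a b v hv => hc a b v (hle hv))
  refine ⟨χ, fun h => ?_, v, hle hv, hv0, hvχ⟩
  obtain ⟨y, hy, rfl⟩ := hv
  have h2 := hvχ a₀
  rw [h, one_smul] at h2
  have := pow_apply_of_fix (T := f a₀) (x := y) (y := (f a₀ - 1) y) (by simp) h2 n
  rw [h1, Module.End.one_apply, left_eq_add, smul_eq_zero] at this
  exact this.elim hn hv0

theorem finrank_wt_le [FiniteDimensional K V] {B : Type*} {f : A → Module.End K V}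
    {f' : B → Module.End K V} {W W' : Submodule K V} {χ : A → K} {χ' : B → K}
    (g : Module.End K V) (hg : Function.Injective g)
    (h : ∀ v ∈ W, v ∈ wt f χ → g v ∈ W' ∧ g v ∈ wt f' χ') :
    finrank K ↥(W ⊓ wt f χ) ≤ finrank K ↥(W' ⊓ wt f' χ') := by
  refine LinearMap.finrank_le_finrank_of_injective
    (f := g.restrict (p := W ⊓ wt f χ) (q := W' ⊓ wt f' χ') fun v hv => h v hv.1 hv.2) ?_
  intro x y hxy
  exact Subtype.ext (hg (congrArg Subtype.val hxy))

theorem one_le_finrank [FiniteDimensional K V] {W : Submodule K V} {v : V} (hv : v ∈ W)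
    (h0 : v ≠ 0) : 1 ≤ finrank K W := by
  rw [Nat.one_le_iff_ne_zero, Ne, Submodule.finrank_eq_zero]
  rintro rfl
  exact h0 hv

theorem heis_le [IsAlgClosed K] [FiniteDimensional K V] {I J : Type*} [Fintype J]
    (x : I → Module.End K V) (y : J → Module.End K V) (ω : I → J → K) (W : Submodule K V)
    (h0 : W ≠ ⊥) (hx : ∀ i, ∀ v ∈ W, x i v ∈ W) (hy : ∀ j, ∀ v ∈ W, y j v ∈ W)
    (hxi : ∀ i, Function.Injective (x i)) (hyi : ∀ j, Function.Injective (y j))
    (hc : ∀ a b, ∀ v ∈ W, x a (x b v) = x b (x a v))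
    (hxy : ∀ i j, ∀ v ∈ W, x i (y j v) = ω i j • y j (x i v))
    (hω : ∀ j j', (∀ i, ω i j = ω i j') → j = j') : Fintype.card J ≤ finrank K W := by
  classical
  obtain ⟨η, v, hv, hv0, hη⟩ := exists_wt x _ W rfl h0 hx hc
  have hη0 : ∀ i, η i ≠ 0 := fun i h => hv0 (hxi i (by rw [hη i, h, zero_smul, map_zero]))
  have hinj : Function.Injective fun j i => ω i j * η i := fun j j' h =>
    hω j j' fun i => mul_right_cancel₀ (hη0 i) (congrFun h i)
  have := card_mul_le x W (Finset.univ.image fun j i => ω i j * η i) (m := 1) (by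
    intro χ hχ
    obtain ⟨j, -, rfl⟩ := Finset.mem_image.1 hχ
    refine one_le_finrank (v := y j v) ⟨hy j v hv, fun i => ?_⟩
      fun h => hv0 (hyi j (by rw [h, map_zero]))
    rw [hxy i j v hv, hη i, map_smul, smul_smul])
  rwa [Finset.card_image_of_injective _ hinj, Finset.card_univ, mul_one] at this

section AddChar

variable {F : Type*} [Field F] [Finite F]

theorem eq_of_mulShift {ψ : AddChar F K} (hψ : ψ ≠ 1) {b b' : F}
    (h : ∀ c, ψ (c * b) = ψ (c * b')) : b = b' := by
  by_contra hne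
  apply hψ
  ext x
  have h1 := h (x * (b - b')⁻¹)
  have h2 : x = x * (b - b')⁻¹ * b - x * (b - b')⁻¹ * b' := by
    rw [← mul_sub, mul_assoc, inv_mul_cancel₀ (sub_ne_zero.2 hne), mul_one]
  rw [h2, AddChar.map_sub_eq_div, h1, div_self (ψ.val_isUnit _).ne_zero, AddChar.one_apply]

theorem exists_eq_mulShift {ψ : AddChar F K} (hψ : ψ ≠ 1) (η : AddChar F K) :
    ∃ b : F, ∀ c, η c = ψ (c * b) := by
  classical
  haveI := Fintype.ofFinite F
  by_contra hne
  push Not at hne
  let v : Option F → (Multiplicative F →* K) := fun o =>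
    o.elim η.toMonoidHom fun b => (ψ.mulShift b).toMonoidHom
  have hv : Function.Injective v := by
    rintro (_ | b) (_ | b') h
    · rfl
    · obtain ⟨c, hc⟩ := hne b'
      exact absurd (by simpa [v, mul_comm] using DFunLike.congr_fun h (Multiplicative.ofAdd c)) hc
    · obtain ⟨c, hc⟩ := hne b
      exact absurd (by simpa [v, mul_comm] using
        (DFunLike.congr_fun h (Multiplicative.ofAdd c)).symm) hc
    · congr 1
      exact eq_of_mulShift hψ fun c => by
        simpa [v, mul_comm] using DFunLike.congr_fun h (Multiplicative.ofAdd c)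
  have hli := (linearIndependent_monoidHom (Multiplicative F) K).comp v hv
  have := hli.fintype_card_le_finrank
  simp at this

theorem cast_ringChar_ne_zero (h : ringChar K ≠ ringChar F) : ((ringChar F : ℕ) : K) ≠ 0 := by
  intro h0
  have hpp : (ringChar F).Prime := CharP.char_is_prime F _
  rcases (Nat.dvd_prime hpp).1 ((ringChar.spec K _).1 h0) with h1 | h1
  · exact absurd h1 (CharP.ringChar_ne_one)
  · exact h h1

theorem exists_addChar [IsAlgClosed K] (h : ((ringChar F : ℕ) : K) ≠ 0) :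
    ∃ ψ : AddChar F K, ψ ≠ 1 := by
  have hpp : (ringChar F).Prime := CharP.char_is_prime F _
  haveI : Fact (ringChar F).Prime := ⟨hpp⟩
  haveI : NeZero ((ringChar F : ℕ) : K) := ⟨h⟩
  obtain ⟨ζ, hζ⟩ := HasEnoughRootsOfUnity.exists_primitiveRoot K (ringChar F)
  letI := ZMod.algebra F (ringChar F)
  let ψ₀ := AddChar.zmodChar (ringChar F) hζ.pow_eq_one
  have h0 : ψ₀.IsPrimitive := AddChar.zmodChar_primitive_of_primitive_root _ hζ
  obtain ⟨a, ha⟩ := FiniteField.trace_to_zmod_nondegenerate F (a := 1) one_ne_zero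
  rw [one_mul] at ha
  exact ⟨ψ₀.compAddMonoidHom (Algebra.trace (ZMod (ringChar F)) F).toAddMonoidHom,
    AddChar.ne_one_iff.2 ⟨a, fun hf => ha <| (h0.zmod_char_eq_one_iff _ _).mp hf⟩⟩

theorem sum_dot {ι : Type*} [Fintype ι] [DecidableEq ι] [Fintype F] [DecidableEq F]
    {ψ : AddChar F K} (hψ : ψ ≠ 1) (a : ι → F) :
    ∑ b : ι → F, ψ (b ⬝ᵥ a) = if a = 0 then (Fintype.card (ι → F) : K) else 0 := by
  split_ifs with h
  · simp [h]
  · obtain ⟨i, hi⟩ := Function.ne_iff.1 h
    obtain ⟨x, hx⟩ := AddChar.ne_one_iff.1 hψ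
    let η : AddChar (ι → F) K := ψ.compAddMonoidHom
      { toFun := fun b => b ⬝ᵥ a, map_zero' := by simp, map_add' := fun _ _ => add_dotProduct _ _ _ }
    have : η ≠ 1 := by
      intro h0
      have := DFunLike.congr_fun h0 (Pi.single i (x / a i))
      simp only [η, AddChar.compAddMonoidHom_apply, AddMonoidHom.coe_mk, ZeroHom.coe_mk,
        single_dotProduct, AddChar.one_apply] at this
      rw [div_mul_cancel₀ _ hi] at this
      exact hx this
    exact AddChar.sum_eq_zero_of_ne_one this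

/-- the weight spaces of an elementary abelian group span -/
theorem finrank_le_sum [FiniteDimensional K V] {ι : Type*} [Fintype ι] [DecidableEq ι] [Fintype F]
    {ψ : AddChar F K} (hψ : ψ ≠ 1) (hK : (Fintype.card F : K) ≠ 0)
    (f : (ι → F) → Module.End K V) (h0 : f 0 = 1) (hf : ∀ a b, f (a + b) = f a * f b)
    (W : Submodule K V) (hW : ∀ a, ∀ v ∈ W, f a v ∈ W) :
    finrank K W ≤ ∑ b : ι → F, finrank K ↥(W ⊓ wt f fun a => ψ (b ⬝ᵥ a)) := by
  classical
  let e : (ι → F) → Module.End K V := fun b => ∑ a : ι → F, ψ (-(b ⬝ᵥ a)) • f a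
  have he : ∀ b, ∀ v ∈ W, e b v ∈ W ⊓ wt f fun a => ψ (b ⬝ᵥ a) := by
    intro b v hv
    refine ⟨?_, fun a => ?_⟩
    · simp only [e, LinearMap.coe_sum, Finset.sum_apply, LinearMap.smul_apply]
      exact W.sum_mem fun a _ => W.smul_mem _ (hW a v hv)
    · simp only [e, LinearMap.coe_sum, Finset.sum_apply, LinearMap.smul_apply, map_sum, map_smul,
        Finset.smul_sum, smul_smul]
      rw [← Equiv.sum_comp (Equiv.addLeft a)
        (fun c => (ψ (b ⬝ᵥ a) * ψ (-(b ⬝ᵥ c))) • f c v)]
      refine Finset.sum_congr rfl fun c _ => ?_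
      simp only [Equiv.coe_addLeft, hf, Module.End.mul_apply, ← AddChar.map_add_eq_mul,
        dotProduct_add]
      congr 2
      ring
  let Φ : W →ₗ[K] (∀ b : ι → F, ↥(W ⊓ wt f fun a => ψ (b ⬝ᵥ a))) :=
    LinearMap.pi fun b => (e b).restrict (he b)
  have hΦ : Function.Injective Φ := by
    rw [injective_iff_map_eq_zero]
    intro x hx
    have h1 : ∑ b, e b (x : V) = 0 :=
      Finset.sum_eq_zero fun b _ => congrArg Subtype.val (congrFun hx b)
    simp only [e, LinearMap.coe_sum, Finset.sum_apply, LinearMap.smul_apply] at h1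
    rw [Finset.sum_comm] at h1
    simp only [← Finset.sum_smul, ← dotProduct_neg, sum_dot hψ, neg_eq_zero, ite_smul, zero_smul,
      Finset.sum_ite_eq', Finset.mem_univ, if_true, h0, Module.End.one_apply, smul_eq_zero] at h1
    refine Subtype.ext (h1.resolve_left ?_)
    simp [hK]
  have := LinearMap.finrank_le_finrank_of_injective hΦ
  rwa [Module.finrank_pi_fintype] at this

theorem dot_injective {ι : Type*} [Fintype ι] [DecidableEq ι] {ψ : AddChar F K} (hψ : ψ ≠ 1) :
    Function.Injective fun (b : ι → F) (a : ι → F) => ψ (b ⬝ᵥ a) := by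
  intro b b' h
  funext i
  refine eq_of_mulShift hψ fun c => ?_
  simpa [mul_comm] using congrFun h (Pi.single i c)

theorem finrank_eq_sum [FiniteDimensional K V] {ι : Type*} [Fintype ι] [DecidableEq ι] [Fintype F]
    {ψ : AddChar F K} (hψ : ψ ≠ 1) (hK : (Fintype.card F : K) ≠ 0)
    (f : (ι → F) → Module.End K V) (h0 : f 0 = 1) (hf : ∀ a b, f (a + b) = f a * f b)
    (W : Submodule K V) (hW : ∀ a, ∀ v ∈ W, f a v ∈ W) :
    finrank K W = ∑ b : ι → F, finrank K ↥(W ⊓ wt f fun a => ψ (b ⬝ᵥ a)) := by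
  classical
  refine le_antisymm (finrank_le_sum hψ hK f h0 hf W hW) ?_
  have := sum_finrank_le f W (Finset.univ.image fun (b : ι → F) (a : ι → F) => ψ (b ⬝ᵥ a))
  rwa [Finset.sum_image fun b _ b' _ h => dot_injective hψ h] at this

end AddChar

end L.Wt
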