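import Cfsg.Agent.H10.Quad

/-!
# Lower bounds for orbits of forms under groups containing the transvections (namespace `L.Orb`)

* `TvCl 𝒦` : `𝒦` is a multiplicatively closed set of injective endomorphisms containing the
  transvections; `TvCl.exists_map`, `TvCl.exists_map_pair` (transitivity on vectors, on pairs up to
  a scalar)
* `orbit1` : orbits of a sesquilinear form with `b v v ≠ 0` have at least `(|W| - 1) / r` elements
* `orbit2` : orbits of a quadratic form with a non-degenerate plane have at least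
  `(q^n - 1)(q^n - q) / (2 (q + 1))` elements
-/

namespace L.Orb

open Module

theorem card_le_mul_of_fibers {D Ω : Type*} [Finite D] [Finite Ω] (f : D → Ω) {n : ℕ}
    (h : ∀ ω, Nat.card {d // f d = ω} ≤ n) : Nat.card D ≤ n * Nat.card Ω := by
  classical
  haveI := Fintype.ofFinite D
  haveI := Fintype.ofFinite Ω
  rw [Nat.card_congr (Equiv.sigmaFiberEquiv f).symm, Nat.card_sigma, Nat.card_eq_fintype_card,
    mul_comm, ← smul_eq_mul, ← Finset.card_univ]
  exact Finset.sum_le_card_nsmul _ _ _ fun ω _ => h ω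

variable {F W : Type*} [Field F] [AddCommGroup W] [Module F W]

/-- the transvection `x ↦ x + l x • v` -/
def tv (l : Dual F W) (v : W) : Module.End F W := LinearMap.id + l.smulRight v

@[simp] theorem tv_apply (l : Dual F W) (v x : W) : tv l v x = x + l x • v := rfl

structure TvCl (𝒦 : Set (Module.End F W)) : Prop where
  inj : ∀ k ∈ 𝒦, Function.Injective k
  mul : ∀ k ∈ 𝒦, ∀ k' ∈ 𝒦, k * k' ∈ 𝒦
  tv : ∀ (l : Dual F W) (v : W), l v = 0 → tv l v ∈ 𝒦

theorem exists_dual {U : Submodule F W} {x : W} (hx : x ∉ U) :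
    ∃ l : Dual F W, l x = 1 ∧ ∀ u ∈ U, l u = 0 := by
  obtain ⟨f, hf, hf'⟩ := U.exists_dual_map_eq_bot_of_notMem hx inferInstance
  refine ⟨(f x)⁻¹ • f, by simp [hf], fun u hu => ?_⟩
  have : f u = 0 := by rw [← Submodule.mem_bot F, ← hf']; exact Submodule.mem_map_of_mem hu
  simp [this]

namespace TvCl
variable {𝒦 : Set (Module.End F W)} (h : TvCl 𝒦)
include h

theorem one_mem : (1 : Module.End F W) ∈ 𝒦 := by
  have := h.tv 0 0 rfl
  convert this using 1
  ext x; simp

theorem exists_map_aux (U : Submodule F W) {x y : W} (hx : x ∉ U) (hy : y ∉ U ⊔ F ∙ x) :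
    ∃ k ∈ 𝒦, k x = y ∧ ∀ u ∈ U, k u = u := by
  have : x ∉ U ⊔ F ∙ (y - x) := by
    intro hm
    obtain ⟨u, hu, z, hz, e⟩ := Submodule.mem_sup.1 hm
    obtain ⟨c, rfl⟩ := Submodule.mem_span_singleton.1 hz
    by_cases hc : c = 0
    · exact hx (by rw [← e, hc, zero_smul, add_zero]; exact hu)
    · apply hy
      have : y = -(c⁻¹ • u) + (1 + c⁻¹) • x := by
        have : c⁻¹ • x = c⁻¹ • u + (y - x) := by
          rw [← e, smul_add, smul_smul, inv_mul_cancel₀ hc, one_smul, e]
        rw [add_smul, this, one_smul]; abel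
      rw [this]
      exact Submodule.add_mem_sup (U.neg_mem (U.smul_mem _ hu))
        (Submodule.smul_mem _ _ (Submodule.mem_span_singleton_self x))
  obtain ⟨l, h1, h2⟩ := exists_dual this
  refine ⟨_, h.tv l (y - x) (h2 _ (Submodule.mem_sup_right (Submodule.mem_span_singleton_self _))),
    by simp [h1], fun u hu => by simp [h2 u (Submodule.mem_sup_left hu)]⟩

theorem exists_map [FiniteDimensional F W] (U : Submodule F W) (hU : finrank F U + 2 ≤ finrank F W)
    {x y : W} (hx : x ∉ U) (hy : y ∉ U) : ∃ k ∈ 𝒦, k x = y ∧ ∀ u ∈ U, k u = u := by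
  by_cases hxy : y ∈ U ⊔ F ∙ x
  · have hlt : U ⊔ F ∙ x ≠ ⊤ := by
      intro h'
      have := H10.Form.finrank_sup_singleton hx
      rw [h', finrank_top] at this
      omega
    obtain ⟨z, hz⟩ : ∃ z, z ∉ U ⊔ F ∙ x := by
      by_contra hc
      push Not at hc
      exact hlt (eq_top_iff.2 fun z _ => hc z)
    obtain ⟨k, hk, h1, h2⟩ := h.exists_map_aux U hx hz
    have hzU : z ∉ U := fun h' => hz (Submodule.mem_sup_left h')
    have hyz : y ∉ U ⊔ F ∙ z := by
      intro hm
      obtain ⟨u, hu, _, hw, e⟩ := Submodule.mem_sup.1 hm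
      obtain ⟨c, rfl⟩ := Submodule.mem_span_singleton.1 hw
      by_cases hc : c = 0
      · exact hy (by rw [← e, hc, zero_smul, add_zero]; exact hu)
      · apply hz
        have : z = c⁻¹ • (y - u) := by
          rw [← e, add_sub_cancel_left, smul_smul, inv_mul_cancel₀ hc, one_smul]
        rw [this]
        exact Submodule.smul_mem _ _ (Submodule.sub_mem _ hxy (Submodule.mem_sup_left hu))
    obtain ⟨k', hk', h1', h2'⟩ := h.exists_map_aux U hzU hyz
    exact ⟨k' * k, h.mul _ hk' _ hk, by simp [h1, h1'], fun u hu => by simp [h2 u hu, h2' u hu]⟩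
  · exact h.exists_map_aux U hx hxy

end TvCl

section count
variable [Finite F] [FiniteDimensional F W]

theorem card_ker_dual {v : W} (hv : v ≠ 0) :
    Nat.card {l : Dual F W // l v = 0} * Nat.card F = Nat.card W := by
  have h1 : finrank F (LinearMap.ker (Dual.eval F W v)) + 1 = finrank F (Dual F W) :=
    Dual.finrank_ker_add_one_of_ne_zero (by
      intro h
      exact hv ((Module.eval_apply_eq_zero_iff F v).1 h))
  rw [Subspace.dual_finrank_eq] at h1
  have h2 : Nat.card {l : Dual F W // l v = 0} = Nat.card (LinearMap.ker (Dual.eval F W v)) := rfl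
  rw [h2, Module.natCard_eq_pow_finrank (K := F), Module.natCard_eq_pow_finrank (K := F) (V := W),
    ← pow_succ, h1]

theorem orbit1 {σ : F →+* F} (b : W →ₛₗ[σ] W →ₗ[F] F) {v : W} (hv : b v v ≠ 0)
    (hrefl : ∀ w, b v w = 0 → b w v = 0) {r : ℕ} (hr : ∀ d, Nat.card {c // σ c * c = d} ≤ r)
    {𝒦 : Set (Module.End F W)} (h : TvCl 𝒦) (ht : ∀ x, x ≠ 0 → ∃ k ∈ 𝒦, k x = v)
    {β : Type*} (Φ : Module.End F W → β)
    (hΦ : ∀ k ∈ 𝒦, ∀ k' ∈ 𝒦, Φ k = Φ k' → ∀ x y, b (k x) (k y) = b (k' x) (k' y)) :
    Nat.card W - 1 ≤ r * Nat.card (Φ '' 𝒦) := by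
  classical
  haveI : Finite W := Module.finite_of_finite F
  haveI : Finite (Module.End F W) := Module.finite_of_finite F
  haveI : Finite (Dual F W) := Module.finite_of_finite F
  haveI : Finite (Φ '' 𝒦) := (Set.toFinite 𝒦).image Φ
  have hv0 : v ≠ 0 := by rintro rfl; simp at hv
  -- the number of vectors of the same norm as `v`
  have hN : Nat.card {x // b x x = b v v} * Nat.card F ≤ r * Nat.card W := by
    rw [← Nat.card_prod]
    refine card_le_mul_of_fibers (fun p : {x // b x x = b v v} × F => p.1.1 + p.2 • v) fun y => ?_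
    set c := b v y / b v v
    have hw : b v (y - c • v) = 0 := by simp [c, hv]
    have hw' := hrefl _ hw
    refine le_trans (Nat.card_le_card_of_injective
      (fun p => (⟨c - p.1.2, ?_⟩ : {t // σ t * t = (b v v - b (y - c • v) (y - c • v)) / b v v}))
        ?_) (hr _)
    · obtain ⟨⟨⟨x, hx⟩, t⟩, e⟩ := p
      simp only at e ⊢
      have hx' : x = (c - t) • v + (y - c • v) := by rw [← e, sub_smul]; abel
      rw [eq_div_iff hv, eq_sub_iff_add_eq]
      nth_rewrite 2 [← hx]
      rw [hx']
      generalize y - c • v = w at hw hw'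
      simp only [map_add, LinearMap.add_apply, map_smulₛₗ, LinearMap.smul_apply, hw, hw',
        smul_eq_mul, RingHom.id_apply]
      ring
    · rintro ⟨⟨⟨x, hx⟩, t⟩, e⟩ ⟨⟨⟨x', hx'⟩, t'⟩, e'⟩ hh
      have : t = t' := by simpa using hh
      subst this
      have : x = x' := add_right_cancel (e.trans e'.symm)
      subst this
      rfl
  choose! κ hκ hκv using ht
  have hD := card_le_mul_of_fibers
    (fun p : {x : W // x ≠ 0} × {l : Dual F W // l v = 0} =>
      (⟨Φ (tv p.2.1 v * κ p.1.1), _, h.mul _ (h.tv _ _ p.2.2) _ (hκ _ p.1.2), rfl⟩ : Φ '' 𝒦))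
    (n := Nat.card {x // b x x = b v v}) (by
      rintro ⟨_, k, hk, rfl⟩
      have key : ∀ (x : {x : W // x ≠ 0}) (l : {l : Dual F W // l v = 0}),
          Φ (tv l.1 v * κ x.1) = Φ k → ∀ y, b (k x) (k y) = b v (κ x y) + l.1 (κ x y) * b v v := by
        intro x l e y
        rw [← hΦ _ (h.mul _ (h.tv _ _ l.2) _ (hκ _ x.2)) _ hk e]
        simp [hκv _ x.2, l.2]
      refine Nat.card_le_card_of_injective (fun p => ⟨k p.1.1.1, ?_⟩) ?_
      · rw [key _ _ (congrArg Subtype.val p.2), hκv _ p.1.1.2, p.1.2.2]; simp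
      · rintro ⟨⟨x, l⟩, e⟩ ⟨⟨x', l'⟩, e'⟩ hh
        have : x = x' := Subtype.ext (h.inj k hk (congrArg Subtype.val hh))
        subst this
        have : l = l' := by
          apply Subtype.ext
          ext z
          obtain ⟨y, rfl⟩ := (LinearMap.injective_iff_surjective.1 (h.inj _ (hκ _ x.2))) z
          have := (key _ _ (congrArg Subtype.val e) y).symm.trans (key _ _ (congrArg Subtype.val e') y)
          exact mul_right_cancel₀ hv (add_left_cancel this)
        subst this
        rfl)
  rw [Nat.card_prod] at hD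
  have h1 : Nat.card {x : W // x ≠ 0} = Nat.card W - 1 := by
    haveI := Fintype.ofFinite W
    simp [Nat.card_eq_fintype_card]
  have h2 := card_ker_dual (F := F) hv0
  have h3 : 0 < Nat.card W := Nat.card_pos
  rw [h1] at hD
  refine le_of_mul_le_mul_right ?_ h3
  calc (Nat.card W - 1) * Nat.card W
      = (Nat.card W - 1) * Nat.card {l : Dual F W // l v = 0} * Nat.card F := by rw [mul_assoc, h2]
    _ ≤ Nat.card {x // b x x = b v v} * Nat.card (Φ '' 𝒦) * Nat.card F := by gcongr
    _ = Nat.card {x // b x x = b v v} * Nat.card F * Nat.card (Φ '' 𝒦) := by ring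
    _ ≤ r * Nat.card W * Nat.card (Φ '' 𝒦) := by gcongr
    _ = _ := by ring

theorem card_quad_le {a b c : F} (ha : a ≠ 0) : Nat.card {t : F // a * t ^ 2 + b * t + c = 0} ≤ 2 := by
  classical
  let P : Polynomial F := Polynomial.C a * Polynomial.X ^ 2 + Polynomial.C b * Polynomial.X +
    Polynomial.C c
  have hd : P.natDegree = 2 := Polynomial.natDegree_quadratic ha
  have h0 : P ≠ 0 := by intro h; rw [h] at hd; simp at hd
  calc Nat.card {t : F // a * t ^ 2 + b * t + c = 0}
      ≤ Nat.card P.roots.toFinset := Nat.card_le_card_of_injective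
        (fun t => ⟨t.1, by
          rw [Multiset.mem_toFinset, Polynomial.mem_roots h0]
          simpa [P] using t.2⟩) fun t t' h => Subtype.ext (by simpa using h)
    _ ≤ 2 := by
        rw [Nat.card_eq_fintype_card, Fintype.card_coe, ← hd]
        exact (Multiset.toFinset_card_le _).trans (Polynomial.card_roots' P)

open QuadraticMap in
theorem Q_comb (Q : QuadraticForm F W) (s t : F) (x y : W) :
    Q (s • x + t • y) = s ^ 2 * Q x + t ^ 2 * Q y + s * t * polar Q x y := by
  have := (H10.Form.isQuad_ofQuad Q).Q_comb s t x y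
  exact this

open QuadraticMap in
theorem card_partner (Q : QuadraticForm F W) {x : W} {c d : F} (hx : Q x ≠ 0)
    (hΔ : 2 * Q x * (2 * d) - c ^ 2 ≠ 0) :
    Nat.card {y // Q y = d ∧ polar Q x y = c} * Nat.card F ^ 2 ≤ 2 * Nat.card W := by
  haveI : Finite W := Module.finite_of_finite F
  rcases isEmpty_or_nonempty {y // Q y = d ∧ polar Q x y = c} with h | ⟨⟨y₀, hy₀, hy₀'⟩⟩
  · simp
  obtain ⟨z, y₁, hz, hz', hy₁⟩ : ∃ z y₁, polar Q x z = 0 ∧ Q z ≠ 0 ∧ polar Q x y₁ ≠ 0 := by
    by_cases h2 : (2 : F) = 0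
    · refine ⟨x, y₀, by rw [polar_self, two_smul, ← two_mul, h2, zero_mul], hx, fun h => hΔ ?_⟩
      rw [← hy₀', h, h2]; ring
    · refine ⟨(-c) • x + (2 * Q x) • y₀, x, ?_, ?_, ?_⟩
      · rw [polar_add_right, polar_smul_right, polar_smul_right, polar_self, hy₀', two_smul]
        simp only [smul_eq_mul]; ring
      · rw [Q_comb, hy₀, hy₀']
        intro h
        apply mul_ne_zero hx hΔ
        linear_combination h
      · rw [polar_self, two_smul, ← two_mul]; exact mul_ne_zero h2 hx
  rw [pow_two, ← Nat.card_prod, ← Nat.card_prod]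
  refine card_le_mul_of_fibers (fun p : {y // Q y = d ∧ polar Q x y = c} × F × F =>
    p.1.1 + p.2.1 • z + p.2.2 • y₁) fun w => ?_
  set s := (polar Q x w - c) / polar Q x y₁ with hs
  have key : ∀ p : {y // Q y = d ∧ polar Q x y = c} × F × F, p.1.1 + p.2.1 • z + p.2.2 • y₁ = w →
      p.2.2 = s := by
    rintro ⟨⟨y, h1, h2⟩, t, s'⟩ e
    simp only at e ⊢
    rw [hs, eq_div_iff hy₁, ← e, polar_add_right, polar_add_right, polar_smul_right,
      polar_smul_right, h2, hz]
    simp
  refine le_trans (Nat.card_le_card_of_injective (fun p => (⟨p.1.2.1, ?_⟩ :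
    {t : F // Q z * t ^ 2 + (-polar Q (w - s • y₁) z) * t + (Q (w - s • y₁) - d) = 0})) ?_)
    (card_quad_le hz')
  · obtain ⟨⟨⟨y, h1, h2⟩, t, s'⟩, e⟩ := p
    have := key _ e
    simp only at this e ⊢
    subst this
    have : y = (1 : F) • (w - s • y₁) + (-t) • z := by rw [← e]; module
    rw [this, Q_comb] at h1
    linear_combination h1
  · rintro ⟨⟨⟨y, h1, h2⟩, t, s'⟩, e⟩ ⟨⟨⟨y', h1', h2'⟩, t', s''⟩, e'⟩ hh
    have h3 := key _ e
    have h4 := key _ e'
    have h5 : t = t' := congrArg Subtype.val hh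
    simp only at h3 h4 e e'
    subst h3 h4 h5
    have : y = y' := add_right_cancel (add_right_cancel (e.trans e'.symm))
    subst this
    rfl

open QuadraticMap in
theorem exists_small_value (Q : QuadraticForm F W) {u v : W}
    (hΔ : polar Q u u * polar Q v v - polar Q u v ^ 2 ≠ 0) :
    ∃ u' v', Q u' ≠ 0 ∧ 2 * Q u' * (2 * Q v') - polar Q u' v' ^ 2 ≠ 0 ∧
      Nat.card {x // Q x = Q u'} * Nat.card F ^ 2 ≤ (Nat.card F + 1) * Nat.card W := by
  classical
  haveI : Finite W := Module.finite_of_finite F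
  haveI := Fintype.ofFinite W
  haveI := Fintype.ofFinite F
  have hg : (H10.Form.ofQuad Q).B u u * (H10.Form.ofQuad Q).B v v -
      (H10.Form.ofQuad Q).B u v * (H10.Form.ofQuad Q).B v u ≠ 0 := by
    change polar Q u u * polar Q v v - polar Q u v * polar Q v u ≠ 0
    rwa [polar_comm Q v u, ← pow_two]
  have huniv : ∀ c, ∃ s t : F, Q (s • u + t • v) = c := fun c => by
    obtain ⟨z, hz, hc⟩ := (H10.Form.isQuad_ofQuad Q).exists_Q_eq
      ((H10.Form.ofQuad Q).nondegOn_pair hg)
      (H10.Form.finrank_span_pair_of_li ((H10.Form.ofQuad Q).linearIndependent_pair_of_gram hg)).ge c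
    obtain ⟨s, t, rfl⟩ := Submodule.mem_span_pair.1 hz
    exact ⟨s, t, hc⟩
  have hZ : Nat.card W ≤ Nat.card {x // Q x = 0} * Nat.card F ^ 2 := by
    rw [pow_two, ← Nat.card_prod, ← Nat.card_prod]
    refine Nat.card_le_card_of_surjective
      (fun p : {x // Q x = 0} × F × F => p.1.1 + p.2.1 • u + p.2.2 • v) fun y => ?_
    set Δ := polar Q u u * polar Q v v - polar Q u v ^ 2
    set s := (polar Q u y * polar Q v v - polar Q v y * polar Q u v) / Δ with hs
    set t := (polar Q v y * polar Q u u - polar Q u y * polar Q u v) / Δ with ht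
    have h1 : polar Q u (y - s • u - t • v) = 0 := by
      rw [polar_sub_right, polar_sub_right, polar_smul_right, polar_smul_right, hs, ht]
      simp only [smul_eq_mul]; field_simp; ring
    have h2 : polar Q v (y - s • u - t • v) = 0 := by
      rw [polar_sub_right, polar_sub_right, polar_smul_right, polar_smul_right, hs, ht,
        polar_comm Q v u]
      simp only [smul_eq_mul]; field_simp; ring
    obtain ⟨s', t', h⟩ := huniv (-Q (y - s • u - t • v))
    refine ⟨⟨⟨(s' • u + t' • v) + (y - s • u - t • v), ?_⟩, s - s', t - t'⟩, by simp only; module⟩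
    have := Q_comb Q 1 1 (s' • u + t' • v) (y - s • u - t • v)
    rw [one_smul, one_smul, h, polar_add_left, polar_smul_left, polar_smul_left, h1, h2] at this
    rw [this]; simp
  have hsum : ∑ a ∈ Finset.univ.erase (0 : F), Nat.card {x // Q x = a} + Nat.card {x // Q x = 0} =
      Nat.card W := by
    rw [Finset.sum_erase_add _ _ (Finset.mem_univ _), ← Nat.card_sigma]
    exact Nat.card_congr (Equiv.sigmaFiberEquiv Q)
  have hq : 1 < Nat.card F := Finite.one_lt_card
  obtain ⟨a, ha, ha'⟩ := Finset.exists_le_of_sum_le (s := Finset.univ.erase (0 : F))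
    (f := fun a => Nat.card {x // Q x = a} * Nat.card F ^ 2)
    (g := fun _ => (Nat.card F + 1) * Nat.card W) ⟨1, by simp⟩ (by
      rw [← Finset.sum_mul, Finset.sum_const, Finset.card_erase_of_mem (Finset.mem_univ _),
        Finset.card_univ, ← Nat.card_eq_fintype_card, smul_eq_mul]
      generalize ∑ a ∈ Finset.univ.erase (0 : F), Nat.card {x // Q x = a} = S at hsum
      obtain ⟨q, hq'⟩ : ∃ q, Nat.card F = q + 1 := ⟨Nat.card F - 1, by omega⟩
      rw [hq'] at hZ ⊢
      rw [← hsum] at hZ ⊢
      simp only [Nat.add_sub_cancel]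
      nlinarith)
  obtain ⟨s, t, h⟩ := huniv a
  have ha0 : a ≠ 0 := by simpa using ha
  have hu : polar Q u u = 2 * Q u := by rw [polar_self, two_smul, two_mul]
  have hv : polar Q v v = 2 * Q v := by rw [polar_self, two_smul, two_mul]
  by_cases hs : s = 0
  · have ht : t ≠ 0 := by rintro rfl; apply ha0; rw [← h, hs]; simp
    refine ⟨s • u + t • v, u, h ▸ ha0, ?_, h ▸ ha'⟩
    rw [Q_comb, polar_add_left, polar_smul_left, polar_smul_left, polar_comm Q v u, hs]
    intro h'
    apply mul_ne_zero (pow_ne_zero 2 ht) hΔ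
    rw [hu, hv]; simp only [smul_eq_mul] at h'; linear_combination h'
  · refine ⟨s • u + t • v, v, h ▸ ha0, ?_, h ▸ ha'⟩
    rw [Q_comb, polar_add_left, polar_smul_left, polar_smul_left, hv]
    intro h'
    apply mul_ne_zero (pow_ne_zero 2 hs) hΔ
    rw [hu, hv]; simp only [smul_eq_mul] at h'; linear_combination h'

theorem exists_map_pair {x y u v : W} (h : LinearIndependent F ![x, y])
    (h' : LinearIndependent F ![u, v]) :
    ∃ k : Module.End F W, Function.Injective k ∧ k x = u ∧ k y = v := by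
  let e : Submodule.span F (Set.range ![x, y]) ≃ₗ[F] Submodule.span F (Set.range ![u, v]) :=
    (Basis.span h).equiv (Basis.span h') (Equiv.refl _)
  obtain ⟨g, hg⟩ := Submodule.exists_linearEquiv_restrict_eq e
  refine ⟨g, g.injective, ?_, ?_⟩
  · have := hg (Basis.span h 0)
    rw [Basis.equiv_apply, Basis.span_apply, Basis.span_apply] at this
    exact this.symm
  · have := hg (Basis.span h 1)
    rw [Basis.equiv_apply, Basis.span_apply, Basis.span_apply] at this
    exact this.symm

open QuadraticMap in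
theorem orbit2 (Q : QuadraticForm F W) {u v : W}
    (hΔ : polar Q u u * polar Q v v - polar Q u v ^ 2 ≠ 0) {β : Type*} (Φ : Module.End F W → β)
    (hΦ : ∀ k k' : Module.End F W, Function.Injective k → Function.Injective k' → Φ k = Φ k' →
      ∀ x, Q (k x) = Q (k' x)) :
    (Nat.card W - 1) * (Nat.card W - Nat.card F) ≤
      2 * (Nat.card F + 1) * Nat.card (Φ '' {k | Function.Injective k}) := by
  classical
  haveI : Finite W := Module.finite_of_finite F
  haveI : Finite (Module.End F W) := Module.finite_of_finite F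
  haveI : Finite (Dual F W) := Module.finite_of_finite F
  haveI : Finite (Φ '' {k | Function.Injective k}) := (Set.toFinite _).image Φ
  obtain ⟨u, v, hu, hΔ, hN⟩ := exists_small_value Q hΔ
  have hu2 : polar Q u u = 2 * Q u := by rw [polar_self, two_smul, two_mul]
  have hv2 : polar Q v v = 2 * Q v := by rw [polar_self, two_smul, two_mul]
  have hli : LinearIndependent F ![u, v] := by
    refine (H10.Form.ofQuad Q).linearIndependent_pair_of_gram ?_
    change polar Q u u * polar Q v v - polar Q u v * polar Q v u ≠ 0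
    rwa [polar_comm Q v u, ← pow_two, hu2, hv2]
  have hκ : ∀ s : {s : Fin 2 → W // LinearIndependent F s},
      ∃ k : Module.End F W, Function.Injective k ∧ k (s.1 0) = u ∧ k (s.1 1) = v := fun s =>
    exists_map_pair (by convert s.2; ext i; fin_cases i <;> rfl) hli
  choose κ hκ hκu hκv using hκ
  let An := (Submodule.span F {u, v}).dualAnnihilator
  have hAn : ∀ l : An, l.1 u = 0 ∧ l.1 v = 0 := fun l =>
    ⟨(Submodule.mem_dualAnnihilator _).1 l.2 u (Submodule.subset_span (by simp)),
     (Submodule.mem_dualAnnihilator _).1 l.2 v (Submodule.subset_span (by simp))⟩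
  have hA : Nat.card An * Nat.card F ^ 2 = Nat.card W := by
    have := Subspace.finrank_add_finrank_dualAnnihilator_eq (Submodule.span F {u, v})
    rw [H10.Form.finrank_span_pair_of_li hli] at this
    rw [Module.natCard_eq_pow_finrank (K := F), Module.natCard_eq_pow_finrank (K := F) (V := W),
      ← pow_add, ← this, add_comm]
  have hτ : ∀ l l' : An, Function.Injective (tv l.1 u * tv l'.1 v) := fun l l' => by
    rw [injective_iff_map_eq_zero]
    intro z hz
    have h1 := congrArg l.1 hz
    have h2 := congrArg l'.1 hz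
    simp [(hAn l).1, (hAn l).2, (hAn l').1, (hAn l').2] at h1 h2 hz
    simpa [h1, h2] using hz
  have hτκ : ∀ (l l' : An) s, Function.Injective (tv l.1 u * tv l'.1 v * κ s) := fun l l' s =>
    (hτ l l').comp (hκ s)
  have hS : Nat.card {p : W × W // Q p.1 = Q u ∧ Q p.2 = Q v ∧ polar Q p.1 p.2 = polar Q u v} *
      Nat.card F ^ 2 ≤ 2 * Nat.card W * Nat.card {x // Q x = Q u} := by
    rw [pow_two, ← Nat.card_prod, ← Nat.card_prod]
    refine card_le_mul_of_fibers (fun p => ⟨p.1.1.1, p.1.2.1⟩) fun x => ?_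
    refine le_trans ?_ (card_partner Q (x := x.1) (c := polar Q u v) (d := Q v) (by rwa [x.2])
      (by rwa [x.2]))
    rw [pow_two, ← Nat.card_prod, ← Nat.card_prod]
    refine Nat.card_le_card_of_injective (fun p => (⟨p.1.1.1.2, p.1.1.2.2.1, ?_⟩, p.1.2)) ?_
    · rw [← congrArg Subtype.val p.2]; exact p.1.1.2.2.2
    · rintro ⟨⟨⟨⟨a, b⟩, h1⟩, f⟩, e⟩ ⟨⟨⟨⟨a', b'⟩, h1'⟩, f'⟩, e'⟩ hh
      have h2 : a = a' := congrArg Subtype.val (e.trans e'.symm)
      simp only [Prod.mk.injEq, Subtype.mk.injEq] at hh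
      obtain ⟨rfl, rfl⟩ := hh
      subst h2
      rfl
  have hD := card_le_mul_of_fibers
    (fun p : {s : Fin 2 → W // LinearIndependent F s} × An × An =>
      (⟨Φ (tv p.2.1.1 u * tv p.2.2.1 v * κ p.1), _, hτκ _ _ _, rfl⟩ :
        Φ '' {k | Function.Injective k}))
    (n := Nat.card {p : W × W // Q p.1 = Q u ∧ Q p.2 = Q v ∧ polar Q p.1 p.2 = polar Q u v}) (by
      rintro ⟨_, k, hk, rfl⟩
      have key : ∀ (s : {s : Fin 2 → W // LinearIndependent F s}) (l l' : An),
          Φ (tv l.1 u * tv l'.1 v * κ s) = Φ k → (∀ x, Q (k x) = Q ((tv l.1 u * tv l'.1 v) (κ s x))) ∧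
            ∀ x y, polar Q (k x) (k y) =
              polar Q ((tv l.1 u * tv l'.1 v) (κ s x)) ((tv l.1 u * tv l'.1 v) (κ s y)) := by
        intro s l l' e
        have := fun x => (hΦ _ _ (hτκ l l' s) hk e x).symm
        refine ⟨this, fun x y => ?_⟩
        simp only [polar, ← map_add, this]
        rfl
      refine Nat.card_le_card_of_injective (fun p => ⟨(k (p.1.1.1 0), k (p.1.1.1 1)), ?_⟩) ?_
      · obtain ⟨h1, h2⟩ := key _ _ _ (congrArg Subtype.val p.2)
        simp [h1, h2, hκu, hκv, (hAn _).1, (hAn _).2]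
      · rintro ⟨⟨s, l, m⟩, e⟩ ⟨⟨s', l', m'⟩, e'⟩ hh
        have : s = s' := by
          simp only [Subtype.mk.injEq, Prod.mk.injEq] at hh
          apply Subtype.ext
          ext i
          fin_cases i
          exacts [hk hh.1, hk hh.2]
        subst this
        have h1 := (key _ _ _ (congrArg Subtype.val e)).2
        have h2 := (key _ _ _ (congrArg Subtype.val e')).2
        have : ∀ z, l.1 z = l'.1 z ∧ m.1 z = m'.1 z := by
          intro z
          obtain ⟨y, rfl⟩ := (LinearMap.injective_iff_surjective.1 (hκ s)) z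
          have h3 := (h1 (s.1 0) y).symm.trans (h2 (s.1 0) y)
          have h4 := (h1 (s.1 1) y).symm.trans (h2 (s.1 1) y)
          simp only [hκu, hκv, Module.End.mul_apply, tv_apply, (hAn _).1, (hAn _).2, map_add,
            map_smul, zero_smul, add_zero, smul_eq_mul, mul_zero, polar_add_right,
            polar_smul_right, hu2, hv2, polar_comm Q v u] at h3 h4
          constructor
          · apply mul_left_cancel₀ hΔ
            linear_combination (2 * Q v) * h3 - polar Q u v * h4
          · apply mul_left_cancel₀ hΔ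
            linear_combination (2 * Q u) * h4 - polar Q u v * h3
        have h5 : l = l' := Subtype.ext (LinearMap.ext fun z => (this z).1)
        have h6 : m = m' := Subtype.ext (LinearMap.ext fun z => (this z).2)
        subst h5 h6
        rfl)
  haveI := Fintype.ofFinite F
  have h2 : 2 ≤ finrank F W := by simpa using hli.fintype_card_le_finrank
  rw [Nat.card_prod, Nat.card_prod, card_linearIndependent h2, Fin.prod_univ_two,
    ← Nat.card_eq_fintype_card, ← Module.natCard_eq_pow_finrank] at hD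
  simp only [Fin.val_zero, pow_zero, Fin.val_one, pow_one] at hD
  have h3 : 0 < Nat.card W := Nat.card_pos
  refine le_of_mul_le_mul_right ?_ (mul_pos h3 h3)
  generalize Nat.card (Φ '' {k | Function.Injective k}) = O at *
  generalize Nat.card {p : W × W // Q p.1 = Q u ∧ Q p.2 = Q v ∧ polar Q p.1 p.2 = polar Q u v} = S
    at *
  generalize Nat.card {x // Q x = Q u} = N at *
  generalize (Nat.card W - 1) * (Nat.card W - Nat.card F) = X at *
  generalize Nat.card An = A at *
  calc X * (Nat.card W * Nat.card W) = X * (A * A) * (Nat.card F ^ 2 * Nat.card F ^ 2) := by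
        rw [← hA]; ring
    _ ≤ S * O * (Nat.card F ^ 2 * Nat.card F ^ 2) := by gcongr
    _ = S * Nat.card F ^ 2 * Nat.card F ^ 2 * O := by ring
    _ ≤ 2 * Nat.card W * N * Nat.card F ^ 2 * O := by gcongr
    _ = 2 * Nat.card W * (N * Nat.card F ^ 2) * O := by ring
    _ ≤ 2 * Nat.card W * ((Nat.card F + 1) * Nat.card W) * O := by gcongr
    _ = _ := by ring

end count

end L.Orb
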