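import Cfsg.Agent.L.Wt
import Cfsg.Agent.L.Orb
import Cfsg.Agent.H10.Max
import Cfsg.Agent.H10.Par

/-!
# Lower bounds for degrees of cross-characteristic representations of `Sp` and `SU`
(namespace `L.MR`)

* `IsERep φ R` : `R` is a representation of `φ.E` (extended to a function on `φ.Isom`)
* `fam R W` : the Siegel maps with both vectors in the totally singular subspace `W`
* `exists_form` : the sesquilinear form attached to a weight; `card_orbit_mul`
* `bound1`, `bound_unitary_odd`, `bound2` : the bounds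
-/

namespace L.MR

open Module H10 H10.Form L.Wt L.Orb

variable {F V : Type*} [Field F] [AddCommGroup V] [Module F V] {φ : Form F V}
  {K M : Type*} [Field K] [AddCommGroup M] [Module K M]

structure IsERep (φ : Form F V) (R : φ.Isom → Module.End K M) : Prop where
  one : R 1 = 1
  mul : ∀ g ∈ φ.E, ∀ h ∈ φ.E, R (g * h) = R g * R h

open Classical in
/-- extension by `1` of a representation of `E` -/
noncomputable def ext (ρ : φ.E →* Module.End K M) (g : φ.Isom) : Module.End K M :=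
  if h : g ∈ φ.E then ρ ⟨g, h⟩ else 1

theorem ext_apply (ρ : φ.E →* Module.End K M) {g : φ.Isom} (h : g ∈ φ.E) : ext ρ g = ρ ⟨g, h⟩ :=
  dif_pos h

theorem isERep_ext (ρ : φ.E →* Module.End K M) : IsERep φ (ext ρ) :=
  ⟨by rw [ext_apply ρ (one_mem _)]; exact map_one ρ, fun g hg h hh => by
    rw [ext_apply ρ hg, ext_apply ρ hh, ext_apply ρ (mul_mem hg hh), ← map_mul]; rfl⟩

namespace IsERep
variable {R : φ.Isom → Module.End K M} (hR : IsERep φ R)
include hR

theorem mul_apply {g h : φ.Isom} (hg : g ∈ φ.E) (hh : h ∈ φ.E) (v : M) :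
    R (g * h) v = R g (R h v) := by rw [hR.mul g hg h hh]; rfl

theorem injective {g : φ.Isom} (hg : g ∈ φ.E) : Function.Injective (R g) := fun x y h => by
  have := congrArg (R g⁻¹) h
  rwa [← hR.mul_apply (inv_mem hg) hg, ← hR.mul_apply (inv_mem hg) hg, inv_mul_cancel, hR.one]
    at this

theorem pow {g : φ.Isom} (hg : g ∈ φ.E) (n : ℕ) : R (g ^ n) = R g ^ n := by
  induction n with
  | zero => simpa using hR.one
  | succ n ih => rw [pow_succ, hR.mul _ (pow_mem hg n) _ hg, ih, pow_succ]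

theorem conj_apply {g h : φ.Isom} (hg : g ∈ φ.E) (hh : h ∈ φ.E) (v : M) :
    R h (R g⁻¹ v) = R g⁻¹ (R (g * h * g⁻¹) v) := by
  rw [← hR.mul_apply hh (inv_mem hg),
    ← hR.mul_apply (inv_mem hg) (mul_mem (mul_mem hg hh) (inv_mem hg))]
  congr 2
  group

end IsERep

variable (φ) in
/-- index type for the Siegel maps of a totally singular subspace -/
abbrev Idx (W : Submodule F V) := W × W × φ.T.ker

variable {W : Submodule F V}

/-- the Siegel map with index `a` -/
noncomputable def sg (a : Idx φ W) : φ.Isom := φ.siegel a.1 a.2.1 a.2.2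

/-- the family of operators -/
noncomputable def fam (R : φ.Isom → Module.End K M) (W : Submodule F V) (a : Idx φ W) :
    Module.End K M := R (sg a)

/-- action of an endomorphism of `W` on weights -/
def act (χ : Idx φ W → K) (k : Module.End F W) (a : Idx φ W) : K := χ (k a.1, k a.2.1, a.2.2)

variable (φ W) in
/-- endomorphisms of `W` induced by `E` -/
def ind : Set (Module.End F W) := {k | ∃ g ∈ φ.E, ∀ x : W, g.1 x = k x}

section
variable (hW : φ.TS W)
include hW

theorem hs (a : Idx φ W) : φ.T a.2.2 = φ.Q a.2.1 := by rw [hW.Q _ a.2.1.2]; exact a.2.2.2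

theorem sg_mem (a : Idx φ W) : sg a ∈ φ.E :=
  φ.siegel_mem_E (hW.Q _ a.1.2) (hW.B _ a.1.2 _ a.2.1.2) (hs hW a)

variable [φ.Nondeg] [FiniteDimensional F V]

theorem sg_apply (a : Idx φ W) (x : V) : (sg a).1 x = x + φ.B a.2.1 x • (a.1 : V) -
    (φ.ε * φ.B a.1 x) • (a.2.1 : V) - (φ.ε * a.2.2 * φ.B a.1 x) • (a.1 : V) :=
  φ.siegel_apply (hW.Q _ a.1.2) (hW.B _ a.1.2 _ a.2.1.2) (hs hW a) x

theorem sg_conj (a : Idx φ W) (g : φ.Isom) (k : Module.End F W) (h : ∀ x : W, g.1 x = k x) :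
    g * sg a * g⁻¹ = sg (k a.1, k a.2.1, a.2.2) := by
  unfold sg
  rw [φ.siegel_conj g (hW.Q _ a.1.2) (hW.B _ a.1.2 _ a.2.1.2) (hs hW a), h, h]

theorem sg_comm (a : Idx φ W) {g : φ.Isom} (h : ∀ x ∈ W, g.1 x = x) : g * sg a = sg a * g := by
  have := sg_conj hW a g 1 fun x => h x x.2
  rw [mul_inv_eq_iff_eq_mul] at this
  exact this

theorem sg_fix (a : Idx φ W) {x : V} (hx : x ∈ φ.perp W) : (sg a).1 x = x := by
  rw [sg_apply hW, hx _ a.1.2, hx _ a.2.1.2]; simp

theorem sg_mul_apply (a b : Idx φ W) (x : V) : (sg a * sg b).1 x = (sg a).1 x + (sg b).1 x - x := by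
  rw [Isom.mul_apply]
  have : (sg b).1 x - x ∈ W := by
    rw [sg_apply hW]
    have := W.sub_mem (W.sub_mem (W.smul_mem (φ.B b.2.1 x) b.1.2)
      (W.smul_mem (φ.ε * φ.B b.1 x) b.2.1.2)) (W.smul_mem (φ.ε * b.2.2 * φ.B b.1 x) b.1.2)
    convert this using 1
    abel
  have h := sg_fix hW a (hW.le_perp this)
  rw [map_sub] at h
  rw [add_sub_assoc, ← h]; abel

theorem sg_pow (a : Idx φ W) (n : ℕ) : sg a ^ n = sg (a.1, n • a.2.1, n • a.2.2) := by
  induction n with
  | zero => simpa [sg] using (φ.siegel_zero (hW.Q _ a.1.2)).symm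
  | succ n ih =>
    rw [pow_succ, ih]
    apply Isom.ext
    intro x
    simp only [sg_mul_apply hW, sg_apply hW, succ_nsmul, Submodule.coe_add, map_add,
      LinearMap.add_apply, AddSubgroup.coe_add]
    module

theorem sg_pow_char (a : Idx φ W) : sg a ^ ringChar F = 1 := by
  rw [sg_pow hW]
  have h1 : ringChar F • a.2.1 = 0 := by
    rw [← Nat.cast_smul_eq_nsmul F, ringChar.Nat.cast_ringChar, zero_smul]
  have h2 : ringChar F • a.2.2 = 0 := Subtype.ext (by simp)
  rw [h1, h2]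
  exact φ.siegel_zero (hW.Q _ a.1.2)

theorem tvCl_ind : TvCl (ind φ W) := by
  refine ⟨?_, ?_, fun l v hl => ?_⟩
  · rintro k ⟨g, -, hg⟩ x y h
    apply Subtype.ext
    apply g.1.injective
    rw [hg, hg, h]
  · rintro k ⟨g, hg, h⟩ k' ⟨g', hg', h'⟩
    exact ⟨g * g', mul_mem hg hg', fun x => by rw [Isom.mul_apply, h', h]; rfl⟩
  · obtain ⟨l', hl'⟩ := LinearMap.exists_extend l
    obtain ⟨w, hw⟩ := φ.exists_B_eq l'
    have h1 : ∀ x : W, φ.B w x = l x := fun x => by rw [hw, ← hl']; rfl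
    have h2 : φ.B v w = 0 := φ.B_symm_zero (by rw [h1, hl])
    obtain ⟨s, hs, -⟩ := φ.half w
    refine ⟨φ.siegel v w s, φ.siegel_mem_E (hW.Q _ v.2) h2 hs, fun x => ?_⟩
    rw [φ.siegel_apply (hW.Q _ v.2) h2 hs, hW.B _ v.2 _ x.2, h1]
    simp

variable {R : φ.Isom → Module.End K M} (hR : IsERep φ R)
include hR

theorem fam_comm (a : Idx φ W) {g : φ.Isom} (hg : g ∈ φ.E) (h : ∀ x ∈ W, g.1 x = x) (v : M) :
    fam R W a (R g v) = R g (fam R W a v) := by
  unfold fam
  rw [← hR.mul_apply (sg_mem hW a) hg, ← hR.mul_apply hg (sg_mem hW a), sg_comm hW a h]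

theorem mem_wt_of_fix {χ : Idx φ W → K} {g : φ.Isom} (hg : g ∈ φ.E) (h : ∀ x ∈ W, g.1 x = x)
    {v : M} (hv : v ∈ wt (fam R W) χ) : R g v ∈ wt (fam R W) χ := fun a => by
  rw [fam_comm hW hR a hg h, hv a, map_smul]

theorem exists_weight [IsAlgClosed K] [FiniteDimensional K M] (hK : ((ringChar F : ℕ) : K) ≠ 0)
    {a : Idx φ W} (ha : R (sg a) ≠ 1) : ∃ χ, χ a ≠ 1 ∧ ∃ v, v ≠ 0 ∧ v ∈ wt (fam R W) χ := by
  obtain ⟨x, hx⟩ : ∃ x, R (sg a) x ≠ x := by
    by_contra h
    push Not at h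
    exact ha (LinearMap.ext h)
  obtain ⟨χ, h1, v, -, h2⟩ := exists_wt_ne_one (fam R W) ⊤ (fun _ _ _ => trivial)
    (fun a b v _ => fam_comm hW hR a (sg_mem hW b) (fun x hx => sg_fix hW b (hW.le_perp hx)) v)
    (a₀ := a) hK (by rw [fam, ← hR.pow (sg_mem hW a), sg_pow_char hW, hR.one]) trivial hx
  exact ⟨χ, h1, v, h2⟩

theorem mem_wt_act {χ : Idx φ W → K} {g : φ.Isom} (hg : g ∈ φ.E) {k : Module.End F W}
    (h : ∀ x : W, g.1 x = k x) {v : M} (hv : v ∈ wt (fam R W) χ) :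
    R g⁻¹ v ∈ wt (fam R W) (act χ k) := fun a => by
  rw [fam, hR.conj_apply hg (sg_mem hW a), sg_conj hW a g k h]
  have := hv (k a.1, k a.2.1, a.2.2)
  rw [fam] at this
  rw [this, map_smul, act]

theorem card_orbit_mul [Finite F] [FiniteDimensional K M] (χ : Idx φ W → K) :
    Nat.card (act χ '' ind φ W) * finrank K (wt (fam R W) χ) ≤ finrank K M := by
  haveI : Finite (Module.End F W) := Module.finite_of_finite F
  have hf : (act χ '' ind φ W).Finite := (Set.toFinite _).image _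
  have := card_mul_le (fam R W) ⊤ hf.toFinset (m := finrank K (wt (fam R W) χ)) (by
    intro χ' h
    obtain ⟨k, ⟨g, hg, hk⟩, rfl⟩ := hf.mem_toFinset.1 h
    have := finrank_wt_le (W := ⊤) (W' := ⊤) (χ := χ) (R g⁻¹) (hR.injective (inv_mem hg))
      fun v _ hv => ⟨trivial, mem_wt_act hW hR hg hk hv⟩
    rwa [top_inf_eq] at this)
  rwa [finrank_top, ← Set.ncard_eq_toFinset_card _ hf, ← Nat.card_coe_set_eq] at this

variable {χ : Idx φ W → K} {y : M} (hy0 : y ≠ 0) (hy : y ∈ wt (fam R W) χ)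
include hy0 hy

omit [φ.Nondeg] [FiniteDimensional F V] in
theorem chi_mul {a b c : Idx φ W} (h : sg a = sg b * sg c) : χ a = χ b * χ c := by
  have h1 := hy a
  rw [fam, h, hR.mul_apply (sg_mem hW b) (sg_mem hW c)] at h1
  have h2 := hy b
  have h3 := hy c
  rw [fam] at h2 h3
  rw [h3, map_smul, h2, smul_smul] at h1
  rw [mul_comm]
  exact (smul_left_injective K hy0 h1).symm

omit [φ.Nondeg] [FiniteDimensional F V] hW hR in
theorem chi_congr {a b : Idx φ W} (h : sg a = sg b) : χ a = χ b := by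
  have h1 := hy a
  have h2 := hy b
  rw [fam] at h1 h2
  rw [h, h2] at h1
  exact (smul_left_injective K hy0 h1).symm

omit [φ.Nondeg] [FiniteDimensional F V] hW in
theorem chi_one {a : Idx φ W} (h : sg a = 1) : χ a = 1 := by
  have h1 := hy a
  rw [fam, h, hR.one, Module.End.one_apply] at h1
  exact (smul_left_injective K hy0 (h1.symm.trans (one_smul K y).symm))

theorem exists_form [Finite F] {ψ : AddChar F K} (hψ : ψ ≠ 1) :
    ∃ b : W →ₛₗ[φ.σ] W →ₗ[F] F, (∀ p w c, χ (p, c • w, 0) = ψ (c * b p w)) ∧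
      ∀ p w c, ψ (c * b w p) = ψ (-(φ.ε * φ.σ c) * b p w) := by
  have hadd : ∀ p w w' : W, χ (p, w + w', 0) = χ (p, w, 0) * χ (p, w', 0) := fun p w w' =>
    chi_mul hW hR hy0 hy (Isom.ext fun x => by
      simp only [sg_mul_apply hW, sg_apply hW, Submodule.coe_add, map_add, LinearMap.add_apply,
        ZeroMemClass.coe_zero]
      module)
  have hadd' : ∀ p p' w : W, χ (p + p', w, 0) = χ (p, w, 0) * χ (p', w, 0) := fun p p' w =>
    chi_mul hW hR hy0 hy (Isom.ext fun x => by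
      simp only [sg_mul_apply hW, sg_apply hW, Submodule.coe_add, map_add, LinearMap.add_apply,
        ZeroMemClass.coe_zero]
      module)
  have hsm : ∀ (c : F) (p w : W), χ (c • p, w, 0) = χ (p, φ.σ c • w, 0) := fun c p w =>
    chi_congr hy0 hy (Isom.ext fun x => by
      simp only [sg_apply hW, Submodule.coe_smul, φ.B_smul_left, φ.σ_σ, ZeroMemClass.coe_zero]
      module)
  have hsw : ∀ p w : W, χ (w, p, 0) = χ (p, (-φ.ε) • w, 0) := fun p w =>
    chi_congr hy0 hy (Isom.ext fun x => by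
      simp only [sg_apply hW, Submodule.coe_smul, φ.B_smul_left, map_neg, φ.σ_ε,
        ZeroMemClass.coe_zero]
      have := φ.ε_mul_ε
      match_scalars
      · rfl
      · linear_combination (-φ.B p x) * this
      · ring)
  have h0 : ∀ p w : W, ∃ b : F, ∀ c, χ (p, c • w, 0) = ψ (c * b) := fun p w =>
    exists_eq_mulShift hψ
      { toFun := fun c => χ (p, c • w, 0)
        map_zero_eq_one' := chi_one hR hy0 hy (by simpa [sg] using φ.siegel_zero (hW.Q _ p.2))
        map_add_eq_mul' := fun c d => by rw [add_smul, hadd] }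
  choose b hb using h0
  refine ⟨LinearMap.mk₂'ₛₗ φ.σ (RingHom.id F) b (fun p p' w => ?_) (fun c p w => ?_)
    (fun p w w' => ?_) (fun c p w => ?_), hb, fun p w c => ?_⟩
  · exact eq_of_mulShift hψ fun c => by rw [← hb, hadd', hb, hb, mul_add, AddChar.map_add_eq_mul]
  · exact eq_of_mulShift hψ fun d => by
      rw [← hb, hsm, smul_smul, hb, smul_eq_mul, mul_comm (φ.σ c), mul_assoc]
  · exact eq_of_mulShift hψ fun c => by
      rw [← hb, smul_add, hadd, hb, hb, mul_add, AddChar.map_add_eq_mul]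
  · exact eq_of_mulShift hψ fun d => by
      rw [← hb, smul_smul, hb, smul_eq_mul, RingHom.id_apply, mul_assoc]
  · simp only [LinearMap.mk₂'ₛₗ_apply]
    rw [← hb, hsw, hsm, smul_smul, hb]
    congr 2; ring

omit hW hR in
theorem chi_tv (hW : φ.TS W) (p : W) (c : F) (t : φ.T.ker) (h : t.1 = c - φ.ε * φ.σ c) :
    χ (p, 0, t) = χ (p, c • p, 0) := chi_congr hy0 hy (by
  simp only [sg, Submodule.coe_smul, ZeroMemClass.coe_zero]
  rw [siegel_self (hW.Q _ p.2) (map_zero _), zero_add, h])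

theorem exists_quad [Finite F] {ψ : AddChar F K} (hψ : ψ ≠ 1) (hA : H09.IsAltF φ) :
    ∃ Q : QuadraticForm F W, (∀ p (t : φ.T.ker), χ (p, 0, t) = ψ (t * Q p)) ∧
      ∀ p w c, χ (p, c • w, 0) = ψ (c * QuadraticMap.polar Q p w) := by
  obtain ⟨b, hb, -⟩ := exists_form hW hR hy0 hy hψ
  have hT : ∀ t, t ∈ φ.T.ker := fun t => by rw [hA.T_eq]; rfl
  have hε : φ.ε = -1 := by
    have := φ.T_ker 1 (hT 1)
    rw [map_one] at this
    linear_combination this
  have hσ : ∀ (c : F) x y, φ.B (c • x) y = c * φ.B x y := fun c x y => by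
    rw [φ.B_smul_left, hA.σ_eq]
  have h0 : ∀ p : W, ∃ b : F, ∀ c, χ (p, 0, ⟨c, hT c⟩) = ψ (c * b) := fun p =>
    exists_eq_mulShift hψ
      { toFun := fun c => χ (p, 0, ⟨c, hT c⟩)
        map_zero_eq_one' := chi_one hR hy0 hy (by simpa [sg] using φ.siegel_zero (hW.Q _ p.2))
        map_add_eq_mul' := fun c d => chi_mul hW hR hy0 hy (Isom.ext fun x => by
          simp only [sg_mul_apply hW, sg_apply hW, ZeroMemClass.coe_zero, map_zero,
            LinearMap.zero_apply]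
          module) }
  choose Q hQ using h0
  have hadd : ∀ p w, Q (p + w) = Q p + Q w + b p w := fun p w => eq_of_mulShift hψ fun c => by
    rw [mul_add, mul_add, AddChar.map_add_eq_mul, AddChar.map_add_eq_mul, ← hQ, ← hQ, ← hQ, ← hb,
      mul_assoc, mul_comm (χ (w, _, _)), ← mul_assoc,
      ← chi_mul hW hR hy0 hy (a := (p, c • w, ⟨c, hT c⟩)) (Isom.ext fun x => by
        simp only [sg_mul_apply hW, sg_apply hW, ZeroMemClass.coe_zero, map_zero,
          LinearMap.zero_apply]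
        module)]
    exact chi_mul hW hR hy0 hy (Isom.ext fun x => by
      simp only [sg_mul_apply hW, sg_apply hW, ZeroMemClass.coe_zero, map_zero,
        LinearMap.zero_apply, Submodule.coe_add, map_add, LinearMap.add_apply, Submodule.coe_smul,
        hσ, hε]
      module)
  have hsm : ∀ (a : F) p, Q (a • p) = (a * a) • Q p := fun a p => eq_of_mulShift hψ fun c => by
    rw [smul_eq_mul, ← mul_assoc, ← hQ, ← hQ]
    exact chi_congr hy0 hy (Isom.ext fun x => by
      simp only [sg_apply hW, ZeroMemClass.coe_zero, map_zero, LinearMap.zero_apply,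
        Submodule.coe_smul, hσ]
      module)
  let B : LinearMap.BilinMap F W F := LinearMap.mk₂ F (fun x y => b x y) (by simp)
    (fun c x y => by rw [map_smulₛₗ, hA.σ_eq]; rfl) (by simp) (by simp)
  refine ⟨⟨Q, hsm, B, hadd⟩, fun p t => hQ p t, fun p w c => ?_⟩
  rw [hb]
  congr 2
  change _ = Q (p + w) - Q p - Q w
  rw [hadd]; ring

omit hy0 hy in
theorem bound1 [Finite F] [IsAlgClosed K] [FiniteDimensional K M]
    (hK : ((ringChar F : ℕ) : K) ≠ 0) {ψ : AddChar F K} (hψ : ψ ≠ 1)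
    (hT : ∀ t, φ.T t = 0 → ∃ c, t = c - φ.ε * φ.σ c) {r : ℕ}
    (hr : ∀ d, Nat.card {c // φ.σ c * c = d} ≤ r)
    (ht : ∀ x v : W, x ≠ 0 → v ≠ 0 → ∃ k ∈ ind φ W, k x = v) {p : W} {t : φ.T.ker}
    (h1 : R (sg (p, 0, t)) ≠ 1) :
    ∃ (χ : Idx φ W → K) (y : M) (a : F), y ≠ 0 ∧ y ∈ wt (fam R W) χ ∧ a ≠ 0 ∧
      (∀ c, χ (p, c • p, 0) = ψ (c * a)) ∧
      (Nat.card W - 1) * finrank K (wt (fam R W) χ) ≤ r * finrank K M := by
  obtain ⟨χ, h2, y, hy0, hy⟩ := exists_weight hW hR hK h1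
  obtain ⟨b, hb, hb'⟩ := exists_form hW hR hy0 hy hψ
  obtain ⟨c, hc⟩ := hT t t.2
  have hp : b p p ≠ 0 := fun h => h2 (by
    rw [chi_tv hy0 hy hW p c t hc, hb, h, mul_zero, AddChar.map_zero_eq_one])
  have hp0 : p ≠ 0 := by rintro rfl; simp at hp
  refine ⟨χ, y, b p p, hy0, hy, hp, hb p p, ?_⟩
  have := orbit1 b hp (fun w hw => eq_of_mulShift hψ fun c => by rw [hb', hw, mul_zero, mul_zero])
    hr (tvCl_ind hW) (fun x hx => ht x p hx hp0) (act χ) (fun k _ k' _ h x y =>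
      eq_of_mulShift hψ fun c => by
        rw [← hb, ← hb, ← map_smul, ← map_smul]
        exact congrFun h (x, c • y, 0))
  calc _ ≤ r * Nat.card (act χ '' ind φ W) * finrank K (wt (fam R W) χ) := by gcongr
    _ ≤ _ := by rw [mul_assoc]; gcongr; exact card_orbit_mul hW hR χ

theorem heis_unitary [IsAlgClosed K] [FiniteDimensional K M] {q : ℕ} (hU : φ.IsUnitary q)
    {ψ : AddChar F K} (hψ : ψ ≠ 1) {p : W} {a : F} (ha : a ≠ 0)
    (hχ : ∀ c, χ (p, c • p, 0) = ψ (c * a)) {u : V} (hu : u ∈ φ.perp W) (hu0 : φ.Q u ≠ 0) :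
    q ≤ finrank K (wt (fam R W) χ) := by
  haveI := hU.finite
  haveI : Fintype φ.T.ker := Fintype.ofFinite _
  have hp := hW.Q _ p.2
  have hB : ∀ c : F, φ.B p (c • u) = 0 := fun c => by rw [map_smul, hu _ p.2, smul_zero]
  choose s hs _ using φ.half
  let X : F → φ.Isom := fun c => φ.siegel p (c • u) (s (c • u))
  have hX : ∀ c, X c ∈ φ.E := fun c => φ.siegel_mem_E hp (hB c) (hs _)
  have hXf : ∀ c, ∀ x ∈ W, (X c).1 x = x := fun c x hx =>
    siegel_apply_of_orth hp (hB c) (hs _) (hW.B _ p.2 _ hx)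
      (by rw [φ.B_smul_left, φ.B_symm_zero (hu _ hx), mul_zero])
  have hXw : ∀ c, ∀ v ∈ wt (fam R W) χ, R (X c) v ∈ wt (fam R W) χ := fun c v hv =>
    mem_wt_of_fix hW hR (hX c) (hXf c) hv
  have hsk : ∀ t : φ.T.ker, φ.σ t = -t := fun t => by
    have := t.2
    rw [AddMonoidHom.mem_ker, hU.herm.T_eq] at this
    linear_combination this
  have hmem : ∀ c : F, c - φ.ε * φ.σ c ∈ φ.T.ker := fun c => by
    rw [AddMonoidHom.mem_ker, hU.herm.T_eq, hU.herm.ε_eq]; simp
  have hcomm : ∀ c d, ∀ v ∈ wt (fam R W) χ, R (X c) (R (X d) v) =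
      χ (p, 0, ⟨_, hmem (φ.σ c * d * φ.Q u)⟩) • R (X d) (R (X c) v) := by
    intro c d v hv
    have h1 := hXw d _ (hXw c v hv) (p, 0, ⟨_, hmem (φ.σ c * d * φ.Q u)⟩)
    rw [← h1, fam, ← hR.mul_apply (hX c) (hX d), ← hR.mul_apply (hX d) (hX c),
      ← hR.mul_apply (sg_mem hW _) (mul_mem (hX d) (hX c))]
    congr 2
    have h2 := siegel_commutator hp (hB c) (hs _) (hB d) (hs _)
    have h3 : φ.B (c • u) (d • u) = φ.σ c * d * φ.Q u := by
      rw [φ.B_smul_left, φ.B_smul_right, hU.herm.Q_eq, mul_assoc]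
    rw [φ.symm (c • u) (d • u), h3] at h2
    simp only [sg, ZeroMemClass.coe_zero]
    rw [← h2, commutatorElement_def]
    simp only [X]
    group
  have hQ : φ.σ (φ.Q u) = φ.Q u := by rw [hU.herm.Q_eq, φ.σ_B, hU.herm.ε_eq, one_mul]
  obtain ⟨x₀, hx₀⟩ := AddChar.ne_one_iff.1 hψ
  have := heis_le (fun i : φ.T.ker => R (X i)) (fun j : φ.T.ker => R (X (j * (x₀ / (φ.Q u * a)))))
    (fun i j => ψ (-(i * j * x₀))) (wt (fam R W) χ) (fun h => hy0 (by rwa [h] at hy))
    (fun i => hXw _) (fun j => hXw _) (fun i => hR.injective (hX _)) (fun j => hR.injective (hX _))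
    (fun i j v hv => by
      rw [hcomm _ _ v hv, chi_one hR hy0 hy, one_smul]
      simp only [sg, ZeroMemClass.coe_zero, map_mul, hsk, hQ, hU.herm.ε_eq, map_neg]
      rw [← φ.siegel_zero hp]
      congr 1; ring)
    (fun i j v hv => by
      rw [hcomm _ _ v hv, chi_tv hy0 hy hW p _ _ rfl, hχ, hsk]
      congr 2
      field_simp)
    (fun j j' h => by
      by_contra hne
      have h1 : (j' : F) - j ≠ 0 := sub_ne_zero.2 fun h => hne (Subtype.ext h.symm)
      have h2 := h ⟨((j' : F) - j)⁻¹, by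
        rw [AddMonoidHom.mem_ker, hU.herm.T_eq, map_inv₀, map_sub, hsk, hsk, ← neg_sub', inv_neg,
          add_neg_cancel]⟩
      apply hx₀
      have h3 : x₀ = -(((j' : F) - j)⁻¹ * j * x₀) - -(((j' : F) - j)⁻¹ * j' * x₀) := by
        field_simp; ring
      rw [h3, AddChar.map_sub_eq_div, h2, div_self (ψ.val_isUnit _).ne_zero])
  rwa [← Nat.card_eq_fintype_card, hU.card_ker_T] at this

theorem bound2 [Finite F] [FiniteDimensional K M] {ψ : AddChar F K} (hψ : ψ ≠ 1)
    (hA : H09.IsAltF φ) {Q : QuadraticForm F W}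
    (hQ : ∀ p (t : φ.T.ker), χ (p, 0, t) = ψ (t * Q p)) {u v : W}
    (hΔ : QuadraticMap.polar Q u u * QuadraticMap.polar Q v v - QuadraticMap.polar Q u v ^ 2 ≠ 0) :
    (Nat.card W - 1) * (Nat.card W - Nat.card F) ≤ 2 * (Nat.card F + 1) * finrank K M := by
  have hT : ∀ t, t ∈ φ.T.ker := fun t => by rw [hA.T_eq]; rfl
  have h1 := orbit2 Q hΔ (act χ) fun k k' _ _ h x => eq_of_mulShift hψ fun c => by
    have := congrFun h (x, 0, ⟨c, hT c⟩)
    simpa only [act, map_zero, hQ] using this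
  have h2 : {k : Module.End F W | Function.Injective k} = ind φ W := by
    refine Set.Subset.antisymm (fun k hk => ?_) fun k hk => (tvCl_ind hW).inj k hk
    obtain ⟨f, hf⟩ := LinearMap.exists_extend (W.subtype ∘ₗ k)
    have hf' : ∀ x : W, f x = k x := fun x => LinearMap.congr_fun hf x
    obtain ⟨g, -, hg⟩ := φ.witt φ.hasElem_top W f
      (fun x hx y hy => by
        rw [hf' ⟨x, hx⟩, hf' ⟨y, hy⟩, hW.B _ (k _).2 _ (k _).2, hW.B _ hx _ hy])
      (fun x hx => by rw [hA.Q_eq, hA.Q_eq])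
      (fun x hx h => by
        rw [hf' ⟨x, hx⟩] at h
        exact congrArg Subtype.val (hk (a₁ := ⟨x, hx⟩) (a₂ := 0) (by simpa using h)))
    exact ⟨g, by rw [E_eq_top_of_isAltF hA]; trivial, fun x => by rw [hg x x.2, hf']⟩
  rw [h2] at h1
  refine h1.trans (Nat.mul_le_mul_left _ (le_trans ?_ (card_orbit_mul hW hR χ)))
  exact Nat.le_mul_of_pos_right _ (one_le_finrank hy hy0)

end

theorem card_sq_le [Finite F] (d : F) : Nat.card {c : F // c * c = d} ≤ 2 :=
  le_trans (Nat.card_le_card_of_injective (fun c => (⟨c.1, by linear_combination c.2⟩ :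
    {t : F // 1 * t ^ 2 + 0 * t + -d = 0})) fun c c' h => Subtype.ext (by simpa using h))
    (card_quad_le one_ne_zero)

theorem card_norm_le [FiniteDimensional F V] {q : ℕ} (hU : φ.IsUnitary q) (d : F) :
    Nat.card {c // φ.σ c * c = d} ≤ q + 1 := by
  haveI := hU.finite
  rcases isEmpty_or_nonempty {c // φ.σ c * c = d} with h | ⟨⟨c, rfl⟩⟩
  · simp
  by_cases h0 : φ.σ c * c = 0
  · haveI : Subsingleton {c' // φ.σ c' * c' = φ.σ c * c} := ⟨fun a b => Subtype.ext (by
      have h1 := a.2.trans h0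
      have h2 := b.2.trans h0
      simp only [mul_eq_zero, σ_eq_zero, or_self] at h1 h2
      rw [h1, h2])⟩
    exact (Finite.card_le_one_iff_subsingleton.2 this).trans (by omega)
  · exact (hU.card_norm h0 (by rw [map_mul, φ.σ_σ, mul_comm])).le

section
variable [φ.Nondeg] [FiniteDimensional F V] (hW : φ.TS W)
include hW

theorem sg_tv_ne_one {p : W} (hp : p ≠ 0) {t : φ.T.ker} (ht : t ≠ 0) : sg (p, 0, t) ≠ 1 := by
  intro h
  have hp' : (p : V) ≠ 0 := fun h => hp (Subtype.ext h)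
  obtain ⟨x, hx⟩ := φ.exists_B_eq_one hp'
  have := sg_apply hW (p, 0, t) x
  simp [h, hx, hp', φ.ε_ne_zero, eq_comm (a := x), sub_eq_self] at this
  exact ht this

theorem sg_ne_one {p w : W} (hp : p ≠ 0) (hw : (w : V) ∉ F ∙ (p : V)) :
    sg (φ := φ) (p, w, 0) ≠ 1 := by
  intro h
  have hp' : (p : V) ≠ 0 := fun h => hp (Subtype.ext h)
  obtain ⟨x, hx, hx'⟩ := φ.exists_sep' hw
  have := sg_apply hW (p, w, 0) x
  simp [h, hx', hp', hx _ (Submodule.mem_span_singleton_self _)] at this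

theorem ext_ne_one {G : Type*} [Group G] (e : φ.E ≃* G) (ρ : G →* Module.End K M)
    (hker : ρ.ker ≤ Subgroup.center G) (hc : φ.Conn) {a : Idx φ W} (ha : sg a ≠ 1) :
    ext (ρ.comp e.toMonoidHom) (sg a) ≠ 1 := by
  intro h
  rw [ext_apply _ (sg_mem hW a)] at h
  have h1 := hker (x := e ⟨_, sg_mem hW a⟩) h
  have h2 : (⟨_, sg_mem hW a⟩ : φ.E) ∈ Subgroup.center φ.E := Subgroup.mem_center_iff.2 fun g =>
    e.injective (by rw [map_mul, map_mul, Subgroup.mem_center_iff.1 h1])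
  have hp : (a.1 : V) ≠ 0 := fun h0 => ha (by rw [sg, h0, siegel_zero_left (hs hW a)])
  obtain ⟨f, hf⟩ := φ.exists_hyp (hW.Q _ a.1.2) hp
  obtain ⟨c, hc⟩ := (mem_center_E_iff hc hf).1 h2
  have h3 := hc a.1
  simp only at h3 hc
  rw [sg_fix hW a (hW.le_perp a.1.2)] at h3
  have : c = 1 := smul_left_injective F hp (h3.symm.trans (one_smul _ _).symm)
  exact ha (Isom.ext fun x => by rw [hc, this, one_smul]; rfl)

theorem ind_trans (h2 : 2 ≤ finrank F W) (x v : W) (hx : x ≠ 0) (hv : v ≠ 0) :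
    ∃ k ∈ ind φ W, k x = v := by
  obtain ⟨k, h1, h2, -⟩ := (tvCl_ind hW).exists_map ⊥ (by simpa using h2) (x := x) (y := v) hx hv
  exact ⟨k, h1, h2⟩

end

theorem ker_ne_top {G : Type*} [Group G] {k : ℕ} (ρ : Representation ℂ G (Fin k → ℂ))
    (h : ρ.IsIrreducible) (hk : 2 ≤ k) : MonoidHom.ker ρ ≠ ⊤ := by
  intro ht
  have h1 : ∀ g, ρ g = 1 := fun g => by
    have : g ∈ MonoidHom.ker ρ := ht ▸ Subgroup.mem_top g
    exact this
  let U : Subrepresentation ρ := ⟨ℂ ∙ (Pi.single ⟨0, by omega⟩ 1 : Fin k → ℂ), by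
    intro g v hv; rwa [h1]⟩
  have h0 : (Pi.single ⟨0, by omega⟩ 1 : Fin k → ℂ) ≠ 0 := by simp
  rcases h.eq_bot_or_eq_top U with h' | h'
  · have := congrArg Subrepresentation.toSubmodule h'
    exact h0 (Submodule.span_singleton_eq_bot.1 this)
  · have h2 : (ℂ ∙ (Pi.single ⟨0, by omega⟩ 1 : Fin k → ℂ)) = ⊤ :=
      congrArg Subrepresentation.toSubmodule h'
    have := finrank_span_singleton (K := ℂ) h0
    rw [h2] at this
    simp at this
    omega

section Sp
variable {n : ℕ}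

variable (n F) in
/-- `E` is the symplectic group -/
noncomputable def eSp : (H09.spForm (Fin n) F).E ≃* Matrix.symplecticGroup (Fin n) F :=
  ((MulEquiv.subgroupCongr (E_eq_top_of_isAltF H09.isAltF_spForm)).trans Subgroup.topEquiv).trans
    (H09.spIsomEquiv (Fin n) F).symm

variable (n F) in
theorem exists_TS_sp : ∃ W, (H09.spForm (Fin n) F).TS W ∧ finrank F W = n := by
  let L : (Fin n → F) →ₗ[F] (Fin n ⊕ Fin n → F) :=
    { toFun := fun x => Sum.elim x 0
      map_add' := fun x y => by ext (i | i) <;> simp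
      map_smul' := fun c x => by ext (i | i) <;> simp }
  refine ⟨LinearMap.range L, H09.isAltF_spForm.ts ?_, ?_⟩
  · rintro _ ⟨x, rfl⟩ _ ⟨y, rfl⟩
    simp [H09.spForm_B, H09.spB_apply', L]
  · rw [LinearMap.finrank_range_of_inj fun x y h => by
      ext i; exact congrFun h (Sum.inl i)]
    simp

theorem conn_alt (hA : H09.IsAltF φ) : φ.Conn := Or.inl ⟨1, one_ne_zero, by rw [hA.T_eq]; rfl⟩

theorem eps_alt (hA : H09.IsAltF φ) : φ.ε = -1 := by
  have := φ.T_ker 1 (by rw [hA.T_eq]; rfl)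
  rw [map_one] at this
  linear_combination this

theorem sp_ker_le [Fintype F] (hn : 2 ≤ n) (hex : (n, Fintype.card F) ≠ (2, 2)) {k : ℕ}
    (ρ : Representation ℂ (Matrix.symplecticGroup (Fin n) F) (Fin k → ℂ))
    (h : ρ.IsIrreducible) (hk : 2 ≤ k) : MonoidHom.ker ρ ≤ Subgroup.center _ := by
  refine (H09.sp_normal_le_center_or_commutator_le _).resolve_right fun h' => ker_ne_top ρ h hk ?_
  rw [H09.sp_commutator_eq_top (H09.sp_perfect_cond n ?_)] at h'
  · exact top_le_iff.1 h'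
  · have : 1 < Fintype.card F := Fintype.one_lt_card
    simp only [ne_eq, Prod.mk.injEq] at hex
    omega

theorem sp_bound_odd [Fintype F] [IsAlgClosed K] [FiniteDimensional K M]
    (hK : ((ringChar F : ℕ) : K) ≠ 0) (h2 : (2 : F) ≠ 0) (hn : 2 ≤ n)
    (ρ : Matrix.symplecticGroup (Fin n) F →* Module.End K M)
    (hker : ρ.ker ≤ Subgroup.center _) : Fintype.card F ^ n - 1 ≤ 2 * finrank K M := by
  obtain ⟨W, hW, hn'⟩ := exists_TS_sp F n
  have hA : H09.IsAltF (H09.spForm (Fin n) F) := H09.isAltF_spForm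
  obtain ⟨ψ, hψ⟩ := exists_addChar hK
  haveI : Nontrivial W := Module.nontrivial_of_finrank_pos (R := F) (by omega)
  obtain ⟨p, hp⟩ := exists_ne (0 : W)
  obtain ⟨χ, y, a, h1, h3, -, -, h4⟩ := bound1 hW (isERep_ext (ρ.comp (eSp F n).toMonoidHom)) hK hψ
    (fun t _ => ⟨t / 2, by rw [eps_alt hA, hA.σ_eq]; field_simp; ring⟩) (r := 2)
    (fun d => by simpa only [hA.σ_eq] using card_sq_le d) (ind_trans hW (by omega))
    (ext_ne_one hW _ ρ hker (conn_alt hA) (sg_tv_ne_one hW hp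
      (t := ⟨1, by rw [hA.T_eq]; rfl⟩) (by simp)))
  rw [Module.natCard_eq_pow_finrank (K := F), hn', Nat.card_eq_fintype_card] at h4
  exact le_trans (Nat.le_mul_of_pos_right _ (one_le_finrank h3 h1)) h4

theorem sp_bound_even [Fintype F] [IsAlgClosed K] [FiniteDimensional K M]
    (hK : ((ringChar F : ℕ) : K) ≠ 0) (h2 : (2 : F) = 0) (hn : 2 ≤ n)
    (ρ : Matrix.symplecticGroup (Fin n) F →* Module.End K M)
    (hker : ρ.ker ≤ Subgroup.center _) :
    (Fintype.card F ^ n - 1) * (Fintype.card F ^ n - Fintype.card F) ≤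
      2 * (Fintype.card F + 1) * finrank K M := by
  obtain ⟨W, hW, hn'⟩ := exists_TS_sp F n
  have hA : H09.IsAltF (H09.spForm (Fin n) F) := H09.isAltF_spForm
  obtain ⟨ψ, hψ⟩ := exists_addChar hK
  haveI : Nontrivial W := Module.nontrivial_of_finrank_pos (R := F) (by omega)
  obtain ⟨p, hp⟩ := exists_ne (0 : W)
  have hp' : (p : Fin n ⊕ Fin n → F) ≠ 0 := fun h => hp (Subtype.ext h)
  obtain ⟨w, hw, hw'⟩ : ∃ w ∈ W, w ∉ F ∙ (p : Fin n ⊕ Fin n → F) := by
    by_contra h
    push Not at h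
    have := Submodule.finrank_mono (show W ≤ _ from h)
    rw [finrank_span_singleton hp'] at this
    omega
  have hR := isERep_ext (ρ.comp (eSp F n).toMonoidHom)
  obtain ⟨χ, h1, y, hy0, hy⟩ := exists_weight hW hR hK
    (ext_ne_one hW _ ρ hker (conn_alt hA) (sg_ne_one hW hp (w := ⟨w, hw⟩) hw'))
  obtain ⟨Q, hQ, hQ'⟩ := exists_quad hW hR hy0 hy hψ hA
  have := bound2 hW hR hy0 hy hψ hA hQ (u := p) (v := ⟨w, hw⟩) (by
    rw [QuadraticMap.polar_self, two_smul, ← two_mul, h2, zero_mul, zero_mul, zero_sub, neg_ne_zero]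
    refine pow_ne_zero _ fun h => h1 ?_
    have := hQ' p ⟨w, hw⟩ 1
    rwa [one_smul, h, mul_zero, AddChar.map_zero_eq_one] at this)
  rwa [Module.natCard_eq_pow_finrank (K := F), hn', Nat.card_eq_fintype_card] at this

end Sp

section SU
variable [φ.Nondeg] [FiniteDimensional F V] {q : ℕ} (hU : φ.IsUnitary q)
  [IsAlgClosed K] [FiniteDimensional K M] (hK : ((ringChar F : ℕ) : K) ≠ 0)
  {G : Type*} [Group G] (e : φ.E ≃* G) (ρ : G →* Module.End K M) (hker : ρ.ker ≤ Subgroup.center G)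
include hU hK e hker

theorem su_bound (hn : 3 ≤ finrank F V) :
    (q ^ (2 * (finrank F V / 2)) - 1) * (if Even (finrank F V) then 1 else q) ≤
      (q + 1) * finrank K M := by
  haveI := hU.finite
  obtain ⟨W, hW, hn'⟩ := hU.hasTS (k := finrank F V / 2) (by omega)
  obtain ⟨ψ, hψ⟩ := exists_addChar hK
  haveI : Nontrivial W := Module.nontrivial_of_finrank_pos (R := F) (by omega)
  obtain ⟨p, hp⟩ := exists_ne (0 : W)
  obtain ⟨t, ht0, ht⟩ := hU.exists_skew
  have hR := isERep_ext (ρ.comp e.toMonoidHom)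
  obtain ⟨χ, y, a, h1, h3, ha, hχ, h4⟩ := bound1 hW hR hK hψ
    (fun t ht => by
      obtain ⟨θ, hθ⟩ := hU.exists_T_eq (c := 1) (map_one _)
      rw [hU.herm.T_eq] at ht hθ
      refine ⟨t * θ, ?_⟩
      rw [hU.herm.ε_eq, map_mul]
      linear_combination (-t) * hθ + φ.σ θ * ht)
    (card_norm_le hU) (fun x v hx hv => by
      by_cases h2 : 2 ≤ finrank F W
      · exact ind_trans hW h2 x v hx hv
      obtain ⟨g, hg, h⟩ := (hU.big hn).exists_E_map_sing (hW.Q _ x.2)
        (fun h => hx (Subtype.ext h)) (hW.Q _ v.2) (fun h => hv (Subtype.ext h))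
      have h1 : finrank F W = 1 := by omega
      obtain ⟨c, rfl⟩ := (finrank_eq_one_iff_of_nonzero' x hx).1 h1 v
      refine ⟨c • 1, ⟨g, hg, fun z => ?_⟩, rfl⟩
      obtain ⟨d, rfl⟩ := (finrank_eq_one_iff_of_nonzero' x hx).1 h1 z
      simp [h, smul_smul, mul_comm])
    (ext_ne_one hW e ρ hker hU.conn (sg_tv_ne_one hW hp (t := ⟨t, ht⟩) fun h => ht0 (congrArg Subtype.val h)))
  rw [Module.natCard_eq_pow_finrank (K := F), hn', hU.card, ← pow_mul] at h4
  refine le_trans (Nat.mul_le_mul_left _ ?_) h4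
  split_ifs with h
  · exact one_le_finrank h3 h1
  · obtain ⟨u, hu, hu'⟩ : ∃ u ∈ φ.perp W, φ.Q u ≠ 0 := by
      by_contra hc
      push Not at hc
      have h5 := (hU.herm.ts (W := φ.perp W) (fun x hx y hy => ?_)).finrank_le
      · have := φ.finrank_perp W
        rw [Nat.not_even_iff_odd, Nat.odd_iff] at h
        omega
      · have h6 : ∀ c : F, φ.T (c * φ.B x y) = 0 := fun c => by
          have := φ.Q_add x (c • y)
          rw [hc _ hx, hc _ (Submodule.smul_mem _ c hy),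
            hc _ (Submodule.add_mem _ hx (Submodule.smul_mem _ c hy)), φ.B_smul_right] at this
          simpa using this.symm
        by_contra h7
        obtain ⟨s, hs⟩ := hU.exists_T
        exact hs (by simpa [h7] using h6 (s / φ.B x y))
    exact heis_unitary hW hR h1 h3 hU hψ ha hχ hu hu'

end SU

theorem su_bound' [Fintype F] {n q : ℕ} (hF : Fintype.card F = q ^ 2) (hn : 3 ≤ n)
    (hex : (n, q) ≠ (3, 2)) {k : ℕ} (ρ : Representation ℂ (Cfsg.SU n F q) (Fin k → ℂ))
    (h : ρ.IsIrreducible) (hk : 2 ≤ k) :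
    (q ^ (2 * (n / 2)) - 1) * (if Even n then 1 else q) ≤ (q + 1) * k := by
  have hF' : Nat.card F = q ^ 2 := by rw [Nat.card_eq_fintype_card, hF]
  have hU := stdU_isUnitary hF' n
  have hd : finrank F (Fin n → F) = n := by simp
  have h32 : ¬ (finrank F (Fin n → F) = 3 ∧ q = 2) := by simpa using hex
  have := su_bound hU (K := ℂ) (by simpa using (CharP.char_is_prime F (ringChar F)).ne_zero)
    ((MulEquiv.subgroupCongr (hU.E_eq_SIsom (by omega))).trans (SUEquiv hF' n).symm) ρ (by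
      have e := SUEquiv hF' n
      rcases hU.normal_SIsom (by omega) h32 ((MonoidHom.ker ρ).comap e.symm.toMonoidHom) with h1 | h1
      · intro g hg
        have := h1 (x := e g) (by simpa using hg)
        exact Subgroup.mem_center_iff.2 fun g' =>
          e.injective (by rw [map_mul, map_mul, Subgroup.mem_center_iff.1 this])
      · refine absurd (eq_top_iff.2 fun g _ => ?_) (ker_ne_top ρ h hk)
        have : e g ∈ (MonoidHom.ker ρ).comap e.symm.toMonoidHom := h1 ▸ Subgroup.mem_top _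
        simpa using this) (by omega)
  simpa using this

end L.MR
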