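import Cfsg.Agent.L.COM
import Cfsg.Agent.H13.WE8

/-! Recognition of the first Conway group (namespace `L.CA`): tables and checks on codes. -/

set_option autoImplicit false
set_option maxRecDepth 100000

namespace L.CA
open H13 H14.PK H27.PKx H27.MG L.DC
open L.SZ (ex)

def PT : ℕ := nat_lit 0x6996966996696996966969966996966996696996699696696996966996696996
def R9 : Rules := [(0, 0, []), (1, 0, [0, 1]), (1, 1, []), (2, 0, [0, 2]), (2, 1, [0, 1, 2]), (2, 2, []), (3, 0, [0, 3]), (3, 1, [1, 3]), (3, 2, [2, 3]), (3, 3, []), (4, 0, [0, 4]), (4, 1, [1, 4]), (4, 2, [2, 4]), (4, 3, [0, 3, 4]), (4, 4, []), (5, 0, [0, 5]), (5, 1, [1, 5]), (5, 2, [2, 5]), (5, 3, [3, 5]), (5, 4, [4, 5]), (5, 5, []), (6, 0, [0, 6]), (6, 1, [1, 6]), (6, 2, [2, 6]), (6, 3, [3, 6]), (6, 4, [4, 6]), (6, 5, [0, 5, 6]), (6, 6, []), (7, 0, [0, 7]), (7, 1, [1, 7]), (7, 2, [2, 7]), (7, 3, [3, 7]), (7, 4, [4, 7]), (7, 5,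 [5, 7]), (7, 6, [6, 7]), (7, 7, [0]), (8, 0, [0, 8]), (8, 1, [1, 8]), (8, 2, [2, 8]), (8, 3, [3, 8]), (8, 4, [4, 8]), (8, 5, [5, 8]), (8, 6, [6, 8]), (8, 7, [0, 7, 8]), (8, 8, [])]
def ACT : List ℕ := [nat_lit 0xffffbfbfcfdfebf3f8fbfdbebf4f9fcbe3f0f7fbbdbecf5fabd3e8f3f9bcbe4f1f8bc3e0eff7bbbdcedf6bb3d8ebf5babd4e9f4ba3d0e7f3b9bcce5f2b93c8e3f1b8bc4e1f0b83c0dfefb7bbcddeeb73b8dbedb6bb4d9ecb63b0d7ebb5bacd5eab53a8d3e9b4ba4d1e8b43a0cfe7b3b9ccde6b3398cbe5b2b94c9e4b2390c7e3b1b8cc5e2b1388c3e1b0b84c1e0b0380bfdfafb7cbddeaf378bbddaeb74b9dcae370b7dbadb6cb5daad368b3d9acb64b1d8ac360afd7abb5cadd6ab358abd5aab54a9d4aa350a7d3a9b4ca5d2a9348a3d1a8b44a1d0a83409fcfa7b3c9dcea73389bcda6b3499cca633097cba5b2c95caa532893c9a4b2491c8a43208fc7a3b1c8dc6a33188bc5a2b1489c4a231087c3a1b0c85c2a130883c1a0b0481c0a03007fbf9fafc7dbe9f2f87bbd9eaf479bc9e2f077bb9daec75ba9d2e873b99cae471b89c2e06fb79badc6db69b2d86bb59aad469b49a2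d067b399acc65b2992c863b198ac461b0982c05faf97abc5dae972b85bad96ab459ac962b057ab95aac55aa952a853a994aa451a8942a04fa793a9c4da6932984ba592a9449a49229047a391a8c45a29128843a190a8441a0902803f9f8fa7c3d9e8f2783b9d8ea74399c8e270379b8da6c359a8d26833998ca6431988c2602f978ba5c2d968b2582b958aa5429948a250279389a4c259289248239188a442190882401f8f87a3c1d8e872381b8d86a34198c86230178b85a2c158a85228138984a241188842200f8783a1c0d86832180b8582a14098482210078381a0c058281208038180a04018080200,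
  nat_lit 0xff7fff9fdfdfebf3f8fb7dfe9f5f9fcbe3f0f77bfd9edf5fabd3e8f379fc9e5f1f8bc3e0ef77fb9ddedf6bb3d8eb75fa9d5e9f4ba3d0e773f99cde5f2b93c8e371f89c5e1f0b83c0df6ff79bdddeeb73b8db6df69b5d9ecb63b0d76bf59add5eab53a8d369f49a5d1e8b43a0cf67f399dcde6b3398cb65f2995c9e4b2390c763f198dc5e2b1388c361f0985c1e0b0380bf5fef97dbddeaf378bb5dee975b9dcae370b75bed96db5daad368b359ec965b1d8ac360af57eb95dadd6ab358ab55ea955a9d4aa350a753e994da5d2a9348a351e8945a1d0a83409f4fe793d9dcea73389b4de693599cca6330974be592d95caa53289349e492591c8a43208f47e391d8dc6a33188b45e291589c4a23108743e190d85c2a13088341e090581c0a03007f3fdf8fd7dbe9f2f87b3dde8f579bc9e2f0773bdd8ed75ba9d2e87339dc8e571b89c2e06f37db8dd6db69b2d86b35da8d569b49a2d06733d98cd65b2992c86331d88c561b0982c05f2fd78bd5dae972b85b2dd68b559ac962b0572bd58ad55aa952a85329d48a551a8942a04f27d389d4da6932984b25d289549a4922904723d188d45a2912884321d088541a0902803f1fcf87d3d9e8f2783b1dce875399c8e270371bcd86d359a8d2683319cc86531988c2602f17cb85d2d968b2582b15ca85529948a2502713c984d2592892482311c88452190882401f0fc783d1d8e872381b0dc6835198c86230170bc582d158a852281309c48251188842200f07c381d0d86832180b05c28150984822100703c180d0582812080301c0805018080200,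
  nat_lit 0xff7fffbfcfd7eff3f8fb7dfebf4f97cfe3f0f77bfdbecf57afd3e8f379fcbe4f178fc3e0ef77fbbdced76fb3d8eb75fabd4e974fa3d0e773f9bcce572f93c8e371f8bc4e170f83c0df6ff7bbcdd6ef73b8db6df6bb4d96cf63b0d76bf5bacd56af53a8d369f4ba4d168f43a0cf67f3b9ccd66f3398cb65f2b94c964f2390c763f1b8cc562f1388c361f0b84c160f0380bf5fefb7cbd5eef378bb5deeb74b95cee370b75bedb6cb55aed368b359ecb64b158ec360af57ebb5cad56eb358ab55eab54a954ea350a753e9b4ca552e9348a351e8b44a150e83409f4fe7b3c9d4ee73389b4de6b34994ce6330974be5b2c954ae53289349e4b249148e43208f47e3b1c8d46e33188b45e2b148944e23108743e1b0c8542e13088341e0b048140e03007f3fdfafc7d3edf2f87b3ddeaf4793cde2f0773bddaec753add2e87339dcae47138dc2e06f37dbadc6d36db2d86b35daad46934da2d06733d9acc6532d92c86331d8ac46130d82c05f2fd7abc5d2ed72b85b2dd6ab4592cd62b0572bd5aac552ad52a85329d4aa45128d42a04f27d3a9c4d26d32984b25d2a944924d22904723d1a8c4522d12884321d0a844120d02803f1fcfa7c3d1ecf2783b1dcea74391cce270371bcda6c351acd2683319cca643118cc2602f17cba5c2d16cb2582b15caa542914ca2502713c9a4c2512c92482311c8a442110c82401f0fc7a3c1d0ec72381b0dc6a34190cc6230170bc5a2c150ac52281309c4a241108c42200f07c3a1c0d06c32180b05c2a140904c22100703c1a0c0502c12080301c0a040100c0200,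
  nat_lit 0xff7fff9fdfd7eff1f9fb7dfe9f5f97cfe1f1f7fbbdbecf5fabd3e8f3f9bcbe4f1f8bc3e0ef77fb9dded76fb1d9eb75fa9d5e974fa1d1e7f3b9bcce5f2b93c8e3f1b8bc4e1f0b83c0df6ff79bddd6ef71b9db6df69b5d96cf61b1d7ebb5bacd5eab53a8d3e9b4ba4d1e8b43a0cf67f399dcd66f3199cb65f2995c964f2191c7e3b1b8cc5e2b1388c3e1b0b84c1e0b0380bf5fef97dbd5eef179bb5dee975b95cee171b7dbadb6cb5daad368b3d9acb64b1d8ac360af57eb95dad56eb159ab55ea955a954ea151a7d3a9b4ca5d2a9348a3d1a8b44a1d0a83409f4fe793d9d4ee71399b4de6935994ce613197cba5b2c95caa532893c9a4b2491c8a43208f47e391d8d46e31198b45e29158944e211187c3a1b0c85c2a130883c1a0b0481c0a03007f3fdf8fd7d3edf0f97b3dde8f5793cde0f177bb9daec75ba9d2e873b99cae471b89c2e06f37db8dd6d36db0d96b35da8d56934da0d167b399acc65b2992c863b198ac461b0982c05f2fd78bd5d2ed70b95b2dd68b5592cd60b157ab95aac55aa952a853a994aa451a8942a04f27d389d4d26d30994b25d28954924d209147a391a8c45a29128843a190a8441a0902803f1fcf87d3d1ecf0793b1dce875391cce071379b8da6c359a8d26833998ca6431988c2602f17cb85d2d16cb0592b15ca8552914ca051279389a4c259289248239188a442190882401f0fc783d1d0ec70391b0dc6835190cc6031178b85a2c158a85228138984a241188842200f07c381d0d06c30190b05c28150904c2011078381a0c058281208038180a04018080200,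
  nat_lit 0xff7fff9fdfd7eff1f9fbfdbebf4f9fcbe3f0f77bfd9edf57afd1e9f3f9bcbe4f1f8bc3e0ef77fb9dded76fb1d9ebf5babd4e9f4ba3d0e773f99cde572f91c9e3f1b8bc4e1f0b83c0df6ff79bddd6ef71b9dbedb6bb4d9ecb63b0d76bf59add56af51a9d3e9b4ba4d1e8b43a0cf67f399dcd66f3199cbe5b2b94c9e4b2390c763f198dc562f1189c3e1b0b84c1e0b0380bf5fef97dbd5eef179bbddaeb74b9dcae370b75bed96db55aed169b3d9acb64b1d8ac360af57eb95dad56eb159abd5aab54a9d4aa350a753e994da552e9149a3d1a8b44a1d0a83409f4fe793d9d4ee71399bcda6b3499cca6330974be592d954ae512993c9a4b2491c8a43208f47e391d8d46e31198bc5a2b1489c4a23108743e190d8542e110983c1a0b0481c0a03007f3fdf8fd7d3edf0f97bbd9eaf479bc9e2f0773bdd8ed753add0e973b99cae471b89c2e06f37db8dd6d36db0d96bb59aad469b49a2d06733d98cd6532d90c963b198ac461b0982c05f2fd78bd5d2ed70b95bad96ab459ac962b0572bd58ad552ad50a953a994aa451a8942a04f27d389d4d26d30994ba592a9449a4922904723d188d4522d108943a190a8441a0902803f1fcf87d3d1ecf0793b9d8ea74399c8e270371bcd86d351acd06933998ca6431988c2602f17cb85d2d16cb0592b958aa5429948a2502713c984d2512c9049239188a442190882401f0fc783d1d0ec70391b8d86a34198c86230170bc582d150ac5029138984a241188842200f07c381d0d06c30190b8582a140984822100703c180d0502c1009038180a04018080200,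
  nat_lit 0xff7fff9fdfd7eff1f9fb7dfe9f5f97cfe1f1f77bfd9edf57afd1e9f379fc9e5f178fc1e1ef77fb9dded76fb1d9eb75fa9d5e974fa1d1e773f99cde572f91c9e371f89c5e170f81c1dfefb7bbcddeeb73b8dbedb6bb4d9ecb63b0d7ebb5bacd5eab53a8d3e9b4ba4d1e8b43a0cfe7b3b9ccde6b3398cbe5b2b94c9e4b2390c7e3b1b8cc5e2b1388c3e1b0b84c1e0b0380bf5fef97dbd5eef179bb5dee975b95cee171b75bed96db55aed169b359ec965b158ec161af57eb95dad56eb159ab55ea955a954ea151a753e994da552e9149a351e8945a150e81419fcfa7b3c9dcea73389bcda6b3499cca633097cba5b2c95caa532893c9a4b2491c8a43208fc7a3b1c8dc6a33188bc5a2b1489c4a231087c3a1b0c85c2a130883c1a0b0481c0a03007f3fdf8fd7d3edf0f97b3dde8f5793cde0f1773bdd8ed753add0e97339dc8e57138dc0e16f37db8dd6d36db0d96b35da8d56934da0d16733d98cd6532d90c96331d88c56130d80c15faf97abc5dae972b85bad96ab459ac962b057ab95aac55aa952a853a994aa451a8942a04fa793a9c4da6932984ba592a9449a49229047a391a8c45a29128843a190a8441a0902803f1fcf87d3d1ecf0793b1dce875391cce071371bcd86d351acd0693319cc8653118cc0612f17cb85d2d16cb0592b15ca8552914ca0512713c984d2512c90492311c88452110c80411f8f87a3c1d8e872381b8d86a34198c86230178b85a2c158a85228138984a241188842200f8783a1c0d86832180b8582a14098482210078381a0c058281208038180a04018080200,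
  nat_lit 0xff7fff9fdfd7eff1f9fb7dfe9f5f97cfe1f1f77bfd9edf57afd1e9f379fc9e5f178fc1e1eff7bbbdcedf6bb3d8ebf5babd4e9f4ba3d0e7f3b9bcce5f2b93c8e3f1b8bc4e1f0b83c0df6ff79bddd6ef71b9db6df69b5d96cf61b1d76bf59add56af51a9d369f49a5d168f41a1cfe7b3b9ccde6b3398cbe5b2b94c9e4b2390c7e3b1b8cc5e2b1388c3e1b0b84c1e0b0380bf5fef97dbd5eef179bb5dee975b95cee171b75bed96db55aed169b359ec965b158ec161afd7abb5cadd6ab358abd5aab54a9d4aa350a7d3a9b4ca5d2a9348a3d1a8b44a1d0a83409f4fe793d9d4ee71399b4de6935994ce6131974be592d954ae51299349e49259148e41218fc7a3b1c8dc6a33188bc5a2b1489c4a231087c3a1b0c85c2a130883c1a0b0481c0a03007f3fdf8fd7d3edf0f97b3dde8f5793cde0f1773bdd8ed753add0e97339dc8e57138dc0e16fb79badc6db69b2d86bb59aad469b49a2d067b399acc65b2992c863b198ac461b0982c05f2fd78bd5d2ed70b95b2dd68b5592cd60b1572bd58ad552ad50a95329d48a55128d40a14fa793a9c4da6932984ba592a9449a49229047a391a8c45a29128843a190a8441a0902803f1fcf87d3d1ecf0793b1dce875391cce071371bcd86d351acd0693319cc8653118cc0612f978ba5c2d968b2582b958aa5429948a250279389a4c259289248239188a442190882401f0fc783d1d0ec70391b0dc6835190cc6031170bc582d150ac50291309c48251108c40210f8783a1c0d86832180b8582a14098482210078381a0c058281208038180a04018080200,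
  nat_lit 0xff7fff9fdfd7eff1f9fb7dfe9f5f97cfe1f1f77bfd9edf57afd1e9f379fc9e5f178fc1e1ef77fb9dded76fb1d9eb75fa9d5e974fa1d1e773f99cde572f91c9e371f89c5e170f81c1df6ff79bddd6ef71b9db6df69b5d96cf61b1d76bf59add56af51a9d369f49a5d168f41a1cf67f399dcd66f3199cb65f2995c964f2191c763f198dc562f1189c361f0985c160f0181bf5fef97dbd5eef179bb5dee975b95cee171b75bed96db55aed169b359ec965b158ec161af57eb95dad56eb159ab55ea955a954ea151a753e994da552e9149a351e8945a150e81419f4fe793d9d4ee71399b4de6935994ce6131974be592d954ae51299349e49259148e41218f47e391d8d46e31198b45e29158944e21118743e190d8542e11098341e09058140e01017fbf9fafc7dbe9f2f87bbd9eaf479bc9e2f077bb9daec75ba9d2e873b99cae471b89c2e06fb79badc6db69b2d86bb59aad469b49a2d067b399acc65b2992c863b198ac461b0982c05faf97abc5dae972b85bad96ab459ac962b057ab95aac55aa952a853a994aa451a8942a04fa793a9c4da6932984ba592a9449a49229047a391a8c45a29128843a190a8441a0902803f9f8fa7c3d9e8f2783b9d8ea74399c8e270379b8da6c359a8d26833998ca6431988c2602f978ba5c2d968b2582b958aa5429948a250279389a4c259289248239188a442190882401f8f87a3c1d8e872381b8d86a34198c86230178b85a2c158a85228138984a241188842200f8783a1c0d86832180b8582a14098482210078381a0c058281208038180a04018080200,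
  nat_lit 0xff7fff9fdfd7eff1f9fb7dfe9f5f97cfe1f1f77bfd9edf57afd1e9f379fc9e5f178fc1e1ef77fb9dded76fb1d9eb75fa9d5e974fa1d1e773f99cde572f91c9e371f89c5e170f81c1df6ff79bddd6ef71b9db6df69b5d96cf61b1d76bf59add56af51a9d369f49a5d168f41a1cf67f399dcd66f3199cb65f2995c964f2191c763f198dc562f1189c361f0985c160f0181bfdfafb7cbddeaf378bbddaeb74b9dcae370b7dbadb6cb5daad368b3d9acb64b1d8ac360afd7abb5cadd6ab358abd5aab54a9d4aa350a7d3a9b4ca5d2a9348a3d1a8b44a1d0a83409fcfa7b3c9dcea73389bcda6b3499cca633097cba5b2c95caa532893c9a4b2491c8a43208fc7a3b1c8dc6a33188bc5a2b1489c4a231087c3a1b0c85c2a130883c1a0b0481c0a03007f3fdf8fd7d3edf0f97b3dde8f5793cde0f1773bdd8ed753add0e97339dc8e57138dc0e16f37db8dd6d36db0d96b35da8d56934da0d16733d98cd6532d90c96331d88c56130d80c15f2fd78bd5d2ed70b95b2dd68b5592cd60b1572bd58ad552ad50a95329d48a55128d40a14f27d389d4d26d30994b25d28954924d20914723d188d4522d10894321d08854120d00813f9f8fa7c3d9e8f2783b9d8ea74399c8e270379b8da6c359a8d26833998ca6431988c2602f978ba5c2d968b2582b958aa5429948a250279389a4c259289248239188a442190882401f8f87a3c1d8e872381b8d86a34198c86230178b85a2c158a85228138984a241188842200f8783a1c0d86832180b8582a14098482210078381a0c058281208038180a04018080200,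
  nat_lit 0xffffbfbfcfdfebf3f8fbfdbebf4f9fcbe3f0f7fbbdbecf5fabd3e8f3f9bcbe4f1f8bc3e0dfefb7bbcddeeb73b8dbedb6bb4d9ecb63b0d7ebb5bacd5eab53a8d3e9b4ba4d1e8b43a08f47e391d8d46e31198b45e29158944e21118743e190d8542e11098341e09058140e0101afd7abb5cadd6ab358abd5aab54a9d4aa350a7d3a9b4ca5d2a9348a3d1a8b44a1d0a8340bfdfafb7cbddeaf378bbddaeb74b9dcae370b7dbadb6cb5daad368b3d9acb64b1d8ac3609fcfa7b3c9dcea73389bcda6b3499cca633097cba5b2c95caa532893c9a4b2491c8a4320cfe7b3b9ccde6b3398cbe5b2b94c9e4b2390c7e3b1b8cc5e2b1388c3e1b0b84c1e0b0380ef77fb9dded76fb1d9eb75fa9d5e974fa1d1e773f99cde572f91c9e371f89c5e170f81c11f0fc783d1d0ec70391b0dc6835190cc6031170bc582d150ac50291309c48251108c40213f1fcf87d3d1ecf0793b1dce875391cce071371bcd86d351acd0693319cc8653118cc0616f37db8dd6d36db0d96b35da8d56934da0d16733d98cd6532d90c96331d88c56130d80c14fa793a9c4da6932984ba592a9449a49229047a391a8c45a29128843a190a8441a0902805faf97abc5dae972b85bad96ab459ac962b057ab95aac55aa952a853a994aa451a8942a07fbf9fafc7dbe9f2f87bbd9eaf479bc9e2f077bb9daec75ba9d2e873b99cae471b89c2e02f17cb85d2d16cb0592b15ca8552914ca0512713c984d2512c90492311c88452110c80410f8783a1c0d86832180b8582a14098482210078381a0c058281208038180a04018080200,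
  nat_lit 0x9e4f67d3ffdfebf3f89a4d66d37f9fcbe3f0964b65d2ff5fabd3e8924964d27f1f8bc3e0eff7bbbdc8cc62371aebf5babd488c422712e7f3b9bcc84c22170ae3f1b8bc480c0207028fc7a3b1cec767b5db8bc5a2b14e8747a5d387c3a1b0ce472795cb83c1a0b04e070785c3feff3fffe9dcea7338fafd3eff699cca6330f6fb3dfee95caa5328f2f93cfe691c8a4320deef37fbebddeaf378daed36fb6b9dcae370d6eb35faeb5daad368d2e934fa6b1d8ac360afd7abb5ccc667359babd5aab54c86472593a7d3a9b4cc4627158ba3d1a8b44c06070583cf67f399dac566b55bcb65f2995a8546a553c763f198da4526954bc361f0985a05068543bedf2ff7edd6ef71b9badd2ef76d96cf61b1b6db2df6ed56af51a9b2d92cf66d168f41a14e2753c9f2d968b2584a2552c9729948a250462351c8f259289248422150c872190882403f9f8fa7c5cae176ba3b9d8ea7458ac166b2379b8da6c54aa156aa33998ca6450a8146a25faf97abc3c1e4f47b5bad96ab4381c4e47357ab95aac341a4d46b53a994aa430184c4632e970be5e4da6932982a950ae5649a492290269309e4e45a291288229108e4641a0902800e0743c1f6d36db0d90a0542c176934da0d1060341c0f6532d90c9020140c076130d80c17f3fdf8fd1c8e0763a7b3dde8f5188c06632773bdd8ed148a0562a7339dc8e51088046221f8f87a3c7cbe1f6fa1b8d86a3478bc1e6f2178b85a2c74ba1d6ea138984a2470b81c6e26e375bcdf0d86832186a355acd7098482210663359ccf058281208623158cc7018080200,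
  nat_lit 0xcee73f5fbcfe7bf3f8cae53e5f3cbe5be3f0c6e33d5ebc7e3bd3e8c2e13c5e3c3e1bc3e0eff7b73b8eef7375bbebf5b63b0eaf5365b3e7f3b53a8e6f3355abe3f1b43a0e2f1345a3dfefbb1d9deef3b7dadbedba1d1daed3a7d2d7ebb91c9d6eb397cad3e9b81c1d2e9387c2fe7f7359bff7ff3398fa7d72593fb7df2390f67b7158bf77bf1388f27970583f379f03808ec72f57b8fc7af3788ac52e5738bc5ae37086c32d56b87c3ad36882c12c56383c1ac360afd7a7338aed72753babd5a6330aad526533a7d3a5328a6d32552ba3d1a4320a2d1245239fcfab1599ecf2b75a9bcdaa1519acd2a75297cba914996cb2974a93c9a814192c928742be5f6351bbf5fe3318ba5d62513bb5de2310b65b6150bb75be1308b25960503b359e03004ea71f4fb4fa79f2f84aa51e4f34ba59e2f046a31d4eb47a39d2e842a11c4e343a19c2e06fb7972b86eb7174bb6bb5962b06ab5164b367b3952a866b3154ab63b1942a062b1144a35faf9b0d95eaf1b6da5bad9a0d15aad1a6d257ab990c956ab196ca53a9980c152a9186c27e3f5349b7f3fd32987a3d524937b3dd2290763b5148b773bd12887239504837339d02800e870f47b0f878f2780a850e4730b858e27006830d46b07838d26802810c46303818c2602f97872382e970743b2b95862302a950643327938522826930542b2391842202291044231f8f8b0591e8f0b65a1b8d8a0511a8d0a652178b89049168b0964a1389880411289086423e1f4341b3f1fc32183a1d424133b1dc2210361b4140b371bc12083219404033319c0200,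
  nat_lit 0xf1f8bcfe6fe7f7f3f8fbfdbe7f2f47a7dbecf7fbbd7eaf8fc3e9f5fd7effdfff2797c3e0e1f0b8fc6ee777b3d8ebf5ba7d2e47279bcce7f3b97cae8f43a9d5ed76fbddfe271783c0d1e8b4fa6de6f773b8dbedb67b2d46a75bacd7ebb57aad8ec369b5dd6ef7dbfd269743a0c1e0b0f86ce6773398cbe5b2792c46271b8cc7e3b178ac8e432995cd66f3d9fc26170380b1d8acf66be5f6f378bbddae772b45a6db6cb7dbad76ab8dc2e975bd5eefd7fb2596c360a1d0a8f46ae576b358abd5aa752a45269b4ca7d3a974aa8d42a955ad56ebd5fa2516834091c8a4f269e4f673389bcda6732944a65b2c97cba572a98cc269359d4ee7d3f92496432081c0a0f068e47633188bc5a2712844261b0c87c3a170a88c4229158d46e3d1f82416030071b89cee67e3f5f2f87bbd9e6f2743a5daec77bb9d6ea78bc1e8f57d3edfcff72395c2e061b098ec66e375b2d86bb59a6d2643259acc67b3996ca68b41a8d56d36dbcdf6231582c051a894ea65e2f572b85bad966b2542a55aac57ab956aa58ac168b55d2ed7cbf5229542a041a090e864e27532984ba592692442251a8c47a39168a48a4128954d26d3c9f42215028031988ce663e1f4f2783b9d8e672341a4da6c379b8d66a389c0e8753d1ecfc7f32194c260219088e462e174b2582b958a652241249a4c27938964a28940a8552d16cbc5f221148240118884e261e0f472381b8d86632140a45a2c178b8562a188c068351d0ec7c3f120944220018080e060e07432180b8582612040241a0c07838160a0884028150d06c3c1f020140200,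
  nat_lit 0xf2f93cfe6fdfebf3f8fbfdbebf4f47a7d5ebbedf2ff7eb158ec161b75bed96db85c6e573e2f138fc6edf6bb3d8ebf5babd4e472795cbaed72bf5ea150e8141a753e994da8546a553d2e934fa6ddeeb73b8dbedb6bb4d46a755ab9ecf27f3e9148e4121974be592d984c66533c2e130f86cde6b3398cbe5b2b94c4627158b8ec723f1e8140e01018743e190d884462513b2d92cf66bddeaf378bbddaeb74b45a6d56bfe7f7fdfff1f8bc3e0f7fbbdbecf8fc3e7f2a2d128f46add6ab358abd5aab54a4526954bee777bddfe1f0b83c0e7f3b9bcce8f43a7d292c924f269dcea73389bcda6b34944a6552bde6f77dbfd1e8b43a0d7ebb5bacd8ec367b282c120f068dc6a33188bc5a2b1484426150bce6773d9fc1e0b0380c7e3b1b8cc8e4327923b1dce875349a0d66a32194cc673d1ecf07977bb9daec78bc1e6f27e3f5fcff71b89c2e02b15ca85524920964a221148c472d16cb05967b399acc68b41a6d26e375bcdf61b0982c01b0dc6835148a0562a120944c271d0ec703957ab95aac58ac166b25e2f57cbf51a8942a00b05c281504820160a020140c070d06c301947a391a8c48a4126924e2753c9f41a0902807bbd9eaf4743a5d4eb72b91cee67dbe9f2f8379b8da6c389c0e6723e1f4fc7f31988c2606bb59aad46432594cb62b118ec66db69b2d8279389a4c28940a6522e174bc5f2190882405bad96ab4542a554ab52a914ea65dae972b8178b85a2c188c066321e0f47c3f1188842204ba592a9444225148b42a110e864da693298078381a0c0884026120e0743c1f018080200,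
  nat_lit 0xb05c28150904c20110f07c381d0d06c30194723d188d4522d10894321d08854120d0081eff7bbbdcedf6bb3d8ebf5babd4e9f4ba3d0a3d1a8b44a1d0a8340a7d3a9b4ca5d2a9348dfefb7bbcddeeb73b8dbedb6bb4d9ecb63b093c9a4b2491c8a432097cba5b2c95caa53283b9d8ea74399c8e2703f9f8fa7c3d9e8f27877bb9daec75ba9d2e873b99cae471b89c2e0bfdfafb7cbddeaf378bbddaeb74b9dcae370f379fc9e5f178fc1e1f77bfd9edf57afd1e95bad96ab459ac962b05faf97abc5dae972b8170bc582d150ac50291309c48251108c40216b35da8d56934da0d16f37db8dd6d36db0d9279389a4c259289248239188a442190882408fc7a3b1c8dc6a33188bc5a2b1489c4a2310c361f0985c160f0181c763f198dc562f1189cf67f399dcd66f3199cb65f2995c964f21918341e09058140e01018743e190d8542e11092b958aa5429948a2502f978ba5c2d968b25867b399acc65b2992c863b198ac461b0982c01b8d86a34198c862301f8f87a3c1d8e8723857ab95aac55aa952a853a994aa451a8942a0ffffbfbfcfdfebf3f8fbfdbebf4f9fcbe3f0b3d9acb64b1d8ac360b7dbadb6cb5daad3687b3dde8f5793cde0f17f3fdf8fd7d3edf0f9379b8da6c359a8d26833998ca6431988c2609f4fe793d9d4ee71399b4de6935994ce6131d3e9b4ba4d1e8b43a0d7ebb5bacd5eab53a8afd7abb5cadd6ab358abd5aab54a9d4aa350e371f89c5e170f81c1e773f99cde572f91c94b25d28954924d20914f27d389d4d26d3099078381a0c058281208038180a04018080200,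
  nat_lit 0xf8fc33f9efdfeb2995fcfe32f96f9fcb399dc6e33c5e3c3e1bd3e8c2e13d5ebc7e3bc3e0d96cfbbdcdc6e7add7dd6efabd4d86c7bddfe7f3b43a0e2f1355abe3f1b53a8e6f3345a3e9f4b7bbcecf636db7edf6b6bb4e8f437dbfd7ebb81c1d2e9397cad3e9b91c9d6eb387c2c8e43fdffcde6bebf4cce63edf7c9e4bfbfcf67b70583f379f1388f2797158bf77bf0380b8dc23f1ebddea2915bcde22f16b9dca391d86c32c56383c1ad36882c12d56b87c3ac360994cebb5c9c4e6ad579d4eeab54984c6bd5fa7d3a4320a2d12552ba3d1a5328a6d324523a9d4a7b3cacd626d37add6a6b34a8d427d3f97cba814192c92974a93c9a914996cb2874288c42fd7f8dc6aeb748cc62ed7789c4afb7cb65b60503b359e1308b2596150bb75be030078bc13e9e7dbe928957cbe12e9679bc9389d46a31c4e343a19d2e842a11d4eb47a39c2e0592cdbadc5c2e5acd75d2edaad4582c5bcdf67b3942a062b1154ab63b1952a866b3144a369b497abc6cb616cb76db696ab468b417cbf57ab980c152a9196ca53a9990c956ab186c248a41fcff4da69eaf44ca61ecf749a49fafc763b504837339d128872395148b773bd0280389c03e1e3d9e828153c9e02e16399c8381d06830c46303818d26802810d46b07838c260190ccba5c1c0e4ac571d0ecaa54180c4bc5f27938422022910542b239185228269304423299487a3c2c9606c372d9686a34289407c3f178b8804112890964a138989049168b0864208840fc7f0d868ea740c860ec7709848fa7c361b404033319c120832194140b371bc0200,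
  nat_lit 0xb2d92cf6690c824722763b5dcef542a554ab6b35da8d54924d2091afd7abb5c8dc6a3318fe7f7fdffdc6e775bb3a9d0ee76188c066322713c984d0502c1009e3f1b8bc4c1e0b038096cb25f2eb4da2d76a522954ca770385c4e34fa793a9c6db69b2d88b45e2915a954ea151daed36fb6f8fc3e7f21e0f47c3f3c1e4f47b0301c08052110c8041c7e3b1b8ce5f2b93c80b8582a1429948a250cf67f399ded76fb1d9d26974da7f0787c5e3168b05e2e349a0d66a4723d188d6532d90c983c1a0b04a1d0a83409e4f67d3fbc5e6f57b5aad16eb678bc1e6f22f17cb85d0d06c3019ebf5babd4c9e4b2390f67b7ddefd46a755ab32990ce661088046226331d88c54120d0081a7d3a9b4c85c2a1308badd2ef7698cc267327e3f5fcff5c2e574bbeff7bbbdccde6b33982b15ca8550904c2011369b0de6e148a0562af2797cde7d068745a3a351e89458140e010167b399acc45a2912887abd1eef658ac166b2be5f6fd7f9c4e6753bcb65f2995e974fa1d10f8783a1c2d968b258128904e2630980c662d66b75daff47a7d5eb8743e190da552e914943a190a8461b0982c05e2f57cbf7c3e5f4fb9acd26f36b8dc2e772562b55caf743a5d4eb92c924f26b0d82c7628f47e391dad56eb1594ba592a9469b49a2d01a8d06e36389c0e672de6f77dbffc7e7f5fbc361f0985e170f81c1078381a0c25928924872395cce75028544a3b6db2df6e94ca2572aabd5aab5489c4a23106f37db8dd4d26d30993e1f4fc7f1c0e4743bfafd3eff6d8ec367b2e773f99cdc562f1189239188a44018080200,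
  nat_lit 0x279389a4c85c2a13085329d48a5f178fc1e11a8d06e36b8dc2e7726eb71bedecce63379a9acd26f36389c0e672eef73bfde4ca61369aa7d3a9b4c058281208d369f49a57138dc0e1f3f9bcbe451a8942a08743e190d2512c9049cee733f9e6cb61b6dabadd2ef76188c066324e2753c9fec767b5db3a1d4ec77984c665337339dc8e5d168f41a1078381a0ca5d2a9348ab55ea9550904c2011dfefb7bbc7dbe9f2f896cb25f2e349a0d66ae2f138fc640a010682168b05e2eb4da2d76a62b118ec6c0e0307822b15ca8558944e21115faf97abcfdfebf3f87f3fdf8fddd6ef71b90b8582a14a9d4aa35042a110e86e0f0387c2369b0de6e94ca2572ac26170d876030584c3b65b6dd6f140a4542bffffbfbfc5dae972b88b45e29152914ca0510f07c381dad56eb1597bbd9eaf4d9ecb63b032194cc67904864523462351c8fe472795cbb2596cd67100844423c66371d8f6432594cb8f47e391d2d16cb059fbfdbebf459ac962b0db6df69b5793cde0f1afd7abb5c0d8683218e67379dcf44225148b924964d2730184c46366b319ecec4e23178a128904e26b0d82c7625bad96ab4f9fcbe3f02f17cb85d8d46e311983c1a0b04219088240f77bfd9ed552ad50a9be5f6fd7f1c0e4743bca6572d9768345a4d33e1f4fc7f9c4e6753b4a2552c97e8747a5d3038180a04a1d0a8340773bdd8edd56af51a957ab95aacf5fabd3e82311c88458140e01016a355acd7c864725931e0f47c3fbc5e6f57beaf53afd648a4126929ecf27f3e3c9e0f67ad76bf59ad753add0e9a3d1a8b44018080200,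
  nat_lit 0xb65b6dd6ffdfebf3f8b3d9acb64f87c7e5f3be5f6fd7ff5fabd3e8bbddaeb74f0787c5e3a65369d4fedf6bb3d8a3d1a8b44e8747a5d3ae576bd5fe5f2b93c8abd5aab54e070785c3964b65d2fddeeb73b893c9a4b24d86c765b39e4f67d3fd5eab53a89bcda6b34d068745a3864361d0fcde6b339883c1a0b04c864725938e4763d1fc5e2b13888bc5a2b14c06070583f6fb3dfeebddeaf378f379fc9e5b85c6e573feff3fffeb5daad368fb7dfe9f5b0586c563e6f339fceadd6ab358e371f89c5a8546a553eef73bfdea5d2a9348eb75fa9d5a05068543d6eb35fae9dcea7338d369f49a5984c66533deef37fbe95caa5328db6df69b5904864523c6e331f8e8dc6a3318c361f0985884462513cee733f9e85c2a1308cb65f2995804060503371bcd86d7c3e5f4fb32990ce6679bc9e2f03f1fcf87d743a5d4eb3a9d0ee7671b89c2e02713c984d6c365b4db229108e4669b49a2d02f17cb85d6432594cb2a950ae5661b0982c0170bc582d5c2e574bb128904e2659ac962b01f0fc783d542a554ab1a8d06e3651a8942a00703c180d4c265349b028100e0649a4922900f07c381d44225148b0a8502e1641a09028077bb9daec3c1e4f47b72395cce7399c8e2707fbf9fafc341a4d46b7a3d5ecf731988c26067b399acc2c164b45b623158cc729948a2506fb79badc24124944b6a355acd721908824057ab95aac1c0e4743b522954ca7198c862305faf97abc140a4542b5a2d56cb711888422047a391a8c0c064341b422150c870984822104fa793a9c04024140b4a2552c97018080200,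
  nat_lit 0x9e4f67d3ffdfebf3f89a4d66d37f9fcbe3f0964b65d2ff5fabd3e8924964d27f1f8bc3e08fc7a3b1cec767b5db8bc5a2b14e8747a5d387c3a1b0ce472795cb83c1a0b04e070785c3be5f6fd7fddeeb73b8ba5d6ed77d9ecb63b0b65b6dd6fd5eab53a8b2596cd67d1e8b43a0afd7abb5ccc667359babd5aab54c86472593a7d3a9b4cc4627158ba3d1a8b44c06070583deef37fbebddeaf378daed36fb6b9dcae370d6eb35faeb5daad368d2e934fa6b1d8ac360cf67f399dac566b55bcb65f2995a8546a553c763f198da4526954bc361f0985a05068543feff3fffe9dcea7338fafd3eff699cca6330f6fb3dfee95caa5328f2f93cfe691c8a4320ef77fb9dd8c466351beb75fa9d5884462513e773f99cd84426150be371f89c58040605031f0fc783d7c3e5f4fb1b0dc6835783c5e4f3170bc582d743a5d4eb1309c482570385c4e30e8703e1e6db69b2d80a8502e1669b49a2d0068301e0e65b2992c8028100e0661b0982c03f1fcf87d5c2e574bb3b1dce875582c564b3371bcd86d542a554ab3319cc8655028544a32e970be5e4da6932982a950ae5649a492290269309e4e45a291288229108e4641a0902805faf97abc3c1e4f47b5bad96ab4381c4e47357ab95aac341a4d46b53a994aa430184c4634e2753c9f2d968b2584a2552c9729948a250462351c8f259289248422150c872190882407fbf9fafc1c0e4743b7bbd9eaf4180c4643377bb9daec140a4542b73b99cae41008444236e375bcdf0d86832186a355acd7098482210663359ccf058281208623158cc7018080200,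
  nat_lit 0x62b118ec6fdfebf3f86733d98cdf87c7e5f36bb59aad4f47a7d5eb6e375bcdff1f8bc3e072b91cee6edf6bb3d8773bdd8ede8747a5d37bbd9eaf4e472795cb7e3f5fcffe1f0b83c043a190a84dc6e775bb462351c8fd9ecb63b04aa512e96d5eab53a84f27d389dd068745a353a994aa4cc667359b562b55cafc9e4b23905aad16eb6c5e2b13885f2fd78bdc060705832311c8845bc5e6f57b269309e4eb9dcae3702a154ac57b5daad3682f978ba5cb0586c5633319cc865ac566b55b369b0de6ea9d4aa3503a1d4ec77a5d2a93483f9f8fa7ca05068543020140c079dcea7338078381a0c984c665330b05c2815944a6552b0e8703e1e91c8a4320120944c278dc6a3318178b85a2c8844625131b0dc683584426150b1e8f07e3e81c0a0300e2f138fc67dbe9f2f8e773f99cd783c5e4f3ebf5babd4743a5d4ebee777bddf71b89c2e0f2f93cfe66db69b2d8f77bfd9ed68345a4d3fbfdbebf46432594cbfe7f7fdff61b0982c0c3e1b0b845c2e574bbc66371d8f59ac962b0cae532f9655aa952a8cf67f399d5028544a3d3e9b4ba44c265349bd66b75daf49a492290daed36fb645a291288df6ff79bd402050483a351e89453c1e4f47ba6d329f4e399c8e270aa556ad57359a8d268afd7abb5c30184c463b359ec9652c164b45bb6db2df6e29948a250ba5d6ed77259289248bfdfafb7c201048443824160d071d8e8723887c3a1b0c180c464338b45e2915140a4542b8ec723f1e118884220924964d270d868321897cba5b2c0804424139b4de693504024140b9ecf27f3e018080200,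
  nat_lit 0xf2f93cfe6fdfebf3f8f77bfd9edf87c7e5f3fbfdbebf4f47a7d5ebfe7f7fdfff1f8bc3e0e2f138fc6edf6bb3d8e773f99cde8747a5d3ebf5babd4e472795cbee777bddfe1f0b83c0d2e934fa6ddeeb73b8d76bf59add86c765b3dbedb6bb4d46a755abde6f77dbfd1e8b43a0c2e130f86cde6b3398c763f198dc86472593cbe5b2b94c4627158bce6773d9fc1e0b0380b2d92cf66bddeaf378b75bed96db85c6e573bbddaeb74b45a6d56bbe5f6fd7fb1d8ac360a2d128f46add6ab358a753e994da8546a553abd5aab54a4526954bae576bd5fa1d0a834092c924f269dcea7338974be592d984c665339bcda6b34944a6552b9e4f67d3f91c8a432082c120f068dc6a33188743e190d8844625138bc5a2b1484426150b8e4763d1f81c0a030072b91cee67dbe9f2f8773bdd8ed783c5e4f37bbd9eaf4743a5d4eb7e3f5fcff71b89c2e062b118ec66db69b2d86733d98cd68345a4d36bb59aad46432594cb6e375bcdf61b0982c052a914ea65dae972b8572bd58ad582c564b35bad96ab4542a554ab5e2f57cbf51a8942a042a110e864da6932984723d188d4824524934ba592a9444225148b4e2753c9f41a09028032990ce663d9e8f278371bcd86d381c4e4733b9d8ea74341a4d46b3e1f4fc7f31988c260229108e462d968b2582713c984d28144a4532b958aa5424124944b2e174bc5f219088240128904e261d8e87238170bc582d180c464331b8d86a34140a4542b1e0f47c3f118884220028100e060d86832180703c180d0804424130b8582a1404024140b0e0743c1f018080200,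
  nat_lit 0xe371f89c5fc7e7f5fbe6f339fcef9fcbe3f0ea757add7f5fabd3e8eff7bbbdcf0787c5e3f379fc9e5ec767b5dbf6fb3dfeee9f4ba3d0fa7d7edf7e5f2b93c8ffffbfbfce070785c3c26170d87ddeeb73b8c7e3b1b8cd86c765b3cb65f2995d46a755abcee733f9ed1e8b43a0d26974da7cde6b3398d7ebb5bacc86472593db6df69b5c4627158bdeef37fbec1e0b0380a351e8945bc5e6f57ba6d329f4eb9dcae370aa556ad57b5daad368afd7abb5cb0586c563b359ec965ac566b55bb6db2df6ea9d4aa350ba5d6ed77a5d2a9348bfdfafb7ca05068543824160d079dcea733887c3a1b0c984c665338b45e2915944a6552b8ec723f1e91c8a4320924964d278dc6a331897cba5b2c8844625139b4de693584426150b9ecf27f3e81c0a03006331d88c57c3e5f4fb66b319ece79bc9e2f06a355acd775ba9d2e86fb79badc70385c4e37339dc8e56c365b4db76bb1deee69b49a2d07a3d5ecf765b2992c87fbf9fafc6030584c3422150c875dae972b847a391a8c582c564b34b25d2895542a554ab4ea713e9e51a8942a0522954ca74da69329857ab95aac4824524935b2dd68b544225148b5eaf17ebe41a0902802311c88453c1e4f47b269309e4e399c8e2702a154ac57359a8d2682f978ba5c30184c4633319cc8652c164b45b369b0de6e29948a2503a1d4ec772592892483f9f8fa7c201048443020140c071d8e87238078381a0c180c464330b05c2815140a4542b0e8703e1e118884220120944c270d8683218178b85a2c0804424131b0dc683504024140b1e8f07e3e018080200,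
  nat_lit 0xaed72bf5efdfebf3f8aad52af56f9fcbe3f0a6d329f4ef5fabd3e8a2d128f46f1f8bc3e0bedf2ff7eedf6bb3d8badd2ef76e9f4ba3d0b6db2df6ee5f2b93c8b2d92cf66e1f0b83c08fc7a3b1cdc6e775bb8bc5a2b14d86c765b387c3a1b0cd46a755ab83c1a0b04d068745a39fcfa7b3ccc667359b9bcda6b34c8647259397cba5b2cc4627158b93c9a4b24c06070583ee777bddfbddeaf378ea757add7b9dcae370e67379dcfb5daad368e27178dc7b1d8ac360fe7f7fdffadd6ab358fa7d7edf7a9d4aa350f67b7ddefa5d2a9348f2797cde7a1d0a8340cf67f399d9c4e6753bcb65f2995984c66533c763f198d944a6552bc361f0985904864523df6ff79bd8c466351bdb6df69b5884462513d76bf59ad84426150bd369f49a58040605032f978ba5c7c3e5f4fb2b958aa54783c5e4f3279389a4c743a5d4eb239188a4470385c4e33f9f8fa7c6c365b4db3b9d8ea7468345a4d3379b8da6c6432594cb33998ca646030584c30e8703e1e5dae972b80a8502e1659ac962b0068301e0e55aa952a8028100e0651a8942a01e8f07e3e4da6932981a8d06e3649a492290168b05e2e45a291288128904e2641a0902806f37db8dd3c1e4f47b6b35da8d5381c4e4736733d98cd341a4d46b6331d88c530184c4637f3fdf8fd2c164b45b7b3dde8f528144a453773bdd8ed24124944b7339dc8e52010484434e2753c9f1d8e872384a2552c97198c86230462351c8f158a85228422150c871188842205e2f57cbf0d86832185a2d56cb7098482210562b55caf058281208522954ca7018080200]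
def RH : ℕ := nat_lit 0xbf5fef97dbd5eef179bb5dee975b95cee171b75bed96db55aed169b359ec965b158ec161af57eb95dad56eb159ab55ea955a954ea151a753e994da552e9149a351e8945a150e81419f4fe793d9d4ee71399b4de6935994ce6131974be592d954ae51299349e49259148e41218f47e391d8d46e31198b45e29158944e21118743e190d8542e11098341e09058140e0101ffffbfbfcfdfebf3f8fbfdbebf4f9fcbe3f0f7fbbdbecf5fabd3e8f3f9bcbe4f1f8bc3e0eff7bbbdcedf6bb3d8ebf5babd4e9f4ba3d0e7f3b9bcce5f2b93c8e3f1b8bc4e1f0b83c0dfefb7bbcddeeb73b8dbedb6bb4d9ecb63b0d7ebb5bacd5eab53a8d3e9b4ba4d1e8b43a0cfe7b3b9ccde6b3398cbe5b2b94c9e4b2390c7e3b1b8cc5e2b1388c3e1b0b84c1e0b03807fbf9fafc7dbe9f2f87bbd9eaf479bc9e2f077bb9daec75ba9d2e873b99cae471b89c2e06fb79badc6db69b2d86bb59aad469b49a2d067b399acc65b2992c863b198ac461b0982c05faf97abc5dae972b85bad96ab459ac962b057ab95aac55aa952a853a994aa451a8942a04fa793a9c4da6932984ba592a9449a49229047a391a8c45a29128843a190a8441a0902803f9f8fa7c3d9e8f2783b9d8ea74399c8e270379b8da6c359a8d26833998ca6431988c2602f978ba5c2d968b2582b958aa5429948a250279389a4c259289248239188a442190882401f8f87a3c1d8e872381b8d86a34198c86230178b85a2c158a85228138984a241188842200f8783a1c0d86832180b8582a14098482210078381a0c058281208038180a04018080200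
def DW : List (List ℕ) := [[nat_lit 0, nat_lit 2, nat_lit 3, nat_lit 4, nat_lit 6, nat_lit 8, nat_lit 13, nat_lit 13, nat_lit 15, nat_lit 15, nat_lit 14, nat_lit 11, nat_lit 11, nat_lit 15, nat_lit 10, nat_lit 13, nat_lit 12, nat_lit 15, nat_lit 15, nat_lit 9, nat_lit 15, nat_lit 12, nat_lit 9, nat_lit 15],
  [nat_lit 2, nat_lit 6, nat_lit 7, nat_lit 12, nat_lit 15, nat_lit 11, nat_lit 10, nat_lit 9, nat_lit 13, nat_lit 12, nat_lit 11, nat_lit 15, nat_lit 14, nat_lit 14, nat_lit 13, nat_lit 10, nat_lit 10, nat_lit 9, nat_lit 12, nat_lit 11, nat_lit 13, nat_lit 10, nat_lit 15, nat_lit 10, nat_lit 10, nat_lit 9, nat_lit 12, nat_lit 11],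
  [nat_lit 0, nat_lit 2, nat_lit 3, nat_lit 4, nat_lit 6, nat_lit 15, nat_lit 15, nat_lit 10, nat_lit 11, nat_lit 15, nat_lit 13, nat_lit 13, nat_lit 9, nat_lit 11, nat_lit 15, nat_lit 10, nat_lit 9, nat_lit 12, nat_lit 12, nat_lit 15, nat_lit 13],
  [nat_lit 10, nat_lit 9],
  [nat_lit 1, nat_lit 15, nat_lit 15, nat_lit 14, nat_lit 14, nat_lit 9, nat_lit 9, nat_lit 12, nat_lit 12, nat_lit 15, nat_lit 10, nat_lit 12, nat_lit 9, nat_lit 15, nat_lit 14, nat_lit 10, nat_lit 10, nat_lit 9, nat_lit 9],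
  [nat_lit 1, nat_lit 15, nat_lit 15, nat_lit 11, nat_lit 11, nat_lit 10, nat_lit 10, nat_lit 15, nat_lit 9, nat_lit 12, nat_lit 12, nat_lit 15, nat_lit 10, nat_lit 12, nat_lit 11, nat_lit 9, nat_lit 15],
  [nat_lit 2, nat_lit 3, nat_lit 5, nat_lit 7, nat_lit 13, nat_lit 13, nat_lit 11, nat_lit 11, nat_lit 10, nat_lit 15, nat_lit 11, nat_lit 9, nat_lit 15, nat_lit 9, nat_lit 11, nat_lit 13],
  [nat_lit 9, nat_lit 10, nat_lit 10, nat_lit 9]]
def LV1 : List (ℕ × List ℕ) := [(nat_lit 2, []),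
  (nat_lit 3, [nat_lit 2]),
  (nat_lit 4, [nat_lit 2, nat_lit 11]),
  (nat_lit 5, [nat_lit 11]),
  (nat_lit 8, [nat_lit 12, nat_lit 11, nat_lit 9, nat_lit 15, nat_lit 9, nat_lit 11, nat_lit 13]),
  (nat_lit 9, [nat_lit 12, nat_lit 11, nat_lit 9, nat_lit 9, nat_lit 15, nat_lit 10, nat_lit 12]),
  (nat_lit 10, [nat_lit 11, nat_lit 11, nat_lit 15]),
  (nat_lit 11, [nat_lit 11, nat_lit 10, nat_lit 15]),
  (nat_lit 12, [nat_lit 2, nat_lit 15]),
  (nat_lit 13, [nat_lit 15]),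
  (nat_lit 16, [nat_lit 2, nat_lit 15, nat_lit 12]),
  (nat_lit 17, [nat_lit 15, nat_lit 12]),
  (nat_lit 18, [nat_lit 12, nat_lit 11, nat_lit 9, nat_lit 15, nat_lit 9, nat_lit 11]),
  (nat_lit 19, [nat_lit 2, nat_lit 12, nat_lit 11, nat_lit 9, nat_lit 15, nat_lit 9, nat_lit 11]),
  (nat_lit 20, [nat_lit 12, nat_lit 11, nat_lit 9, nat_lit 9, nat_lit 15, nat_lit 10]),
  (nat_lit 21, [nat_lit 2, nat_lit 12, nat_lit 11, nat_lit 9, nat_lit 9, nat_lit 15, nat_lit 10]),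
  (nat_lit 30, [nat_lit 12]),
  (nat_lit 31, [nat_lit 2, nat_lit 12]),
  (nat_lit 32, [nat_lit 11, nat_lit 10, nat_lit 9, nat_lit 9, nat_lit 13, nat_lit 12, nat_lit 15, nat_lit 12, nat_lit 11]),
  (nat_lit 33, [nat_lit 11, nat_lit 10, nat_lit 9, nat_lit 9, nat_lit 13, nat_lit 12, nat_lit 11, nat_lit 15, nat_lit 11]),
  (nat_lit 34, [nat_lit 11, nat_lit 10, nat_lit 9, nat_lit 13, nat_lit 12, nat_lit 15, nat_lit 12]),
  (nat_lit 35, [nat_lit 11, nat_lit 10, nat_lit 9, nat_lit 13, nat_lit 12, nat_lit 11, nat_lit 15]),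
  (nat_lit 36, [nat_lit 11, nat_lit 10, nat_lit 10, nat_lit 13, nat_lit 12, nat_lit 15]),
  (nat_lit 37, [nat_lit 11, nat_lit 10, nat_lit 9, nat_lit 13, nat_lit 12, nat_lit 15]),
  (nat_lit 40, [nat_lit 11, nat_lit 10, nat_lit 10, nat_lit 9, nat_lit 13, nat_lit 12]),
  (nat_lit 41, [nat_lit 11, nat_lit 10, nat_lit 9, nat_lit 9, nat_lit 13, nat_lit 12]),
  (nat_lit 42, [nat_lit 11, nat_lit 10, nat_lit 13, nat_lit 12, nat_lit 10]),
  (nat_lit 43, [nat_lit 11, nat_lit 11, nat_lit 13, nat_lit 12, nat_lit 10]),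
  (nat_lit 44, [nat_lit 11, nat_lit 10, nat_lit 10, nat_lit 13, nat_lit 12, nat_lit 11]),
  (nat_lit 45, [nat_lit 11, nat_lit 10, nat_lit 9, nat_lit 13, nat_lit 12, nat_lit 11]),
  (nat_lit 48, [nat_lit 11, nat_lit 13, nat_lit 11, nat_lit 10]),
  (nat_lit 49, [nat_lit 12, nat_lit 11, nat_lit 10, nat_lit 13]),
  (nat_lit 50, [nat_lit 12, nat_lit 11, nat_lit 9, nat_lit 9, nat_lit 13]),
  (nat_lit 51, [nat_lit 11, nat_lit 13, nat_lit 11, nat_lit 9, nat_lit 9]),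
  (nat_lit 52, [nat_lit 11, nat_lit 10, nat_lit 9, nat_lit 9, nat_lit 13]),
  (nat_lit 53, [nat_lit 11, nat_lit 10, nat_lit 10, nat_lit 9, nat_lit 13]),
  (nat_lit 62, [nat_lit 11, nat_lit 13, nat_lit 11, nat_lit 9, nat_lit 15]),
  (nat_lit 63, [nat_lit 12, nat_lit 11, nat_lit 9, nat_lit 13, nat_lit 15]),
  (nat_lit 64, [nat_lit 11, nat_lit 10, nat_lit 9, nat_lit 13, nat_lit 12, nat_lit 11, nat_lit 15, nat_lit 11]),
  (nat_lit 65, [nat_lit 11, nat_lit 10, nat_lit 9, nat_lit 13, nat_lit 12, nat_lit 11, nat_lit 15, nat_lit 10]),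
  (nat_lit 66, [nat_lit 11, nat_lit 10, nat_lit 9, nat_lit 9, nat_lit 13, nat_lit 12, nat_lit 15, nat_lit 12]),
  (nat_lit 67, [nat_lit 11, nat_lit 10, nat_lit 9, nat_lit 9, nat_lit 13, nat_lit 12, nat_lit 11, nat_lit 15]),
  (nat_lit 68, [nat_lit 11, nat_lit 10, nat_lit 10, nat_lit 9, nat_lit 13, nat_lit 12, nat_lit 15]),
  (nat_lit 69, [nat_lit 11, nat_lit 10, nat_lit 9, nat_lit 9, nat_lit 13, nat_lit 12, nat_lit 15]),
  (nat_lit 72, [nat_lit 11, nat_lit 10, nat_lit 9, nat_lit 13, nat_lit 12]),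
  (nat_lit 73, [nat_lit 11, nat_lit 10, nat_lit 10, nat_lit 13, nat_lit 12]),
  (nat_lit 74, [nat_lit 11, nat_lit 10, nat_lit 10, nat_lit 9, nat_lit 13, nat_lit 12, nat_lit 10]),
  (nat_lit 75, [nat_lit 11, nat_lit 10, nat_lit 9, nat_lit 9, nat_lit 13, nat_lit 12, nat_lit 10]),
  (nat_lit 76, [nat_lit 11, nat_lit 10, nat_lit 10, nat_lit 9, nat_lit 13, nat_lit 12, nat_lit 11]),
  (nat_lit 77, [nat_lit 11, nat_lit 10, nat_lit 9, nat_lit 9, nat_lit 13, nat_lit 12, nat_lit 11]),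
  (nat_lit 80, [nat_lit 11, nat_lit 13, nat_lit 11, nat_lit 9, nat_lit 9, nat_lit 11]),
  (nat_lit 81, [nat_lit 11, nat_lit 13, nat_lit 11, nat_lit 9, nat_lit 9, nat_lit 10]),
  (nat_lit 82, [nat_lit 11, nat_lit 13, nat_lit 11, nat_lit 9]),
  (nat_lit 83, [nat_lit 12, nat_lit 11, nat_lit 9, nat_lit 13]),
  (nat_lit 84, [nat_lit 11, nat_lit 10, nat_lit 10, nat_lit 13]),
  (nat_lit 85, [nat_lit 11, nat_lit 10, nat_lit 9, nat_lit 13]),
  (nat_lit 94, [nat_lit 11, nat_lit 13, nat_lit 11, nat_lit 9, nat_lit 9, nat_lit 15]),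
  (nat_lit 95, [nat_lit 12, nat_lit 11, nat_lit 9, nat_lit 9, nat_lit 13, nat_lit 15]),
  (nat_lit 102, [nat_lit 11, nat_lit 10]),
  (nat_lit 103, [nat_lit 11, nat_lit 11]),
  (nat_lit 110, [nat_lit 15, nat_lit 10]),
  (nat_lit 111, [nat_lit 15, nat_lit 11]),
  (nat_lit 118, [nat_lit 2, nat_lit 12, nat_lit 11, nat_lit 9, nat_lit 15, nat_lit 9]),
  (nat_lit 119, [nat_lit 12, nat_lit 11, nat_lit 9, nat_lit 15, nat_lit 9]),
  (nat_lit 120, [nat_lit 2, nat_lit 12, nat_lit 11, nat_lit 10, nat_lit 9]),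
  (nat_lit 121, [nat_lit 12, nat_lit 11, nat_lit 10, nat_lit 9]),
  (nat_lit 122, [nat_lit 12, nat_lit 11]),
  (nat_lit 123, [nat_lit 2, nat_lit 12, nat_lit 11]),
  (nat_lit 124, [nat_lit 12, nat_lit 15]),
  (nat_lit 125, [nat_lit 12, nat_lit 10]),
  (nat_lit 134, [nat_lit 11, nat_lit 10, nat_lit 10, nat_lit 9, nat_lit 13, nat_lit 12, nat_lit 15, nat_lit 10]),
  (nat_lit 135, [nat_lit 11, nat_lit 10, nat_lit 9, nat_lit 9, nat_lit 13, nat_lit 12, nat_lit 15, nat_lit 10]),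
  (nat_lit 142, [nat_lit 11, nat_lit 10, nat_lit 10, nat_lit 9, nat_lit 13, nat_lit 12, nat_lit 11, nat_lit 10]),
  (nat_lit 143, [nat_lit 11, nat_lit 10, nat_lit 9, nat_lit 9, nat_lit 13, nat_lit 12, nat_lit 11, nat_lit 10]),
  (nat_lit 150, [nat_lit 11, nat_lit 13]),
  (nat_lit 151, [nat_lit 2, nat_lit 11, nat_lit 13]),
  (nat_lit 152, [nat_lit 11, nat_lit 11, nat_lit 13, nat_lit 15]),
  (nat_lit 153, [nat_lit 11, nat_lit 10, nat_lit 13, nat_lit 15]),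
  (nat_lit 154, [nat_lit 11, nat_lit 13, nat_lit 11, nat_lit 9, nat_lit 15, nat_lit 9, nat_lit 11]),
  (nat_lit 155, [nat_lit 12, nat_lit 11, nat_lit 9, nat_lit 13, nat_lit 15, nat_lit 9, nat_lit 11]),
  (nat_lit 156, [nat_lit 11, nat_lit 13, nat_lit 11, nat_lit 9, nat_lit 9, nat_lit 15, nat_lit 10]),
  (nat_lit 157, [nat_lit 12, nat_lit 11, nat_lit 9, nat_lit 9, nat_lit 13, nat_lit 15, nat_lit 10]),
  (nat_lit 166, [nat_lit 11, nat_lit 10, nat_lit 9, nat_lit 9]),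
  (nat_lit 167, [nat_lit 11, nat_lit 10, nat_lit 10, nat_lit 9]),
  (nat_lit 174, [nat_lit 15, nat_lit 10, nat_lit 9, nat_lit 9]),
  (nat_lit 175, [nat_lit 15, nat_lit 10, nat_lit 10, nat_lit 9]),
  (nat_lit 182, [nat_lit 2, nat_lit 12, nat_lit 11, nat_lit 9, nat_lit 15]),
  (nat_lit 183, [nat_lit 12, nat_lit 11, nat_lit 9, nat_lit 15]),
  (nat_lit 184, [nat_lit 2, nat_lit 12, nat_lit 11, nat_lit 10]),
  (nat_lit 185, [nat_lit 12, nat_lit 11, nat_lit 10]),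
  (nat_lit 186, [nat_lit 12, nat_lit 11, nat_lit 9, nat_lit 9]),
  (nat_lit 187, [nat_lit 2, nat_lit 12, nat_lit 11, nat_lit 9, nat_lit 9]),
  (nat_lit 188, [nat_lit 12, nat_lit 10, nat_lit 10, nat_lit 9]),
  (nat_lit 189, [nat_lit 12, nat_lit 10, nat_lit 9, nat_lit 9]),
  (nat_lit 198, [nat_lit 11, nat_lit 10, nat_lit 10]),
  (nat_lit 199, [nat_lit 11, nat_lit 10, nat_lit 9]),
  (nat_lit 206, [nat_lit 15, nat_lit 10, nat_lit 10]),
  (nat_lit 207, [nat_lit 15, nat_lit 10, nat_lit 9]),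
  (nat_lit 214, [nat_lit 2, nat_lit 12, nat_lit 11, nat_lit 9, nat_lit 9, nat_lit 15]),
  (nat_lit 215, [nat_lit 12, nat_lit 11, nat_lit 9, nat_lit 9, nat_lit 15]),
  (nat_lit 216, [nat_lit 12, nat_lit 11, nat_lit 9, nat_lit 9, nat_lit 10]),
  (nat_lit 217, [nat_lit 12, nat_lit 11, nat_lit 9, nat_lit 9, nat_lit 11]),
  (nat_lit 218, [nat_lit 2, nat_lit 12, nat_lit 11, nat_lit 9]),
  (nat_lit 219, [nat_lit 12, nat_lit 11, nat_lit 9]),
  (nat_lit 220, [nat_lit 12, nat_lit 10, nat_lit 9]),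
  (nat_lit 221, [nat_lit 12, nat_lit 10, nat_lit 10]),
  (nat_lit 224, [nat_lit 11, nat_lit 10, nat_lit 9, nat_lit 13, nat_lit 12, nat_lit 11, nat_lit 15, nat_lit 11, nat_lit 10]),
  (nat_lit 225, [nat_lit 11, nat_lit 10, nat_lit 9, nat_lit 13, nat_lit 12, nat_lit 11, nat_lit 15, nat_lit 10, nat_lit 10]),
  (nat_lit 226, [nat_lit 11, nat_lit 10, nat_lit 9, nat_lit 13, nat_lit 12, nat_lit 11, nat_lit 15, nat_lit 9]),
  (nat_lit 227, [nat_lit 11, nat_lit 10, nat_lit 9, nat_lit 13, nat_lit 12, nat_lit 15, nat_lit 9, nat_lit 12]),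
  (nat_lit 228, [nat_lit 11, nat_lit 10, nat_lit 9, nat_lit 13, nat_lit 12, nat_lit 15, nat_lit 9]),
  (nat_lit 229, [nat_lit 11, nat_lit 10, nat_lit 10, nat_lit 13, nat_lit 12, nat_lit 15, nat_lit 9]),
  (nat_lit 232, [nat_lit 11, nat_lit 10, nat_lit 13, nat_lit 12]),
  (nat_lit 233, [nat_lit 11, nat_lit 11, nat_lit 13, nat_lit 12]),
  (nat_lit 234, [nat_lit 11, nat_lit 11, nat_lit 13, nat_lit 12, nat_lit 10, nat_lit 9]),
  (nat_lit 235, [nat_lit 11, nat_lit 10, nat_lit 13, nat_lit 12, nat_lit 10, nat_lit 9]),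
  (nat_lit 236, [nat_lit 11, nat_lit 10, nat_lit 9, nat_lit 13, nat_lit 12, nat_lit 11, nat_lit 9]),
  (nat_lit 237, [nat_lit 11, nat_lit 10, nat_lit 10, nat_lit 13, nat_lit 12, nat_lit 11, nat_lit 9]),
  (nat_lit 240, [nat_lit 12, nat_lit 11, nat_lit 10, nat_lit 9, nat_lit 13]),
  (nat_lit 241, [nat_lit 11, nat_lit 13, nat_lit 11, nat_lit 10, nat_lit 9]),
  (nat_lit 242, [nat_lit 11, nat_lit 13, nat_lit 11]),
  (nat_lit 243, [nat_lit 12, nat_lit 11, nat_lit 13]),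
  (nat_lit 244, [nat_lit 11, nat_lit 11, nat_lit 13]),
  (nat_lit 245, [nat_lit 11, nat_lit 10, nat_lit 13]),
  (nat_lit 254, [nat_lit 12, nat_lit 11, nat_lit 9, nat_lit 13, nat_lit 15, nat_lit 9]),
  (nat_lit 255, [nat_lit 11, nat_lit 13, nat_lit 11, nat_lit 9, nat_lit 15, nat_lit 9]),
  (nat_lit 256, [nat_lit 12, nat_lit 11, nat_lit 14, nat_lit 13]),
  (nat_lit 257, [nat_lit 2, nat_lit 12, nat_lit 11, nat_lit 14, nat_lit 13]),
  (nat_lit 258, [nat_lit 2, nat_lit 12, nat_lit 11, nat_lit 10, nat_lit 9, nat_lit 14, nat_lit 13]),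
  (nat_lit 259, [nat_lit 12, nat_lit 11, nat_lit 10, nat_lit 9, nat_lit 14, nat_lit 13]),
  (nat_lit 260, [nat_lit 12, nat_lit 11, nat_lit 9, nat_lit 14, nat_lit 13, nat_lit 11, nat_lit 9]),
  (nat_lit 261, [nat_lit 2, nat_lit 12, nat_lit 11, nat_lit 9, nat_lit 14, nat_lit 13, nat_lit 11, nat_lit 9]),
  (nat_lit 264, [nat_lit 12, nat_lit 11, nat_lit 9, nat_lit 14, nat_lit 13, nat_lit 11, nat_lit 15, nat_lit 11, nat_lit 10]),
  (nat_lit 265, [nat_lit 12, nat_lit 11, nat_lit 9, nat_lit 14, nat_lit 13, nat_lit 11, nat_lit 15, nat_lit 10, nat_lit 10]),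
  (nat_lit 266, [nat_lit 12, nat_lit 11, nat_lit 9, nat_lit 14, nat_lit 13, nat_lit 11, nat_lit 15, nat_lit 9]),
  (nat_lit 267, [nat_lit 2, nat_lit 12, nat_lit 11, nat_lit 9, nat_lit 14, nat_lit 13, nat_lit 11, nat_lit 15, nat_lit 9]),
  (nat_lit 268, [nat_lit 12, nat_lit 11, nat_lit 9, nat_lit 14, nat_lit 13, nat_lit 15, nat_lit 9]),
  (nat_lit 269, [nat_lit 2, nat_lit 12, nat_lit 11, nat_lit 9, nat_lit 14, nat_lit 13, nat_lit 15, nat_lit 9]),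
  (nat_lit 272, [nat_lit 12, nat_lit 11, nat_lit 9, nat_lit 14, nat_lit 13, nat_lit 15, nat_lit 9, nat_lit 12]),
  (nat_lit 273, [nat_lit 2, nat_lit 12, nat_lit 11, nat_lit 9, nat_lit 14, nat_lit 13, nat_lit 15, nat_lit 9, nat_lit 12]),
  (nat_lit 274, [nat_lit 12, nat_lit 11, nat_lit 9, nat_lit 14, nat_lit 13, nat_lit 15, nat_lit 12, nat_lit 15, nat_lit 10]),
  (nat_lit 275, [nat_lit 12, nat_lit 11, nat_lit 9, nat_lit 14, nat_lit 13, nat_lit 15, nat_lit 12, nat_lit 10, nat_lit 10]),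
  (nat_lit 276, [nat_lit 12, nat_lit 11, nat_lit 9, nat_lit 14, nat_lit 13, nat_lit 15, nat_lit 12, nat_lit 10, nat_lit 10, nat_lit 11]),
  (nat_lit 277, [nat_lit 12, nat_lit 11, nat_lit 9, nat_lit 9, nat_lit 14, nat_lit 13, nat_lit 15, nat_lit 12, nat_lit 11, nat_lit 9]),
  (nat_lit 286, [nat_lit 2, nat_lit 12, nat_lit 11, nat_lit 10, nat_lit 9, nat_lit 14, nat_lit 13, nat_lit 12]),
  (nat_lit 287, [nat_lit 12, nat_lit 11, nat_lit 10, nat_lit 9, nat_lit 14, nat_lit 13, nat_lit 12]),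
  (nat_lit 288, [nat_lit 12, nat_lit 10, nat_lit 9, nat_lit 14, nat_lit 12, nat_lit 11, nat_lit 15, nat_lit 11]),
  (nat_lit 289, [nat_lit 12, nat_lit 10, nat_lit 9, nat_lit 14, nat_lit 12, nat_lit 11, nat_lit 15, nat_lit 10]),
  (nat_lit 290, [nat_lit 12, nat_lit 10, nat_lit 9, nat_lit 9, nat_lit 14, nat_lit 12, nat_lit 15, nat_lit 12]),
  (nat_lit 291, [nat_lit 12, nat_lit 10, nat_lit 9, nat_lit 9, nat_lit 14, nat_lit 12, nat_lit 11, nat_lit 15]),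
  (nat_lit 292, [nat_lit 12, nat_lit 10, nat_lit 10, nat_lit 9, nat_lit 14, nat_lit 12, nat_lit 15]),
  (nat_lit 293, [nat_lit 12, nat_lit 10, nat_lit 9, nat_lit 9, nat_lit 14, nat_lit 12, nat_lit 15]),
  (nat_lit 296, [nat_lit 12, nat_lit 10, nat_lit 9, nat_lit 14, nat_lit 12]),
  (nat_lit 297, [nat_lit 12, nat_lit 10, nat_lit 10, nat_lit 14, nat_lit 12]),
  (nat_lit 298, [nat_lit 12, nat_lit 10, nat_lit 10, nat_lit 9, nat_lit 14, nat_lit 12, nat_lit 10]),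
  (nat_lit 299, [nat_lit 12, nat_lit 10, nat_lit 9, nat_lit 9, nat_lit 14, nat_lit 12, nat_lit 10]),
  (nat_lit 300, [nat_lit 12, nat_lit 10, nat_lit 10, nat_lit 9, nat_lit 14, nat_lit 12, nat_lit 11]),
  (nat_lit 301, [nat_lit 12, nat_lit 10, nat_lit 9, nat_lit 9, nat_lit 14, nat_lit 12, nat_lit 11]),
  (nat_lit 304, [nat_lit 12, nat_lit 11, nat_lit 9, nat_lit 9, nat_lit 11, nat_lit 14]),
  (nat_lit 305, [nat_lit 12, nat_lit 11, nat_lit 9, nat_lit 9, nat_lit 10, nat_lit 14]),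
  (nat_lit 306, [nat_lit 12, nat_lit 11, nat_lit 9, nat_lit 14]),
  (nat_lit 307, [nat_lit 2, nat_lit 12, nat_lit 11, nat_lit 9, nat_lit 14]),
  (nat_lit 308, [nat_lit 12, nat_lit 10, nat_lit 10, nat_lit 14]),
  (nat_lit 309, [nat_lit 12, nat_lit 10, nat_lit 9, nat_lit 14]),
  (nat_lit 318, [nat_lit 12, nat_lit 11, nat_lit 9, nat_lit 9, nat_lit 14, nat_lit 15]),
  (nat_lit 319, [nat_lit 2, nat_lit 12, nat_lit 11, nat_lit 9, nat_lit 9, nat_lit 14, nat_lit 15]),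
  (nat_lit 320, [nat_lit 12, nat_lit 10, nat_lit 9, nat_lit 9, nat_lit 14, nat_lit 12, nat_lit 11, nat_lit 15, nat_lit 11]),
  (nat_lit 321, [nat_lit 12, nat_lit 10, nat_lit 9, nat_lit 9, nat_lit 14, nat_lit 12, nat_lit 15, nat_lit 12, nat_lit 11]),
  (nat_lit 322, [nat_lit 12, nat_lit 10, nat_lit 9, nat_lit 14, nat_lit 12, nat_lit 11, nat_lit 15]),
  (nat_lit 323, [nat_lit 12, nat_lit 10, nat_lit 9, nat_lit 14, nat_lit 12, nat_lit 15, nat_lit 12]),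
  (nat_lit 324, [nat_lit 12, nat_lit 10, nat_lit 9, nat_lit 14, nat_lit 12, nat_lit 15]),
  (nat_lit 325, [nat_lit 12, nat_lit 10, nat_lit 10, nat_lit 14, nat_lit 12, nat_lit 15]),
  (nat_lit 328, [nat_lit 12, nat_lit 10, nat_lit 9, nat_lit 9, nat_lit 14, nat_lit 12]),
  (nat_lit 329, [nat_lit 12, nat_lit 10, nat_lit 10, nat_lit 9, nat_lit 14, nat_lit 12]),
  (nat_lit 330, [nat_lit 12, nat_lit 14, nat_lit 15, nat_lit 12, nat_lit 10]),
  (nat_lit 331, [nat_lit 12, nat_lit 10, nat_lit 14, nat_lit 12, nat_lit 10]),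
  (nat_lit 332, [nat_lit 12, nat_lit 10, nat_lit 9, nat_lit 14, nat_lit 12, nat_lit 11]),
  (nat_lit 333, [nat_lit 12, nat_lit 10, nat_lit 10, nat_lit 14, nat_lit 12, nat_lit 11]),
  (nat_lit 336, [nat_lit 2, nat_lit 12, nat_lit 11, nat_lit 10, nat_lit 14]),
  (nat_lit 337, [nat_lit 12, nat_lit 11, nat_lit 10, nat_lit 14]),
  (nat_lit 338, [nat_lit 12, nat_lit 11, nat_lit 9, nat_lit 9, nat_lit 14]),
  (nat_lit 339, [nat_lit 2, nat_lit 12, nat_lit 11, nat_lit 9, nat_lit 9, nat_lit 14]),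
  (nat_lit 340, [nat_lit 12, nat_lit 10, nat_lit 10, nat_lit 9, nat_lit 14]),
  (nat_lit 341, [nat_lit 12, nat_lit 10, nat_lit 9, nat_lit 9, nat_lit 14]),
  (nat_lit 350, [nat_lit 2, nat_lit 12, nat_lit 11, nat_lit 9, nat_lit 14, nat_lit 15]),
  (nat_lit 351, [nat_lit 12, nat_lit 11, nat_lit 9, nat_lit 14, nat_lit 15]),
  (nat_lit 358, [nat_lit 12, nat_lit 11, nat_lit 9, nat_lit 9, nat_lit 14, nat_lit 13, nat_lit 11, nat_lit 10]),
  (nat_lit 359, [nat_lit 2, nat_lit 12, nat_lit 11, nat_lit 9, nat_lit 9, nat_lit 14, nat_lit 13, nat_lit 11, nat_lit 10]),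
  (nat_lit 366, [nat_lit 12, nat_lit 11, nat_lit 9, nat_lit 9, nat_lit 14, nat_lit 13, nat_lit 15, nat_lit 10]),
  (nat_lit 367, [nat_lit 2, nat_lit 12, nat_lit 11, nat_lit 9, nat_lit 9, nat_lit 14, nat_lit 13, nat_lit 15, nat_lit 10]),
  (nat_lit 374, [nat_lit 12, nat_lit 11, nat_lit 9, nat_lit 14, nat_lit 13, nat_lit 15, nat_lit 12, nat_lit 11, nat_lit 10]),
  (nat_lit 375, [nat_lit 2, nat_lit 12, nat_lit 11, nat_lit 9, nat_lit 14, nat_lit 13, nat_lit 15, nat_lit 12, nat_lit 11, nat_lit 10]),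
  (nat_lit 376, [nat_lit 12, nat_lit 11, nat_lit 9, nat_lit 9, nat_lit 14, nat_lit 13, nat_lit 15, nat_lit 12, nat_lit 11, nat_lit 9, nat_lit 15]),
  (nat_lit 377, [nat_lit 12, nat_lit 11, nat_lit 9, nat_lit 14, nat_lit 13, nat_lit 15, nat_lit 12, nat_lit 10, nat_lit 10, nat_lit 11, nat_lit 15]),
  (nat_lit 378, [nat_lit 2, nat_lit 12, nat_lit 11, nat_lit 10, nat_lit 9, nat_lit 14, nat_lit 13, nat_lit 12, nat_lit 11]),
  (nat_lit 379, [nat_lit 12, nat_lit 11, nat_lit 10, nat_lit 9, nat_lit 14, nat_lit 13, nat_lit 12, nat_lit 11]),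
  (nat_lit 380, [nat_lit 2, nat_lit 12, nat_lit 11, nat_lit 10, nat_lit 9, nat_lit 14, nat_lit 13, nat_lit 12, nat_lit 15]),
  (nat_lit 381, [nat_lit 12, nat_lit 11, nat_lit 10, nat_lit 9, nat_lit 14, nat_lit 13, nat_lit 12, nat_lit 15]),
  (nat_lit 384, [nat_lit 12, nat_lit 10, nat_lit 9, nat_lit 14, nat_lit 12, nat_lit 11, nat_lit 15, nat_lit 11, nat_lit 10]),
  (nat_lit 385, [nat_lit 12, nat_lit 10, nat_lit 9, nat_lit 14, nat_lit 12, nat_lit 11, nat_lit 15, nat_lit 10, nat_lit 10]),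
  (nat_lit 386, [nat_lit 12, nat_lit 10, nat_lit 9, nat_lit 14, nat_lit 12, nat_lit 11, nat_lit 15, nat_lit 9]),
  (nat_lit 387, [nat_lit 12, nat_lit 10, nat_lit 9, nat_lit 14, nat_lit 12, nat_lit 15, nat_lit 9, nat_lit 12]),
  (nat_lit 388, [nat_lit 12, nat_lit 10, nat_lit 9, nat_lit 14, nat_lit 12, nat_lit 15, nat_lit 9]),
  (nat_lit 389, [nat_lit 12, nat_lit 10, nat_lit 10, nat_lit 14, nat_lit 12, nat_lit 15, nat_lit 9]),
  (nat_lit 392, [nat_lit 12, nat_lit 10, nat_lit 14, nat_lit 12]),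
  (nat_lit 393, [nat_lit 12, nat_lit 14, nat_lit 15, nat_lit 12]),
  (nat_lit 394, [nat_lit 12, nat_lit 14, nat_lit 15, nat_lit 12, nat_lit 10, nat_lit 9]),
  (nat_lit 395, [nat_lit 12, nat_lit 10, nat_lit 14, nat_lit 12, nat_lit 10, nat_lit 9]),
  (nat_lit 396, [nat_lit 12, nat_lit 10, nat_lit 9, nat_lit 14, nat_lit 12, nat_lit 11, nat_lit 9]),
  (nat_lit 397, [nat_lit 12, nat_lit 10, nat_lit 10, nat_lit 14, nat_lit 12, nat_lit 11, nat_lit 9]),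
  (nat_lit 400, [nat_lit 2, nat_lit 12, nat_lit 11, nat_lit 10, nat_lit 9, nat_lit 14]),
  (nat_lit 401, [nat_lit 12, nat_lit 11, nat_lit 10, nat_lit 9, nat_lit 14]),
  (nat_lit 402, [nat_lit 12, nat_lit 11, nat_lit 14]),
  (nat_lit 403, [nat_lit 2, nat_lit 12, nat_lit 11, nat_lit 14]),
  (nat_lit 404, [nat_lit 12, nat_lit 14, nat_lit 15]),
  (nat_lit 405, [nat_lit 12, nat_lit 10, nat_lit 14]),
  (nat_lit 414, [nat_lit 2, nat_lit 12, nat_lit 11, nat_lit 9, nat_lit 14, nat_lit 15, nat_lit 9]),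
  (nat_lit 415, [nat_lit 12, nat_lit 11, nat_lit 9, nat_lit 14, nat_lit 15, nat_lit 9]),
  (nat_lit 416, [nat_lit 2, nat_lit 12, nat_lit 11, nat_lit 9, nat_lit 14, nat_lit 13]),
  (nat_lit 417, [nat_lit 12, nat_lit 11, nat_lit 9, nat_lit 14, nat_lit 13]),
  (nat_lit 418, [nat_lit 12, nat_lit 11, nat_lit 9, nat_lit 9, nat_lit 10, nat_lit 14, nat_lit 13]),
  (nat_lit 419, [nat_lit 12, nat_lit 11, nat_lit 9, nat_lit 9, nat_lit 11, nat_lit 14, nat_lit 13]),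
  (nat_lit 420, [nat_lit 12, nat_lit 11, nat_lit 9, nat_lit 9, nat_lit 14, nat_lit 13, nat_lit 11]),
  (nat_lit 421, [nat_lit 2, nat_lit 12, nat_lit 11, nat_lit 9, nat_lit 9, nat_lit 14, nat_lit 13, nat_lit 11]),
  (nat_lit 424, [nat_lit 12, nat_lit 11, nat_lit 9, nat_lit 14, nat_lit 13, nat_lit 11, nat_lit 15, nat_lit 10]),
  (nat_lit 425, [nat_lit 12, nat_lit 11, nat_lit 9, nat_lit 14, nat_lit 13, nat_lit 11, nat_lit 15, nat_lit 11]),
  (nat_lit 426, [nat_lit 12, nat_lit 11, nat_lit 9, nat_lit 9, nat_lit 14, nat_lit 13, nat_lit 11, nat_lit 15]),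
  (nat_lit 427, [nat_lit 2, nat_lit 12, nat_lit 11, nat_lit 9, nat_lit 9, nat_lit 14, nat_lit 13, nat_lit 11, nat_lit 15]),
  (nat_lit 428, [nat_lit 12, nat_lit 11, nat_lit 9, nat_lit 9, nat_lit 14, nat_lit 13, nat_lit 15]),
  (nat_lit 429, [nat_lit 2, nat_lit 12, nat_lit 11, nat_lit 9, nat_lit 9, nat_lit 14, nat_lit 13, nat_lit 15]),
  (nat_lit 432, [nat_lit 12, nat_lit 11, nat_lit 9, nat_lit 9, nat_lit 14, nat_lit 13, nat_lit 15, nat_lit 12]),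
  (nat_lit 433, [nat_lit 2, nat_lit 12, nat_lit 11, nat_lit 9, nat_lit 9, nat_lit 14, nat_lit 13, nat_lit 15, nat_lit 12]),
  (nat_lit 434, [nat_lit 12, nat_lit 11, nat_lit 9, nat_lit 14, nat_lit 13, nat_lit 15, nat_lit 12, nat_lit 10]),
  (nat_lit 435, [nat_lit 12, nat_lit 11, nat_lit 9, nat_lit 14, nat_lit 13, nat_lit 15, nat_lit 12, nat_lit 15]),
  (nat_lit 436, [nat_lit 12, nat_lit 11, nat_lit 9, nat_lit 14, nat_lit 13, nat_lit 15, nat_lit 12, nat_lit 11]),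
  (nat_lit 437, [nat_lit 2, nat_lit 12, nat_lit 11, nat_lit 9, nat_lit 14, nat_lit 13, nat_lit 15, nat_lit 12, nat_lit 11]),
  (nat_lit 446, [nat_lit 12, nat_lit 11, nat_lit 9, nat_lit 9, nat_lit 10, nat_lit 14, nat_lit 13, nat_lit 12]),
  (nat_lit 447, [nat_lit 12, nat_lit 11, nat_lit 9, nat_lit 9, nat_lit 11, nat_lit 14, nat_lit 13, nat_lit 12]),
  (nat_lit 448, [nat_lit 2, nat_lit 12, nat_lit 11, nat_lit 9, nat_lit 9, nat_lit 14, nat_lit 13]),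
  (nat_lit 449, [nat_lit 12, nat_lit 11, nat_lit 9, nat_lit 9, nat_lit 14, nat_lit 13]),
  (nat_lit 450, [nat_lit 12, nat_lit 11, nat_lit 10, nat_lit 14, nat_lit 13]),
  (nat_lit 451, [nat_lit 2, nat_lit 12, nat_lit 11, nat_lit 10, nat_lit 14, nat_lit 13]),
  (nat_lit 452, [nat_lit 2, nat_lit 12, nat_lit 11, nat_lit 9, nat_lit 14, nat_lit 13, nat_lit 11]),
  (nat_lit 453, [nat_lit 12, nat_lit 11, nat_lit 9, nat_lit 14, nat_lit 13, nat_lit 11]),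
  (nat_lit 456, [nat_lit 12, nat_lit 11, nat_lit 9, nat_lit 14, nat_lit 13, nat_lit 11, nat_lit 15, nat_lit 9, nat_lit 10]),
  (nat_lit 457, [nat_lit 12, nat_lit 11, nat_lit 9, nat_lit 9, nat_lit 14, nat_lit 13, nat_lit 11, nat_lit 15, nat_lit 11]),
  (nat_lit 458, [nat_lit 2, nat_lit 12, nat_lit 11, nat_lit 9, nat_lit 14, nat_lit 13, nat_lit 11, nat_lit 15]),
  (nat_lit 459, [nat_lit 12, nat_lit 11, nat_lit 9, nat_lit 14, nat_lit 13, nat_lit 11, nat_lit 15]),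
  (nat_lit 460, [nat_lit 2, nat_lit 12, nat_lit 11, nat_lit 9, nat_lit 14, nat_lit 13, nat_lit 15]),
  (nat_lit 461, [nat_lit 12, nat_lit 11, nat_lit 9, nat_lit 14, nat_lit 13, nat_lit 15]),
  (nat_lit 464, [nat_lit 2, nat_lit 12, nat_lit 11, nat_lit 9, nat_lit 14, nat_lit 13, nat_lit 15, nat_lit 12]),
  (nat_lit 465, [nat_lit 12, nat_lit 11, nat_lit 9, nat_lit 14, nat_lit 13, nat_lit 15, nat_lit 12]),
  (nat_lit 466, [nat_lit 12, nat_lit 11, nat_lit 9, nat_lit 14, nat_lit 13, nat_lit 15, nat_lit 9, nat_lit 12, nat_lit 10]),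
  (nat_lit 467, [nat_lit 12, nat_lit 11, nat_lit 9, nat_lit 9, nat_lit 14, nat_lit 13, nat_lit 15, nat_lit 12, nat_lit 15]),
  (nat_lit 468, [nat_lit 12, nat_lit 11, nat_lit 9, nat_lit 9, nat_lit 14, nat_lit 13, nat_lit 15, nat_lit 12, nat_lit 11]),
  (nat_lit 469, [nat_lit 2, nat_lit 12, nat_lit 11, nat_lit 9, nat_lit 9, nat_lit 14, nat_lit 13, nat_lit 15, nat_lit 12, nat_lit 11]),
  (nat_lit 478, [nat_lit 12, nat_lit 11, nat_lit 10, nat_lit 14, nat_lit 13, nat_lit 12]),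
  (nat_lit 479, [nat_lit 2, nat_lit 12, nat_lit 11, nat_lit 10, nat_lit 14, nat_lit 13, nat_lit 12]),
  (nat_lit 486, [nat_lit 12, nat_lit 10, nat_lit 9, nat_lit 9, nat_lit 14, nat_lit 12, nat_lit 15, nat_lit 10]),
  (nat_lit 487, [nat_lit 12, nat_lit 10, nat_lit 10, nat_lit 9, nat_lit 14, nat_lit 12, nat_lit 15, nat_lit 10]),
  (nat_lit 494, [nat_lit 12, nat_lit 10, nat_lit 9, nat_lit 9, nat_lit 14, nat_lit 12, nat_lit 11, nat_lit 10]),
  (nat_lit 495, [nat_lit 12, nat_lit 10, nat_lit 10, nat_lit 9, nat_lit 14, nat_lit 12, nat_lit 11, nat_lit 10]),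
  (nat_lit 502, [nat_lit 2, nat_lit 12, nat_lit 14]),
  (nat_lit 503, [nat_lit 12, nat_lit 14]),
  (nat_lit 504, [nat_lit 15, nat_lit 12, nat_lit 14]),
  (nat_lit 505, [nat_lit 2, nat_lit 15, nat_lit 12, nat_lit 14]),
  (nat_lit 506, [nat_lit 2, nat_lit 12, nat_lit 11, nat_lit 9, nat_lit 14, nat_lit 15, nat_lit 9, nat_lit 11]),
  (nat_lit 507, [nat_lit 12, nat_lit 11, nat_lit 9, nat_lit 14, nat_lit 15, nat_lit 9, nat_lit 11]),
  (nat_lit 508, [nat_lit 2, nat_lit 12, nat_lit 11, nat_lit 9, nat_lit 9, nat_lit 14, nat_lit 15, nat_lit 10]),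
  (nat_lit 509, [nat_lit 12, nat_lit 11, nat_lit 9, nat_lit 9, nat_lit 14, nat_lit 15, nat_lit 10])]
def LV2 : List (ℕ × List ℕ) := [(nat_lit 4, [nat_lit 16, nat_lit 16, nat_lit 16, nat_lit 17, nat_lit 17, nat_lit 17, nat_lit 16, nat_lit 16, nat_lit 16, nat_lit 16, nat_lit 17, nat_lit 16, nat_lit 17, nat_lit 16, nat_lit 16, nat_lit 17, nat_lit 17, nat_lit 16, nat_lit 17, nat_lit 17, nat_lit 16, nat_lit 17, nat_lit 16, nat_lit 16, nat_lit 16, nat_lit 17]),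
  (nat_lit 5, [nat_lit 17, nat_lit 17, nat_lit 16, nat_lit 16, nat_lit 16, nat_lit 17, nat_lit 17, nat_lit 16, nat_lit 16, nat_lit 17, nat_lit 17, nat_lit 17, nat_lit 16, nat_lit 17, nat_lit 17, nat_lit 17, nat_lit 16, nat_lit 17, nat_lit 17, nat_lit 16, nat_lit 17, nat_lit 17, nat_lit 16, nat_lit 16, nat_lit 17]),
  (nat_lit 12, [nat_lit 17, nat_lit 16, nat_lit 16, nat_lit 16, nat_lit 17, nat_lit 16, nat_lit 17, nat_lit 16, nat_lit 17, nat_lit 16, nat_lit 17, nat_lit 17, nat_lit 17, nat_lit 16, nat_lit 17, nat_lit 17, nat_lit 17, nat_lit 17]),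
  (nat_lit 13, [nat_lit 17, nat_lit 17, nat_lit 17, nat_lit 17, nat_lit 17, nat_lit 16, nat_lit 16, nat_lit 16, nat_lit 17, nat_lit 17, nat_lit 17, nat_lit 17, nat_lit 16, nat_lit 16, nat_lit 16, nat_lit 16, nat_lit 16, nat_lit 17, nat_lit 16, nat_lit 17, nat_lit 17, nat_lit 16, nat_lit 17, nat_lit 17]),
  (nat_lit 20, [nat_lit 17, nat_lit 16, nat_lit 16, nat_lit 16, nat_lit 16, nat_lit 16, nat_lit 16, nat_lit 17, nat_lit 17, nat_lit 17, nat_lit 16, nat_lit 16, nat_lit 17, nat_lit 16, nat_lit 17, nat_lit 17, nat_lit 17, nat_lit 16, nat_lit 17, nat_lit 17, nat_lit 16, nat_lit 17, nat_lit 16, nat_lit 17, nat_lit 17]),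
  (nat_lit 21, [nat_lit 16, nat_lit 17, nat_lit 17, nat_lit 16, nat_lit 17, nat_lit 17, nat_lit 16, nat_lit 17, nat_lit 16, nat_lit 16, nat_lit 17, nat_lit 16, nat_lit 17, nat_lit 17, nat_lit 17, nat_lit 17, nat_lit 17, nat_lit 16, nat_lit 16, nat_lit 16, nat_lit 16, nat_lit 17, nat_lit 17, nat_lit 17, nat_lit 16]),
  (nat_lit 30, [nat_lit 17, nat_lit 16, nat_lit 17, nat_lit 16, nat_lit 17, nat_lit 16, nat_lit 17, nat_lit 16, nat_lit 16, nat_lit 17, nat_lit 17, nat_lit 16, nat_lit 16, nat_lit 17, nat_lit 17, nat_lit 16, nat_lit 16, nat_lit 17, nat_lit 16, nat_lit 17, nat_lit 17, nat_lit 17, nat_lit 17]),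
  (nat_lit 31, [nat_lit 17, nat_lit 17, nat_lit 16, nat_lit 17, nat_lit 16, nat_lit 17, nat_lit 16, nat_lit 16, nat_lit 17, nat_lit 17, nat_lit 16, nat_lit 16, nat_lit 17, nat_lit 17, nat_lit 16, nat_lit 17, nat_lit 16, nat_lit 16, nat_lit 16, nat_lit 16, nat_lit 16, nat_lit 16, nat_lit 17, nat_lit 17, nat_lit 16, nat_lit 17]),
  (nat_lit 36, [nat_lit 16, nat_lit 16, nat_lit 17, nat_lit 17, nat_lit 17, nat_lit 16, nat_lit 17, nat_lit 16, nat_lit 16, nat_lit 17, nat_lit 16, nat_lit 16, nat_lit 17, nat_lit 17, nat_lit 16, nat_lit 16, nat_lit 17, nat_lit 16, nat_lit 17, nat_lit 16, nat_lit 17, nat_lit 17, nat_lit 17]),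
  (nat_lit 37, [nat_lit 16, nat_lit 17, nat_lit 17, nat_lit 16, nat_lit 16, nat_lit 17, nat_lit 16, nat_lit 17, nat_lit 16, nat_lit 16, nat_lit 17, nat_lit 16, nat_lit 16, nat_lit 16, nat_lit 16, nat_lit 16, nat_lit 17, nat_lit 17, nat_lit 17, nat_lit 17, nat_lit 16, nat_lit 17, nat_lit 16, nat_lit 17, nat_lit 16]),
  (nat_lit 44, [nat_lit 16, nat_lit 16, nat_lit 17, nat_lit 17, nat_lit 17, nat_lit 16, nat_lit 17, nat_lit 16, nat_lit 16, nat_lit 16, nat_lit 16, nat_lit 16, nat_lit 17, nat_lit 16, nat_lit 17, nat_lit 16, nat_lit 16, nat_lit 16, nat_lit 17, nat_lit 16, nat_lit 16, nat_lit 16, nat_lit 17]),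
  (nat_lit 45, [nat_lit 17, nat_lit 17, nat_lit 17, nat_lit 17, nat_lit 17, nat_lit 16, nat_lit 17, nat_lit 16, nat_lit 17, nat_lit 16, nat_lit 16, nat_lit 16, nat_lit 17, nat_lit 16, nat_lit 17, nat_lit 17, nat_lit 16, nat_lit 17, nat_lit 17, nat_lit 17, nat_lit 16, nat_lit 16, nat_lit 16, nat_lit 16]),
  (nat_lit 52, [nat_lit 17, nat_lit 17, nat_lit 17, nat_lit 16, nat_lit 16, nat_lit 17, nat_lit 17, nat_lit 16, nat_lit 16, nat_lit 16, nat_lit 16, nat_lit 16, nat_lit 17, nat_lit 17, nat_lit 16, nat_lit 17, nat_lit 16, nat_lit 16, nat_lit 16, nat_lit 17, nat_lit 17, nat_lit 16, nat_lit 16, nat_lit 16, nat_lit 16]),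
  (nat_lit 53, [nat_lit 17, nat_lit 17, nat_lit 16, nat_lit 16, nat_lit 17, nat_lit 16, nat_lit 17, nat_lit 16, nat_lit 16, nat_lit 16, nat_lit 16, nat_lit 17, nat_lit 17, nat_lit 16, nat_lit 16, nat_lit 16, nat_lit 16, nat_lit 16, nat_lit 16, nat_lit 17, nat_lit 16, nat_lit 17, nat_lit 17, nat_lit 17, nat_lit 16, nat_lit 17, nat_lit 17]),
  (nat_lit 62, [nat_lit 17, nat_lit 17, nat_lit 16, nat_lit 17, nat_lit 16, nat_lit 16, nat_lit 16, nat_lit 17, nat_lit 16, nat_lit 16, nat_lit 16, nat_lit 17, nat_lit 16, nat_lit 16, nat_lit 17, nat_lit 17, nat_lit 16, nat_lit 16, nat_lit 17, nat_lit 17, nat_lit 16, nat_lit 16, nat_lit 17, nat_lit 17, nat_lit 17, nat_lit 16, nat_lit 16]),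
  (nat_lit 63, [nat_lit 17, nat_lit 16, nat_lit 17, nat_lit 16, nat_lit 16, nat_lit 17, nat_lit 16, nat_lit 16, nat_lit 17, nat_lit 16, nat_lit 16, nat_lit 17, nat_lit 16, nat_lit 17, nat_lit 16, nat_lit 17, nat_lit 17, nat_lit 16, nat_lit 16, nat_lit 16, nat_lit 16, nat_lit 17, nat_lit 16, nat_lit 17, nat_lit 16, nat_lit 16]),
  (nat_lit 68, [nat_lit 16, nat_lit 17, nat_lit 16, nat_lit 17, nat_lit 17, nat_lit 17, nat_lit 16, nat_lit 17, nat_lit 16, nat_lit 16, nat_lit 16, nat_lit 17, nat_lit 17, nat_lit 17, nat_lit 17, nat_lit 17, nat_lit 17, nat_lit 16, nat_lit 17, nat_lit 17, nat_lit 17, nat_lit 17, nat_lit 16, nat_lit 17, nat_lit 17, nat_lit 17]),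
  (nat_lit 69, [nat_lit 16, nat_lit 16, nat_lit 17, nat_lit 17, nat_lit 17, nat_lit 16, nat_lit 16, nat_lit 17, nat_lit 16, nat_lit 17, nat_lit 17, nat_lit 17, nat_lit 17, nat_lit 16, nat_lit 16, nat_lit 17, nat_lit 17, nat_lit 17, nat_lit 17, nat_lit 16, nat_lit 16, nat_lit 17, nat_lit 16]),
  (nat_lit 76, [nat_lit 16, nat_lit 17, nat_lit 16, nat_lit 17, nat_lit 16, nat_lit 16, nat_lit 17, nat_lit 17, nat_lit 16, nat_lit 17, nat_lit 17, nat_lit 17, nat_lit 17, nat_lit 17, nat_lit 16, nat_lit 16, nat_lit 17, nat_lit 17, nat_lit 17, nat_lit 17, nat_lit 16, nat_lit 16, nat_lit 17, nat_lit 17, nat_lit 16, nat_lit 17]),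
  (nat_lit 77, [nat_lit 16, nat_lit 17, nat_lit 17, nat_lit 17, nat_lit 17, nat_lit 17, nat_lit 17, nat_lit 16, nat_lit 16, nat_lit 16, nat_lit 16, nat_lit 16, nat_lit 17, nat_lit 16, nat_lit 17, nat_lit 17, nat_lit 16, nat_lit 16, nat_lit 16, nat_lit 16, nat_lit 17, nat_lit 16, nat_lit 16, nat_lit 16, nat_lit 16, nat_lit 17]),
  (nat_lit 84, [nat_lit 16, nat_lit 16, nat_lit 16, nat_lit 16, nat_lit 17, nat_lit 17, nat_lit 17, nat_lit 16, nat_lit 16, nat_lit 16, nat_lit 17, nat_lit 17, nat_lit 16, nat_lit 16, nat_lit 17, nat_lit 16, nat_lit 16, nat_lit 17, nat_lit 16, nat_lit 17, nat_lit 16]),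
  (nat_lit 85, [nat_lit 17, nat_lit 17, nat_lit 16, nat_lit 16, nat_lit 16, nat_lit 17, nat_lit 17, nat_lit 17, nat_lit 16, nat_lit 17, nat_lit 17, nat_lit 16, nat_lit 17, nat_lit 17, nat_lit 17, nat_lit 16, nat_lit 17, nat_lit 16, nat_lit 17, nat_lit 17, nat_lit 16, nat_lit 16, nat_lit 16, nat_lit 16, nat_lit 17, nat_lit 16, nat_lit 16]),
  (nat_lit 94, [nat_lit 16, nat_lit 16, nat_lit 17, nat_lit 17, nat_lit 16, nat_lit 17, nat_lit 17, nat_lit 17, nat_lit 16, nat_lit 17, nat_lit 16, nat_lit 16, nat_lit 16, nat_lit 16, nat_lit 16, nat_lit 16, nat_lit 17, nat_lit 17, nat_lit 16, nat_lit 17, nat_lit 16, nat_lit 16]),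
  (nat_lit 95, [nat_lit 17, nat_lit 17, nat_lit 17, nat_lit 16, nat_lit 17, nat_lit 16, nat_lit 17, nat_lit 16, nat_lit 16, nat_lit 17, nat_lit 17, nat_lit 16, nat_lit 16, nat_lit 16, nat_lit 16, nat_lit 17, nat_lit 17, nat_lit 17, nat_lit 17, nat_lit 17, nat_lit 17, nat_lit 16, nat_lit 16, nat_lit 17]),
  (nat_lit 102, [nat_lit 16, nat_lit 16, nat_lit 17, nat_lit 17, nat_lit 16, nat_lit 17, nat_lit 17, nat_lit 17, nat_lit 16, nat_lit 16, nat_lit 17, nat_lit 16, nat_lit 16, nat_lit 16, nat_lit 17, nat_lit 17, nat_lit 17, nat_lit 16, nat_lit 17, nat_lit 17, nat_lit 16, nat_lit 17, nat_lit 16, nat_lit 16, nat_lit 16, nat_lit 16]),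
  (nat_lit 103, [nat_lit 16, nat_lit 16, nat_lit 17, nat_lit 16, nat_lit 17, nat_lit 17, nat_lit 16, nat_lit 16, nat_lit 17, nat_lit 16, nat_lit 16, nat_lit 17, nat_lit 16, nat_lit 16, nat_lit 17, nat_lit 16, nat_lit 16, nat_lit 16, nat_lit 16, nat_lit 17, nat_lit 17, nat_lit 17, nat_lit 16]),
  (nat_lit 110, [nat_lit 17, nat_lit 16, nat_lit 17, nat_lit 17, nat_lit 16, nat_lit 16, nat_lit 16, nat_lit 17, nat_lit 17, nat_lit 16, nat_lit 17, nat_lit 16, nat_lit 16, nat_lit 16, nat_lit 16, nat_lit 16, nat_lit 17, nat_lit 17, nat_lit 17, nat_lit 17, nat_lit 16, nat_lit 16, nat_lit 16, nat_lit 16, nat_lit 16]),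
  (nat_lit 111, [nat_lit 17, nat_lit 16, nat_lit 17, nat_lit 16, nat_lit 16, nat_lit 16, nat_lit 17, nat_lit 16, nat_lit 16, nat_lit 17, nat_lit 17, nat_lit 17, nat_lit 17, nat_lit 17, nat_lit 17, nat_lit 16, nat_lit 17, nat_lit 17, nat_lit 17, nat_lit 16, nat_lit 17, nat_lit 16, nat_lit 17, nat_lit 17]),
  (nat_lit 118, [nat_lit 17, nat_lit 17, nat_lit 17, nat_lit 16, nat_lit 17, nat_lit 16, nat_lit 17, nat_lit 17, nat_lit 17, nat_lit 16, nat_lit 16, nat_lit 16, nat_lit 17, nat_lit 16, nat_lit 17, nat_lit 17, nat_lit 17, nat_lit 16, nat_lit 16, nat_lit 16, nat_lit 17, nat_lit 17, nat_lit 17, nat_lit 16, nat_lit 17]),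
  (nat_lit 119, [nat_lit 17, nat_lit 17, nat_lit 17, nat_lit 17, nat_lit 16, nat_lit 16, nat_lit 16, nat_lit 17, nat_lit 17, nat_lit 17, nat_lit 17, nat_lit 17, nat_lit 16, nat_lit 17, nat_lit 16, nat_lit 17, nat_lit 17, nat_lit 16, nat_lit 17, nat_lit 16, nat_lit 16, nat_lit 16, nat_lit 16, nat_lit 17]),
  (nat_lit 124, [nat_lit 16, nat_lit 16, nat_lit 16, nat_lit 16, nat_lit 16, nat_lit 17, nat_lit 17, nat_lit 17, nat_lit 17, nat_lit 16, nat_lit 16, nat_lit 17, nat_lit 17, nat_lit 16, nat_lit 17, nat_lit 16, nat_lit 16, nat_lit 17, nat_lit 16, nat_lit 17, nat_lit 17, nat_lit 16, nat_lit 17]),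
  (nat_lit 125, [nat_lit 16, nat_lit 16, nat_lit 16, nat_lit 17, nat_lit 17, nat_lit 17, nat_lit 16, nat_lit 16, nat_lit 17, nat_lit 16, nat_lit 16, nat_lit 16, nat_lit 16, nat_lit 17, nat_lit 17, nat_lit 16, nat_lit 17, nat_lit 16, nat_lit 17, nat_lit 17, nat_lit 16, nat_lit 17, nat_lit 17, nat_lit 17]),
  (nat_lit 134, [nat_lit 16, nat_lit 17, nat_lit 16, nat_lit 16, nat_lit 16, nat_lit 17, nat_lit 16, nat_lit 16, nat_lit 17, nat_lit 16, nat_lit 17, nat_lit 17, nat_lit 17, nat_lit 16, nat_lit 16, nat_lit 16, nat_lit 17, nat_lit 16, nat_lit 17, nat_lit 16, nat_lit 16, nat_lit 17, nat_lit 16, nat_lit 17]),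
  (nat_lit 135, [nat_lit 17, nat_lit 17, nat_lit 17, nat_lit 17, nat_lit 16, nat_lit 17, nat_lit 17, nat_lit 17, nat_lit 16, nat_lit 16, nat_lit 16, nat_lit 17, nat_lit 17, nat_lit 16, nat_lit 16, nat_lit 17, nat_lit 17, nat_lit 17, nat_lit 16, nat_lit 17, nat_lit 16, nat_lit 17, nat_lit 17, nat_lit 16, nat_lit 16, nat_lit 16]),
  (nat_lit 142, [nat_lit 16, nat_lit 16, nat_lit 17, nat_lit 16, nat_lit 16, nat_lit 16, nat_lit 16, nat_lit 17, nat_lit 17, nat_lit 17, nat_lit 16, nat_lit 16, nat_lit 16, nat_lit 16, nat_lit 16, nat_lit 17, nat_lit 16, nat_lit 17, nat_lit 16, nat_lit 16, nat_lit 17, nat_lit 17, nat_lit 17, nat_lit 16, nat_lit 16, nat_lit 16, nat_lit 16]),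
  (nat_lit 143, [nat_lit 16, nat_lit 16, nat_lit 17, nat_lit 16, nat_lit 17, nat_lit 16, nat_lit 17, nat_lit 17, nat_lit 17, nat_lit 17, nat_lit 16, nat_lit 16, nat_lit 16, nat_lit 17, nat_lit 17, nat_lit 17, nat_lit 16, nat_lit 17, nat_lit 16, nat_lit 17, nat_lit 17, nat_lit 17, nat_lit 16, nat_lit 17, nat_lit 16, nat_lit 17]),
  (nat_lit 150, [nat_lit 17, nat_lit 17, nat_lit 17, nat_lit 16, nat_lit 16, nat_lit 16, nat_lit 17, nat_lit 17, nat_lit 16, nat_lit 17, nat_lit 17, nat_lit 17, nat_lit 17, nat_lit 17, nat_lit 16, nat_lit 17, nat_lit 16, nat_lit 16, nat_lit 16, nat_lit 17, nat_lit 17, nat_lit 17, nat_lit 17, nat_lit 17]),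
  (nat_lit 151, [nat_lit 17, nat_lit 17, nat_lit 17, nat_lit 16, nat_lit 16, nat_lit 17, nat_lit 16, nat_lit 16, nat_lit 17, nat_lit 17, nat_lit 16, nat_lit 17, nat_lit 16, nat_lit 16, nat_lit 17, nat_lit 16, nat_lit 17, nat_lit 17, nat_lit 16, nat_lit 16, nat_lit 16, nat_lit 17, nat_lit 16]),
  (nat_lit 156, [nat_lit 17, nat_lit 16, nat_lit 16, nat_lit 17, nat_lit 16, nat_lit 17, nat_lit 16, nat_lit 16, nat_lit 17, nat_lit 16, nat_lit 17, nat_lit 17, nat_lit 16, nat_lit 17, nat_lit 17, nat_lit 16, nat_lit 17, nat_lit 16, nat_lit 17, nat_lit 17, nat_lit 17, nat_lit 17, nat_lit 17, nat_lit 16, nat_lit 17]),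
  (nat_lit 157, [nat_lit 17, nat_lit 17, nat_lit 17, nat_lit 17, nat_lit 16, nat_lit 17, nat_lit 16, nat_lit 17, nat_lit 16, nat_lit 16, nat_lit 17, nat_lit 17, nat_lit 16, nat_lit 16, nat_lit 16, nat_lit 16, nat_lit 17, nat_lit 16, nat_lit 17, nat_lit 16, nat_lit 16]),
  (nat_lit 166, [nat_lit 16, nat_lit 17, nat_lit 17, nat_lit 17, nat_lit 16, nat_lit 16, nat_lit 17, nat_lit 16, nat_lit 16, nat_lit 16, nat_lit 16, nat_lit 17, nat_lit 16, nat_lit 16, nat_lit 16, nat_lit 17, nat_lit 17, nat_lit 16, nat_lit 17, nat_lit 16, nat_lit 17, nat_lit 17, nat_lit 16, nat_lit 17]),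
  (nat_lit 167, [nat_lit 17, nat_lit 17, nat_lit 17, nat_lit 16, nat_lit 16, nat_lit 17, nat_lit 16, nat_lit 16, nat_lit 16, nat_lit 16, nat_lit 17, nat_lit 17, nat_lit 17, nat_lit 16, nat_lit 16, nat_lit 16, nat_lit 16, nat_lit 17, nat_lit 17, nat_lit 17, nat_lit 17, nat_lit 16, nat_lit 17, nat_lit 17]),
  (nat_lit 174, [nat_lit 16, nat_lit 16, nat_lit 17, nat_lit 17, nat_lit 17, nat_lit 16, nat_lit 17, nat_lit 17, nat_lit 16, nat_lit 16, nat_lit 16, nat_lit 17, nat_lit 16, nat_lit 16, nat_lit 17, nat_lit 16, nat_lit 17, nat_lit 17, nat_lit 17, nat_lit 16, nat_lit 16, nat_lit 17, nat_lit 17, nat_lit 17]),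
  (nat_lit 175, [nat_lit 17, nat_lit 17, nat_lit 16, nat_lit 16, nat_lit 16, nat_lit 16, nat_lit 16, nat_lit 16, nat_lit 17, nat_lit 16, nat_lit 17, nat_lit 17, nat_lit 16, nat_lit 16, nat_lit 16, nat_lit 17, nat_lit 16, nat_lit 17, nat_lit 16, nat_lit 16]),
  (nat_lit 182, [nat_lit 17, nat_lit 16, nat_lit 16, nat_lit 16, nat_lit 16, nat_lit 17, nat_lit 17, nat_lit 16, nat_lit 17, nat_lit 16, nat_lit 17, nat_lit 17, nat_lit 16, nat_lit 16, nat_lit 17, nat_lit 16, nat_lit 16, nat_lit 16, nat_lit 17, nat_lit 17, nat_lit 16, nat_lit 16, nat_lit 17, nat_lit 17, nat_lit 17]),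
  (nat_lit 183, [nat_lit 16, nat_lit 17, nat_lit 17, nat_lit 17, nat_lit 17, nat_lit 16, nat_lit 16, nat_lit 16, nat_lit 16, nat_lit 16, nat_lit 16, nat_lit 17, nat_lit 16, nat_lit 17, nat_lit 17, nat_lit 16, nat_lit 17, nat_lit 17, nat_lit 17, nat_lit 17, nat_lit 17, nat_lit 16]),
  (nat_lit 188, [nat_lit 16, nat_lit 17, nat_lit 17, nat_lit 17, nat_lit 16, nat_lit 17, nat_lit 16, nat_lit 17, nat_lit 17, nat_lit 16, nat_lit 17, nat_lit 17, nat_lit 17, nat_lit 17, nat_lit 17, nat_lit 16, nat_lit 16, nat_lit 17, nat_lit 16, nat_lit 16, nat_lit 16, nat_lit 17, nat_lit 16, nat_lit 17, nat_lit 16, nat_lit 16, nat_lit 17]),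
  (nat_lit 189, [nat_lit 16, nat_lit 17, nat_lit 17, nat_lit 16, nat_lit 16, nat_lit 17, nat_lit 17, nat_lit 16, nat_lit 17, nat_lit 16, nat_lit 17, nat_lit 17, nat_lit 17, nat_lit 17, nat_lit 16, nat_lit 16, nat_lit 17, nat_lit 16, nat_lit 17, nat_lit 16, nat_lit 16, nat_lit 17, nat_lit 17, nat_lit 17]),
  (nat_lit 198, [nat_lit 17, nat_lit 17, nat_lit 16, nat_lit 17, nat_lit 17, nat_lit 17, nat_lit 16, nat_lit 17, nat_lit 17, nat_lit 16, nat_lit 17, nat_lit 17, nat_lit 16, nat_lit 17, nat_lit 16, nat_lit 16, nat_lit 16, nat_lit 16, nat_lit 17, nat_lit 17, nat_lit 17, nat_lit 16, nat_lit 17, nat_lit 17]),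
  (nat_lit 199, [nat_lit 16, nat_lit 17, nat_lit 16, nat_lit 17, nat_lit 17, nat_lit 17, nat_lit 17, nat_lit 16, nat_lit 17, nat_lit 16, nat_lit 16, nat_lit 16, nat_lit 16, nat_lit 17, nat_lit 17, nat_lit 16, nat_lit 16, nat_lit 16, nat_lit 17, nat_lit 16, nat_lit 17, nat_lit 17, nat_lit 16, nat_lit 17, nat_lit 17]),
  (nat_lit 206, [nat_lit 16, nat_lit 16, nat_lit 16, nat_lit 16, nat_lit 17, nat_lit 16, nat_lit 16, nat_lit 16, nat_lit 17, nat_lit 16, nat_lit 16, nat_lit 17, nat_lit 17, nat_lit 16, nat_lit 16, nat_lit 17, nat_lit 17, nat_lit 17, nat_lit 16, nat_lit 17, nat_lit 16, nat_lit 17, nat_lit 17, nat_lit 16, nat_lit 16, nat_lit 16, nat_lit 16]),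
  (nat_lit 207, [nat_lit 17, nat_lit 17, nat_lit 17, nat_lit 17, nat_lit 16, nat_lit 16, nat_lit 16, nat_lit 16, nat_lit 17, nat_lit 16, nat_lit 16, nat_lit 16, nat_lit 16, nat_lit 17, nat_lit 17, nat_lit 17, nat_lit 17]),
  (nat_lit 214, [nat_lit 17, nat_lit 16, nat_lit 17, nat_lit 16, nat_lit 17, nat_lit 17, nat_lit 16, nat_lit 17, nat_lit 16, nat_lit 17, nat_lit 17, nat_lit 17, nat_lit 16, nat_lit 17, nat_lit 16, nat_lit 17, nat_lit 16, nat_lit 16, nat_lit 16, nat_lit 17]),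
  (nat_lit 215, [nat_lit 17, nat_lit 17, nat_lit 17, nat_lit 16, nat_lit 16, nat_lit 17, nat_lit 17, nat_lit 17, nat_lit 16, nat_lit 16, nat_lit 16, nat_lit 17, nat_lit 17, nat_lit 16, nat_lit 16, nat_lit 17, nat_lit 17, nat_lit 16, nat_lit 17, nat_lit 17]),
  (nat_lit 220, [nat_lit 16, nat_lit 17, nat_lit 17, nat_lit 16, nat_lit 16, nat_lit 17, nat_lit 16, nat_lit 17, nat_lit 16, nat_lit 17, nat_lit 17, nat_lit 16, nat_lit 17, nat_lit 16, nat_lit 16, nat_lit 17, nat_lit 17, nat_lit 16, nat_lit 17, nat_lit 16, nat_lit 17, nat_lit 16, nat_lit 16]),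
  (nat_lit 221, [nat_lit 16, nat_lit 16, nat_lit 17, nat_lit 16, nat_lit 17, nat_lit 17, nat_lit 17, nat_lit 16, nat_lit 16, nat_lit 17, nat_lit 16, nat_lit 17, nat_lit 17, nat_lit 17, nat_lit 16, nat_lit 17, nat_lit 17, nat_lit 17, nat_lit 17, nat_lit 16, nat_lit 16, nat_lit 16, nat_lit 16]),
  (nat_lit 228, [nat_lit 17, nat_lit 17, nat_lit 16, nat_lit 16, nat_lit 17, nat_lit 17, nat_lit 16, nat_lit 17, nat_lit 16, nat_lit 17, nat_lit 17, nat_lit 17, nat_lit 17, nat_lit 16, nat_lit 16, nat_lit 17, nat_lit 17, nat_lit 17, nat_lit 16, nat_lit 16, nat_lit 16, nat_lit 17, nat_lit 16]),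
  (nat_lit 229, [nat_lit 17, nat_lit 16, nat_lit 17, nat_lit 17, nat_lit 17, nat_lit 17, nat_lit 16, nat_lit 16, nat_lit 16, nat_lit 17, nat_lit 17, nat_lit 17, nat_lit 17, nat_lit 16, nat_lit 17, nat_lit 17, nat_lit 16, nat_lit 16, nat_lit 16, nat_lit 16, nat_lit 16, nat_lit 16, nat_lit 17, nat_lit 17, nat_lit 16]),
  (nat_lit 236, [nat_lit 17, nat_lit 17, nat_lit 17, nat_lit 16, nat_lit 17, nat_lit 16, nat_lit 17, nat_lit 16, nat_lit 16, nat_lit 17, nat_lit 17, nat_lit 16, nat_lit 16, nat_lit 16, nat_lit 17, nat_lit 16, nat_lit 17, nat_lit 17, nat_lit 16, nat_lit 16, nat_lit 17, nat_lit 17, nat_lit 17, nat_lit 17, nat_lit 17]),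
  (nat_lit 237, [nat_lit 16, nat_lit 16, nat_lit 16, nat_lit 17, nat_lit 16, nat_lit 16, nat_lit 17, nat_lit 16, nat_lit 16, nat_lit 16, nat_lit 17, nat_lit 17, nat_lit 17, nat_lit 16, nat_lit 17, nat_lit 16, nat_lit 16, nat_lit 17, nat_lit 17, nat_lit 17, nat_lit 17, nat_lit 17, nat_lit 16, nat_lit 17, nat_lit 17, nat_lit 17, nat_lit 16]),
  (nat_lit 244, [nat_lit 16, nat_lit 17, nat_lit 17, nat_lit 16, nat_lit 16, nat_lit 16, nat_lit 17, nat_lit 17, nat_lit 16, nat_lit 17, nat_lit 17, nat_lit 17, nat_lit 17, nat_lit 16, nat_lit 17, nat_lit 17, nat_lit 16, nat_lit 17, nat_lit 16, nat_lit 17, nat_lit 17, nat_lit 16, nat_lit 16, nat_lit 17]),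
  (nat_lit 245, [nat_lit 17, nat_lit 16, nat_lit 17, nat_lit 17, nat_lit 17, nat_lit 16, nat_lit 17, nat_lit 17, nat_lit 16, nat_lit 17, nat_lit 16, nat_lit 17, nat_lit 16, nat_lit 16, nat_lit 16, nat_lit 16, nat_lit 17, nat_lit 16, nat_lit 16, nat_lit 17, nat_lit 17, nat_lit 17, nat_lit 16, nat_lit 17, nat_lit 16, nat_lit 17]),
  (nat_lit 254, [nat_lit 16, nat_lit 17, nat_lit 17, nat_lit 17, nat_lit 16, nat_lit 16, nat_lit 17, nat_lit 16, nat_lit 16, nat_lit 16, nat_lit 17, nat_lit 17, nat_lit 16, nat_lit 17, nat_lit 17, nat_lit 16, nat_lit 16, nat_lit 17, nat_lit 17, nat_lit 17, nat_lit 16, nat_lit 17, nat_lit 16]),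
  (nat_lit 255, [nat_lit 16, nat_lit 16, nat_lit 16, nat_lit 17, nat_lit 17, nat_lit 17, nat_lit 16, nat_lit 17, nat_lit 17, nat_lit 16, nat_lit 16, nat_lit 16, nat_lit 17, nat_lit 17, nat_lit 16, nat_lit 16, nat_lit 16, nat_lit 16, nat_lit 16, nat_lit 17, nat_lit 16, nat_lit 17]),
  (nat_lit 260, [nat_lit 16, nat_lit 17, nat_lit 17, nat_lit 17, nat_lit 16, nat_lit 16, nat_lit 16, nat_lit 17, nat_lit 17, nat_lit 16, nat_lit 16, nat_lit 17, nat_lit 16, nat_lit 16, nat_lit 17, nat_lit 16, nat_lit 17, nat_lit 16, nat_lit 17, nat_lit 17, nat_lit 17, nat_lit 17, nat_lit 17, nat_lit 16]),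
  (nat_lit 261, [nat_lit 16, nat_lit 17, nat_lit 16, nat_lit 16, nat_lit 16, nat_lit 17, nat_lit 17, nat_lit 16, nat_lit 17, nat_lit 16, nat_lit 17, nat_lit 16, nat_lit 17, nat_lit 17, nat_lit 17, nat_lit 16, nat_lit 17, nat_lit 16, nat_lit 17, nat_lit 16, nat_lit 17, nat_lit 16, nat_lit 16, nat_lit 17, nat_lit 17, nat_lit 16]),
  (nat_lit 268, [nat_lit 17, nat_lit 17, nat_lit 17, nat_lit 16, nat_lit 16, nat_lit 17, nat_lit 16, nat_lit 17, nat_lit 17, nat_lit 17, nat_lit 16, nat_lit 16, nat_lit 17, nat_lit 17, nat_lit 16, nat_lit 17, nat_lit 17, nat_lit 16, nat_lit 16, nat_lit 17, nat_lit 16, nat_lit 17, nat_lit 16]),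
  (nat_lit 269, [nat_lit 16, nat_lit 17, nat_lit 16, nat_lit 17, nat_lit 16, nat_lit 16, nat_lit 16, nat_lit 16, nat_lit 17, nat_lit 16, nat_lit 16, nat_lit 16, nat_lit 16, nat_lit 17, nat_lit 16, nat_lit 16, nat_lit 17, nat_lit 16, nat_lit 16, nat_lit 16, nat_lit 17, nat_lit 16, nat_lit 17, nat_lit 16, nat_lit 16, nat_lit 16, nat_lit 17]),
  (nat_lit 276, [nat_lit 17, nat_lit 17, nat_lit 17, nat_lit 17, nat_lit 17, nat_lit 17, nat_lit 16, nat_lit 17, nat_lit 16, nat_lit 16, nat_lit 17, nat_lit 16, nat_lit 17, nat_lit 17, nat_lit 16, nat_lit 16, nat_lit 17, nat_lit 17, nat_lit 17, nat_lit 16, nat_lit 17, nat_lit 17, nat_lit 16, nat_lit 17]),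
  (nat_lit 277, [nat_lit 17, nat_lit 16, nat_lit 17, nat_lit 16, nat_lit 16, nat_lit 17, nat_lit 16, nat_lit 17, nat_lit 17, nat_lit 16, nat_lit 17, nat_lit 17, nat_lit 17, nat_lit 17, nat_lit 17, nat_lit 16, nat_lit 16, nat_lit 17, nat_lit 16, nat_lit 17, nat_lit 16, nat_lit 16, nat_lit 17, nat_lit 17]),
  (nat_lit 286, [nat_lit 17, nat_lit 16, nat_lit 16, nat_lit 17, nat_lit 16, nat_lit 17, nat_lit 16, nat_lit 17, nat_lit 16, nat_lit 16, nat_lit 17, nat_lit 16, nat_lit 17, nat_lit 17, nat_lit 17, nat_lit 17, nat_lit 16, nat_lit 17, nat_lit 17, nat_lit 16, nat_lit 17, nat_lit 17, nat_lit 17, nat_lit 17]),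
  (nat_lit 287, [nat_lit 17, nat_lit 17, nat_lit 17, nat_lit 17, nat_lit 16, nat_lit 17, nat_lit 17, nat_lit 17, nat_lit 17, nat_lit 17, nat_lit 16, nat_lit 16, nat_lit 17, nat_lit 17, nat_lit 17, nat_lit 17, nat_lit 16, nat_lit 16, nat_lit 17, nat_lit 17, nat_lit 16, nat_lit 17, nat_lit 17, nat_lit 16, nat_lit 16, nat_lit 16]),
  (nat_lit 292, [nat_lit 17, nat_lit 17, nat_lit 16, nat_lit 16, nat_lit 17, nat_lit 17, nat_lit 16, nat_lit 16, nat_lit 16, nat_lit 16, nat_lit 16, nat_lit 17, nat_lit 16, nat_lit 17, nat_lit 17, nat_lit 17, nat_lit 16, nat_lit 16, nat_lit 17, nat_lit 17, nat_lit 17, nat_lit 16, nat_lit 17]),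
  (nat_lit 293, [nat_lit 16, nat_lit 16, nat_lit 17, nat_lit 17, nat_lit 17, nat_lit 16, nat_lit 16, nat_lit 17, nat_lit 16, nat_lit 16, nat_lit 17, nat_lit 16, nat_lit 16, nat_lit 17, nat_lit 17, nat_lit 16, nat_lit 17, nat_lit 16, nat_lit 16, nat_lit 16, nat_lit 16, nat_lit 17, nat_lit 16]),
  (nat_lit 300, [nat_lit 17, nat_lit 16, nat_lit 17, nat_lit 17, nat_lit 16, nat_lit 16, nat_lit 17, nat_lit 16, nat_lit 16, nat_lit 17, nat_lit 17, nat_lit 16, nat_lit 16, nat_lit 17, nat_lit 17, nat_lit 16, nat_lit 17, nat_lit 16, nat_lit 16, nat_lit 16, nat_lit 17, nat_lit 17]),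
  (nat_lit 301, [nat_lit 17, nat_lit 16, nat_lit 17, nat_lit 17, nat_lit 16, nat_lit 16, nat_lit 16, nat_lit 16, nat_lit 16, nat_lit 17, nat_lit 17, nat_lit 16, nat_lit 16, nat_lit 17, nat_lit 17, nat_lit 17, nat_lit 16, nat_lit 16, nat_lit 16, nat_lit 17, nat_lit 16, nat_lit 16]),
  (nat_lit 308, [nat_lit 17, nat_lit 17, nat_lit 16, nat_lit 16, nat_lit 16, nat_lit 17, nat_lit 17, nat_lit 16, nat_lit 17, nat_lit 16, nat_lit 16, nat_lit 17, nat_lit 17, nat_lit 17, nat_lit 16, nat_lit 17, nat_lit 17, nat_lit 16, nat_lit 17, nat_lit 16, nat_lit 16, nat_lit 16, nat_lit 16, nat_lit 16, nat_lit 16]),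
  (nat_lit 309, [nat_lit 16, nat_lit 17, nat_lit 17, nat_lit 16, nat_lit 17, nat_lit 16, nat_lit 16, nat_lit 16, nat_lit 17, nat_lit 17, nat_lit 17, nat_lit 17, nat_lit 16, nat_lit 16, nat_lit 17, nat_lit 17, nat_lit 17, nat_lit 17, nat_lit 16, nat_lit 17, nat_lit 16, nat_lit 17, nat_lit 16, nat_lit 16, nat_lit 17, nat_lit 16]),
  (nat_lit 318, [nat_lit 16, nat_lit 17, nat_lit 16, nat_lit 16, nat_lit 16, nat_lit 16, nat_lit 17, nat_lit 16, nat_lit 17, nat_lit 17, nat_lit 16, nat_lit 16, nat_lit 16, nat_lit 17, nat_lit 16, nat_lit 17, nat_lit 17, nat_lit 16, nat_lit 17, nat_lit 16, nat_lit 16, nat_lit 16, nat_lit 17, nat_lit 16]),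
  (nat_lit 319, [nat_lit 17, nat_lit 17, nat_lit 16, nat_lit 16, nat_lit 16, nat_lit 17, nat_lit 17, nat_lit 16, nat_lit 17, nat_lit 17, nat_lit 16, nat_lit 16, nat_lit 17, nat_lit 16, nat_lit 16, nat_lit 17, nat_lit 16, nat_lit 17, nat_lit 16, nat_lit 17, nat_lit 16, nat_lit 16]),
  (nat_lit 324, [nat_lit 16, nat_lit 17, nat_lit 17, nat_lit 16, nat_lit 17, nat_lit 16, nat_lit 16, nat_lit 16, nat_lit 17, nat_lit 17, nat_lit 16, nat_lit 17, nat_lit 17, nat_lit 16, nat_lit 16, nat_lit 17, nat_lit 16, nat_lit 16, nat_lit 16, nat_lit 16, nat_lit 17, nat_lit 16, nat_lit 17, nat_lit 17, nat_lit 17, nat_lit 17]),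
  (nat_lit 325, [nat_lit 16, nat_lit 16, nat_lit 16, nat_lit 17, nat_lit 16, nat_lit 16, nat_lit 16, nat_lit 17, nat_lit 17, nat_lit 16, nat_lit 16, nat_lit 16, nat_lit 16, nat_lit 16, nat_lit 17, nat_lit 17, nat_lit 16, nat_lit 16, nat_lit 16, nat_lit 17, nat_lit 16, nat_lit 16, nat_lit 16, nat_lit 16, nat_lit 16, nat_lit 16]),
  (nat_lit 332, [nat_lit 16, nat_lit 16, nat_lit 16, nat_lit 17, nat_lit 17, nat_lit 17, nat_lit 16, nat_lit 16, nat_lit 17, nat_lit 17, nat_lit 16, nat_lit 16, nat_lit 17, nat_lit 16, nat_lit 16, nat_lit 17, nat_lit 16, nat_lit 16, nat_lit 17, nat_lit 16, nat_lit 16, nat_lit 17]),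
  (nat_lit 333, [nat_lit 16, nat_lit 16, nat_lit 17, nat_lit 17, nat_lit 17, nat_lit 17, nat_lit 17, nat_lit 17, nat_lit 16, nat_lit 17, nat_lit 17, nat_lit 16, nat_lit 16, nat_lit 16, nat_lit 17, nat_lit 16, nat_lit 17, nat_lit 17, nat_lit 17, nat_lit 16, nat_lit 16]),
  (nat_lit 340, [nat_lit 16, nat_lit 17, nat_lit 16, nat_lit 16, nat_lit 17, nat_lit 17, nat_lit 16, nat_lit 17, nat_lit 17, nat_lit 17, nat_lit 16, nat_lit 16, nat_lit 16, nat_lit 17, nat_lit 16, nat_lit 16, nat_lit 16, nat_lit 17, nat_lit 16, nat_lit 17, nat_lit 16, nat_lit 17]),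
  (nat_lit 341, [nat_lit 17, nat_lit 17, nat_lit 16, nat_lit 17, nat_lit 16, nat_lit 17, nat_lit 17, nat_lit 17, nat_lit 17, nat_lit 17, nat_lit 17, nat_lit 16, nat_lit 16, nat_lit 16, nat_lit 16, nat_lit 16, nat_lit 16, nat_lit 17, nat_lit 17]),
  (nat_lit 350, [nat_lit 17, nat_lit 17, nat_lit 17, nat_lit 16, nat_lit 17, nat_lit 17, nat_lit 17, nat_lit 17, nat_lit 17, nat_lit 16, nat_lit 17, nat_lit 16, nat_lit 17, nat_lit 16, nat_lit 17, nat_lit 16, nat_lit 17, nat_lit 17, nat_lit 17, nat_lit 16, nat_lit 17, nat_lit 17, nat_lit 16, nat_lit 16]),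
  (nat_lit 351, [nat_lit 16, nat_lit 17, nat_lit 16, nat_lit 16, nat_lit 17, nat_lit 16, nat_lit 16, nat_lit 17, nat_lit 17, nat_lit 16, nat_lit 17, nat_lit 17, nat_lit 16, nat_lit 16, nat_lit 17, nat_lit 16, nat_lit 17, nat_lit 17, nat_lit 17, nat_lit 16, nat_lit 16, nat_lit 17]),
  (nat_lit 358, [nat_lit 17, nat_lit 17, nat_lit 17, nat_lit 16, nat_lit 16, nat_lit 17, nat_lit 17, nat_lit 16, nat_lit 16, nat_lit 17, nat_lit 16, nat_lit 16, nat_lit 16, nat_lit 16, nat_lit 16, nat_lit 16, nat_lit 17, nat_lit 17, nat_lit 16, nat_lit 17, nat_lit 16, nat_lit 16, nat_lit 17, nat_lit 16]),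
  (nat_lit 359, [nat_lit 17, nat_lit 16, nat_lit 16, nat_lit 16, nat_lit 17, nat_lit 16, nat_lit 17, nat_lit 17, nat_lit 17, nat_lit 16, nat_lit 16, nat_lit 17, nat_lit 17, nat_lit 17, nat_lit 16, nat_lit 17, nat_lit 16, nat_lit 17, nat_lit 17, nat_lit 16, nat_lit 17, nat_lit 16, nat_lit 16, nat_lit 16, nat_lit 17]),
  (nat_lit 366, [nat_lit 16, nat_lit 17, nat_lit 16, nat_lit 17, nat_lit 16, nat_lit 17, nat_lit 17, nat_lit 17, nat_lit 16, nat_lit 16, nat_lit 16, nat_lit 17, nat_lit 17, nat_lit 16, nat_lit 17, nat_lit 16, nat_lit 17, nat_lit 16, nat_lit 17, nat_lit 16, nat_lit 16, nat_lit 17, nat_lit 16, nat_lit 17]),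
  (nat_lit 367, [nat_lit 16, nat_lit 17, nat_lit 17, nat_lit 17, nat_lit 16, nat_lit 16, nat_lit 16, nat_lit 17, nat_lit 17, nat_lit 16, nat_lit 17, nat_lit 16, nat_lit 16, nat_lit 17, nat_lit 16, nat_lit 17, nat_lit 17, nat_lit 17, nat_lit 16, nat_lit 16]),
  (nat_lit 374, [nat_lit 17, nat_lit 17, nat_lit 16, nat_lit 16, nat_lit 17, nat_lit 17, nat_lit 17, nat_lit 17, nat_lit 16, nat_lit 17, nat_lit 17, nat_lit 17, nat_lit 16, nat_lit 16, nat_lit 16, nat_lit 16, nat_lit 16, nat_lit 17, nat_lit 16, nat_lit 17, nat_lit 16, nat_lit 17, nat_lit 17, nat_lit 17]),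
  (nat_lit 375, [nat_lit 16, nat_lit 17, nat_lit 16, nat_lit 17, nat_lit 17, nat_lit 17, nat_lit 16, nat_lit 17, nat_lit 16, nat_lit 16, nat_lit 16, nat_lit 17, nat_lit 16, nat_lit 17, nat_lit 16, nat_lit 17, nat_lit 16, nat_lit 17, nat_lit 16, nat_lit 17, nat_lit 17, nat_lit 16, nat_lit 16]),
  (nat_lit 380, [nat_lit 16, nat_lit 16, nat_lit 17, nat_lit 17, nat_lit 17, nat_lit 16, nat_lit 16, nat_lit 16, nat_lit 17, nat_lit 16, nat_lit 16, nat_lit 17, nat_lit 17, nat_lit 17, nat_lit 17, nat_lit 16, nat_lit 17, nat_lit 17, nat_lit 17, nat_lit 16, nat_lit 16, nat_lit 17, nat_lit 16, nat_lit 16]),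
  (nat_lit 381, [nat_lit 17, nat_lit 17, nat_lit 16, nat_lit 17, nat_lit 16, nat_lit 17, nat_lit 16, nat_lit 17, nat_lit 17, nat_lit 16, nat_lit 17, nat_lit 16, nat_lit 16, nat_lit 17, nat_lit 17, nat_lit 17, nat_lit 16, nat_lit 17, nat_lit 17, nat_lit 16, nat_lit 17, nat_lit 17, nat_lit 16, nat_lit 17, nat_lit 17]),
  (nat_lit 388, [nat_lit 17, nat_lit 17, nat_lit 17, nat_lit 16, nat_lit 16, nat_lit 16, nat_lit 17, nat_lit 16, nat_lit 17, nat_lit 17, nat_lit 16, nat_lit 17, nat_lit 16, nat_lit 16, nat_lit 17, nat_lit 17, nat_lit 16, nat_lit 16, nat_lit 17, nat_lit 17, nat_lit 17, nat_lit 16, nat_lit 16, nat_lit 16, nat_lit 16, nat_lit 17]),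
  (nat_lit 389, [nat_lit 16, nat_lit 16, nat_lit 16, nat_lit 17, nat_lit 16, nat_lit 16, nat_lit 16, nat_lit 17, nat_lit 17, nat_lit 16, nat_lit 17, nat_lit 17, nat_lit 16, nat_lit 17, nat_lit 16, nat_lit 16, nat_lit 16, nat_lit 16, nat_lit 17, nat_lit 16, nat_lit 17, nat_lit 17]),
  (nat_lit 396, [nat_lit 16, nat_lit 16, nat_lit 16, nat_lit 17, nat_lit 16, nat_lit 17, nat_lit 16, nat_lit 17, nat_lit 17, nat_lit 16, nat_lit 17, nat_lit 17, nat_lit 17, nat_lit 17, nat_lit 16, nat_lit 17, nat_lit 16, nat_lit 16, nat_lit 17, nat_lit 16, nat_lit 17, nat_lit 16, nat_lit 17, nat_lit 16]),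
  (nat_lit 397, [nat_lit 16, nat_lit 16, nat_lit 16, nat_lit 17, nat_lit 17, nat_lit 16, nat_lit 16, nat_lit 16, nat_lit 16, nat_lit 17, nat_lit 16, nat_lit 17, nat_lit 16, nat_lit 17, nat_lit 17, nat_lit 16, nat_lit 16, nat_lit 16, nat_lit 16, nat_lit 17, nat_lit 16, nat_lit 16, nat_lit 16, nat_lit 17, nat_lit 16, nat_lit 17]),
  (nat_lit 404, [nat_lit 17, nat_lit 16, nat_lit 16, nat_lit 17, nat_lit 17, nat_lit 17, nat_lit 17, nat_lit 17, nat_lit 16, nat_lit 16, nat_lit 16, nat_lit 17, nat_lit 17, nat_lit 16, nat_lit 16, nat_lit 17, nat_lit 16, nat_lit 16, nat_lit 17, nat_lit 16, nat_lit 17, nat_lit 16, nat_lit 17, nat_lit 16, nat_lit 17, nat_lit 17]),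
  (nat_lit 405, [nat_lit 17, nat_lit 16, nat_lit 17, nat_lit 17, nat_lit 17, nat_lit 16, nat_lit 17, nat_lit 16, nat_lit 16, nat_lit 16, nat_lit 17, nat_lit 17, nat_lit 16, nat_lit 17, nat_lit 16, nat_lit 16, nat_lit 17, nat_lit 17, nat_lit 16, nat_lit 16, nat_lit 17, nat_lit 16, nat_lit 17, nat_lit 17, nat_lit 16, nat_lit 17]),
  (nat_lit 414, [nat_lit 16, nat_lit 17, nat_lit 16, nat_lit 17, nat_lit 16, nat_lit 17, nat_lit 16, nat_lit 16, nat_lit 17, nat_lit 16, nat_lit 16, nat_lit 17, nat_lit 16, nat_lit 17, nat_lit 17, nat_lit 17, nat_lit 17, nat_lit 17, nat_lit 17, nat_lit 16, nat_lit 16, nat_lit 17, nat_lit 17, nat_lit 17]),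
  (nat_lit 415, [nat_lit 16, nat_lit 16, nat_lit 16, nat_lit 17, nat_lit 17, nat_lit 17, nat_lit 17, nat_lit 16, nat_lit 16, nat_lit 17, nat_lit 16, nat_lit 17, nat_lit 16, nat_lit 16, nat_lit 17, nat_lit 17, nat_lit 17, nat_lit 16, nat_lit 16, nat_lit 16, nat_lit 16]),
  (nat_lit 420, [nat_lit 16, nat_lit 16, nat_lit 16, nat_lit 17, nat_lit 17, nat_lit 17, nat_lit 17, nat_lit 16, nat_lit 16, nat_lit 16, nat_lit 17, nat_lit 16, nat_lit 16, nat_lit 16, nat_lit 17, nat_lit 17, nat_lit 16, nat_lit 16, nat_lit 16, nat_lit 17, nat_lit 16, nat_lit 16, nat_lit 16, nat_lit 17, nat_lit 16, nat_lit 17]),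
  (nat_lit 421, [nat_lit 17, nat_lit 16, nat_lit 16, nat_lit 17, nat_lit 17, nat_lit 17, nat_lit 16, nat_lit 16, nat_lit 17, nat_lit 17, nat_lit 16, nat_lit 16, nat_lit 16, nat_lit 17, nat_lit 17, nat_lit 16, nat_lit 16, nat_lit 16, nat_lit 16, nat_lit 17, nat_lit 17, nat_lit 17, nat_lit 17, nat_lit 16, nat_lit 16]),
  (nat_lit 428, [nat_lit 17, nat_lit 16, nat_lit 17, nat_lit 16, nat_lit 17, nat_lit 17, nat_lit 17, nat_lit 16, nat_lit 17, nat_lit 17, nat_lit 17, nat_lit 16, nat_lit 17, nat_lit 16, nat_lit 17, nat_lit 17, nat_lit 17, nat_lit 17, nat_lit 16, nat_lit 16, nat_lit 17, nat_lit 17, nat_lit 16, nat_lit 16, nat_lit 17, nat_lit 16]),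
  (nat_lit 429, [nat_lit 16, nat_lit 16, nat_lit 16, nat_lit 17, nat_lit 16, nat_lit 17, nat_lit 17, nat_lit 16, nat_lit 16, nat_lit 16, nat_lit 17, nat_lit 16, nat_lit 16, nat_lit 16, nat_lit 16, nat_lit 17, nat_lit 17, nat_lit 16, nat_lit 16, nat_lit 17, nat_lit 17, nat_lit 17, nat_lit 16]),
  (nat_lit 436, [nat_lit 16, nat_lit 17, nat_lit 17, nat_lit 16, nat_lit 17, nat_lit 16, nat_lit 16, nat_lit 16, nat_lit 17, nat_lit 17, nat_lit 16, nat_lit 17, nat_lit 16, nat_lit 16, nat_lit 17, nat_lit 16, nat_lit 17, nat_lit 16, nat_lit 16, nat_lit 17, nat_lit 17, nat_lit 17, nat_lit 17]),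
  (nat_lit 437, [nat_lit 16, nat_lit 17, nat_lit 16, nat_lit 16, nat_lit 16, nat_lit 16, nat_lit 17, nat_lit 17, nat_lit 17, nat_lit 17, nat_lit 16, nat_lit 17, nat_lit 17, nat_lit 16, nat_lit 16, nat_lit 16, nat_lit 16, nat_lit 17, nat_lit 17, nat_lit 16, nat_lit 17, nat_lit 16, nat_lit 16, nat_lit 16, nat_lit 17, nat_lit 17]),
  (nat_lit 446, [nat_lit 17, nat_lit 16, nat_lit 17, nat_lit 17, nat_lit 17, nat_lit 16, nat_lit 16, nat_lit 17, nat_lit 16, nat_lit 17, nat_lit 17, nat_lit 17, nat_lit 16, nat_lit 16, nat_lit 16, nat_lit 17, nat_lit 16, nat_lit 16, nat_lit 17, nat_lit 16, nat_lit 17, nat_lit 17, nat_lit 16, nat_lit 17]),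
  (nat_lit 447, [nat_lit 16, nat_lit 17, nat_lit 17, nat_lit 16, nat_lit 17, nat_lit 16, nat_lit 17, nat_lit 16, nat_lit 16, nat_lit 17, nat_lit 17, nat_lit 17, nat_lit 17, nat_lit 17, nat_lit 16, nat_lit 16, nat_lit 16, nat_lit 17, nat_lit 16, nat_lit 16, nat_lit 16, nat_lit 16, nat_lit 17, nat_lit 16]),
  (nat_lit 452, [nat_lit 16, nat_lit 17, nat_lit 16, nat_lit 16, nat_lit 16, nat_lit 16, nat_lit 16, nat_lit 16, nat_lit 17, nat_lit 16, nat_lit 17, nat_lit 17, nat_lit 16, nat_lit 17, nat_lit 17, nat_lit 16, nat_lit 17, nat_lit 16, nat_lit 17, nat_lit 16, nat_lit 17, nat_lit 16, nat_lit 16, nat_lit 17, nat_lit 16, nat_lit 17, nat_lit 16]),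
  (nat_lit 453, [nat_lit 16, nat_lit 17, nat_lit 16, nat_lit 17, nat_lit 16, nat_lit 16, nat_lit 17, nat_lit 16, nat_lit 17, nat_lit 16, nat_lit 16, nat_lit 16, nat_lit 17, nat_lit 16, nat_lit 16, nat_lit 17, nat_lit 16, nat_lit 16, nat_lit 16, nat_lit 17, nat_lit 16, nat_lit 16, nat_lit 16, nat_lit 17]),
  (nat_lit 460, [nat_lit 17, nat_lit 17, nat_lit 17, nat_lit 16, nat_lit 16, nat_lit 16, nat_lit 17, nat_lit 17, nat_lit 17, nat_lit 16, nat_lit 16, nat_lit 17, nat_lit 16, nat_lit 16, nat_lit 16, nat_lit 17, nat_lit 16, nat_lit 16, nat_lit 17, nat_lit 16, nat_lit 17, nat_lit 16, nat_lit 16]),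
  (nat_lit 461, [nat_lit 16, nat_lit 16, nat_lit 16, nat_lit 17, nat_lit 17, nat_lit 16, nat_lit 16, nat_lit 16, nat_lit 16, nat_lit 17, nat_lit 17, nat_lit 16, nat_lit 16, nat_lit 17, nat_lit 16, nat_lit 17, nat_lit 17, nat_lit 16, nat_lit 17, nat_lit 17, nat_lit 16, nat_lit 16, nat_lit 17, nat_lit 16, nat_lit 17]),
  (nat_lit 468, [nat_lit 16, nat_lit 16, nat_lit 17, nat_lit 16, nat_lit 17, nat_lit 17, nat_lit 16, nat_lit 16, nat_lit 16, nat_lit 17, nat_lit 17, nat_lit 16, nat_lit 17, nat_lit 16, nat_lit 17, nat_lit 16, nat_lit 17, nat_lit 16, nat_lit 17, nat_lit 17, nat_lit 16, nat_lit 17, nat_lit 16, nat_lit 16, nat_lit 17]),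
  (nat_lit 469, [nat_lit 17, nat_lit 17, nat_lit 17, nat_lit 16, nat_lit 16, nat_lit 17, nat_lit 17, nat_lit 17, nat_lit 17, nat_lit 16, nat_lit 16, nat_lit 17, nat_lit 16, nat_lit 17, nat_lit 16, nat_lit 16, nat_lit 17, nat_lit 16, nat_lit 16, nat_lit 16, nat_lit 17, nat_lit 16, nat_lit 17]),
  (nat_lit 478, [nat_lit 17, nat_lit 17, nat_lit 16, nat_lit 16, nat_lit 16, nat_lit 17, nat_lit 17, nat_lit 17, nat_lit 17, nat_lit 16, nat_lit 17, nat_lit 17, nat_lit 17, nat_lit 17, nat_lit 17, nat_lit 17, nat_lit 16, nat_lit 16, nat_lit 16, nat_lit 17, nat_lit 17, nat_lit 16, nat_lit 16, nat_lit 17, nat_lit 17]),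
  (nat_lit 479, [nat_lit 17, nat_lit 16, nat_lit 16, nat_lit 16, nat_lit 16, nat_lit 16, nat_lit 17, nat_lit 16, nat_lit 17, nat_lit 16, nat_lit 16, nat_lit 16, nat_lit 16, nat_lit 17, nat_lit 17, nat_lit 16, nat_lit 17, nat_lit 17, nat_lit 17, nat_lit 17, nat_lit 16, nat_lit 16, nat_lit 16, nat_lit 16, nat_lit 16, nat_lit 16, nat_lit 17]),
  (nat_lit 486, [nat_lit 17, nat_lit 17, nat_lit 17, nat_lit 17, nat_lit 16, nat_lit 16, nat_lit 16, nat_lit 17, nat_lit 16, nat_lit 17, nat_lit 17, nat_lit 17, nat_lit 17, nat_lit 16, nat_lit 17, nat_lit 17, nat_lit 17, nat_lit 16, nat_lit 17, nat_lit 17, nat_lit 16, nat_lit 16, nat_lit 16, nat_lit 16, nat_lit 16, nat_lit 17, nat_lit 17]),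
  (nat_lit 487, [nat_lit 17, nat_lit 16, nat_lit 16, nat_lit 17, nat_lit 17, nat_lit 17, nat_lit 16, nat_lit 17, nat_lit 16, nat_lit 16, nat_lit 17, nat_lit 16, nat_lit 16, nat_lit 17, nat_lit 17, nat_lit 16, nat_lit 17, nat_lit 17, nat_lit 16, nat_lit 16, nat_lit 16, nat_lit 16, nat_lit 17, nat_lit 17, nat_lit 16, nat_lit 17]),
  (nat_lit 494, [nat_lit 17, nat_lit 17, nat_lit 17, nat_lit 17, nat_lit 16, nat_lit 16, nat_lit 17, nat_lit 16, nat_lit 17, nat_lit 17, nat_lit 17, nat_lit 17, nat_lit 17, nat_lit 16, nat_lit 16, nat_lit 16, nat_lit 17, nat_lit 17, nat_lit 17, nat_lit 16, nat_lit 17, nat_lit 16, nat_lit 16]),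
  (nat_lit 495, [nat_lit 17, nat_lit 17, nat_lit 17, nat_lit 16, nat_lit 16, nat_lit 17, nat_lit 17, nat_lit 16, nat_lit 16, nat_lit 17, nat_lit 17, nat_lit 16, nat_lit 17, nat_lit 17, nat_lit 16, nat_lit 16, nat_lit 17, nat_lit 17, nat_lit 17, nat_lit 16, nat_lit 16, nat_lit 17, nat_lit 17, nat_lit 16, nat_lit 17]),
  (nat_lit 502, [nat_lit 16, nat_lit 16, nat_lit 17, nat_lit 16, nat_lit 17, nat_lit 16, nat_lit 17, nat_lit 16, nat_lit 17, nat_lit 17, nat_lit 17, nat_lit 17, nat_lit 16, nat_lit 17, nat_lit 17, nat_lit 16, nat_lit 17, nat_lit 17, nat_lit 17, nat_lit 16, nat_lit 17, nat_lit 16, nat_lit 17, nat_lit 17, nat_lit 17]),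
  (nat_lit 503, [nat_lit 17, nat_lit 17, nat_lit 17, nat_lit 16, nat_lit 17, nat_lit 16, nat_lit 17, nat_lit 17, nat_lit 16, nat_lit 16, nat_lit 16, nat_lit 17, nat_lit 17, nat_lit 16, nat_lit 17, nat_lit 16, nat_lit 17, nat_lit 16, nat_lit 17, nat_lit 16, nat_lit 16, nat_lit 16, nat_lit 16]),
  (nat_lit 508, [nat_lit 16, nat_lit 16, nat_lit 17, nat_lit 16, nat_lit 17, nat_lit 17, nat_lit 17, nat_lit 17, nat_lit 17, nat_lit 16, nat_lit 16, nat_lit 16, nat_lit 17, nat_lit 16, nat_lit 17, nat_lit 17, nat_lit 17, nat_lit 16, nat_lit 16, nat_lit 17, nat_lit 17]),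
  (nat_lit 509, [nat_lit 16, nat_lit 17, nat_lit 16, nat_lit 17, nat_lit 16, nat_lit 17, nat_lit 16, nat_lit 16, nat_lit 17, nat_lit 17, nat_lit 17, nat_lit 17, nat_lit 16, nat_lit 17, nat_lit 17, nat_lit 16, nat_lit 16, nat_lit 17, nat_lit 17, nat_lit 17, nat_lit 16, nat_lit 16, nat_lit 16, nat_lit 17])]
def LV3 : List (ℕ × List ℕ) := [(nat_lit 8, [nat_lit 16, nat_lit 16, nat_lit 16, nat_lit 17, nat_lit 17, nat_lit 17, nat_lit 17, nat_lit 16, nat_lit 16, nat_lit 17, nat_lit 16, nat_lit 17, nat_lit 17, nat_lit 17, nat_lit 17, nat_lit 17, nat_lit 16, nat_lit 17, nat_lit 17, nat_lit 16, nat_lit 16]),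
  (nat_lit 9, [nat_lit 16, nat_lit 16, nat_lit 16, nat_lit 17, nat_lit 16, nat_lit 17, nat_lit 17, nat_lit 16, nat_lit 16, nat_lit 17, nat_lit 17, nat_lit 17, nat_lit 16, nat_lit 16, nat_lit 16, nat_lit 17, nat_lit 16, nat_lit 16, nat_lit 17, nat_lit 17, nat_lit 16, nat_lit 16, nat_lit 16, nat_lit 17, nat_lit 17]),
  (nat_lit 16, [nat_lit 17, nat_lit 16, nat_lit 16, nat_lit 17, nat_lit 16, nat_lit 16, nat_lit 16, nat_lit 17, nat_lit 16, nat_lit 17, nat_lit 16, nat_lit 17, nat_lit 16, nat_lit 17, nat_lit 16, nat_lit 16, nat_lit 17, nat_lit 16, nat_lit 17, nat_lit 16, nat_lit 17, nat_lit 16, nat_lit 16, nat_lit 16, nat_lit 17]),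
  (nat_lit 17, [nat_lit 17, nat_lit 17, nat_lit 16, nat_lit 16, nat_lit 16, nat_lit 17, nat_lit 17, nat_lit 16, nat_lit 16, nat_lit 16, nat_lit 16, nat_lit 16, nat_lit 17, nat_lit 16, nat_lit 17, nat_lit 16, nat_lit 16, nat_lit 17, nat_lit 16, nat_lit 17, nat_lit 16, nat_lit 16, nat_lit 17, nat_lit 16, nat_lit 16]),
  (nat_lit 32, [nat_lit 17, nat_lit 16, nat_lit 17, nat_lit 16, nat_lit 17, nat_lit 17, nat_lit 16, nat_lit 17, nat_lit 16, nat_lit 17, nat_lit 16, nat_lit 17, nat_lit 17, nat_lit 16, nat_lit 17, nat_lit 17, nat_lit 17, nat_lit 16, nat_lit 17, nat_lit 16, nat_lit 16, nat_lit 17, nat_lit 16, nat_lit 16]),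
  (nat_lit 33, [nat_lit 16, nat_lit 17, nat_lit 17, nat_lit 17, nat_lit 16, nat_lit 16, nat_lit 17, nat_lit 17, nat_lit 17, nat_lit 17, nat_lit 16, nat_lit 17, nat_lit 16, nat_lit 17, nat_lit 17, nat_lit 16, nat_lit 16, nat_lit 16, nat_lit 17, nat_lit 16, nat_lit 17, nat_lit 17, nat_lit 16, nat_lit 16, nat_lit 17, nat_lit 17]),
  (nat_lit 40, [nat_lit 16, nat_lit 16, nat_lit 17, nat_lit 17, nat_lit 16, nat_lit 16, nat_lit 17, nat_lit 16, nat_lit 17, nat_lit 17, nat_lit 17, nat_lit 16, nat_lit 17, nat_lit 16, nat_lit 16, nat_lit 17, nat_lit 17, nat_lit 16, nat_lit 16, nat_lit 16, nat_lit 17, nat_lit 17, nat_lit 16, nat_lit 16, nat_lit 16]),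
  (nat_lit 41, [nat_lit 17, nat_lit 17, nat_lit 17, nat_lit 17, nat_lit 16, nat_lit 16, nat_lit 17, nat_lit 16, nat_lit 16, nat_lit 17, nat_lit 16, nat_lit 17, nat_lit 16, nat_lit 17, nat_lit 17, nat_lit 17, nat_lit 16, nat_lit 16, nat_lit 17, nat_lit 16, nat_lit 16, nat_lit 16, nat_lit 17, nat_lit 17]),
  (nat_lit 48, [nat_lit 16, nat_lit 16, nat_lit 17, nat_lit 17, nat_lit 16, nat_lit 16, nat_lit 17, nat_lit 16, nat_lit 17, nat_lit 16, nat_lit 16, nat_lit 17, nat_lit 16, nat_lit 16, nat_lit 16, nat_lit 17, nat_lit 17, nat_lit 16, nat_lit 17, nat_lit 17, nat_lit 16, nat_lit 16, nat_lit 17, nat_lit 17, nat_lit 17]),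
  (nat_lit 49, [nat_lit 17, nat_lit 16, nat_lit 16, nat_lit 17, nat_lit 16, nat_lit 17, nat_lit 17, nat_lit 16, nat_lit 16, nat_lit 16, nat_lit 17, nat_lit 16, nat_lit 16, nat_lit 16, nat_lit 17, nat_lit 16, nat_lit 17, nat_lit 16, nat_lit 16, nat_lit 17, nat_lit 17, nat_lit 16, nat_lit 17, nat_lit 17, nat_lit 16, nat_lit 17, nat_lit 17]),
  (nat_lit 64, [nat_lit 16, nat_lit 16, nat_lit 17, nat_lit 16, nat_lit 16, nat_lit 16, nat_lit 17, nat_lit 17, nat_lit 17, nat_lit 16, nat_lit 17, nat_lit 17, nat_lit 16, nat_lit 17, nat_lit 16, nat_lit 16, nat_lit 17, nat_lit 16, nat_lit 17, nat_lit 16, nat_lit 16, nat_lit 16, nat_lit 17, nat_lit 16, nat_lit 17, nat_lit 17]),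
  (nat_lit 65, [nat_lit 17, nat_lit 17, nat_lit 17, nat_lit 16, nat_lit 16, nat_lit 17, nat_lit 16, nat_lit 17, nat_lit 17, nat_lit 16, nat_lit 16, nat_lit 17, nat_lit 17, nat_lit 16, nat_lit 16, nat_lit 16, nat_lit 16, nat_lit 16, nat_lit 17, nat_lit 17, nat_lit 16, nat_lit 16, nat_lit 16, nat_lit 16, nat_lit 17]),
  (nat_lit 72, [nat_lit 17, nat_lit 16, nat_lit 17, nat_lit 17, nat_lit 17, nat_lit 17, nat_lit 16, nat_lit 16, nat_lit 16, nat_lit 16, nat_lit 17, nat_lit 17, nat_lit 17, nat_lit 17, nat_lit 17, nat_lit 17, nat_lit 16, nat_lit 17, nat_lit 16, nat_lit 17, nat_lit 16, nat_lit 16, nat_lit 16]),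
  (nat_lit 73, [nat_lit 17, nat_lit 17, nat_lit 17, nat_lit 16, nat_lit 16, nat_lit 16, nat_lit 17, nat_lit 16, nat_lit 17, nat_lit 16, nat_lit 16, nat_lit 17, nat_lit 16, nat_lit 17, nat_lit 17, nat_lit 17, nat_lit 16, nat_lit 17, nat_lit 16, nat_lit 17, nat_lit 16, nat_lit 16]),
  (nat_lit 80, [nat_lit 16, nat_lit 16, nat_lit 17, nat_lit 17, nat_lit 16, nat_lit 16, nat_lit 16, nat_lit 17, nat_lit 17, nat_lit 17, nat_lit 16, nat_lit 16, nat_lit 17, nat_lit 16, nat_lit 17, nat_lit 17, nat_lit 16, nat_lit 16, nat_lit 17, nat_lit 16, nat_lit 16, nat_lit 17, nat_lit 17, nat_lit 17, nat_lit 17]),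
  (nat_lit 81, [nat_lit 16, nat_lit 17, nat_lit 17, nat_lit 17, nat_lit 16, nat_lit 17, nat_lit 17, nat_lit 17, nat_lit 16, nat_lit 17, nat_lit 16, nat_lit 16, nat_lit 16, nat_lit 17, nat_lit 16, nat_lit 17, nat_lit 17, nat_lit 17, nat_lit 16, nat_lit 16, nat_lit 17, nat_lit 17, nat_lit 16, nat_lit 17]),
  (nat_lit 120, [nat_lit 16, nat_lit 16, nat_lit 16, nat_lit 17, nat_lit 17, nat_lit 16, nat_lit 16, nat_lit 17, nat_lit 16, nat_lit 17, nat_lit 17, nat_lit 17, nat_lit 17, nat_lit 16, nat_lit 17, nat_lit 16, nat_lit 16, nat_lit 17, nat_lit 16, nat_lit 17, nat_lit 17, nat_lit 16]),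
  (nat_lit 121, [nat_lit 17, nat_lit 16, nat_lit 17, nat_lit 16, nat_lit 16, nat_lit 17, nat_lit 17, nat_lit 17, nat_lit 16, nat_lit 16, nat_lit 17, nat_lit 16, nat_lit 16, nat_lit 16, nat_lit 16, nat_lit 17, nat_lit 17, nat_lit 17, nat_lit 16, nat_lit 16, nat_lit 16, nat_lit 17, nat_lit 17, nat_lit 16, nat_lit 17]),
  (nat_lit 152, [nat_lit 16, nat_lit 17, nat_lit 16, nat_lit 16, nat_lit 16, nat_lit 16, nat_lit 16, nat_lit 16, nat_lit 17, nat_lit 16, nat_lit 16, nat_lit 17, nat_lit 16, nat_lit 17, nat_lit 16, nat_lit 17, nat_lit 17, nat_lit 17, nat_lit 17, nat_lit 16, nat_lit 16, nat_lit 17, nat_lit 17, nat_lit 16, nat_lit 17]),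
  (nat_lit 153, [nat_lit 17, nat_lit 16, nat_lit 17, nat_lit 16, nat_lit 17, nat_lit 17, nat_lit 16, nat_lit 16, nat_lit 17, nat_lit 16, nat_lit 16, nat_lit 17, nat_lit 16, nat_lit 17, nat_lit 17, nat_lit 16, nat_lit 17, nat_lit 17, nat_lit 17, nat_lit 17, nat_lit 17, nat_lit 17, nat_lit 16]),
  (nat_lit 184, [nat_lit 17, nat_lit 17, nat_lit 16, nat_lit 17, nat_lit 16, nat_lit 16, nat_lit 16, nat_lit 16, nat_lit 16, nat_lit 17, nat_lit 16, nat_lit 16, nat_lit 16, nat_lit 17, nat_lit 17, nat_lit 17, nat_lit 16, nat_lit 17, nat_lit 16, nat_lit 17, nat_lit 17, nat_lit 16, nat_lit 16, nat_lit 17, nat_lit 17, nat_lit 17]),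
  (nat_lit 185, [nat_lit 16, nat_lit 16, nat_lit 16, nat_lit 16, nat_lit 17, nat_lit 16, nat_lit 16, nat_lit 16, nat_lit 17, nat_lit 16, nat_lit 16, nat_lit 16, nat_lit 16, nat_lit 17, nat_lit 17, nat_lit 17, nat_lit 17, nat_lit 17, nat_lit 16, nat_lit 17, nat_lit 17, nat_lit 16, nat_lit 16, nat_lit 17, nat_lit 16]),
  (nat_lit 216, [nat_lit 16, nat_lit 16, nat_lit 17, nat_lit 16, nat_lit 17, nat_lit 17, nat_lit 16, nat_lit 17, nat_lit 17, nat_lit 16, nat_lit 17, nat_lit 17, nat_lit 17, nat_lit 17, nat_lit 17, nat_lit 17, nat_lit 16, nat_lit 17, nat_lit 16, nat_lit 16, nat_lit 17, nat_lit 16, nat_lit 16]),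
  (nat_lit 217, [nat_lit 16, nat_lit 17, nat_lit 16, nat_lit 17, nat_lit 17, nat_lit 17, nat_lit 17, nat_lit 16, nat_lit 17, nat_lit 16, nat_lit 17, nat_lit 17, nat_lit 16, nat_lit 17, nat_lit 17, nat_lit 16, nat_lit 17, nat_lit 17, nat_lit 17, nat_lit 17, nat_lit 16, nat_lit 16, nat_lit 17, nat_lit 16, nat_lit 17]),
  (nat_lit 224, [nat_lit 17, nat_lit 16, nat_lit 17, nat_lit 16, nat_lit 16, nat_lit 17, nat_lit 16, nat_lit 17, nat_lit 17, nat_lit 17, nat_lit 17, nat_lit 17, nat_lit 16, nat_lit 17, nat_lit 16, nat_lit 16, nat_lit 16, nat_lit 16, nat_lit 17, nat_lit 17, nat_lit 16, nat_lit 17, nat_lit 16, nat_lit 17, nat_lit 16, nat_lit 16]),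
  (nat_lit 225, [nat_lit 16, nat_lit 16, nat_lit 17, nat_lit 17, nat_lit 17, nat_lit 16, nat_lit 17, nat_lit 16, nat_lit 16, nat_lit 17, nat_lit 17, nat_lit 17, nat_lit 17, nat_lit 17, nat_lit 17, nat_lit 16, nat_lit 16, nat_lit 16, nat_lit 17, nat_lit 16, nat_lit 16, nat_lit 17, nat_lit 17]),
  (nat_lit 232, [nat_lit 16, nat_lit 17, nat_lit 16, nat_lit 17, nat_lit 17, nat_lit 17, nat_lit 17, nat_lit 17, nat_lit 16, nat_lit 16, nat_lit 17, nat_lit 17, nat_lit 17, nat_lit 17, nat_lit 17, nat_lit 17, nat_lit 16, nat_lit 17, nat_lit 16, nat_lit 16, nat_lit 16, nat_lit 16, nat_lit 16, nat_lit 17]),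
  (nat_lit 233, [nat_lit 17, nat_lit 16, nat_lit 16, nat_lit 16, nat_lit 17, nat_lit 17, nat_lit 16, nat_lit 16, nat_lit 17, nat_lit 16, nat_lit 17, nat_lit 17, nat_lit 16, nat_lit 17, nat_lit 17, nat_lit 16, nat_lit 17, nat_lit 17, nat_lit 17, nat_lit 16, nat_lit 17, nat_lit 16, nat_lit 16]),
  (nat_lit 240, [nat_lit 16, nat_lit 16, nat_lit 16, nat_lit 17, nat_lit 17, nat_lit 17, nat_lit 17, nat_lit 16, nat_lit 16, nat_lit 16, nat_lit 17, nat_lit 16, nat_lit 16, nat_lit 16, nat_lit 16, nat_lit 16, nat_lit 17, nat_lit 16, nat_lit 17, nat_lit 17, nat_lit 17, nat_lit 16, nat_lit 17, nat_lit 16, nat_lit 16, nat_lit 16]),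
  (nat_lit 241, [nat_lit 16, nat_lit 17, nat_lit 17, nat_lit 17, nat_lit 17, nat_lit 17, nat_lit 16, nat_lit 17, nat_lit 16, nat_lit 16, nat_lit 16, nat_lit 17, nat_lit 17, nat_lit 16, nat_lit 16, nat_lit 17, nat_lit 17, nat_lit 17, nat_lit 17, nat_lit 16, nat_lit 16]),
  (nat_lit 256, [nat_lit 17, nat_lit 16, nat_lit 17, nat_lit 16, nat_lit 16, nat_lit 17, nat_lit 16, nat_lit 16, nat_lit 17, nat_lit 16, nat_lit 17, nat_lit 17, nat_lit 16, nat_lit 16, nat_lit 17, nat_lit 17, nat_lit 16, nat_lit 17, nat_lit 16, nat_lit 16, nat_lit 16, nat_lit 17, nat_lit 17, nat_lit 17, nat_lit 17, nat_lit 16, nat_lit 17]),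
  (nat_lit 257, [nat_lit 16, nat_lit 16, nat_lit 16, nat_lit 17, nat_lit 17, nat_lit 17, nat_lit 16, nat_lit 17, nat_lit 16, nat_lit 17, nat_lit 16, nat_lit 16, nat_lit 16, nat_lit 16, nat_lit 17, nat_lit 16, nat_lit 16, nat_lit 17, nat_lit 17, nat_lit 16, nat_lit 17, nat_lit 17]),
  (nat_lit 264, [nat_lit 17, nat_lit 17, nat_lit 16, nat_lit 17, nat_lit 16, nat_lit 17, nat_lit 16, nat_lit 17, nat_lit 17, nat_lit 17, nat_lit 16, nat_lit 17, nat_lit 16, nat_lit 17, nat_lit 16, nat_lit 17, nat_lit 17, nat_lit 16, nat_lit 17, nat_lit 17, nat_lit 16, nat_lit 17, nat_lit 16, nat_lit 16, nat_lit 17, nat_lit 16]),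
  (nat_lit 265, [nat_lit 16, nat_lit 16, nat_lit 17, nat_lit 17, nat_lit 16, nat_lit 17, nat_lit 16, nat_lit 16, nat_lit 16, nat_lit 17, nat_lit 16, nat_lit 17, nat_lit 17, nat_lit 17, nat_lit 16, nat_lit 17, nat_lit 17, nat_lit 17, nat_lit 16, nat_lit 16, nat_lit 17, nat_lit 17, nat_lit 17, nat_lit 17, nat_lit 17, nat_lit 17]),
  (nat_lit 272, [nat_lit 16, nat_lit 17, nat_lit 16, nat_lit 16, nat_lit 16, nat_lit 17, nat_lit 17, nat_lit 16, nat_lit 17, nat_lit 17, nat_lit 17, nat_lit 16, nat_lit 16, nat_lit 16, nat_lit 17, nat_lit 16, nat_lit 16, nat_lit 17, nat_lit 17, nat_lit 16, nat_lit 17, nat_lit 17, nat_lit 17, nat_lit 16, nat_lit 17]),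
  (nat_lit 273, [nat_lit 16, nat_lit 17, nat_lit 16, nat_lit 17, nat_lit 16, nat_lit 17, nat_lit 16, nat_lit 16, nat_lit 17, nat_lit 16, nat_lit 17, nat_lit 17, nat_lit 16, nat_lit 16, nat_lit 17, nat_lit 16, nat_lit 16, nat_lit 16, nat_lit 17, nat_lit 16, nat_lit 16, nat_lit 17, nat_lit 16, nat_lit 17, nat_lit 16]),
  (nat_lit 288, [nat_lit 16, nat_lit 16, nat_lit 16, nat_lit 17, nat_lit 16, nat_lit 16, nat_lit 16, nat_lit 17, nat_lit 17, nat_lit 17, nat_lit 17, nat_lit 16, nat_lit 16, nat_lit 17, nat_lit 17, nat_lit 16, nat_lit 17, nat_lit 17, nat_lit 16, nat_lit 16, nat_lit 17, nat_lit 16]),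
  (nat_lit 289, [nat_lit 16, nat_lit 16, nat_lit 16, nat_lit 16, nat_lit 17, nat_lit 17, nat_lit 16, nat_lit 17, nat_lit 16, nat_lit 16, nat_lit 17, nat_lit 17, nat_lit 17, nat_lit 16, nat_lit 17, nat_lit 17, nat_lit 16, nat_lit 17, nat_lit 16, nat_lit 16, nat_lit 16, nat_lit 16, nat_lit 16, nat_lit 17, nat_lit 17]),
  (nat_lit 296, [nat_lit 16, nat_lit 17, nat_lit 17, nat_lit 17, nat_lit 16, nat_lit 17, nat_lit 17, nat_lit 16, nat_lit 17, nat_lit 16, nat_lit 16, nat_lit 16, nat_lit 16, nat_lit 16, nat_lit 17, nat_lit 16, nat_lit 17, nat_lit 17, nat_lit 16, nat_lit 16, nat_lit 16, nat_lit 17, nat_lit 17, nat_lit 16, nat_lit 16, nat_lit 16]),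
  (nat_lit 297, [nat_lit 17, nat_lit 16, nat_lit 16, nat_lit 16, nat_lit 16, nat_lit 17, nat_lit 16, nat_lit 16, nat_lit 17, nat_lit 16, nat_lit 17, nat_lit 17, nat_lit 16, nat_lit 17, nat_lit 16, nat_lit 16, nat_lit 17, nat_lit 16, nat_lit 17, nat_lit 16, nat_lit 16, nat_lit 17, nat_lit 17, nat_lit 17]),
  (nat_lit 304, [nat_lit 17, nat_lit 17, nat_lit 17, nat_lit 16, nat_lit 16, nat_lit 17, nat_lit 17, nat_lit 16, nat_lit 16, nat_lit 16, nat_lit 17, nat_lit 16, nat_lit 16, nat_lit 16, nat_lit 16, nat_lit 16, nat_lit 17, nat_lit 17, nat_lit 17, nat_lit 17, nat_lit 16, nat_lit 17, nat_lit 17, nat_lit 16, nat_lit 16]),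
  (nat_lit 305, [nat_lit 16, nat_lit 16, nat_lit 17, nat_lit 17, nat_lit 16, nat_lit 16, nat_lit 16, nat_lit 17, nat_lit 16, nat_lit 17, nat_lit 17, nat_lit 16, nat_lit 16, nat_lit 17, nat_lit 17, nat_lit 17, nat_lit 17, nat_lit 16, nat_lit 16, nat_lit 16, nat_lit 17, nat_lit 17, nat_lit 16, nat_lit 17]),
  (nat_lit 320, [nat_lit 16, nat_lit 16, nat_lit 17, nat_lit 16, nat_lit 16, nat_lit 17, nat_lit 16, nat_lit 17, nat_lit 16, nat_lit 16, nat_lit 17, nat_lit 17, nat_lit 17, nat_lit 16, nat_lit 17, nat_lit 16, nat_lit 17, nat_lit 17, nat_lit 17, nat_lit 17, nat_lit 16, nat_lit 17, nat_lit 17, nat_lit 17, nat_lit 17]),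
  (nat_lit 321, [nat_lit 16, nat_lit 16, nat_lit 17, nat_lit 17, nat_lit 16, nat_lit 17, nat_lit 16, nat_lit 16, nat_lit 16, nat_lit 17, nat_lit 17, nat_lit 16, nat_lit 17, nat_lit 17, nat_lit 16, nat_lit 17, nat_lit 17, nat_lit 17, nat_lit 16, nat_lit 16, nat_lit 16, nat_lit 16, nat_lit 17, nat_lit 17, nat_lit 16, nat_lit 17, nat_lit 17]),
  (nat_lit 328, [nat_lit 17, nat_lit 17, nat_lit 16, nat_lit 17, nat_lit 17, nat_lit 17, nat_lit 17, nat_lit 16, nat_lit 17, nat_lit 16, nat_lit 17, nat_lit 17, nat_lit 16, nat_lit 17, nat_lit 17, nat_lit 17, nat_lit 17, nat_lit 16, nat_lit 16, nat_lit 17, nat_lit 17, nat_lit 16, nat_lit 17, nat_lit 17, nat_lit 17]),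
  (nat_lit 329, [nat_lit 16, nat_lit 17, nat_lit 16, nat_lit 16, nat_lit 17, nat_lit 16, nat_lit 17, nat_lit 17, nat_lit 16, nat_lit 16, nat_lit 17, nat_lit 16, nat_lit 16, nat_lit 17, nat_lit 16, nat_lit 17, nat_lit 16, nat_lit 17, nat_lit 16, nat_lit 16, nat_lit 17, nat_lit 17, nat_lit 16, nat_lit 16, nat_lit 16, nat_lit 17, nat_lit 17]),
  (nat_lit 336, [nat_lit 17, nat_lit 16, nat_lit 16, nat_lit 17, nat_lit 17, nat_lit 16, nat_lit 16, nat_lit 17, nat_lit 16, nat_lit 16, nat_lit 16, nat_lit 17, nat_lit 17, nat_lit 16, nat_lit 16, nat_lit 17, nat_lit 16, nat_lit 16, nat_lit 16, nat_lit 16, nat_lit 16, nat_lit 17, nat_lit 17, nat_lit 16]),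
  (nat_lit 337, [nat_lit 16, nat_lit 16, nat_lit 16, nat_lit 17, nat_lit 16, nat_lit 17, nat_lit 17, nat_lit 16, nat_lit 17, nat_lit 16, nat_lit 16, nat_lit 16, nat_lit 17, nat_lit 16, nat_lit 16, nat_lit 17, nat_lit 16, nat_lit 16, nat_lit 17, nat_lit 16, nat_lit 16, nat_lit 17, nat_lit 17, nat_lit 16, nat_lit 16, nat_lit 16, nat_lit 17]),
  (nat_lit 376, [nat_lit 17, nat_lit 16, nat_lit 16, nat_lit 17, nat_lit 17, nat_lit 17, nat_lit 17, nat_lit 16, nat_lit 17, nat_lit 17, nat_lit 17, nat_lit 16, nat_lit 16, nat_lit 17, nat_lit 16]),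
  (nat_lit 377, [nat_lit 16, nat_lit 16, nat_lit 16, nat_lit 17, nat_lit 16, nat_lit 17, nat_lit 17, nat_lit 16, nat_lit 16, nat_lit 16, nat_lit 16, nat_lit 17, nat_lit 17, nat_lit 16, nat_lit 17, nat_lit 16, nat_lit 17, nat_lit 16, nat_lit 17, nat_lit 16, nat_lit 16]),
  (nat_lit 384, [nat_lit 16, nat_lit 16, nat_lit 16, nat_lit 17, nat_lit 16, nat_lit 17, nat_lit 16, nat_lit 16, nat_lit 16, nat_lit 16, nat_lit 17, nat_lit 16, nat_lit 17, nat_lit 17, nat_lit 17, nat_lit 17, nat_lit 16, nat_lit 17, nat_lit 16, nat_lit 17, nat_lit 16, nat_lit 16, nat_lit 16, nat_lit 16]),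
  (nat_lit 385, [nat_lit 16, nat_lit 17, nat_lit 16, nat_lit 16, nat_lit 17, nat_lit 17, nat_lit 17, nat_lit 17, nat_lit 16, nat_lit 17, nat_lit 17, nat_lit 17, nat_lit 17, nat_lit 17, nat_lit 16, nat_lit 17, nat_lit 17, nat_lit 17, nat_lit 16, nat_lit 16, nat_lit 16, nat_lit 17, nat_lit 17, nat_lit 16]),
  (nat_lit 392, [nat_lit 16, nat_lit 17, nat_lit 16, nat_lit 17, nat_lit 16, nat_lit 17, nat_lit 17, nat_lit 16, nat_lit 17, nat_lit 16, nat_lit 16, nat_lit 17, nat_lit 16, nat_lit 16, nat_lit 17, nat_lit 17, nat_lit 17, nat_lit 16, nat_lit 16, nat_lit 17, nat_lit 17, nat_lit 17, nat_lit 16, nat_lit 17, nat_lit 17]),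
  (nat_lit 393, [nat_lit 16, nat_lit 16, nat_lit 17, nat_lit 17, nat_lit 17, nat_lit 16, nat_lit 16, nat_lit 16, nat_lit 16, nat_lit 17, nat_lit 17, nat_lit 17, nat_lit 17, nat_lit 16, nat_lit 17, nat_lit 17, nat_lit 17, nat_lit 17, nat_lit 16, nat_lit 16, nat_lit 17, nat_lit 16, nat_lit 17, nat_lit 16, nat_lit 17, nat_lit 17]),
  (nat_lit 400, [nat_lit 17, nat_lit 17, nat_lit 16, nat_lit 16, nat_lit 17, nat_lit 17, nat_lit 17, nat_lit 16, nat_lit 16, nat_lit 16, nat_lit 16, nat_lit 17, nat_lit 17, nat_lit 16, nat_lit 16, nat_lit 16, nat_lit 16, nat_lit 17, nat_lit 17, nat_lit 16, nat_lit 16, nat_lit 16, nat_lit 17, nat_lit 17, nat_lit 17]),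
  (nat_lit 401, [nat_lit 17, nat_lit 17, nat_lit 17, nat_lit 16, nat_lit 16, nat_lit 16, nat_lit 16, nat_lit 17, nat_lit 17, nat_lit 16, nat_lit 17, nat_lit 16, nat_lit 16, nat_lit 16, nat_lit 17, nat_lit 16, nat_lit 17, nat_lit 16, nat_lit 17, nat_lit 17, nat_lit 17]),
  (nat_lit 416, [nat_lit 16, nat_lit 16, nat_lit 16, nat_lit 16, nat_lit 17, nat_lit 17, nat_lit 17, nat_lit 16, nat_lit 17, nat_lit 16, nat_lit 16, nat_lit 16, nat_lit 17, nat_lit 16, nat_lit 16, nat_lit 16, nat_lit 17, nat_lit 17]),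
  (nat_lit 417, [nat_lit 17, nat_lit 16, nat_lit 17, nat_lit 17, nat_lit 17, nat_lit 16, nat_lit 16, nat_lit 16, nat_lit 17, nat_lit 17, nat_lit 17, nat_lit 17, nat_lit 17, nat_lit 17, nat_lit 16, nat_lit 16, nat_lit 16, nat_lit 16, nat_lit 16, nat_lit 17, nat_lit 16, nat_lit 17, nat_lit 17, nat_lit 17]),
  (nat_lit 424, [nat_lit 16, nat_lit 17, nat_lit 16, nat_lit 17, nat_lit 16, nat_lit 16, nat_lit 17, nat_lit 16, nat_lit 17, nat_lit 17, nat_lit 16, nat_lit 17, nat_lit 17, nat_lit 17, nat_lit 16, nat_lit 17, nat_lit 16, nat_lit 17, nat_lit 16, nat_lit 16, nat_lit 17, nat_lit 17, nat_lit 17, nat_lit 16]),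
  (nat_lit 425, [nat_lit 17, nat_lit 17, nat_lit 17, nat_lit 16, nat_lit 16, nat_lit 17, nat_lit 17, nat_lit 17, nat_lit 16, nat_lit 17, nat_lit 17, nat_lit 17, nat_lit 17, nat_lit 16, nat_lit 16, nat_lit 17, nat_lit 17, nat_lit 17, nat_lit 16, nat_lit 16, nat_lit 17, nat_lit 16, nat_lit 17, nat_lit 16]),
  (nat_lit 432, [nat_lit 17, nat_lit 17, nat_lit 16, nat_lit 17, nat_lit 16, nat_lit 17, nat_lit 16, nat_lit 17, nat_lit 16, nat_lit 17, nat_lit 16, nat_lit 16, nat_lit 16, nat_lit 17, nat_lit 17, nat_lit 17, nat_lit 16, nat_lit 16, nat_lit 16, nat_lit 16, nat_lit 17, nat_lit 17, nat_lit 17]),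
  (nat_lit 433, [nat_lit 16, nat_lit 16, nat_lit 16, nat_lit 16, nat_lit 16, nat_lit 17, nat_lit 16, nat_lit 17, nat_lit 16, nat_lit 16, nat_lit 17, nat_lit 16, nat_lit 16, nat_lit 17, nat_lit 17, nat_lit 16, nat_lit 16, nat_lit 17, nat_lit 16, nat_lit 17, nat_lit 17, nat_lit 16, nat_lit 17, nat_lit 16, nat_lit 17]),
  (nat_lit 448, [nat_lit 16, nat_lit 17, nat_lit 16, nat_lit 17, nat_lit 17, nat_lit 16, nat_lit 16, nat_lit 16, nat_lit 17, nat_lit 17, nat_lit 17, nat_lit 16, nat_lit 17, nat_lit 17, nat_lit 16, nat_lit 17, nat_lit 16, nat_lit 16, nat_lit 16, nat_lit 17, nat_lit 17, nat_lit 16, nat_lit 16, nat_lit 17, nat_lit 16, nat_lit 16, nat_lit 17]),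
  (nat_lit 449, [nat_lit 16, nat_lit 17, nat_lit 17, nat_lit 16, nat_lit 17, nat_lit 17, nat_lit 17, nat_lit 17, nat_lit 16, nat_lit 16, nat_lit 16, nat_lit 17, nat_lit 17, nat_lit 17, nat_lit 16, nat_lit 17, nat_lit 16, nat_lit 16, nat_lit 17, nat_lit 17, nat_lit 17, nat_lit 16, nat_lit 17, nat_lit 16, nat_lit 16, nat_lit 16]),
  (nat_lit 456, [nat_lit 16, nat_lit 17, nat_lit 16, nat_lit 16, nat_lit 16, nat_lit 16, nat_lit 16, nat_lit 17, nat_lit 16, nat_lit 16, nat_lit 17, nat_lit 16, nat_lit 16, nat_lit 16, nat_lit 17, nat_lit 16, nat_lit 17, nat_lit 16, nat_lit 16, nat_lit 17, nat_lit 16, nat_lit 16, nat_lit 16, nat_lit 17]),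
  (nat_lit 457, [nat_lit 16, nat_lit 17, nat_lit 17, nat_lit 17, nat_lit 16, nat_lit 17, nat_lit 16, nat_lit 16, nat_lit 17, nat_lit 17, nat_lit 17, nat_lit 17, nat_lit 16, nat_lit 17, nat_lit 16, nat_lit 16, nat_lit 16, nat_lit 16, nat_lit 17, nat_lit 17, nat_lit 16, nat_lit 16]),
  (nat_lit 464, [nat_lit 16, nat_lit 16, nat_lit 16, nat_lit 16, nat_lit 17, nat_lit 17, nat_lit 17, nat_lit 16, nat_lit 17, nat_lit 16, nat_lit 17, nat_lit 16, nat_lit 17, nat_lit 16, nat_lit 16, nat_lit 17, nat_lit 16, nat_lit 16, nat_lit 17, nat_lit 17, nat_lit 17]),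
  (nat_lit 465, [nat_lit 16, nat_lit 16, nat_lit 17, nat_lit 17, nat_lit 17, nat_lit 17, nat_lit 17, nat_lit 16, nat_lit 17, nat_lit 16, nat_lit 17, nat_lit 17, nat_lit 17, nat_lit 16, nat_lit 16, nat_lit 17, nat_lit 17, nat_lit 17, nat_lit 17, nat_lit 16, nat_lit 16, nat_lit 17, nat_lit 17, nat_lit 16, nat_lit 17]),
  (nat_lit 504, [nat_lit 16, nat_lit 16, nat_lit 16, nat_lit 16, nat_lit 16, nat_lit 16, nat_lit 17, nat_lit 17, nat_lit 17, nat_lit 17, nat_lit 17, nat_lit 16, nat_lit 17, nat_lit 17, nat_lit 16, nat_lit 16, nat_lit 17, nat_lit 17, nat_lit 17, nat_lit 16, nat_lit 17, nat_lit 17, nat_lit 17]),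
  (nat_lit 505, [nat_lit 17, nat_lit 17, nat_lit 16, nat_lit 17, nat_lit 17, nat_lit 17, nat_lit 17, nat_lit 16, nat_lit 16, nat_lit 16, nat_lit 16, nat_lit 17, nat_lit 17, nat_lit 16, nat_lit 16, nat_lit 16, nat_lit 17, nat_lit 16, nat_lit 16, nat_lit 17, nat_lit 16, nat_lit 16, nat_lit 17, nat_lit 17])]
def LV4 : List (ℕ × List ℕ) := [(nat_lit 16, [nat_lit 17, nat_lit 17, nat_lit 16, nat_lit 17, nat_lit 16, nat_lit 17, nat_lit 17, nat_lit 16, nat_lit 17, nat_lit 16, nat_lit 16, nat_lit 17, nat_lit 16, nat_lit 16, nat_lit 17, nat_lit 17, nat_lit 17, nat_lit 16, nat_lit 16, nat_lit 17, nat_lit 17, nat_lit 17, nat_lit 17, nat_lit 17, nat_lit 17]),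
  (nat_lit 17, [nat_lit 16, nat_lit 16, nat_lit 16, nat_lit 17, nat_lit 16, nat_lit 17, nat_lit 17, nat_lit 17, nat_lit 17, nat_lit 16, nat_lit 16, nat_lit 16, nat_lit 17, nat_lit 16, nat_lit 16, nat_lit 17, nat_lit 16, nat_lit 17, nat_lit 17, nat_lit 17, nat_lit 17, nat_lit 17]),
  (nat_lit 48, [nat_lit 16, nat_lit 17, nat_lit 16, nat_lit 16, nat_lit 16, nat_lit 17, nat_lit 17, nat_lit 16, nat_lit 17, nat_lit 16, nat_lit 17, nat_lit 16, nat_lit 16, nat_lit 17, nat_lit 16, nat_lit 17, nat_lit 17, nat_lit 16, nat_lit 17, nat_lit 17, nat_lit 16, nat_lit 16]),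
  (nat_lit 49, [nat_lit 16, nat_lit 16, nat_lit 16, nat_lit 17, nat_lit 17, nat_lit 16, nat_lit 16, nat_lit 16, nat_lit 17, nat_lit 16, nat_lit 16, nat_lit 16, nat_lit 16, nat_lit 16, nat_lit 17, nat_lit 16, nat_lit 17, nat_lit 17, nat_lit 16, nat_lit 16, nat_lit 17, nat_lit 17, nat_lit 17, nat_lit 17, nat_lit 16]),
  (nat_lit 80, [nat_lit 17, nat_lit 16, nat_lit 16, nat_lit 17, nat_lit 16, nat_lit 17, nat_lit 17, nat_lit 16, nat_lit 17, nat_lit 17, nat_lit 16, nat_lit 17, nat_lit 17, nat_lit 17, nat_lit 17, nat_lit 16, nat_lit 17, nat_lit 16, nat_lit 17, nat_lit 17, nat_lit 17, nat_lit 16, nat_lit 17, nat_lit 16, nat_lit 17]),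
  (nat_lit 81, [nat_lit 17, nat_lit 16, nat_lit 17, nat_lit 17, nat_lit 16, nat_lit 16, nat_lit 16, nat_lit 17, nat_lit 17, nat_lit 16, nat_lit 16, nat_lit 17, nat_lit 17, nat_lit 16, nat_lit 17, nat_lit 16, nat_lit 16, nat_lit 16, nat_lit 17, nat_lit 17, nat_lit 16, nat_lit 16, nat_lit 17, nat_lit 17, nat_lit 17]),
  (nat_lit 120, [nat_lit 16, nat_lit 16, nat_lit 17, nat_lit 17, nat_lit 16, nat_lit 17, nat_lit 16, nat_lit 17, nat_lit 17, nat_lit 16, nat_lit 17, nat_lit 16, nat_lit 16, nat_lit 17, nat_lit 16, nat_lit 16, nat_lit 16, nat_lit 17, nat_lit 17, nat_lit 16, nat_lit 16, nat_lit 17, nat_lit 16, nat_lit 16, nat_lit 16]),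
  (nat_lit 121, [nat_lit 17, nat_lit 17, nat_lit 16, nat_lit 17, nat_lit 17, nat_lit 16, nat_lit 17, nat_lit 16, nat_lit 17, nat_lit 16, nat_lit 17, nat_lit 16, nat_lit 16, nat_lit 17, nat_lit 16, nat_lit 16, nat_lit 17, nat_lit 16]),
  (nat_lit 152, [nat_lit 16, nat_lit 16, nat_lit 16, nat_lit 17, nat_lit 16, nat_lit 16, nat_lit 17, nat_lit 17, nat_lit 16, nat_lit 16, nat_lit 16, nat_lit 17, nat_lit 17, nat_lit 16, nat_lit 16, nat_lit 17, nat_lit 17, nat_lit 17, nat_lit 17, nat_lit 17, nat_lit 16, nat_lit 17, nat_lit 16]),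
  (nat_lit 153, [nat_lit 17, nat_lit 17, nat_lit 17, nat_lit 17, nat_lit 16, nat_lit 17, nat_lit 17, nat_lit 17, nat_lit 17, nat_lit 16, nat_lit 17, nat_lit 17, nat_lit 16, nat_lit 17, nat_lit 17, nat_lit 16, nat_lit 16, nat_lit 17, nat_lit 17, nat_lit 17, nat_lit 17, nat_lit 16, nat_lit 16, nat_lit 16]),
  (nat_lit 184, [nat_lit 16, nat_lit 17, nat_lit 17, nat_lit 17, nat_lit 16, nat_lit 16, nat_lit 16, nat_lit 17, nat_lit 17, nat_lit 16, nat_lit 16, nat_lit 17, nat_lit 17, nat_lit 17, nat_lit 17, nat_lit 17, nat_lit 16, nat_lit 16, nat_lit 16, nat_lit 17, nat_lit 16, nat_lit 17, nat_lit 17, nat_lit 17, nat_lit 17, nat_lit 16]),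
  (nat_lit 185, [nat_lit 16, nat_lit 16, nat_lit 17, nat_lit 16, nat_lit 17, nat_lit 17, nat_lit 17, nat_lit 17, nat_lit 17, nat_lit 16, nat_lit 16, nat_lit 16, nat_lit 16, nat_lit 17, nat_lit 17, nat_lit 17, nat_lit 17, nat_lit 17, nat_lit 16, nat_lit 17, nat_lit 17, nat_lit 17, nat_lit 16, nat_lit 17, nat_lit 17, nat_lit 17]),
  (nat_lit 216, [nat_lit 16, nat_lit 17, nat_lit 16, nat_lit 17, nat_lit 17, nat_lit 17, nat_lit 16, nat_lit 17, nat_lit 17, nat_lit 17, nat_lit 16, nat_lit 16, nat_lit 17, nat_lit 17, nat_lit 17, nat_lit 17, nat_lit 16, nat_lit 17, nat_lit 17, nat_lit 17, nat_lit 17, nat_lit 16, nat_lit 16, nat_lit 17, nat_lit 17, nat_lit 17]),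
  (nat_lit 217, [nat_lit 17, nat_lit 16, nat_lit 17, nat_lit 16, nat_lit 17, nat_lit 17, nat_lit 17, nat_lit 16, nat_lit 17, nat_lit 17, nat_lit 16, nat_lit 17, nat_lit 17, nat_lit 16, nat_lit 17, nat_lit 16, nat_lit 17, nat_lit 16, nat_lit 16, nat_lit 16, nat_lit 17, nat_lit 16, nat_lit 16, nat_lit 17, nat_lit 16, nat_lit 16]),
  (nat_lit 240, [nat_lit 16, nat_lit 16, nat_lit 16, nat_lit 16, nat_lit 17, nat_lit 16, nat_lit 16, nat_lit 16, nat_lit 17, nat_lit 17, nat_lit 16, nat_lit 16, nat_lit 17, nat_lit 17, nat_lit 17, nat_lit 16, nat_lit 16, nat_lit 17, nat_lit 17, nat_lit 17, nat_lit 17, nat_lit 17, nat_lit 16, nat_lit 17, nat_lit 16, nat_lit 17]),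
  (nat_lit 241, [nat_lit 17, nat_lit 17, nat_lit 17, nat_lit 17, nat_lit 16, nat_lit 17, nat_lit 17, nat_lit 16, nat_lit 17, nat_lit 17, nat_lit 16, nat_lit 16, nat_lit 17, nat_lit 17, nat_lit 17, nat_lit 16, nat_lit 17, nat_lit 16, nat_lit 17, nat_lit 16, nat_lit 17, nat_lit 17, nat_lit 17, nat_lit 16, nat_lit 16]),
  (nat_lit 272, [nat_lit 16, nat_lit 16, nat_lit 17, nat_lit 16, nat_lit 17, nat_lit 17, nat_lit 16, nat_lit 17, nat_lit 17, nat_lit 17, nat_lit 16, nat_lit 16, nat_lit 17, nat_lit 17, nat_lit 16, nat_lit 17, nat_lit 16, nat_lit 17, nat_lit 16, nat_lit 16, nat_lit 17, nat_lit 16, nat_lit 16, nat_lit 17, nat_lit 17]),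
  (nat_lit 273, [nat_lit 17, nat_lit 16, nat_lit 17, nat_lit 16, nat_lit 16, nat_lit 16, nat_lit 17, nat_lit 16, nat_lit 17, nat_lit 17, nat_lit 16, nat_lit 16, nat_lit 17, nat_lit 17, nat_lit 16, nat_lit 17, nat_lit 16, nat_lit 17, nat_lit 16, nat_lit 16, nat_lit 16, nat_lit 17, nat_lit 17, nat_lit 16, nat_lit 16]),
  (nat_lit 304, [nat_lit 17, nat_lit 17, nat_lit 17, nat_lit 17, nat_lit 16, nat_lit 16, nat_lit 17, nat_lit 17, nat_lit 16, nat_lit 16, nat_lit 17, nat_lit 16, nat_lit 16, nat_lit 17, nat_lit 17, nat_lit 17, nat_lit 17, nat_lit 16, nat_lit 17, nat_lit 17, nat_lit 17, nat_lit 16, nat_lit 16, nat_lit 17, nat_lit 17]),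
  (nat_lit 305, [nat_lit 16, nat_lit 17, nat_lit 16, nat_lit 16, nat_lit 17, nat_lit 16, nat_lit 17, nat_lit 16, nat_lit 16, nat_lit 16, nat_lit 16, nat_lit 17, nat_lit 17, nat_lit 16, nat_lit 17, nat_lit 16, nat_lit 17, nat_lit 16, nat_lit 16, nat_lit 16, nat_lit 16, nat_lit 17, nat_lit 16, nat_lit 16, nat_lit 17, nat_lit 16]),
  (nat_lit 336, [nat_lit 16, nat_lit 16, nat_lit 16, nat_lit 17, nat_lit 17, nat_lit 17, nat_lit 17, nat_lit 17, nat_lit 16, nat_lit 16, nat_lit 16, nat_lit 17, nat_lit 17, nat_lit 17, nat_lit 16, nat_lit 17, nat_lit 16, nat_lit 17, nat_lit 16, nat_lit 17, nat_lit 17, nat_lit 16, nat_lit 17, nat_lit 16, nat_lit 16]),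
  (nat_lit 337, [nat_lit 17, nat_lit 16, nat_lit 17, nat_lit 17, nat_lit 16, nat_lit 16, nat_lit 17, nat_lit 16, nat_lit 16, nat_lit 17, nat_lit 16, nat_lit 17, nat_lit 17, nat_lit 16, nat_lit 17, nat_lit 17, nat_lit 16, nat_lit 16, nat_lit 17, nat_lit 17, nat_lit 16, nat_lit 17, nat_lit 16, nat_lit 17, nat_lit 16]),
  (nat_lit 376, [nat_lit 16, nat_lit 16, nat_lit 17, nat_lit 16, nat_lit 16, nat_lit 16, nat_lit 17, nat_lit 16, nat_lit 17, nat_lit 16, nat_lit 17, nat_lit 17, nat_lit 16, nat_lit 16, nat_lit 16, nat_lit 17, nat_lit 17, nat_lit 16, nat_lit 16, nat_lit 16, nat_lit 16, nat_lit 17, nat_lit 16, nat_lit 16, nat_lit 17]),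
  (nat_lit 377, [nat_lit 17, nat_lit 16, nat_lit 17, nat_lit 17, nat_lit 17, nat_lit 16, nat_lit 16, nat_lit 16, nat_lit 17, nat_lit 17, nat_lit 17, nat_lit 16, nat_lit 16, nat_lit 17, nat_lit 17, nat_lit 17, nat_lit 17, nat_lit 16, nat_lit 16, nat_lit 16, nat_lit 17, nat_lit 17, nat_lit 17, nat_lit 16, nat_lit 16, nat_lit 17]),
  (nat_lit 400, [nat_lit 17, nat_lit 16, nat_lit 16, nat_lit 16, nat_lit 16, nat_lit 17, nat_lit 17, nat_lit 17, nat_lit 16, nat_lit 16, nat_lit 16, nat_lit 17, nat_lit 17, nat_lit 16, nat_lit 17, nat_lit 17, nat_lit 16, nat_lit 16, nat_lit 17, nat_lit 17, nat_lit 17, nat_lit 17, nat_lit 17, nat_lit 16, nat_lit 17, nat_lit 16]),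
  (nat_lit 401, [nat_lit 17, nat_lit 17, nat_lit 17, nat_lit 16, nat_lit 17, nat_lit 17, nat_lit 16, nat_lit 16, nat_lit 17, nat_lit 16, nat_lit 16, nat_lit 17, nat_lit 17, nat_lit 17, nat_lit 17, nat_lit 17, nat_lit 17, nat_lit 16, nat_lit 16, nat_lit 16, nat_lit 17, nat_lit 17, nat_lit 16, nat_lit 16, nat_lit 17]),
  (nat_lit 432, [nat_lit 16, nat_lit 17, nat_lit 16, nat_lit 16, nat_lit 16, nat_lit 16, nat_lit 16, nat_lit 17, nat_lit 17, nat_lit 17, nat_lit 16, nat_lit 17, nat_lit 16, nat_lit 16, nat_lit 17, nat_lit 17, nat_lit 17, nat_lit 16, nat_lit 17, nat_lit 17, nat_lit 16, nat_lit 17]),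
  (nat_lit 433, [nat_lit 16, nat_lit 16, nat_lit 16, nat_lit 17, nat_lit 16, nat_lit 16, nat_lit 17, nat_lit 16, nat_lit 16, nat_lit 16, nat_lit 16, nat_lit 17, nat_lit 17, nat_lit 17, nat_lit 16, nat_lit 16, nat_lit 16, nat_lit 16, nat_lit 16, nat_lit 17, nat_lit 16, nat_lit 17, nat_lit 17, nat_lit 16]),
  (nat_lit 464, [nat_lit 17, nat_lit 16, nat_lit 17, nat_lit 17, nat_lit 17, nat_lit 17, nat_lit 17, nat_lit 16, nat_lit 16, nat_lit 17, nat_lit 17, nat_lit 16, nat_lit 17, nat_lit 17, nat_lit 16, nat_lit 17, nat_lit 16, nat_lit 17, nat_lit 16, nat_lit 16, nat_lit 17, nat_lit 16, nat_lit 16]),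
  (nat_lit 465, [nat_lit 16, nat_lit 17, nat_lit 16, nat_lit 17, nat_lit 17, nat_lit 17, nat_lit 17, nat_lit 16, nat_lit 17, nat_lit 16, nat_lit 17, nat_lit 16, nat_lit 16, nat_lit 16, nat_lit 17, nat_lit 17, nat_lit 17, nat_lit 17, nat_lit 17, nat_lit 16, nat_lit 17, nat_lit 16, nat_lit 17, nat_lit 16, nat_lit 17, nat_lit 16]),
  (nat_lit 504, [nat_lit 17, nat_lit 16, nat_lit 16, nat_lit 17, nat_lit 16, nat_lit 16, nat_lit 16, nat_lit 17, nat_lit 16, nat_lit 17, nat_lit 16, nat_lit 16, nat_lit 16, nat_lit 17, nat_lit 17, nat_lit 16, nat_lit 16, nat_lit 17, nat_lit 17, nat_lit 16, nat_lit 16, nat_lit 16, nat_lit 16, nat_lit 17]),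
  (nat_lit 505, [nat_lit 17, nat_lit 17, nat_lit 17, nat_lit 16, nat_lit 16, nat_lit 17, nat_lit 16, nat_lit 17, nat_lit 16, nat_lit 17, nat_lit 16, nat_lit 16, nat_lit 17, nat_lit 17, nat_lit 17, nat_lit 17, nat_lit 17, nat_lit 16, nat_lit 17, nat_lit 16, nat_lit 16, nat_lit 17])]
def LV5 : List (ℕ × List ℕ) := [(nat_lit 32, [nat_lit 16, nat_lit 17, nat_lit 17, nat_lit 17, nat_lit 16, nat_lit 16, nat_lit 16, nat_lit 17, nat_lit 16, nat_lit 16, nat_lit 16, nat_lit 17, nat_lit 17, nat_lit 16, nat_lit 17, nat_lit 17, nat_lit 16, nat_lit 16, nat_lit 16, nat_lit 16, nat_lit 17]),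
  (nat_lit 33, [nat_lit 16, nat_lit 16, nat_lit 17, nat_lit 17, nat_lit 17, nat_lit 17, nat_lit 16, nat_lit 17, nat_lit 16, nat_lit 16, nat_lit 17, nat_lit 16, nat_lit 17, nat_lit 17, nat_lit 17, nat_lit 16, nat_lit 17, nat_lit 16, nat_lit 17, nat_lit 17, nat_lit 17, nat_lit 16, nat_lit 17, nat_lit 16]),
  (nat_lit 64, [nat_lit 17, nat_lit 17, nat_lit 16, nat_lit 16, nat_lit 17, nat_lit 17, nat_lit 17, nat_lit 17, nat_lit 16, nat_lit 17, nat_lit 17, nat_lit 16, nat_lit 16, nat_lit 16, nat_lit 16, nat_lit 17, nat_lit 16, nat_lit 17, nat_lit 17, nat_lit 17, nat_lit 17, nat_lit 16]),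
  (nat_lit 65, [nat_lit 17, nat_lit 17, nat_lit 16, nat_lit 16, nat_lit 17, nat_lit 17, nat_lit 16, nat_lit 17, nat_lit 16, nat_lit 17, nat_lit 16, nat_lit 16, nat_lit 17, nat_lit 17, nat_lit 16, nat_lit 17, nat_lit 16, nat_lit 16, nat_lit 16, nat_lit 17, nat_lit 17, nat_lit 16, nat_lit 16, nat_lit 17, nat_lit 17, nat_lit 16]),
  (nat_lit 224, [nat_lit 16, nat_lit 17, nat_lit 17, nat_lit 16, nat_lit 16, nat_lit 17, nat_lit 17, nat_lit 17, nat_lit 16, nat_lit 17, nat_lit 17, nat_lit 16, nat_lit 17, nat_lit 17, nat_lit 16, nat_lit 17, nat_lit 17, nat_lit 17, nat_lit 17, nat_lit 16, nat_lit 17, nat_lit 16, nat_lit 17]),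
  (nat_lit 225, [nat_lit 16, nat_lit 16, nat_lit 16, nat_lit 17, nat_lit 17, nat_lit 16, nat_lit 17, nat_lit 16, nat_lit 17, nat_lit 16, nat_lit 16, nat_lit 16, nat_lit 16, nat_lit 17, nat_lit 17, nat_lit 17, nat_lit 16, nat_lit 17, nat_lit 16, nat_lit 17, nat_lit 16, nat_lit 16, nat_lit 16]),
  (nat_lit 256, [nat_lit 16, nat_lit 17, nat_lit 16, nat_lit 17, nat_lit 16, nat_lit 17, nat_lit 16, nat_lit 17, nat_lit 16, nat_lit 17, nat_lit 16, nat_lit 17, nat_lit 17, nat_lit 17, nat_lit 16, nat_lit 16, nat_lit 16, nat_lit 16, nat_lit 17, nat_lit 17, nat_lit 17, nat_lit 17, nat_lit 16, nat_lit 16, nat_lit 17, nat_lit 17, nat_lit 16, nat_lit 16]),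
  (nat_lit 257, [nat_lit 16, nat_lit 16, nat_lit 16, nat_lit 16, nat_lit 17, nat_lit 16, nat_lit 17, nat_lit 16, nat_lit 16, nat_lit 17, nat_lit 17, nat_lit 16, nat_lit 17, nat_lit 16, nat_lit 16, nat_lit 16, nat_lit 16, nat_lit 16, nat_lit 16, nat_lit 17, nat_lit 17, nat_lit 17, nat_lit 17, nat_lit 17, nat_lit 17, nat_lit 16]),
  (nat_lit 288, [nat_lit 17, nat_lit 16, nat_lit 17, nat_lit 17, nat_lit 16, nat_lit 17, nat_lit 16, nat_lit 17, nat_lit 16, nat_lit 17, nat_lit 17, nat_lit 16, nat_lit 17, nat_lit 17, nat_lit 16, nat_lit 16, nat_lit 17, nat_lit 17, nat_lit 16, nat_lit 16, nat_lit 16, nat_lit 17, nat_lit 17, nat_lit 16, nat_lit 17, nat_lit 17]),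
  (nat_lit 289, [nat_lit 17, nat_lit 17, nat_lit 16, nat_lit 17, nat_lit 16, nat_lit 16, nat_lit 17, nat_lit 17, nat_lit 16, nat_lit 17, nat_lit 17, nat_lit 17, nat_lit 16, nat_lit 16, nat_lit 17, nat_lit 17, nat_lit 16, nat_lit 16, nat_lit 16, nat_lit 16, nat_lit 16, nat_lit 16]),
  (nat_lit 320, [nat_lit 16, nat_lit 17, nat_lit 17, nat_lit 17, nat_lit 17, nat_lit 16, nat_lit 17, nat_lit 17, nat_lit 17, nat_lit 17, nat_lit 16, nat_lit 17, nat_lit 16, nat_lit 17, nat_lit 16, nat_lit 16, nat_lit 17, nat_lit 16, nat_lit 16, nat_lit 17, nat_lit 16, nat_lit 17, nat_lit 16, nat_lit 17, nat_lit 17, nat_lit 16, nat_lit 16]),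
  (nat_lit 321, [nat_lit 17, nat_lit 16, nat_lit 16, nat_lit 16, nat_lit 17, nat_lit 17, nat_lit 17, nat_lit 16, nat_lit 17, nat_lit 17, nat_lit 16, nat_lit 17, nat_lit 16, nat_lit 16, nat_lit 17, nat_lit 16, nat_lit 17, nat_lit 17, nat_lit 17, nat_lit 16, nat_lit 16, nat_lit 16, nat_lit 17, nat_lit 17]),
  (nat_lit 384, [nat_lit 16, nat_lit 17, nat_lit 17, nat_lit 17, nat_lit 16, nat_lit 16, nat_lit 17, nat_lit 16, nat_lit 17, nat_lit 16, nat_lit 16, nat_lit 16, nat_lit 17, nat_lit 17, nat_lit 16, nat_lit 17, nat_lit 16, nat_lit 16, nat_lit 16, nat_lit 16, nat_lit 16, nat_lit 17, nat_lit 17]),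
  (nat_lit 385, [nat_lit 16, nat_lit 17, nat_lit 16, nat_lit 16, nat_lit 16, nat_lit 17, nat_lit 17, nat_lit 16, nat_lit 16, nat_lit 16, nat_lit 17, nat_lit 17, nat_lit 17, nat_lit 16, nat_lit 16, nat_lit 17, nat_lit 17, nat_lit 16, nat_lit 16, nat_lit 17, nat_lit 17, nat_lit 16, nat_lit 16, nat_lit 16]),
  (nat_lit 416, [nat_lit 16, nat_lit 16, nat_lit 16, nat_lit 16, nat_lit 17, nat_lit 16, nat_lit 17, nat_lit 16, nat_lit 17, nat_lit 16, nat_lit 16, nat_lit 17, nat_lit 17, nat_lit 17, nat_lit 17, nat_lit 16, nat_lit 16, nat_lit 17, nat_lit 16, nat_lit 16, nat_lit 17]),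
  (nat_lit 417, [nat_lit 16, nat_lit 17, nat_lit 17, nat_lit 17, nat_lit 16, nat_lit 16, nat_lit 17, nat_lit 17, nat_lit 17, nat_lit 17, nat_lit 16, nat_lit 16, nat_lit 17, nat_lit 17, nat_lit 16, nat_lit 16, nat_lit 17, nat_lit 17, nat_lit 17, nat_lit 16, nat_lit 16, nat_lit 17, nat_lit 17, nat_lit 16, nat_lit 17]),
  (nat_lit 448, [nat_lit 16, nat_lit 16, nat_lit 16, nat_lit 16, nat_lit 17, nat_lit 17, nat_lit 16, nat_lit 16, nat_lit 17, nat_lit 16, nat_lit 17, nat_lit 17, nat_lit 17, nat_lit 16, nat_lit 16, nat_lit 17, nat_lit 17, nat_lit 16, nat_lit 16, nat_lit 16, nat_lit 17, nat_lit 17, nat_lit 16, nat_lit 16]),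
  (nat_lit 449, [nat_lit 16, nat_lit 17, nat_lit 16, nat_lit 17, nat_lit 17, nat_lit 16, nat_lit 16, nat_lit 16, nat_lit 16, nat_lit 16, nat_lit 16, nat_lit 17, nat_lit 16, nat_lit 16, nat_lit 16, nat_lit 17, nat_lit 16, nat_lit 17, nat_lit 16, nat_lit 16, nat_lit 16, nat_lit 17])]
def LV6 : List (ℕ × List ℕ) := [(nat_lit 64, []),
  (nat_lit 65, [nat_lit 17, nat_lit 16, nat_lit 16, nat_lit 16, nat_lit 16, nat_lit 17, nat_lit 16, nat_lit 17, nat_lit 17, nat_lit 16, nat_lit 16, nat_lit 16, nat_lit 16, nat_lit 17, nat_lit 16, nat_lit 17]),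
  (nat_lit 224, [nat_lit 16, nat_lit 17, nat_lit 16, nat_lit 17, nat_lit 16, nat_lit 17, nat_lit 16, nat_lit 17, nat_lit 17, nat_lit 17, nat_lit 17, nat_lit 17, nat_lit 17, nat_lit 16, nat_lit 16, nat_lit 16, nat_lit 17, nat_lit 16, nat_lit 16, nat_lit 16, nat_lit 17, nat_lit 16, nat_lit 17, nat_lit 16, nat_lit 16, nat_lit 16, nat_lit 17]),
  (nat_lit 225, [nat_lit 17, nat_lit 16, nat_lit 16, nat_lit 16, nat_lit 16, nat_lit 17, nat_lit 16, nat_lit 16, nat_lit 16, nat_lit 16, nat_lit 17, nat_lit 16, nat_lit 16, nat_lit 16, nat_lit 16, nat_lit 17, nat_lit 16, nat_lit 17, nat_lit 16, nat_lit 16, nat_lit 16, nat_lit 16, nat_lit 17]),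
  (nat_lit 320, [nat_lit 16, nat_lit 16, nat_lit 17, nat_lit 16, nat_lit 16, nat_lit 16, nat_lit 16, nat_lit 17, nat_lit 16, nat_lit 16, nat_lit 16, nat_lit 16, nat_lit 17, nat_lit 17, nat_lit 16, nat_lit 17, nat_lit 17, nat_lit 16, nat_lit 17, nat_lit 16, nat_lit 16, nat_lit 17, nat_lit 17, nat_lit 16, nat_lit 16, nat_lit 16, nat_lit 17]),
  (nat_lit 321, [nat_lit 17, nat_lit 17, nat_lit 16, nat_lit 16, nat_lit 16, nat_lit 16, nat_lit 17, nat_lit 16, nat_lit 16, nat_lit 17, nat_lit 17, nat_lit 16, nat_lit 16, nat_lit 16, nat_lit 16, nat_lit 17, nat_lit 17, nat_lit 17, nat_lit 17, nat_lit 17, nat_lit 17, nat_lit 16, nat_lit 17, nat_lit 16, nat_lit 16]),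
  (nat_lit 448, [nat_lit 17, nat_lit 16, nat_lit 16, nat_lit 16, nat_lit 16, nat_lit 17, nat_lit 16, nat_lit 16, nat_lit 17, nat_lit 17, nat_lit 16, nat_lit 17, nat_lit 16, nat_lit 17, nat_lit 16, nat_lit 17, nat_lit 17, nat_lit 16, nat_lit 17, nat_lit 16, nat_lit 17, nat_lit 17, nat_lit 17, nat_lit 17, nat_lit 17, nat_lit 16]),
  (nat_lit 449, [nat_lit 17, nat_lit 17, nat_lit 17, nat_lit 17, nat_lit 16, nat_lit 17, nat_lit 16, nat_lit 17, nat_lit 17, nat_lit 16, nat_lit 17, nat_lit 17, nat_lit 17, nat_lit 16, nat_lit 17, nat_lit 17, nat_lit 17, nat_lit 17, nat_lit 16, nat_lit 16, nat_lit 16, nat_lit 16, nat_lit 16, nat_lit 16, nat_lit 17])]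
def LV7 : List (ℕ × List ℕ) := [(nat_lit 128, []),
  (nat_lit 129, [nat_lit 16, nat_lit 16, nat_lit 16, nat_lit 17, nat_lit 16, nat_lit 17, nat_lit 17, nat_lit 17, nat_lit 16, nat_lit 16, nat_lit 16, nat_lit 17, nat_lit 16, nat_lit 16, nat_lit 16, nat_lit 17, nat_lit 17, nat_lit 16, nat_lit 17, nat_lit 17, nat_lit 16])]
def LV8 : List (ℕ × List ℕ) := [(nat_lit 256, []),
  (nat_lit 257, [nat_lit 17, nat_lit 17, nat_lit 17, nat_lit 16, nat_lit 16, nat_lit 16, nat_lit 17, nat_lit 16, nat_lit 16, nat_lit 16, nat_lit 17, nat_lit 16, nat_lit 16, nat_lit 16, nat_lit 17, nat_lit 17, nat_lit 17, nat_lit 17, nat_lit 17]),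
  (nat_lit 384, []),
  (nat_lit 385, [nat_lit 17, nat_lit 17, nat_lit 17, nat_lit 16, nat_lit 16, nat_lit 16, nat_lit 17, nat_lit 16, nat_lit 16, nat_lit 16, nat_lit 17, nat_lit 16, nat_lit 16, nat_lit 16, nat_lit 17, nat_lit 17, nat_lit 17, nat_lit 17, nat_lit 17])]
def LV : List (List (ℕ × List ℕ)) := [[], LV1, LV2, LV3, LV4, LV5, LV6, LV7, LV8]
def LW : List (List ℕ × ℕ × ℕ) := [([], 0, 0), ([16, 17, 17, 17, 16], 5, 0), ([16, 16, 16, 17, 16, 16, 17], 5, 0), ([16, 16, 16], 33, 0), ([16, 17, 17, 17], 5, 0), ([], 5, 0), ([16, 16, 17, 17, 17], 5, 0), ([16, 17, 16], 33, 0), ([16, 16, 16], 5, 0), ([16, 17], 5, 0), ([17, 17, 16, 17, 17], 5, 0), ([17, 16, 17], 33, 0), ([17, 16, 17, 16, 17], 33, 0), ([16, 16, 17, 16], 33, 0), ([16, 17], 33, 0), ([16, 16, 16, 17, 16], 5, 0), ([17, 16, 17], 5, 0), ([17, 16, 17, 17], 5, 0), ([17, 16], 5, 0), ([17, 17, 17], 33, 0), ([16, 17, 16, 17, 16], 5, 0),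 ([17, 16, 17, 16], 5, 0), ([16, 17, 17], 5, 0), ([16, 16, 17], 33, 0), ([16, 16], 5, 0), ([16, 17, 16], 5, 0), ([16, 16, 17], 5, 0), ([16, 16], 33, 0), ([17], 33, 0), ([16, 17, 17], 33, 0), ([16, 17, 16, 16], 33, 0), ([16, 16, 17, 17], 5, 0), ([17, 17], 33, 0), ([], 33, 0), ([17, 17, 16, 16, 17, 16], 33, 0), ([17, 17], 5, 0), ([16], 33, 0), ([16, 17, 16, 17, 16, 17], 33, 0), ([16, 16, 16, 17], 33, 0), ([16, 16, 16, 16, 17], 5, 0), ([16, 17, 16, 17], 33, 0), ([17, 16], 33, 0), ([17, 16, 16, 17, 16], 33, 0), ([17, 17, 16], 5, 0), ([17, 17, 16, 16, 17], 5, 0), ([17, 17, 17, 16], 5, 0), ([16, 16, 16, 16, 17, 16], 5, 0), ([17, 16, 17, 17], 33, 0), ([16, 17, 16, 16, 17], 5, 0), ([16, 16, 17, 16], 5, 0), ([17, 17, 17], 5, 0), ([16, 17, 16, 17, 17], 33, 0), ([17, 16, 16, 17], 5, 0), ([17], 5, 0), ([16, 16, 17, 16, 16, 17], 5, 0), ([16, 16, 17, 17], 33, 0), ([17, 17, 17, 17], 5, 0), ([17, 17,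 17, 17, 16], 5, 0), ([16, 16, 16, 17], 5, 0), ([17, 16, 16], 33, 0), ([16, 16, 17, 16, 16], 33, 0), ([16, 16, 17, 16, 17, 17], 33, 0), ([17, 17, 16, 17], 33, 0), ([16], 5, 0)]
def SW : List (List (List ℕ × ℕ)) := [[([], 0), ([17, 16, 16, 16], 8), ([17, 16, 16, 16], 6), ([17, 16, 16, 16], 14), ([17, 16, 16, 16], 18), ([17, 16, 16, 16], 26), ([17, 16, 16, 16], 20), ([17, 16, 16, 16], 28), ([17, 16, 16, 16], 9), ([17, 16, 16, 16], 1), ([17, 16, 16, 16], 15), ([17, 16, 16, 16], 7), ([17, 16, 16, 16], 27), ([17, 16, 16, 16], 19), ([17, 16, 16, 16], 29), ([17, 16, 16, 16], 21), ([17, 17, 17, 16], 2), ([17, 16, 16, 16], 24), ([17, 16, 16, 16], 22), ([17, 16, 16, 16], 30), ([17, 16, 16, 16], 2), ([17, 16, 16, 16], 10), ([17, 16, 16, 16], 4), ([17, 16, 16, 16], 12), ([17, 16, 16, 16], 25), ([17, 16, 16, 16], 17), ([17, 16, 16, 16], 31), ([17, 16, 16, 16], 23), ([17, 16, 16, 16], 11), ([17, 16,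 16, 16], 3), ([17, 16, 16, 16], 13), ([17, 16, 16, 16], 5), ([17, 16, 16, 16], 41), ([], 33), ([17, 16, 16, 16], 47), ([17, 16, 16, 16], 39), ([17, 16, 16, 16], 59), ([17, 16, 16, 16], 51), ([17, 16, 16, 16], 61), ([17, 16, 16, 16], 53), ([17, 16, 16, 16], 32), ([17, 16, 16, 16], 40), ([17, 16, 16, 16], 38), ([17, 16, 16, 16], 46), ([17, 16, 16, 16], 50), ([17, 16, 16, 16], 58), ([17, 16, 16, 16], 52), ([17, 16, 16, 16], 60), ([17, 16, 16, 16], 57), ([17, 17, 17, 16], 35), ([17, 16, 16, 16], 63), ([17, 16, 16, 16], 55), ([17, 16, 16, 16], 43), ([17, 16, 16, 16], 35), ([17, 16, 16, 16], 45), ([17, 16, 16, 16], 37), ([17, 16, 16, 16], 48), ([17, 16, 16, 16], 56), ([17, 16, 16, 16], 54), ([17, 16, 16, 16], 62), ([17, 16, 16, 16], 34), ([17, 16, 16, 16], 42), ([17, 16, 16, 16], 36), ([17, 16, 16, 16], 44)], [([], 0), ([17, 17, 16, 17], 46), ([17, 17, 16, 17], 45), ([16, 16, 16, 17, 17],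 41), ([17, 17, 16, 17], 43), ([], 5), ([16, 16, 16, 17, 17], 44), ([17, 17, 16, 17], 40), ([17, 17, 16, 17], 24), ([17, 17, 16, 17], 54), ([17, 17, 16, 17], 53), ([17, 17, 16, 17], 27), ([17, 17, 16, 17], 51), ([17, 17, 16, 17], 29), ([17, 17, 16, 17], 30), ([17, 17, 16, 17], 48), ([17, 17, 16, 17], 52), ([17, 17, 16, 17], 26), ([17, 17, 16, 17], 25), ([17, 17, 16, 17], 55), ([17, 17, 16, 17], 31), ([17, 17, 16, 17], 49), ([17, 17, 16, 17], 50), ([17, 17, 16, 17], 28), ([17, 17, 16, 17], 44), ([17, 17, 16, 17], 2), ([17, 17, 16, 17], 1), ([17, 17, 16, 17], 47), ([17, 17, 16, 17], 7), ([17, 17, 16, 17], 41), ([17, 17, 16, 17], 42), ([17, 17, 16, 17], 4), ([17, 17, 16, 17], 11), ([17, 17, 16, 17], 37), ([17, 17, 16, 17], 38), ([17, 17, 16, 17], 8), ([17, 17, 16, 17], 32), ([17, 17, 16, 17], 14), ([17, 17, 16, 17], 13), ([17, 17, 16, 17], 35), ([17, 17, 16, 17], 19), ([17, 17, 16, 17],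 61), ([17, 17, 16, 17], 62), ([17, 17, 16, 17], 16), ([17, 17, 16, 17], 56), ([17, 17, 16, 17], 22), ([17, 17, 16, 17], 21), ([17, 17, 16, 17], 59), ([17, 17, 16, 17], 63), ([17, 17, 16, 17], 17), ([17, 17, 16, 17], 18), ([17, 17, 16, 17], 60), ([17, 17, 16, 17], 20), ([17, 17, 16, 17], 58), ([17, 17, 16, 17], 57), ([17, 17, 16, 17], 23), ([17, 17, 16, 17], 39), ([17, 17, 16, 17], 9), ([17, 17, 16, 17], 10), ([17, 17, 16, 17], 36), ([17, 17, 16, 17], 12), ([17, 17, 16, 17], 34), ([17, 17, 16, 17], 33), ([17, 17, 16, 17], 15)]]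
def FW : List (List (List ℕ × ℕ × ℕ)) := [[([], 33, 0), ([16], 62, 0), ([17], 3, 0), ([16, 16], 40, 0), ([16, 17], 11, 0), ([17, 16], 27, 0)], [([], 5, 0), ([16], 31, 0), ([17], 16, 0), ([16, 16], 22, 0), ([16, 17], 8, 0), ([17, 16], 39, 0)]]
def XT : ℕ := nat_lit 0xfc7a3e1e0dc6a361a0ec723a1c0cc62321807c3a1e0e05c2a160a06c321a0c04c2212080bc5a2e1609c4a26120ac522a1408c42221003c1a0e0601c0a060202c120a0400c0202000
def LT : List (ℕ × List ℕ) := [(0, []), (1, [2, 5, 6, 7]), (2, [2, 6, 7]), (3, [5]), (4, [3, 5, 6, 7]), (5, [2, 3]), (6, [2, 3, 5]), (7, [3, 6, 7]), (8, [5, 6]), (9, [2, 7]), (10, [2, 5, 7]), (11, [6]), (12, [3, 7]), (13, [2, 3, 5, 6]), (14, [2, 3, 6]), (15, [3, 5, 7]), (16, [4, 6]), (17, [2, 4, 5, 7]), (18, [2, 4, 7]), (19, [4, 5, 6]), (20, [3, 4, 5, 7]), (21, [2, 3, 4, 6]), (22, [2, 3, 4, 5, 6]), (23, [3, 4, 7]), (24, [4, 5]), (25, [2, 4, 6, 7]), (26, [2, 4, 5, 6, 7]), (27, [4]),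 (28, [3, 4, 6, 7]), (29, [2, 3, 4, 5]), (30, [2, 3, 4]), (31, [3, 4, 5, 6, 7]), (32, [5, 6, 7]), (33, [2]), (34, [2, 5]), (35, [6, 7]), (36, [3]), (37, [2, 3, 5, 6, 7]), (38, [2, 3, 6, 7]), (39, [3, 5]), (40, [7]), (41, [2, 5, 6]), (42, [2, 6]), (43, [5, 7]), (44, [3, 5, 6]), (45, [2, 3, 7]), (46, [2, 3, 5, 7]), (47, [3, 6]), (48, [4, 5, 7]), (49, [2, 4, 6]), (50, [2, 4, 5, 6]), (51, [4, 7]), (52, [3, 4, 6]), (53, [2, 3, 4, 5, 7]), (54, [2, 3, 4, 7]), (55, [3, 4, 5, 6]), (56, [4, 6, 7]), (57, [2, 4, 5]), (58, [2, 4]), (59, [4, 5, 6, 7]), (60, [3, 4, 5]), (61, [2, 3, 4, 6, 7]), (62, [2, 3, 4, 5, 6, 7]), (63, [3, 4])]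
def RC : List (List ℕ × List ℕ × ℕ) := [([0, 1], [9, 16], 0), ([0, 1, 2], [11, 9, 16], 146), ([0, 1, 2, 3], [12, 11, 9, 16], 0), ([0, 1, 2, 3, 4], [16, 12, 11, 16, 14], 270), ([0, 1, 2, 3, 4, 5], [9, 15, 17, 9, 15], 114), ([1, 2], [9, 11, 9, 16], 2), ([1, 2, 3], [12, 9, 11, 9, 16], 144), ([1, 2, 3, 4], [14, 16, 15, 16, 11], 46), ([1, 2, 3, 4, 5], [15, 17, 10, 15], 34), ([2, 3], [12, 15, 16, 17, 13, 12], 144), ([2, 3, 4], [14, 16, 15, 12, 16], 188), ([2, 3, 4, 5], [12, 15, 17, 15], 360), ([3, 4], [17, 9, 16, 14, 12], 202), ([3, 4, 5], [12, 17, 15], 78), ([4, 5], [11, 17, 15], 0), ([0, 1, 6], [15, 9, 16], 146), ([1, 6], [9, 15, 9, 16], 2), ([2, 2, 6], [12, 11, 16, 17, 15], 144), ([3, 3, 2, 2, 6], [11, 16, 17, 13, 12], 146), ([4, 4, 3, 3, 2, 2, 6], [16, 16, 11, 9, 16], 292), ([5, 5, 4, 4, 3, 3, 2, 2, 6], [10, 9, 17, 10, 15], 176)]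
def F5 : List (List ℕ) := [[16, 16, 16, 16, 17], [17, 16, 17], [16, 17]]
def w1 : List ℕ := [4, 6, 6, 3, 6, 6, 0, 3, 5, 4, 6, 6, 3, 6, 6, 0, 3, 5, 4, 6, 6, 3, 6, 6, 0, 3, 5, 4, 6, 6, 3, 6, 6, 0, 3, 5, 4, 6, 6, 3, 6, 6, 0, 3, 5]
def w2 : List ℕ := [6, 3, 3, 1, 0, 6, 3, 5, 6, 3, 0, 2, 0, 1, 6, 5, 4, 1, 3, 1, 6, 6, 0, 2, 4, 5, 5, 2, 3, 0, 6, 2, 4, 6, 0, 2]

def q0 (a b : ℕ) : ℕ := Nat.xor (Nat.xor a b) (Nat.land (Nat.shiftRight PT (Nat.lor (Nat.land (Nat.land (Nat.shiftRight a (nat_lit 1)) b) (nat_lit 170))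
  (Nat.land (Nat.shiftRight (Nat.land a b) (nat_lit 7)) (nat_lit 1)))) (nat_lit 1))
/-- product in the extraspecial group of order 512 -/
def m9 (a b : ℕ) : ℕ := q0 (Nat.mod a (nat_lit 512)) (Nat.mod b (nat_lit 512))
def i9 (a : ℕ) : ℕ := Nat.xor (Nat.mod a 512) (m9 a a)
noncomputable def w9 (a : ℕ) : List ℕ := List.rec [] (fun i _ ih => Bool.rec ih (i :: ih) (bt a i))
  [nat_lit 0, nat_lit 1, nat_lit 2, nat_lit 3, nat_lit 4, nat_lit 5, nat_lit 6, nat_lit 7, nat_lit 8]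
noncomputable def cL (w : List ℕ) : Bool := allL (fun i => Nat.blt i 24) w
noncomputable def cK (w : List ℕ) : Bool := allL (fun i => bor (Nat.beq i 16) (Nat.beq i 17)) w
noncomputable def ac (i a : ℕ) : ℕ := get (nat_lit 9) (nd 0 ACT i) a
noncomputable def apw (w : List ℕ) (a : ℕ) : ℕ := List.rec a (fun i _ ih => force ih (ac i)) w
noncomputable def ap (l : ℕ → ℕ) (c : ℕ) : ℕ := pr m9 ((w9 c).map l)
def rh (a : ℕ) : ℕ := get 9 RH a
/-- images of the letters under an element of the second extraspecial group -/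
def ln (l m i : ℕ) : ℕ := if i < 3 then p2 i else p2 i + 2 * get 1 l (i - 3) + get 1 m (i - 3)
def ep (k i : ℕ) : ℕ := Nat.xor (m9 (p2 k) (p2 i)) (m9 (p2 i) (p2 k))
noncomputable def cond (k a : ℕ) : Bool := band (Nat.blt 1 a) (band (Nat.beq (m9 a a) (m9 (p2 k) (p2 k)))
  (allLt (fun i => Nat.beq (m9 a (p2 i)) (m9 (m9 (p2 i) a) (ep k i))) k))
noncomputable def lvOk (k : ℕ) : Bool := allLt (fun a => bor (bn (cond k a)) (anyL (fun e => band (Nat.beq e.1 a) (band (cL e.2)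
  (band (bor (band (Nat.beq k 1) (bn (Nat.beq a 2))) (cK e.2)) (band (allLt (fun i => Nat.beq (apw e.2 (p2 i)) (p2 i)) k)
    (bor (Nat.beq (apw e.2 a) (p2 k)) (band (Nat.beq k 8) (Nat.beq (apw e.2 a) 384))))))) (nd [] LV k))) 512
noncomputable def stp (w : List ℕ) (l m l' m' : ℕ) : Bool := band (cK w) (band (Nat.blt l' 64) (band (Nat.blt m' 64)
  (allL (fun i => force (apw w (p2 i)) fun c => band (bn (bt c 2)) (Nat.beq (apw w (ln l' m' i)) (ap (ln l m) c))) [0, 1, 3, 4, 5, 6, 7, 8])))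
def XW : List (List ℕ) := [[9], [10], [11], [12], [13], [14], [15]]
def AW : List (List ℕ) := [[0], [1], [18], [19], [20], [21], [22], [23]]
noncomputable def r1 : List ℕ := ex XW w1
noncomputable def r2 : List ℕ := apd (w9 236) (ex XW w2)

end L.CA
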