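import Cfsg.Agent.L.DC5

/-!
More lemmas on coded groups (namespace `L.DC`).
`CG.le_card`, `g2`, `xOk`, `CG.holds2` (two further generators), `Cen.comm3`, `zo2`, `fuse`.
-/

set_option autoImplicit false

namespace L.DC
open H13 H14.PK Subgroup Cfsg

variable {G : Type*} [Group G] {N : ℕ} {mu : ℕ → ℕ → ℕ} {iv : ℕ → ℕ} {e : ℕ → G} {u : G}

theorem CG.le_card (h : CG N mu iv e) {D : Subgroup G} [Finite D] {l : List ℕ} (nd : l.Nodup) (hl : ∀ a ∈ l, a < N ∧ e a ∈ D) :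
    l.length ≤ Nat.card D := by
  rw [← Nat.card_fin l.length]
  exact Nat.card_le_card_of_injective (fun i => (⟨e (l.get i), (hl _ (l.get_mem i)).2⟩ : D)) fun i j r =>
    nd.get_inj_iff.1 (h.inj _ (hl _ (l.get_mem i)).1 _ (hl _ (l.get_mem j)).1 (congrArg Subtype.val r))

/-- letters with two further generators -/
noncomputable def g2 (e : ℕ → G) (cs : List ℕ) (X Y : G) (i : ℕ) : G := if i = 9 then X else if i = 10 then Y else e (nd 0 cs i)

/-- old letters only -/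
noncomputable def lt9 (l : List ℕ) : Bool := allL (fun i => Nat.blt i 9) l

theorem CG.g2w (h : CG N mu iv e) {cs w : List ℕ} {X Y : G} (r : lt9 w = true) :
    H13.evalW (g2 e cs X Y) w = e (DC.pr mu (w.map (nd 0 cs))) := by
  rw [← h.evalW]
  refine congrArg List.prod (List.map_congr_left fun i hi => ?_)
  have := Nat.blt_eq ▸ allL_iff.1 r i hi
  rw [g2, if_neg (by omega), if_neg (by omega)]

/-- the rule holds -/
noncomputable def xOk (mu : ℕ → ℕ → ℕ) (gs aX aY : List ℕ) (WR : ℕ) (cs : List ℕ) (r : ℕ × ℕ × List ℕ) : Bool :=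
  bor (band (lt9 (r.1 :: r.2.1 :: r.2.2)) (Nat.beq (pr mu ([r.1, r.2.1].map (nd 0 cs))) (pr mu (r.2.2.map (nd 0 cs)))))
  (bor (band (band (lt9 [r.2.1]) (band (lt9 r.2.2.dropLast) (eqL r.2.2 (apd r.2.2.dropLast [r.1]))))
      (bor (band (Nat.beq r.1 9) (alp mu gs aX WR (pr mu [nd 0 cs r.2.1]) fun d => Nat.beq d (pr mu (r.2.2.dropLast.map (nd 0 cs)))))
        (band (Nat.beq r.1 10) (alp mu gs aY WR (pr mu [nd 0 cs r.2.1]) fun d => Nat.beq d (pr mu (r.2.2.dropLast.map (nd 0 cs)))))))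
    (anyL (eqL (r.1 :: r.2.1 :: r.2.2)) [[9, 9], [10, 10], [10, 9, 1, 9, 10]]))

theorem CG.holds2 (h : CG N mu iv e) {gs aX aY cs : List ℕ} {WR : ℕ} {X Y : G} (iX : Ind e X gs aX) (iY : Ind e Y gs aY)
    (X2 : X * X = 1) (Y2 : Y * Y = 1) (c : Y * X = e (nd 0 cs 1) * (X * Y)) {RL : Rules}
    (ok : allL (xOk mu gs aX aY WR cs) RL = true) : Holds (g2 e cs X Y) RL := by
  rintro ⟨x, y, w⟩ hr
  have := allL_iff.1 ok _ hr
  simp only [xOk, bor_eq_true, band_eq_true, Nat.beq_eq, anyL_iff, List.mem_cons, List.not_mem_nil, or_false, exists_eq_or_imp,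
    exists_eq_left] at this
  rcases this with ⟨a, b⟩ | ⟨⟨a, b, d⟩, r⟩ | r | r | r
  · simp only [lt9, allL_iff, List.forall_mem_cons] at a
    have k := h.g2w (cs := cs) (X := X) (Y := Y) (w := [x, y]) (allL_iff.2 (by simpa using And.intro a.1 a.2.1))
    rw [b, ← h.g2w (allL_iff.2 a.2.2)] at k
    simpa using k
  · have k := h.g2w (cs := cs) (X := X) (Y := Y) a
    rw [eqL_spec d, apd_eq, evalW_append, h.g2w b]
    simp only [evalW_cons, evalW_nil, mul_one] at k ⊢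
    rcases r with ⟨rfl, r⟩ | ⟨rfl, r⟩
    · obtain ⟨f, f1, f2⟩ := h.alp iX r
      rw [k, ← Nat.eq_of_beq_eq_true f1]; exact f2
    · obtain ⟨f, f1, f2⟩ := h.alp iY r
      rw [k, ← Nat.eq_of_beq_eq_true f1]; exact f2
  all_goals obtain ⟨rfl, rfl, rfl⟩ : _ ∧ _ ∧ _ := by simpa using eqL_spec r
  · exact X2
  · exact Y2
  · simpa [g2] using c

/-- a conjugate of `b` commutes with `a` -/
noncomputable def cmOk (N : ℕ) (mu : ℕ → ℕ → ℕ) (iv : ℕ → ℕ) (gs as : List ℕ) (WR a b : ℕ) (ts : List ℕ) : Bool :=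
  band (band (Nat.beq (mu a (mu a a)) 0) (Nat.beq (mu b (mu b b)) 0)) (fix N mu iv gs as WR [a, iv b, iv a, b] ts fun c =>
    force (mu c (iv a)) fun d => bor (bn (Nat.beq (mu d (mu d d)) 0)) (bor (Nat.beq c 0)
      (band (Nat.beq (mu c c) 0) (trk mu iv gs as WR [0, b] c fun f => Nat.beq f c))))

theorem W_two (h : CG N mu iv e) (b : ℕ) : W e u [0, b] = u * e b * u := by simp [W, h.zero]

theorem Cen.comm3 (h : Cen N mu iv e) {gs as ts : List ℕ} (I : Ind e u gs as) (s : u * u = 1) {WR a b : ℕ}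
    (ok : cmOk N mu iv gs as WR a b ts = true) : W e u [a, iv b, iv a, b] = 1 ∧ u * e b * u * e a = e a * (u * e b * u) := by
  obtain ⟨o1, o2⟩ := band_eq_true.1 ok
  simp only [band_eq_true, Nat.beq_eq, ← h.meq1, ← h.mul] at o1
  obtain ⟨c, -, c1, c2⟩ := h.fix I o2
  obtain ⟨m, hm⟩ : ∃ m, m = u * e b * u := ⟨_, rfl⟩
  have mi : m⁻¹ = u * (e b)⁻¹ * u := by simp [hm, mul_assoc, inv_self s]
  have w : W e u [a, iv b, iv a, b] = m * (e a)⁻¹ * m⁻¹ * e a := by rw [mi, hm]; simp [W, ← h.inv, mul_assoc]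
  have m3 : m⁻¹ ^ 3 = 1 := by
    rw [hm, inv_pow, inv_eq_one]; nth_rw 2 [← inv_self s]; rw [conj_pow, pow_three, o1.2]; simp
  have k : e c = 1 := by
    simp only [force_eq, bor_eq_true, band_eq_true, bn_iff, Nat.beq_eq, ← h.meq1, ← h.mul, ← h.inv, ← c2, w] at c1
    rcases c1 with r | rfl | ⟨r1, r2⟩
    · refine (r ?_).elim
      rw [← pow_three, mul_inv_cancel_right, conj_pow, inv_pow, pow_three, o1.1]; simp
    · exact h.zero
    · obtain ⟨f, f1, f2⟩ := h.trk I r2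
      rw [Nat.eq_of_beq_eq_true f1, W_two h.toCG, ← hm] at f2
      rw [← w, c2] at r1
      have : (m⁻¹ * e c) ^ 3 = 1 := by
        rw [← c2, w, show m⁻¹ * (m * (e a)⁻¹ * m⁻¹ * e a) = (e a)⁻¹ * m⁻¹ * (e a)⁻¹⁻¹ by group, conj_pow, m3]; simp
      rwa [(show Commute m (e c) from f2).inv_left.mul_pow, m3, one_mul, pow_three, r1, mul_one] at this
  rw [c2, ← hm]
  rw [w, k] at c2
  exact ⟨k, by
    calc _ = e a * ((e a)⁻¹ * m * e a * m⁻¹) * m := by group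
      _ = _ := by rw [show (e a)⁻¹ * m * e a * m⁻¹ = (m * (e a)⁻¹ * m⁻¹ * e a)⁻¹ by group, c2]; simp⟩

variable [Finite G]

theorem zo2 {D : Subgroup G} {b : G} (hb : b ∈ D) (b2 : b * b = 1)
    (iso : ∀ g ∈ D, b * (g * b * g⁻¹) = g * b * g⁻¹ * b → g * b * g⁻¹ = b) :
    ∃ L ≤ D, Odd (Nat.card L) ∧ (∀ n ∈ normalizer (D : Set G), ∀ x ∈ L, n * x * n⁻¹ ∈ L) ∧ ∀ g ∈ D, g * b * g⁻¹ * b⁻¹ ∈ L := by
  have z := H08.zstar_elt (x := (⟨b, hb⟩ : D)) (fun g c => Subtype.ext (iso g g.2 (congrArg Subtype.val c.eq)))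
    (H26.isPGroup_zpowers ⟨1, Subtype.ext (by simpa [pow_two] using b2)⟩)
  exact ⟨_, H02.pPrimeCoreOf_le (p := 2) D, Nat.coprime_two_right.1 (H02.pPrimeCoreOf_coprime D), fun n hn x hx =>
    (mem_normalizer_iff.1 (H02.normalizer_le_normalizer_pPrimeCoreOf D hn) x).1 hx, fun g hg => ⟨_, z ⟨g, hg⟩, rfl⟩⟩

theorem fuse {p : ℕ} [Fact p.Prime] {P : Subgroup G} (hP : H26.IsSyl p P ⊤) {x g : G} (hx : ∀ a ∈ P, a * x = x * a)
    (hy : ∀ a ∈ P, a * (g * x * g⁻¹) = g * x * g⁻¹ * a) : ∃ n ∈ normalizer (P : Set G), n * x * n⁻¹ = g * x * g⁻¹ := by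
  obtain ⟨d, d1, d2⟩ := ((hP.cj_of_mem (mem_top g)).mono (K := centralizer {g * x * g⁻¹}) (H26.cj_le_iff.2 fun a ha =>
    mem_centralizer_singleton_iff.2 (cj_comm (hx a ha))) le_top).exists_cj_eq
    (hP.mono (fun a ha => mem_centralizer_singleton_iff.2 (hy a ha)) le_top)
  refine ⟨d * g, H26.cj_eq_iff.1 ((H26.cj_cj _ _ _).symm.trans d2), ?_⟩
  rw [← mul_inv_eq_iff_eq_mul.2 (mem_centralizer_singleton_iff.1 d1)]; group

end L.DC
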