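import Cfsg.Agent.L.DD0
import Cfsg.Agent.S2133

/-!
The coded centraliser of a transvection of `SL(5, 2)` (namespace `L.DD`).
`mu`, `iv`, `el`, `ofCk`, `gen`, `base`, `transport`, `recode`.
-/

set_option autoImplicit false
set_option maxRecDepth 100000

namespace L.DD
open H13 H14.PK H14.PK.TS H27.PKx H27.MG Subgroup
open L.DC hiding qm mu iv wq el wc el_wc el_eq qm_lt

/-- product in the extraspecial group -/
noncomputable def qm (a b : ℕ) : ℕ := force a fun a => force b fun b => Nat.xor (Nat.xor a b)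
  (Nat.land (Nat.shiftRight (nat_lit 0x96) (Nat.land (Nat.land (Nat.shiftRight a 4) (Nat.shiftRight b 1)) 7)) 1)

/-- product of codes -/
noncomputable def mu (a b : ℕ) : ℕ := force a fun a => force b fun b => force (Nat.mod (Nat.div a 128) 168) fun p =>
  Nat.add (qm (Nat.mod a 128) (get 7 AC (Nat.add (Nat.mul 128 p) (Nat.mod b 128))))
    (Nat.mul 128 (get 8 MT (Nat.add (Nat.mul 168 p) (Nat.mod (Nat.div b 128) 168))))

/-- inverse of a code -/
def iv (a : ℕ) : ℕ := get 16 IV (Nat.mod a 21504)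

/-- the word of an element of the extraspecial group -/
noncomputable def wq (a : ℕ) : List ℕ :=
  List.rec [] (fun i _ ih => Bool.rec ih (i :: ih) (bt a i)) [nat_lit 0, nat_lit 1, nat_lit 2, nat_lit 3, nat_lit 4, nat_lit 5, nat_lit 6]

/-- the word of a code -/
noncomputable def wc (a : ℕ) : List ℕ := apd (wq (a % 128)) (nd [] WT (a / 128 % 168))

/-- the rules -/
noncomputable def ruleOk (ck : List ℕ → List ℕ → Bool) : Bool :=
  band (allLt (fun a => allLt (fun i => ck (apd (wq a) [i]) (wq (qm a (p2 i)))) 7) 128)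
    (allL (fun t => band (allLt (fun a => ck (t.1 :: wq a) (apd (wq (get 7 AC (128 * t.2 + a))) [t.1])) 128)
      (allLt (fun p => ck (apd (nd [] WT p) [t.1]) (nd [] WT (get 8 MT (168 * p + t.2)))) 168)) TG)

theorem qm_ok : allLt (fun b => band (allLt (fun a => Nat.blt (qm a b) 128) 128)
    (bor (band (Nat.beq b 0) (allLt (fun a => Nat.beq (qm a 0) a) 128)) (force (Nat.log2 b) fun i => force (b - p2 i) fun c =>
      band (band (Nat.blt i 7) (Nat.blt c b)) (band (Nat.beq (qm c (p2 i)) b)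
        (allLt (fun a => Nat.beq (qm a b) (qm (qm a c) (p2 i))) 128))))) 128 = true := by decide +kernel

theorem tab_ok : allLt (fun q => band (allLt (fun p => Nat.blt (get 8 MT (168 * p + q)) 168) 168)
    (bor (band (Nat.beq q 0) (band (allLt (fun a => Nat.beq (get 7 AC a) a) 128)
        (allLt (fun p => Nat.beq (get 8 MT (168 * p)) p) 168)))
      (force (get 16 TR q % 256) fun q0 => force (get 16 TR q / 256) fun t => band (band (Nat.blt q0 q) (memL t (TG.map Prod.snd)))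
        (band (Nat.beq (get 8 MT (168 * q0 + t)) q) (band
          (allLt (fun a => Nat.beq (get 7 AC (128 * q + a)) (get 7 AC (128 * q0 + get 7 AC (128 * t + a)))) 128)
          (allLt (fun p => Nat.beq (get 8 MT (168 * p + q)) (get 8 MT (168 * get 8 MT (168 * p + q0) + t))) 168)))))) 168 = true := by
  decide +kernel

theorem iv_ok : allLt (fun a => force (iv a) fun b => band (band (Nat.blt b 21504) (Nat.beq (mu a b) 0))
    (Nat.beq (mu a 1) (mu 1 a))) 21504 = true := by decide +kernel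

theorem gen_ok : Nat.beq (Nat.land (ones 21504) (orb (fun g p => mu p g) [2067, 8358] 21504 [0] 1)) (ones 21504) = true := by
  decide +kernel

theorem qm_lt {a b : ℕ} (ha : a < 128) (hb : b < 128) : qm a b < 128 := by
  have := qm_ok
  simp only [band_eq_true, allLt_iff, Nat.blt_eq] at this
  exact (this b hb).1 a ha

theorem mu_eq (a b : ℕ) : mu a b = qm (a % 128) (get 7 AC (128 * (a / 128 % 168) + b % 128)) +
    128 * get 8 MT (168 * (a / 128 % 168) + b / 128 % 168) := rfl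

theorem mt_lt {p q : ℕ} (hp : p < 168) (hq : q < 168) : get 8 MT (168 * p + q) < 168 := by
  have := tab_ok
  simp only [band_eq_true, allLt_iff, Nat.blt_eq] at this
  exact (this q hq).1 p hp

theorem mu_lt (a b : ℕ) : mu a b < 21504 := by
  have c1 := qm_lt (Nat.mod_lt a (by decide)) (get_lt 7 AC (128 * (a / 128 % 168) + b % 128))
  have c2 := mt_lt (Nat.mod_lt (a / 128) (by decide)) (Nat.mod_lt (b / 128) (by decide))
  rw [mu_eq]; omega

variable {G : Type*} [Group G]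

/-- the coded elements -/
noncomputable def el (g : ℕ → G) (a : ℕ) : G := evalW g (wc a)

theorem ofCk {g : ℕ → G} {ck : List ℕ → List ℕ → Bool} (h : ∀ u v, ck u v = true → evalW g u = evalW g v)
    (ok : ruleOk ck = true) (a b : ℕ) : el g a * el g b = el g (mu a b) := by
  have hq := qm_ok
  have ht := tab_ok
  simp only [ruleOk, band_eq_true, bor_eq_true, allLt_iff, allL_iff, Nat.beq_eq, Nat.blt_eq, force_eq,
    memL_iff, List.mem_map] at ok hq ht
  obtain ⟨κ, hκ⟩ : ∃ κ : ℕ → G, κ = fun a => evalW g (wq a) := ⟨_, rfl⟩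
  obtain ⟨τ, hτ⟩ : ∃ τ : ℕ → G, τ = fun p => evalW g (nd [] WT p) := ⟨_, rfl⟩
  have ee : ∀ a, el g a = κ (a % 128) * τ (a / 128 % 168) := fun a => by rw [hκ, hτ, el, wc, apd_eq, evalW_append]
  have k0 : κ 0 = 1 := by rw [hκ]; rfl
  have τ0 : τ 0 = 1 := by rw [hτ]; rfl
  have kg : ∀ a < 128, ∀ i < 7, κ (qm a (p2 i)) = κ a * g i := fun a ha i hi => by
    have := h _ _ (ok.1 a ha i hi)
    rw [apd_eq, evalW_append] at this
    rw [hκ]; simpa using this.symm
  have km : ∀ b < 128, ∀ a < 128, κ (qm a b) = κ a * κ b := fun b => by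
    induction b using Nat.strong_induction_on with
    | _ b ih =>
      intro hb a ha
      rcases (hq b hb).2 with ⟨rfl, r⟩ | ⟨⟨hi, hc⟩, e1, e2⟩
      · rw [r a ha, k0, mul_one]
      · rw [e2 a ha, kg _ (qm_lt ha (hc.trans hb)) _ hi, ih _ hc (hc.trans hb) a ha, mul_assoc, ← kg _ (hc.trans hb) _ hi, e1]
  have l7 : ∀ i, get 7 AC i < 128 := fun i => get_lt 7 AC i
  have g1 : ∀ t ∈ TG, ∀ a < 128, g t.1 * κ a = κ (get 7 AC (128 * t.2 + a)) * g t.1 := fun t h1 a ha => by
    have := h _ _ ((ok.2 t h1).1 a ha)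
    rw [apd_eq, evalW_append] at this
    rw [hκ]; simpa using this
  have g2 : ∀ t ∈ TG, ∀ p < 168, τ p * g t.1 = τ (get 8 MT (168 * p + t.2)) := fun t h1 p hp => by
    have := h _ _ ((ok.2 t h1).2 p hp)
    rw [apd_eq, evalW_append] at this
    rw [hτ]; simpa using this
  have main : ∀ q < 168, (∀ a < 128, τ q * κ a = κ (get 7 AC (128 * q + a)) * τ q) ∧
      ∀ p < 168, τ p * τ q = τ (get 8 MT (168 * p + q)) := fun q => by
    induction q using Nat.strong_induction_on with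
    | _ q ih =>
      intro hq
      rcases (ht q hq).2 with ⟨rfl, a1, a2⟩ | ⟨⟨a1, t, a2, a3⟩, a4, a5, a6⟩
      · exact ⟨fun a ha => by rw [τ0, Nat.mul_zero, Nat.zero_add, a1 a ha, one_mul, mul_one],
          fun p hp => by rw [Nat.add_zero, a2 p hp, τ0, mul_one]⟩
      · rw [← a3] at a4 a5 a6
        generalize get 16 TR q % 256 = q0 at *
        obtain ⟨b1, b2⟩ := ih q0 a1 (a1.trans hq)
        have e : τ q = τ q0 * g t.1 := by rw [g2 t a2 q0 (a1.trans hq), a4]
        exact ⟨fun a ha => by rw [a5 a ha, e, mul_assoc, g1 t a2 a ha, ← mul_assoc, b1 _ (l7 _), mul_assoc],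
          fun p hp => by rw [a6 p hp, e, ← mul_assoc, b2 p hp, g2 t a2 _ (mt_lt hp (a1.trans hq))]⟩
  have m7 : ∀ a : ℕ, a % 128 < 128 := fun a => Nat.mod_lt _ (by decide)
  have mp : ∀ a : ℕ, a % 168 < 168 := fun a => Nat.mod_lt _ (by decide)
  have c1 := qm_lt (m7 a) (l7 (128 * (a / 128 % 168) + b % 128))
  rw [mu_eq, ee, ee, ee, Nat.add_mul_mod_self_left, Nat.mod_eq_of_lt c1, Nat.add_mul_div_left _ _ (by decide),
    Nat.div_eq_of_lt c1, Nat.zero_add, Nat.mod_eq_of_lt (mt_lt (mp _) (mp _)), km _ (l7 _) _ (m7 _), mul_assoc, mul_assoc,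
    ← (main _ (mp _)).2 _ (mp _), ← mul_assoc (τ _), (main _ (mp _)).1 _ (m7 _), mul_assoc]

theorem iv_lt (a : ℕ) : iv a < 21504 ∧ mu (a % 21504) (iv a) = 0 := by
  have := allLt_iff.1 iv_ok _ (Nat.mod_lt a (by decide))
  simp only [force_eq, band_eq_true, Nat.blt_eq, Nat.beq_eq] at this
  rw [show iv (a % 21504) = iv a from congrArg (get 16 IV) (Nat.mod_mod _ _)] at this
  exact this.1

theorem gen {P : ℕ → Prop} (h0 : P 0) (h1 : ∀ a, P a → P (mu a 2067)) (h2 : ∀ a, P a → P (mu a 8358)) {a : ℕ}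
    (ha : a < 21504) : P a :=
  orb_spec (P := P) (by simpa using ⟨h1, h2⟩) _ (by simpa using h0)
    (fun p hp => List.mem_singleton.1 (bt_mkM (l := [0]) hp) ▸ h0) a
    (bt_of_sub gen_ok (by rw [bt_eq, ones_eq, Nat.testBit_two_pow_sub_one]; simpa using ha))

/-- a coded centraliser -/
abbrev Ce (e : ℕ → G) : Prop := Cen 21504 mu iv e

theorem ce_of [Finite G] {g : ℕ → G} (hm : ∀ a b, el g a * el g b = el g (mu a b)) (z1 : g 0 ≠ 1)
    (c : Nat.card (centralizer ({g 0} : Set G)) = 21504)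
    (s : ∀ K : Subgroup G, (∀ a, el g a ∈ K) → centralizer ({g 0} : Set G) ≤ K) : Ce (el g) := by
  have e1 : el g 1 = g 0 := mul_one _
  have e0 : el g 0 = 1 := rfl
  have rd : ∀ a, el g (a % 21504) = el g a := fun a => by
    rw [el, el, wc, wc, show 21504 = 128 * 168 from rfl, Nat.mod_mul_right_mod, Nat.mod_mul_right_div_self, Nat.mod_mod]
  have hi : ∀ a, (el g a)⁻¹ = el g (iv a) := fun a => inv_eq_of_mul_eq_one_right (by rw [← rd a, hm, (iv_lt a).2, e0])
  have sj : ∀ x, x * g 0 = g 0 * x → ∃ a < 21504, el g a = x := fun x hx => by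
    obtain ⟨a, r⟩ := s ⟨⟨⟨Set.range (el g), by rintro _ _ ⟨a, rfl⟩ ⟨b, rfl⟩; exact ⟨_, (hm a b).symm⟩⟩, ⟨0, e0⟩⟩,
      by rintro _ ⟨a, rfl⟩; exact ⟨_, (hi a).symm⟩⟩ (fun a => ⟨a, rfl⟩) (mem_centralizer_singleton_iff.2 hx)
    exact ⟨_, Nat.mod_lt a (by decide), (rd a).trans r⟩
  have cm : ∀ a < 21504, el g a * g 0 = g 0 * el g a := fun a ha => by
    have := allLt_iff.1 iv_ok a ha
    simp only [force_eq, band_eq_true, Nat.beq_eq] at this
    rw [← e1, hm, hm, this.2]
  have bj := (show Function.Surjective fun a : Fin 21504 => (⟨el g a, mem_centralizer_singleton_iff.2 (cm a a.2)⟩ :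
      centralizer ({g 0} : Set G)) from fun x => by
    obtain ⟨a, ha, r⟩ := sj x (mem_centralizer_singleton_iff.1 x.2)
    exact ⟨⟨a, ha⟩, Subtype.ext r⟩).bijective_of_nat_card_le (by rw [c, Nat.card_fin])
  exact ⟨⟨hm, hi, e0, fun a => ⟨_, Nat.mod_lt a (by decide), rd a⟩, fun a ha b hb r =>
    congrArg Fin.val (bj.1 (a₁ := ⟨a, ha⟩) (a₂ := ⟨b, hb⟩) (Subtype.ext r)), mu_lt, fun a => (iv_lt a).1⟩,
    fun x => e1 ▸ ⟨sj x, fun ⟨a, ha, r⟩ => r ▸ cm a ha⟩, by rw [hm]; exact (congrArg _ (by decide +kernel)).trans e0, e1 ▸ z1⟩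

open Cfsg.Agent.S2133 in
theorem base (s : Matrix.SpecialLinearGroup (Fin 5) (ZMod 2))
    (hs : (s : Matrix (Fin 5) (Fin 5) (ZMod 2)) = Matrix.transvection 0 1 1) : ∃ e, Ce e ∧ e 1 = s := by
  have hL : ∀ t ∈ LS.map (·.2.2.2), S5.In ⊤ t := in_slL (by decide +kernel)
  have es : gn S5 (LS.map (·.2.2.2)) 0 = s := by
    rw [← el_tb (S := S5) s, show S5.tb s = A from sl_tb hs (by decide +kernel)]; rfl
  have eA : gn S5 (LS.map (·.2.2.2)) 0 = S5.el A := rfl
  refine ⟨_, ce_of (ofCk (fun u v => eqX_spec g_full.base hL) (by decide +kernel)) (fun r => ?_) ?_ fun K hK => ?_,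
    (mul_one _).trans es⟩
  · rw [es] at r
    have := congrFun (congrFun hs 0) 1
    rw [r] at this
    exact absurd this (by decide)
  · rw [eA, ← top_inf_eq (centralizer _)]; exact d_full.card.trans (by decide +kernel)
  · rw [eA, ← top_inf_eq (centralizer _)]
    refine d_full.le fun l hl t ht => ?_
    have := mem_chT.2 ⟨l, hl, ht⟩
    rw [← eqL_spec (show eqL (DS.map fun a => tw 5 32 (LS.map (·.2.2.2)) (wc a)) (chT dCh) = true by decide +kernel)] at this
    obtain ⟨a, -, rfl⟩ := List.mem_map.1 this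
    exact (In.tw hL _).of_el (el_tw hL _ ▸ hK a)

variable {e : ℕ → G}

theorem zen_ok : allLt (fun c => bor (Nat.blt c 2) (bn (band (Nat.beq (mu c 2067) (mu 2067 c)) (Nat.beq (mu c 8358) (mu 8358 c)))))
    21504 = true := by decide +kernel

theorem Ce.center (h : Ce e) {x : G} (c : ∀ a, x * e a = e a * x) : x = 1 ∨ x = e 1 := by
  obtain ⟨d, hd, rfl⟩ := (h.cen x).1 (c 1)
  have := allLt_iff.1 zen_ok d hd
  simp only [bor_eq_true, band_eq_true, bn_iff, Nat.blt_eq, Nat.beq_eq, ← h.meq, c, and_self, not_true, or_false] at this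
  interval_cases d
  exacts [.inl h.zero, .inr rfl]

theorem Ce.transport {X : Type*} [Group X] {e' : ℕ → X} (h : Ce e') {t : G} (t1 : t ≠ 1)
    (φ : centralizer ({t} : Set G) ≃* centralizer ({e' 1} : Set X)) : ∃ e : ℕ → G, Ce e ∧ e 1 = t := by
  have m : ∀ a, e' a ∈ centralizer ({e' 1} : Set X) := fun a => mem_centralizer_singleton_iff.2 (h.zc a)
  have k : ∀ {a b}, (φ.symm ⟨e' a, m a⟩).1 = φ.symm ⟨e' b, m b⟩ ↔ e' a = e' b := by
    intro a b; rw [← Subtype.ext_iff, φ.symm.apply_eq_iff_eq, Subtype.ext_iff]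
  have tt : t ∈ centralizer ({t} : Set G) := mem_centralizer_singleton_iff.2 rfl
  have e1 : (φ.symm ⟨e' 1, m 1⟩).1 = t := by
    rcases h.center (x := φ ⟨t, tt⟩) (fun a => by
      have := congrArg (fun x => (φ x).1) (show ⟨t, tt⟩ * φ.symm ⟨e' a, m a⟩ = φ.symm ⟨e' a, m a⟩ * ⟨t, tt⟩ from
        Subtype.ext (mem_centralizer_singleton_iff.1 (φ.symm ⟨e' a, m a⟩).2).symm)
      simpa using this) with r | r
    · exact (t1 (congrArg Subtype.val (φ.map_eq_one_iff.1 (Subtype.ext r)))).elim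
    · rw [← show φ ⟨t, tt⟩ = ⟨e' 1, m 1⟩ from Subtype.ext r, φ.symm_apply_apply]
  have mu' : ∀ a b, (φ.symm ⟨e' a, m a⟩).1 * φ.symm ⟨e' b, m b⟩ = φ.symm ⟨e' (mu a b), m _⟩ := fun a b => by
    rw [← coe_mul, ← map_mul]; exact congrArg (fun x => (φ.symm x).1) (Subtype.ext (h.mul a b))
  have z0 : (φ.symm ⟨e' 0, m 0⟩).1 = 1 := by rw [show (⟨e' 0, m 0⟩ : centralizer _) = 1 from Subtype.ext h.zero, map_one]; rfl
  refine ⟨fun a => φ.symm ⟨e' a, m a⟩, ⟨⟨fun a b => mu' a b, fun a => ?_, z0, fun a => (h.red a).imp fun b r => ⟨r.1, k.2 r.2⟩,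
    fun a ha b hb r => h.inj a ha b hb (k.1 r), h.mu_lt, h.iv_lt⟩, fun x => ?_, ?_, fun r => t1 (e1.symm.trans r)⟩, e1⟩
  · rw [← coe_inv, ← map_inv]; exact congrArg (fun x => (φ.symm x).1) (Subtype.ext (h.inv a))
  · simp only [e1, ← mem_centralizer_singleton_iff]
    refine ⟨fun r => ?_, by rintro ⟨a, -, rfl⟩; exact Subtype.prop _⟩
    obtain ⟨a, ha, s⟩ := (h.cen _).1 (mem_centralizer_singleton_iff.1 (φ ⟨x, r⟩).2)
    exact ⟨a, ha, by rw [show (⟨e' a, m a⟩ : centralizer _) = φ ⟨x, r⟩ from Subtype.ext s, φ.symm_apply_apply]⟩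
  · rw [mu', ← z0, k, ← h.mul, h.z2, h.zero]

theorem ce_of_iso {s : Matrix.SpecialLinearGroup (Fin 5) (ZMod 2)}
    (hs : (s : Matrix (Fin 5) (Fin 5) (ZMod 2)) = Matrix.transvection 0 1 1) {t : G} (t1 : t ≠ 1)
    (φ : centralizer ({t} : Set G) ≃* centralizer ({s} : Set _)) : ∃ e : ℕ → G, Ce e ∧ e 1 = t := by
  obtain ⟨e, h, rfl⟩ := base s hs
  exact h.transport t1 φ

/-- the graph automorphism -/
noncomputable def th (a : ℕ) : ℕ := pr mu ((wc a).map (nd 0 CS))

theorem Ce.recode [Finite G] (h : Ce e) : Ce fun a => e (th a) := by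
  have r : ∀ a, el (fun i => e (nd 0 CS i)) a = e (th a) := fun a => h.evalW _ _
  rw [← funext r]
  refine ce_of (ofCk (ck := fun u v => Nat.beq (pr mu (u.map (nd 0 CS))) (pr mu (v.map (nd 0 CS))))
    (fun u v c => by rw [h.evalW, h.evalW, Nat.eq_of_beq_eq_true c]) (by decide +kernel)) h.z1 h.card_cen fun K hK x hx => ?_
  obtain ⟨a, ha, rfl⟩ := (h.cen x).1 (mem_centralizer_singleton_iff.1 hx)
  have k : ∀ a, th (th a) = a → e a ∈ K := fun a c => by rw [← c, ← r]; exact hK _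
  exact gen (P := fun a => e a ∈ K) (h.zero ▸ K.one_mem) (fun a c => h.mul _ _ ▸ K.mul_mem c (k _ (by decide +kernel)))
    (fun a c => h.mul _ _ ▸ K.mul_mem c (k _ (by decide +kernel))) ha

end L.DD
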