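import Cfsg.Agent.L.DC6

/-!
Certificates for double coset enumerations with several extra generators (namespace `L.DE`).
`W`, `Dat`, `run`, `steps`, `sound`, `bound`, `hom`, `col1`, `col0`.
-/

set_option autoImplicit false

namespace L.DE
open H13 hiding cnt cnt_eq
open H14.PK
open L.DC hiding Dat run W steps node Ok Rel chk Step finOk W_append ok_zero colOk

variable {G : Type*} [Group G] {N : ℕ} {mu : ℕ → ℕ → ℕ} {iv : ℕ → ℕ} {e : ℕ → G}

/-- tables of a certificate: definitions, equations, the actions on the common subgroups, relators -/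
structure Dat where
  DF : ℕ
  EQ : ℕ
  AL : List ℕ
  RL : List (List ℕ)

namespace Dat
variable (D : Dat)
def dx (i : ℕ) : ℕ := get 16 D.DF (Nat.mul 2 i)
def da (i : ℕ) : ℕ := get 16 D.DF (Nat.succ (Nat.mul 2 i))
def ec (j : ℕ) : ℕ := get 16 D.EQ (Nat.mul 3 j)
def ea (j : ℕ) : ℕ := get 16 D.EQ (Nat.add (Nat.mul 3 j) 1)
def eb (j : ℕ) : ℕ := get 16 D.EQ (Nat.add (Nat.mul 3 j) 2)
noncomputable def al (k r : ℕ) : ℕ := get 16 (nd 0 D.AL k) r
end Dat

abbrev Ms := List (ℕ × ℕ)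

/-- membership in a recorded stabiliser -/
noncomputable def inS (ms : Ms) (m a x : ℕ) : Bool := force x fun x =>
  bor (Nat.beq x 0) (band (Nat.beq (nd (0, 0) ms m).1 a) (bt (nd (0, 0) ms m).2 x))

/-- follow a path -/
noncomputable def run (mu : ℕ → ℕ → ℕ) (iv : ℕ → ℕ) (D : Dat) (ie : ℕ) (ms : Ms) (mv : List ℕ) :
    List ℕ → ℕ → ℕ → (ℕ → ℕ → Bool) → Bool :=
  List.rec (fun rel d a k => List.rec (k d a) (fun _ _ _ => false) rel) (fun x _ ih rel d a k =>
    force (Nat.div x 4) fun j => force (Nat.mod j 65536) fun r => force (Nat.mod (Nat.div j 65536) 65536) fun i =>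
    Bool.rec
      (Bool.rec
        (List.rec false (fun c rel' _ => force (D.dx i) fun y => force (D.al (Nat.div y 32768) r) fun t =>
          band (band (band (Nat.beq (D.da i) a) (Nat.ble a i)) (band (Nat.blt 0 t) (Nat.beq (Nat.div c 32768) (Nat.div y 32768))))
          (band (inS ms (Nat.div j 4294967296) a (mu (iv (mu r (Nat.mod y 32768))) (mu (Nat.mod c 32768) d)))
            (force (Nat.pred t) fun d' => force (Nat.succ i) fun a' => ih rel' d' a' k))) rel)
        (band (inS ms i a (mu (iv r) d)) (ih rel r a k)) (Nat.beq (Nat.mod x 4) 2))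
      (band (Nat.blt j ie) (Bool.rec
        (band (Nat.beq (D.eb j) a) (force (mu d (iv (D.ec j))) fun d' => force (D.ea j) fun a' => ih rel d' a' k))
        (band (Nat.beq (D.ea j) a) (force (mu d (D.ec j)) fun d' => force (D.eb j) fun a' => ih rel d' a' k))
        (Nat.beq (Nat.mod x 4) 0)))
      (Nat.blt (Nat.mod x 4) 2)) mv

/-- the value of a relator, read backwards -/
def W (e u : ℕ → G) : List ℕ → G
  | [] => 1
  | c :: l => W e u l * (u (c / 32768) * e (c % 32768))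

theorem W_append (u : ℕ → G) (l m : List ℕ) : W e u (l ++ m) = W e u m * W e u l := by
  induction l with
  | nil => simp [W]
  | cons c l ih => simp [W, ih, mul_assoc]

/-- the claimed equation -/
noncomputable def chk (mu : ℕ → ℕ → ℕ) (iv : ℕ → ℕ) (D : Dat) (j d a d' a' : ℕ) : Bool :=
  band (band (Nat.beq (D.ea j) a) (Nat.beq (D.eb j) a')) (Nat.beq (D.ec j) (mu (iv d) d'))

abbrev Step := ℕ × List ℕ × List ℕ

/-- check the steps -/
noncomputable def steps (N : ℕ) (mu : ℕ → ℕ → ℕ) (iv : ℕ → ℕ) (D : Dat) (ss : List Step) : ℕ → Ms → (ℕ → Ms → Bool) → Bool :=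
  List.rec (fun ie ms k => k ie ms) (fun s _ ih ie ms k => force s.1 fun x => force (get 16 x 1) fun d =>
    Bool.rec
      (force (get 16 x 2) fun a => force (get 16 x 3) fun rid => force (get 16 x 4) fun rot =>
        band (run mu iv D ie ms s.2.1 (Bool.rec (Bool.rec [] [Nat.mul 32768 rid] (Nat.beq (get 16 x 0) 2))
            (apd ((nd [] D.RL rid).drop rot) ((nd [] D.RL rid).take rot)) (Nat.beq (get 16 x 0) 3)) d a
          fun d1 a1 => run mu iv D ie ms s.2.2 (Bool.rec [] [Nat.mul 32768 rid] (Nat.beq (get 16 x 0) 2)) d a fun d2 a2 =>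
            bor (chk mu iv D ie d1 a1 d2 a2) (chk mu iv D ie d2 a2 d1 a1))
        (force (Nat.succ ie) fun ie' => ih ie' ms k))
      (band (allL (fun j => band (Nat.blt j ie) (band (Nat.beq (D.ea j) d) (Nat.beq (D.eb j) d))) s.2.1)
        (force (orb (fun j p => mu p (D.ec j)) s.2.1 N [0] 1) fun M => ih ie ((d, M) :: ms) k))
      (Nat.beq (get 16 x 0) 0)) ss

/-- the nodes -/
noncomputable def node (H : Subgroup G) (e u : ℕ → G) (D : Dat) : ℕ → G ⧸ H
  | 0 => (1 : G)
  | i + 1 => if h : D.da i ≤ i then (u (D.dx i / 32768) * e (D.dx i % 32768)) • node H e u D (D.da i) else (1 : G)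
  decreasing_by omega

/-- what has been proved -/
def Ok (H : Subgroup G) (e u : ℕ → G) (D : Dat) (ie : ℕ) (ms : Ms) : Prop :=
  (∀ j < ie, node H e u D (D.ea j) = e (D.ec j) • node H e u D (D.eb j)) ∧
    ∀ m ∈ ms, ∀ c, bt m.2 c = true → e c • node H e u D m.1 = node H e u D m.1

/-- the relations used -/
def Rel (e u : ℕ → G) (AL : List ℕ) (RL : List (List ℕ)) : Prop :=
  (∀ k r, 0 < get 16 (nd 0 AL k) r → u k * e r = e (get 16 (nd 0 AL k) r - 1) * u k) ∧ ∀ l ∈ RL, W e u l = 1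

variable {H : Subgroup G} {u : ℕ → G} {D : Dat} {ie : ℕ} {ms : Ms}

theorem Ok.nd (o : Ok H e u D ie ms) (m c : ℕ) (r : bt (nd (0, 0) ms m).2 c = true) :
    e c • node H e u D (nd (0, 0) ms m).1 = node H e u D (nd (0, 0) ms m).1 :=
  nd_prop (p := fun m : ℕ × ℕ => bt m.2 c = true → e c • node H e u D m.1 = node H e u D m.1) (fun r => (bt_zero r).elim)
    (fun m hm => o.2 m hm c) m r

theorem inS1 (h : CG N mu iv e) (o : Ok H e u D ie ms) {m a x : ℕ} (r : inS ms m a x = true) :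
    e x • node H e u D a = node H e u D a := by
  simp only [inS, force_eq, bor_eq_true, band_eq_true, Nat.beq_eq] at r
  rcases r with r | ⟨rfl, r2⟩
  · rw [r, h.zero, one_smul]
  · exact o.nd m _ r2

theorem inS2 (h : CG N mu iv e) (o : Ok H e u D ie ms) {m a x y : ℕ} (r : inS ms m a (mu (iv x) y) = true) :
    e x • node H e u D a = e y • node H e u D a := by
  have := inS1 h o r
  rw [← h.mul, ← h.inv, mul_smul, inv_smul_eq_iff] at this
  exact this.symm

theorem run_spec (h : CG N mu iv e) (R : Rel e u D.AL D.RL) (o : Ok H e u D ie ms) {mv rel : List ℕ} {d a : ℕ}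
    {k : ℕ → ℕ → Bool} (r : run mu iv D ie ms mv rel d a k = true) :
    ∃ d' a', k d' a' = true ∧ e d' • node H e u D a' = W e u rel • e d • node H e u D a := by
  induction mv generalizing rel d a with
  | nil => cases rel with
    | nil => exact ⟨d, a, r, (one_smul _ _).symm⟩
    | cons => cases r
  | cons x mv ih =>
    unfold run at r
    simp only [force_eq] at r
    generalize Nat.blt (Nat.mod x 4) 2 = b1 at r
    generalize Nat.beq (Nat.mod x 4) 2 = b2 at r
    generalize Nat.beq (Nat.mod x 4) 0 = b3 at r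
    generalize Nat.div x 4 = j at r
    cases b1
    · cases b2
      · cases rel with
        | nil => cases r
        | cons c rel =>
          simp only [band_eq_true, Nat.beq_eq, Nat.ble_eq, Nat.blt_eq] at r
          obtain ⟨⟨⟨r1, r2⟩, r3, r6⟩, r4, r5⟩ := r
          obtain ⟨d', a', s1, s2⟩ := ih r5
          refine ⟨d', a', s1, ?_⟩
          rw [s2, W, mul_smul, mul_smul, smul_smul (e _) (e d), h.mul, show c / 32768 = _ from r6]
          erw [← inS2 h o r4]
          rw [Nat.succ_eq_add_one, node, dif_pos (r1 ▸ r2), r1, ← h.mul, smul_smul (u _), ← mul_assoc]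
          erw [R.1 _ _ r3]
          rw [smul_smul (e _), mul_assoc]
          rfl
      · simp only [band_eq_true] at r
        obtain ⟨d', a', s1, s2⟩ := ih r.2
        exact ⟨d', a', s1, by rw [s2, inS2 h o r.1]⟩
    · cases b3 <;> simp only [band_eq_true, Nat.beq_eq, Nat.blt_eq] at r <;> obtain ⟨r1, rfl, r2⟩ := r <;>
        obtain ⟨d', a', s1, s2⟩ := ih r2 <;> refine ⟨d', a', s1, ?_⟩
      · rw [s2, o.1 j r1, ← h.mul, ← h.inv, mul_smul, inv_smul_smul]
      · rw [s2, o.1 j r1, ← h.mul, mul_smul]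

theorem sound (h : CG N mu iv e) (R : Rel e u D.AL D.RL) {ss : List Step} {k : ℕ → Ms → Bool}
    (o : Ok H e u D ie ms) (r : steps N mu iv D ss ie ms k = true) : ∃ ie ms, k ie ms = true ∧ Ok H e u D ie ms := by
  induction ss generalizing ie ms with
  | nil => exact ⟨ie, ms, r, o⟩
  | cons s ss ih =>
    unfold steps at r
    simp only [force_eq] at r
    generalize Nat.beq (get 16 s.1 0) 0 = b at r
    cases b <;> obtain ⟨r1, r2⟩ := band_eq_true.1 r <;> refine ih ?_ r2
    · refine ⟨fun j hj => (Nat.lt_succ_iff_lt_or_eq.1 hj).elim (o.1 j) ?_, o.2⟩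
      rintro rfl
      obtain ⟨d1, a1, s1, t1⟩ := run_spec h R o r1
      obtain ⟨d2, a2, s2, t2⟩ := run_spec h R o s1
      have t : e d1 • node H e u D a1 = e d2 • node H e u D a2 := by
        rw [t1, t2]
        cases c : Nat.beq (get 16 s.1 0) 3
        · rfl
        · have := nd_prop (p := fun l => W e u l = 1) (d := []) rfl R.2 (get 16 s.1 3)
          rw [← List.take_append_drop (get 16 s.1 4) (nd [] D.RL _), W_append] at this
          rw [Nat.eq_of_beq_eq_true c]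
          simp only [apd_eq, W_append, mul_eq_one_comm.1 this]
          rfl
      simp only [chk, bor_eq_true, band_eq_true, Nat.beq_eq] at s2
      rcases s2 with ⟨⟨a, b⟩, c⟩ | ⟨⟨a, b⟩, c⟩ <;> rw [a, b, c, ← h.mul, ← h.inv, mul_smul, eq_inv_smul_iff, t]
    · refine ⟨o.1, List.forall_mem_cons.2 ⟨fun c hc => ?_, o.2⟩⟩
      simp only [band_eq_true, allL_iff, Nat.blt_eq, Nat.beq_eq] at r1
      refine orb_spec (P := fun c => e c • node H e u D (get 16 s.1 1) = node H e u D (get 16 s.1 1)) (fun j hj p hp => ?_) N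
        (by simp [h.zero]) (fun p hp => ?_) c hc
      · have := o.1 j (r1 j hj).1
        rw [(r1 j hj).2.1, (r1 j hj).2.2] at this
        rw [← h.mul, mul_smul, ← this, hp]
      · obtain rfl : p = 0 := List.mem_singleton.1 (bt_mkM (l := [0]) hp)
        rw [h.zero, one_smul]

theorem ok_top (h : CG N mu iv e) {M : ℕ} : Ok h.sub e u D 0 [(0, M)] :=
  ⟨fun _ h => (Nat.not_lt_zero _ h).elim, List.forall_mem_singleton.2 fun c _ => by
    rw [node]; exact QuotientGroup.eq.2 (by simpa using h.mem' c)⟩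

/-- the last equation says that `c` fixes the node `a` -/
noncomputable def lst (D : Dat) (a c ie : ℕ) (_ : Ms) : Bool := band (Nat.blt 0 ie) (force (Nat.pred ie) fun j =>
    band (band (Nat.beq (D.ea j) a) (Nat.beq (D.eb j) a)) (Nat.beq (D.ec j) c))

theorem Ok.lst (o : Ok H e u D ie ms) {a c : ℕ} (r : lst D a c ie ms = true) : node H e u D a = e c • node H e u D a := by
  simp only [DE.lst, band_eq_true, Nat.beq_eq, Nat.blt_eq, force_eq] at r
  have := o.1 _ (Nat.pred_lt r.1.ne')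
  rwa [r.2.1.1, r.2.1.2, r.2.2] at this

theorem col1 (h : Cen N mu iv e) (R : Rel e u D.AL D.RL) {s : ℕ} (hs : u 0 * e 1 * (u 0)⁻¹ = e s) {ss : List Step} {c : ℕ}
    (r : band (band (Nat.beq (D.da 0 + D.dx 0 / 32768) 0) (bn (Nat.beq (mu c s) (mu s c))))
      (steps N mu iv D ss 0 [(0, ones N)] (lst D 1 c)) = true) : False := by
  simp only [band_eq_true, bn_iff, Nat.beq_eq, Nat.add_eq_zero_iff] at r
  obtain ⟨ie, ms, r1, o⟩ := sound h.toCG R (ok_top h.toCG) r.2
  have := o.lst r1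
  rw [node, dif_pos r.1.1.1.le, r.1.1.1, r.1.1.2, node] at this
  have := cj_comm (g := u 0) (h.mem.1 (show (u 0)⁻¹ * e c * u 0 ∈ h.sub by
    have := h.sub.mul_mem (h.sub.mul_mem (h.mem' (D.dx 0 % 32768)) (QuotientGroup.eq.1 this)) (h.sub.inv_mem (h.mem' (D.dx 0 % 32768)))
    simpa [mul_assoc] using this))
  rw [hs, show u 0 * ((u 0)⁻¹ * e c * u 0) * (u 0)⁻¹ = e c by group] at this
  exact r.1.2 (h.meq.1 this)

theorem col0 (h : CG N mu iv e) (R : Rel e u D.AL D.RL) {ss : List Step} {a c : ℕ}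
    (r : band (band (Nat.blt 0 c) (Nat.blt c N)) (steps N mu iv D ss 0 [] (lst D a c)) = true) : False := by
  simp only [band_eq_true, Nat.blt_eq] at r
  obtain ⟨ie, ms, r1, o⟩ := sound (H := ⊥) h R ⟨fun _ h => (Nat.not_lt_zero _ h).elim, by simp⟩ r.2
  have := o.lst r1
  generalize node ⊥ e u D a = p at this
  obtain ⟨g, rfl⟩ := QuotientGroup.mk_surjective p
  exact r.1.1.ne' ((h.eq1 r.1.2).1 (by simpa [← mul_assoc, mul_eq_left, inv_mul_eq_one] using (inv_mul_eq_one.1 (QuotientGroup.eq.1 this)).symm))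

/-- the final nodes are closed -/
noncomputable def finOk (N : ℕ) (mu : ℕ → ℕ → ℕ) (iv : ℕ → ℕ) (D : Dat) (ks : List (ℕ × List ℕ)) (FN : List (ℕ × List ℕ))
    (n ie : ℕ) (ms : Ms) : Bool :=
  force (mkM (FN.map fun f => (nd (0, 0) ms f.1).1)) fun FM =>
    band (band (bt FM 0) (Nat.ble (sumL (fun f : ℕ × List ℕ => N / cnt (nd (0, 0) ms f.1).2 N) FN) n))
    (allL (fun f => force (nd (0, 0) ms f.1).1 fun a => band (bt (nd (0, 0) ms f.1).2 0) (band
      (allL (fun x => force (get 16 x 0) fun i => force (get 16 x 1) fun j => band (band (Nat.beq (D.da i) a) (Nat.ble a i))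
        (band (band (Nat.blt j ie) (Nat.beq (D.ea j) (i + 1))) (band (bt FM (D.eb j)) (inS ms f.1 a (get 16 x 2))))) f.2)
      (force (mkM (f.2.map fun x => force (D.dx (get 16 x 0)) fun y => 32768 * (y / 32768) +
          cj mu iv (iv (mu (y % 32768) (get 16 x 2))) (nd (0, []) ks (y / 32768)).1)) fun M =>
        allLt (fun k => allL (fun y => bt M (32768 * k + y)) (nd (0, []) ks k).2) ks.length))) FN)

/-- the facts on the common subgroups -/
def Pre (N : ℕ) (mu : ℕ → ℕ → ℕ) (iv : ℕ → ℕ) (AL : List ℕ) (ks : List (ℕ × List ℕ)) : Prop := N ≤ 32768 ∧ ∀ k < ks.length,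
  ∀ d < N, cj mu iv (iv d) (nd (0, []) ks k).1 ∈ (nd (0, []) ks k).2 ∧
    (mu d (nd (0, []) ks k).1 = mu (nd (0, []) ks k).1 d → 0 < get 16 (nd 0 AL k) d)

/-- the subgroup generated -/
def KK (h : CG N mu iv e) (u : ℕ → G) (n : ℕ) : Subgroup G := h.sub ⊔ Subgroup.closure (u '' Set.Iio n)

theorem cm_of {x y a : G} (s : y⁻¹ * a * y⁻¹⁻¹ = x⁻¹ * a * x⁻¹⁻¹) : x * y⁻¹ * a = a * (x * y⁻¹) :=
  calc _ = x * (y⁻¹ * a * y⁻¹⁻¹) * y⁻¹ := by group
    _ = _ := by rw [s]; group

theorem bound [Finite G] (h : CG N mu iv e) (R : Rel e u D.AL D.RL) {ks : List (ℕ × List ℕ)} (P : Pre N mu iv D.AL ks)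
    {ss : List Step} {FN : List (ℕ × List ℕ)} {n : ℕ}
    (r : steps N mu iv D ss 0 [(0, ones N)] (finOk N mu iv D ks FN n) = true) : Nat.card (KK h u ks.length) ≤ N * n := by
  obtain ⟨ie, ms, r, o⟩ := sound h R (ok_top h) r
  simp only [finOk, force_eq, band_eq_true, allL_iff, allLt_iff, Nat.ble_eq, Nat.blt_eq, sumL_eq, Nat.beq_eq] at r
  obtain ⟨⟨r0, r1⟩, r⟩ := r
  obtain ⟨p, hp⟩ : ∃ p, p = node h.sub e u D := ⟨_, rfl⟩
  let A : List (ℕ × List ℕ) → Set (G ⧸ h.sub) := fun l => {ω | ∃ f ∈ l, ∃ c, e c • p (nd (0, 0) ms f.1).1 = ω}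
  have a0 : ∀ {a}, bt (mkM (FN.map fun f => (nd (0, 0) ms f.1).1)) a = true → p a ∈ A FN := fun r => by
    obtain ⟨f, a, rfl⟩ := List.mem_map.1 (bt_mkM r)
    exact ⟨f, a, 0, by rw [h.zero, one_smul]⟩
  have a1 : ∀ c, ∀ ω ∈ A FN, e c • ω ∈ A FN := by
    rintro c _ ⟨f, a, d, rfl⟩
    exact ⟨f, a, mu c d, by rw [← h.mul, mul_smul]⟩
  have a2 : ∀ k < ks.length, ∀ ω ∈ A FN, u k • ω ∈ A FN := by
    rintro k hk _ ⟨f, a, d, rfl⟩
    obtain ⟨-, b2, b3⟩ := r f a
    obtain ⟨c, hc, r⟩ := h.red d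
    obtain ⟨x, hx, s⟩ := List.mem_map.1 (bt_mkM (b3 k hk _ (P.2 k hk c hc).1))
    obtain ⟨⟨c1, c2⟩, ⟨c3, c4⟩, c5, c6⟩ := b2 x hx
    have l1 := (h.cj_lt (iv (mu (D.dx (get 16 x 0) % 32768) (get 16 x 2))) (nd (0, []) ks (D.dx (get 16 x 0) / 32768)).1).trans_le P.1
    have l2 := (h.cj_lt (iv c) (nd (0, []) ks k).1).trans_le P.1
    obtain rfl : D.dx (get 16 x 0) / 32768 = k := by omega
    have s := congrArg e (Nat.add_left_cancel s)
    have q := o.1 _ c3
    have q' := inS1 h o c6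
    rw [c4, node, dif_pos (by rwa [c1]), c1, ← hp] at q
    rw [← hp] at q'
    rw [← h.cj, ← h.cj, ← h.inv, ← h.inv, ← h.mul] at s
    have t := R.1 _ _ ((P.2 _ hk _ (h.mu_lt c (iv (mu (D.dx (get 16 x 0) % 32768) (get 16 x 2))))).2 (h.meq.1 (by
      rw [← h.mul, ← h.inv, ← h.mul]; exact cm_of s)))
    rw [← r, show e c = e (mu c (iv (mu (D.dx (get 16 x 0) % 32768) (get 16 x 2)))) * (e (D.dx (get 16 x 0) % 32768) *
      e (get 16 x 2)) by rw [← h.mul, ← h.inv, h.mul _ (get 16 x 2), inv_mul_cancel_right], smul_smul, ← mul_assoc, t, mul_assoc,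
      ← mul_assoc (u _), mul_smul, mul_smul, q', q]
    exact a1 _ _ (a1 _ _ (a0 c5))
  have a3 : ∀ g ∈ KK h u ks.length, ∀ ω ∈ A FN, g • ω ∈ A FN := by
    let K : Submonoid G := ⟨⟨{g | ∀ ω ∈ A FN, g • ω ∈ A FN}, fun a b ω c => by rw [mul_smul]; exact a _ (b _ c)⟩,
      fun ω c => by rwa [one_smul]⟩
    let K' : Subgroup G := ⟨K, fun {g} a => by
      rw [inv_eq_of_mul_eq_one_right (show g * g ^ (orderOf g - 1) = 1 by
        rw [← pow_succ', Nat.sub_add_cancel (orderOf_pos g), pow_orderOf_eq_one])]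
      exact K.pow_mem a _⟩
    exact fun g hg => (sup_le (c := K') (by rintro _ ⟨c, rfl⟩; exact a1 c)
      ((Subgroup.closure_le _).2 (by rintro _ ⟨k, hk, rfl⟩; exact a2 k hk))) hg
  have a4 : ∀ l : List (ℕ × List ℕ), (∀ f ∈ l, f ∈ FN) → (A l).ncard ≤ (l.map fun f => N / cnt (nd (0, 0) ms f.1).2 N).sum :=
      fun l hl => by
    induction l with
    | nil => simp [A]
    | cons f l ih =>
      obtain ⟨a, b⟩ := List.forall_mem_cons.1 hl
      have : A (f :: l) = MulAction.orbit h.sub (p (nd (0, 0) ms f.1).1) ∪ A l := by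
        ext ω
        simp only [A, List.mem_cons, exists_eq_or_imp, Set.mem_setOf_eq, Set.mem_union]
        exact or_congr_left ⟨fun ⟨c, r⟩ => ⟨⟨_, h.mem' c⟩, r⟩, fun ⟨⟨_, c, rfl⟩, r⟩ => ⟨c, r⟩⟩
      rw [this, List.map_cons, List.sum_cons]
      refine (Set.ncard_union_le _ _).trans (add_le_add ?_ (ih b))
      have c1 : cnt (nd (0, 0) ms f.1).2 N ≤ Nat.card (MulAction.stabilizer h.sub (p (nd (0, 0) ms f.1).1)) := by
        rw [cnt_eq, ← Nat.card_eq_finsetCard]
        refine Nat.card_le_card_of_injective (fun c => ⟨⟨e c, h.mem' _⟩, ?_⟩) fun c d r => Subtype.ext (h.inj _ ?_ _ ?_ ?_)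
        · rw [hp]; exact o.nd _ _ (Finset.mem_filter.1 c.2).2
        · exact Finset.mem_range.1 (Finset.mem_filter.1 c.2).1
        · exact Finset.mem_range.1 (Finset.mem_filter.1 d.2).1
        · exact congrArg (fun x => x.1.1) r
      rw [Nat.le_div_iff_mul_le (by rw [cnt_eq]; exact Finset.card_pos.2 ⟨0, by simpa using ⟨h.pos, (r f a).1⟩⟩)]
      refine (Nat.mul_le_mul_left _ c1).trans (le_of_eq ?_)
      rw [← MulAction.index_stabilizer, Subgroup.index_mul_card, h.card]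
  calc _ ≤ Nat.card (QuotientGroup.mk ⁻¹' A FN : Set G) := Nat.card_mono (Set.toFinite _) fun g hg => by
        have := a3 g hg _ (a0 r0)
        rw [hp, node] at this
        simpa using this
    _ ≤ _ := by
      rw [QuotientGroup.card_preimage_mk, h.card]
      exact Nat.mul_le_mul_left _ ((a4 FN fun _ a => a).trans r1)

theorem hom {X : Type*} [Group X] [Finite X] [Finite G] {e' u' : ℕ → X} (h : CG N mu iv e) (h' : CG N mu iv e')
    (R : Rel e u D.AL D.RL) (R' : Rel e' u' D.AL D.RL) {ks : List (ℕ × List ℕ)} (P : Pre N mu iv D.AL ks)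
    {ss : List Step} {FN : List (ℕ × List ℕ)} {n : ℕ}
    (r : steps N mu iv D ss 0 [(0, ones N)] (finOk N mu iv D ks FN n) = true) (hX : KK h' u' ks.length = ⊤)
    (c : N * n ≤ Nat.card X) : ∃ φ : X →* G, φ.range = KK h u ks.length := by
  have h2 : CG N mu iv fun a => (e' a, e a) := ⟨fun a b => Prod.ext (h'.mul a b) (h.mul a b), fun a => Prod.ext (h'.inv a) (h.inv a),
    Prod.ext h'.zero h.zero, fun a => by
      refine ⟨mu a 0, h.mu_lt _ _, ?_⟩
      rw [← h.mul, ← h'.mul, h.zero, h'.zero, mul_one, mul_one],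
    fun a ha b hb r => h.inj a ha b hb (congrArg Prod.snd r), h.mu_lt, h.iv_lt⟩
  have w : ∀ l, W (fun a => (e' a, e a)) (fun k => (u' k, u k)) l = (W e' u' l, W e u l) := fun l => by
    induction l with
    | nil => rfl
    | cons c l ih => rw [W, ih]; rfl
  have b := bound h2 (u := fun k => (u' k, u k))
    ⟨fun k r a => Prod.ext (R'.1 k r a) (R.1 k r a), fun l a => by rw [w, R.2 l a, R'.2 l a]; rfl⟩ P r
  have s1 : h2.sub.map (MonoidHom.fst X G) = h'.sub := le_antisymm (by rintro _ ⟨_, ⟨a, rfl⟩, rfl⟩; exact ⟨a, rfl⟩)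
    (by rintro _ ⟨a, rfl⟩; exact ⟨_, ⟨a, rfl⟩, rfl⟩)
  have s2 : h2.sub.map (MonoidHom.snd X G) = h.sub := le_antisymm (by rintro _ ⟨_, ⟨a, rfl⟩, rfl⟩; exact ⟨a, rfl⟩)
    (by rintro _ ⟨a, rfl⟩; exact ⟨_, ⟨a, rfl⟩, rfl⟩)
  obtain ⟨φ, a, -⟩ := exists_hom_of_graph (KK h2 (fun k => (u' k, u k)) ks.length) (K := ⊤)
    (by rw [KK, Subgroup.map_sup, s1, MonoidHom.map_closure, Set.image_image]; exact hX) (by rw [Subgroup.card_top]; exact b.trans c)
  refine ⟨φ.comp (Subgroup.topEquiv (G := X)).symm.toMonoidHom, ?_⟩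
  rw [MonoidHom.range_comp, MonoidHom.range_eq_top.2 (MulEquiv.surjective _), ← MonoidHom.range_eq_map, a, KK, Subgroup.map_sup, s2,
    MonoidHom.map_closure, Set.image_image]
  rfl

end L.DE
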