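import Cfsg.Agent.L.DD3

/-! The certificates are correct (namespace `L.DD`). -/

set_option maxRecDepth 100000

namespace L.DD
open H13 H14.PK L.DE

def K1 : List (ℕ × List ℕ) := [(8, [2, 3, 4, 5, 6, 7, 8, 9, 10, 11, 12, 13, 14, 15])]
def K2 : List (ℕ × List ℕ) := [(8, [2, 3, 4, 5, 6, 7, 8, 9, 10, 11, 12, 13, 14, 15]),
  (16, [16, 17, 32, 33, 48, 49, 64, 65, 80, 81, 96, 97, 112, 113])]

theorem cA_ok : band (band (Nat.blt 0 1) (Nat.blt 1 21504)) (steps 21504 mu iv cAD cAS 0 [] (lst cAD 6 1)) = true := by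
  decide +kernel

/-- the check of a collapse -/
noncomputable def cOk (D : Dat) (S : List Step) (c : ℕ) : Bool := band (band (Nat.beq (D.da 0 + D.dx 0 / 32768) 0)
  (bn (Nat.beq (mu c 8) (mu 8 c)))) (steps 21504 mu iv D S 0 [(0, ones 21504)] (lst D 1 c))

theorem cL0_ok : cOk cL0D cL0S 64 = true := by decide +kernel
theorem cL1_ok : cOk cL1D cL1S 64 = true := by decide +kernel
theorem cX0_ok : cOk cX0D cX0S 13893 = true := by decide +kernel
theorem cX1_ok : cOk cX1D cX1S 13893 = true := by decide +kernel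

theorem fA_ok : steps 21504 mu iv fAD fAS 0 [(0, ones 21504)] (finOk 21504 mu iv fAD K1 fAF 15) = true := by decide +kernel
theorem fL_ok : steps 21504 mu iv fLD fLS 0 [(0, ones 21504)] (finOk 21504 mu iv fLD K2 fLF 465) = true := by decide +kernel
theorem fM_ok : steps 21504 mu iv fMD fMS 0 [(0, ones 21504)] (finOk 21504 mu iv fMD K1 fMF 11385) = true := by decide +kernel
theorem fH_ok : steps 21504 mu iv fHD fHS 0 [(0, ones 21504)] (finOk 21504 mu iv fHD K1 fHF 187425) = true := by decide +kernel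

theorem pre_ok : allLt (fun d => band (band (Nat.blt (DC.cj mu iv (iv d) 8 - 2) 14) (memL (DC.cj mu iv (iv d) 16) (nd (0, []) K2 1).2))
    (band (bor (bn (Nat.beq (mu d 8) (mu 8 d))) (band (Nat.blt 0 (get 16 AL0 d)) (Nat.blt 0 (get 16 ALX d))))
      (bor (bn (Nat.beq (mu d 16) (mu 16 d))) (Nat.blt 0 (get 16 ALB d))))) 21504 = true := by decide +kernel

end L.DD
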