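import Cfsg.Agent.L.DD4

/-! Computations on classes of involutions of the coded centraliser (namespace `L.DD`). -/

set_option autoImplicit false
set_option maxRecDepth 100000

namespace L.DD
open H13 H14.PK
open L.DC hiding qm mu iv wq el wc el_wc el_eq qm_lt

/-- the class of a code -/
def cl (a : ℕ) : ℕ := get 4 CL a

/-- the representatives -/
noncomputable def rp (k : ℕ) : ℕ := nd 0 [0, 1, 8, 16, 24, 128, 129, 528, 264] k

/-- two codes commute -/
noncomputable def cm (a b : ℕ) : Bool := Nat.beq (mu a b) (mu b a)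

theorem cls_ok : allLt (fun a => force (cl a) fun k => Bool.rec (band (band (Nat.blt k 9) (bor (Nat.blt 2 k) (Nat.blt a 16)))
    (Nat.beq (cj mu iv (get 16 CJ a) a) (rp k))) (bor (Nat.beq a 0) (bn (Nat.beq (mu a a) 0))) (Nat.beq k 0)) 21504 = true := by
  decide +kernel

/-- counting -/
noncomputable def cP (P : ℕ → Bool) (n : ℕ) : ℕ := Nat.rec (nat_lit 0) (fun i ih => force ih fun c => Bool.rec c (Nat.succ c) (P i)) n

theorem cn_ok : allL (fun k => Nat.beq (cP (fun a => band true (cm a (rp k))) 21504)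
    (nd 0 [0, 21504, 1536, 1536, 512, 256, 256, 128, 128] k)) [1, 2, 3, 4, 5, 6, 7, 8] = true := by decide +kernel

/-- the pattern is impossible -/
noncomputable def badOk (p s : ℕ) : Bool := force p fun p => band (bt p s) (allL (fun r => bor (bn (band (bt p r)
  (Nat.beq (nd 0 [0, 21504, 1536, 1536, 512, 256, 256, 128, 128] r) (nd 0 [0, 21504, 1536, 1536, 512, 256, 256, 128, 128] s))))
  (bn (Nat.beq (cP (fun a => band (band (bt p (cl a)) (bt p (cl (mu a 1)))) (cm a (rp r))) 21504)
    (cP (fun a => band (band (bt p (cl a)) (bt p (cl (mu a (rp s))))) (cm a (rp s))) 21504)))) [1, 2, 3, 4, 5, 6, 7, 8])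

theorem rp_ok : ∀ k ∈ [1, 2, 3, 4, 5, 6, 7, 8], rp k < 21504 ∧ cl (rp k) = k := by decide +kernel

/-- a pattern -/
noncomputable def mkP (a d f g : Bool) : ℕ := 2 + Bool.rec 0 4 a + Bool.rec 0 32 d + Bool.rec 0 128 f + Bool.rec 0 256 g

theorem nv_ok : ∀ a d f g : Bool, (a = false ∨ (d = false ∧ g = false)) → (d = false ∧ f = false ∧ g = false) ∨
    anyL (badOk (mkP a d f g)) [7, 8, 5] = true := by decide +kernel

theorem t_ok : allLt (fun a => band (band (Nat.blt (iv a) 1024) (force (mu a a) fun b => force (mu b b) fun c => Nat.beq (mu c c) 0))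
    (band (bor (Nat.blt a 2) (anyL (fun g => bn (cm a g)) [2, 64, 256, 512]))
      (band (allL (fun x => memL (cj mu iv a x) [0, 1, 8, 9]) [0, 1, 8, 9])
        (allL (fun x => memL (cj mu iv a x) [0, 1, 16, 17]) [0, 1, 16, 17])))) 1024 = true := by decide +kernel

theorem sq_ok : ∀ p ∈ [(24, 24), (128, 129), (129, 129)], cP (fun a => band (Nat.beq (mu a a) 1) (cm a p.1)) 21504 ≠
    cP (fun a => band (Nat.beq (mu a a) p.2) (cm a p.2)) 21504 := by decide +kernel

end L.DD
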