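import Cfsg.Agent.L.DD4b

/-!
Classes of involutions of the coded centraliser (namespace `L.DD`).
`cl`, `rp`, `cP`, `back`, `not_c`, `not_e`, `Pat`, `nv`, `Tz`, `syl`, `swap`, `Fz`.
-/

set_option autoImplicit false
set_option maxRecDepth 100000

namespace L.DD
open H13 H14.PK Subgroup
open L.DC hiding qm mu iv wq el wc el_wc el_eq qm_lt
open scoped H26

variable {G : Type*} [Group G] {e : ℕ → G}

theorem Ce.cm (h : Ce e) {a b : ℕ} : cm a b = true ↔ e a * e b = e b * e a := Nat.beq_eq ▸ h.meq.symm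

theorem Ce.cls (h : Ce e) {a : ℕ} (ha : a < 21504) (k : cl a ≠ 0) :
    (cl a < 9 ∧ (2 < cl a ∨ a < 16)) ∧ ∃ c, e c * e a * (e c)⁻¹ = e (rp (cl a)) := by
  have := allLt_iff.1 cls_ok a ha
  rw [force_eq, show Nat.beq (cl a) 0 = false from Bool.eq_false_iff.2 fun c => k (Nat.eq_of_beq_eq_true c)] at this
  simp only [band_eq_true, bor_eq_true, Nat.blt_eq, Nat.beq_eq] at this
  exact ⟨this.1, _, by rw [h.cj, this.2]⟩

theorem Ce.cl0 (h : Ce e) {a : ℕ} (ha : a < 21504) (c : IsConj (e 1) (e a)) : cl a ≠ 0 := fun k => by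
  have := allLt_iff.1 cls_ok a ha
  rw [force_eq, k] at this
  obtain ⟨g, hg⟩ := isConj_iff.1 c
  rcases bor_eq_true.1 this with r | r
  · rw [Nat.eq_of_beq_eq_true r, h.zero] at hg; exact h.z1 (by simpa using hg)
  · exact bn_iff.1 r (Nat.beq_eq ▸ h.meq1.1 (hg ▸ cj_sq h.z2))

theorem Ce.cl1 (h : Ce e) {a : ℕ} (ha : a < 21504) (a1 : e a ≠ 1) (a2 : e a * e a = 1) : cl a ≠ 0 := fun k => by
  have := allLt_iff.1 cls_ok a ha
  rw [force_eq, k] at this
  rcases bor_eq_true.1 this with r | r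
  · exact a1 (Nat.eq_of_beq_eq_true r ▸ h.zero)
  · exact bn_iff.1 r (Nat.beq_eq ▸ h.meq1.1 a2)

theorem cP_eq (P : ℕ → Bool) (n : ℕ) : cP P n = ((Finset.range n).filter fun i => P i = true).card := by
  induction n with
  | zero => rfl
  | succ n ih =>
    change (Bool.rec (cP P n) (cP P n + 1) (P n) : ℕ) = _
    rw [Finset.range_add_one, Finset.filter_insert]
    cases P n
    · simpa using ih
    · rw [if_pos rfl, Finset.card_insert_of_notMem (by simp), ← ih]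

theorem Ce.cP (h : Ce e) {P : ℕ → Bool} {Q : G → Prop} (r : ℕ) (hP : ∀ a < 21504, P a = true ↔ Q (e a)) :
    cP (fun a => band (P a) (DD.cm a r)) 21504 = Nat.card {x // x * e 1 = e 1 * x ∧ x * e r = e r * x ∧ Q x} := by
  rw [cP_eq, ← Nat.card_eq_finsetCard]
  have k : ∀ {a}, a ∈ (Finset.range 21504).filter (fun a => band (P a) (DD.cm a r) = true) ↔
      a < 21504 ∧ e a * e r = e r * e a ∧ Q (e a) := by
    intro a
    simp only [Finset.mem_filter, Finset.mem_range, band_eq_true, h.cm]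
    exact and_congr_right fun ha => by rw [hP a ha, and_comm]
  refine Nat.card_congr (Equiv.ofBijective (fun c => ⟨e c, h.zc _, (k.1 c.2).2⟩)
    ⟨fun c d r => Subtype.ext (h.inj _ (k.1 c.2).1 _ (k.1 d.2).1 (congrArg Subtype.val r)), fun x => ?_⟩)
  obtain ⟨a, ha, r⟩ := (h.cen _).1 x.2.1
  exact ⟨⟨a, k.2 ⟨ha, r ▸ x.2.2⟩⟩, Subtype.ext r⟩

theorem cj_iff {v x y : G} : v * x * v⁻¹ * (v * y * v⁻¹) = v * y * v⁻¹ * (v * x * v⁻¹) ↔ x * y = y * x := by
  rw [conj_mul, conj_mul, mul_left_inj, mul_right_inj]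

theorem Ce.tr (h : Ce e) {r s : ℕ} {v : G} (v1 : v * e 1 * v⁻¹ = e s) (v2 : v * e r * v⁻¹ = e 1) {P P' : ℕ → Bool}
    {Q Q' : G → Prop} (hP : ∀ a < 21504, P a = true ↔ Q (e a)) (hP' : ∀ a < 21504, P' a = true ↔ Q' (e a))
    (hQ : ∀ x, Q x ↔ Q' (v * x * v⁻¹)) :
    DD.cP (fun a => band (P a) (DD.cm a r)) 21504 = DD.cP (fun a => band (P' a) (DD.cm a s)) 21504 := by
  rw [h.cP r hP, h.cP s hP']
  refine Nat.card_congr ((MulAut.conj v).toEquiv.subtypeEquiv fun x => ?_)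
  change _ ↔ v * x * v⁻¹ * _ = _ * (v * x * v⁻¹) ∧ v * x * v⁻¹ * _ = _ * (v * x * v⁻¹) ∧ Q' (v * x * v⁻¹)
  rw [← hQ, and_left_comm]
  exact and_congr (v2 ▸ cj_iff.symm) (and_congr (v1 ▸ cj_iff.symm) .rfl)

theorem Ce.back (h : Ce e) {s : ℕ} (hs : s ∈ [1, 2, 3, 4, 5, 6, 7, 8]) (c : IsConj (e 1) (e (rp s))) :
    ∃ r ∈ [1, 2, 3, 4, 5, 6, 7, 8], nd 0 [0, 21504, 1536, 1536, 512, 256, 256, 128, 128] r =
      nd 0 [0, 21504, 1536, 1536, 512, 256, 256, 128, 128] s ∧ ∃ v, v * e 1 * v⁻¹ = e (rp s) ∧ v * e (rp r) * v⁻¹ = e 1 := by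
  obtain ⟨g, hg⟩ := isConj_iff.1 c
  obtain ⟨a, ha, b⟩ := (h.cen (g⁻¹ * e 1 * g⁻¹⁻¹)).1 (by
    have := cj_comm (g := g⁻¹) (h.zc (rp s))
    rw [show g⁻¹ * e (rp s) * g⁻¹⁻¹ = e 1 by rw [← hg]; group] at this
    exact this.symm)
  have k := h.cl0 ha (isConj_iff.2 ⟨_, b.symm⟩)
  obtain ⟨k9, c, b'⟩ := h.cls ha k
  have v1 : g * (e c)⁻¹ * e 1 * (g * (e c)⁻¹)⁻¹ = e (rp s) := by
    rw [← hg, mul_assoc g, h.inv, h.zc, ← h.inv]; group
  have v2 : g * (e c)⁻¹ * e (rp (cl a)) * (g * (e c)⁻¹)⁻¹ = e 1 := by rw [← b', b]; group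
  have m : cl a ∈ [1, 2, 3, 4, 5, 6, 7, 8] := by simp; omega
  refine ⟨_, m, ?_, _, v1, v2⟩
  rw [← Nat.eq_of_beq_eq_true (allL_iff.1 cn_ok _ m), ← Nat.eq_of_beq_eq_true (allL_iff.1 cn_ok _ hs)]
  exact h.tr v1 v2 (Q := fun _ => True) (Q' := fun _ => True) (by simp) (by simp) (by simp)

theorem Ce.sq (h : Ce e) {r s : ℕ} {v : G} (hs : s < 21504) (v1 : v * e 1 * v⁻¹ = e s) (v2 : v * e r * v⁻¹ = e 1) :
    DD.cP (fun a => band (Nat.beq (mu a a) 1) (DD.cm a r)) 21504 = DD.cP (fun a => band (Nat.beq (mu a a) s) (DD.cm a s)) 21504 :=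
  h.tr v1 v2 (Q := fun x => x * x = e 1) (Q' := fun x => x * x = e s)
    (fun a _ => by rw [h.mul, h.eq (mu_lt _ _) (by decide), Nat.beq_eq]) (fun a _ => by rw [h.mul, h.eq (mu_lt _ _) hs, Nat.beq_eq])
    fun x => by rw [conj_mul, ← v1, mul_left_inj, mul_right_inj]

theorem Ce.not_c (h : Ce e) : ¬ IsConj (e 1) (e 24) := fun c => by
  obtain ⟨r, r1, r2, v, v1, v2⟩ := h.back (s := 4) (by decide) c
  obtain rfl : r = 4 := by clear v2; revert r; decide +kernel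
  exact sq_ok (24, 24) (by decide) (h.sq (by decide) v1 v2)

theorem Ce.not_e (h : Ce e) : ¬ IsConj (e 1) (e 129) := fun c => by
  obtain ⟨r, r1, r2, v, v1, v2⟩ := h.back (s := 6) (by decide) c
  obtain rfl | rfl : r = 5 ∨ r = 6 := by clear v2; revert r; decide +kernel
  exacts [sq_ok (128, 129) (by decide) (h.sq (by decide) v1 v2), sq_ok (129, 129) (by decide) (h.sq (by decide) v1 v2)]

/-- the classes fused with the central involution -/
def Pat (e : ℕ → G) (p : ℕ) : Prop := ∀ a < 21504, bt p (cl a) = true ↔ IsConj (e 1) (e a)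

theorem Ce.bad (h : Ce e) {p s : ℕ} (P : Pat e p) (hs : s ∈ [1, 2, 3, 4, 5, 6, 7, 8]) (ok : badOk p s = true) : False := by
  simp only [badOk, force_eq, band_eq_true, allL_iff, bor_eq_true, bn_iff, Nat.beq_eq] at ok
  obtain ⟨r, r1, r2, v, v1, v2⟩ := h.back hs ((P _ (rp_ok s hs).1).1 (by rw [(rp_ok s hs).2]; exact ok.1))
  rcases ok.2 r r1 with c | c
  · exact c ⟨(rp_ok r r1).2 ▸ (P _ (rp_ok r r1).1).2 (isConj_iff.2 ⟨v, v2⟩).symm, r2⟩
  have k : ∀ x : G, IsConj (e 1) x ↔ IsConj (e 1) (v * x * v⁻¹) := fun x =>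
    ⟨fun c => c.trans (isConj_iff.2 ⟨v, rfl⟩), fun c => c.trans (isConj_iff.2 ⟨v, rfl⟩).symm⟩
  exact c (h.tr v1 v2 (Q := fun x => IsConj (e 1) x ∧ IsConj (e 1) (x * e 1))
    (Q' := fun x => IsConj (e 1) x ∧ IsConj (e 1) (x * e (rp s)))
    (fun a ha => by rw [band_eq_true, P a ha, P _ (mu_lt _ _), h.mul])
    (fun a ha => by rw [band_eq_true, P a ha, P _ (mu_lt _ _), h.mul]) fun x => by rw [← v1, conj_mul, ← k, ← k])

theorem Ce.nv (h : Ce e) (b : ¬ IsConj (e 1) (e 16)) (c : ¬ IsConj (e 1) (e 8) ∨ (¬ IsConj (e 1) (e 128) ∧ ¬ IsConj (e 1) (e 264)))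
    {a : ℕ} (ha : a < 21504) (z : IsConj (e 1) (e a)) : cl a = 1 ∨ cl a = 2 ∧ IsConj (e 1) (e 8) := by
  classical
  have P : Pat e (mkP (decide (IsConj (e 1) (e 8))) (decide (IsConj (e 1) (e 128))) (decide (IsConj (e 1) (e 528)))
      (decide (IsConj (e 1) (e 264)))) := fun a ha => by
    have t : ∀ a d f g : Bool, bt (mkP a d f g) 0 = false ∧ bt (mkP a d f g) 1 = true ∧ bt (mkP a d f g) 2 = a ∧
      bt (mkP a d f g) 3 = false ∧ bt (mkP a d f g) 4 = false ∧ bt (mkP a d f g) 5 = d ∧ bt (mkP a d f g) 6 = false ∧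
      bt (mkP a d f g) 7 = f ∧ bt (mkP a d f g) 8 = g := by decide +kernel
    by_cases k : cl a = 0
    · exact iff_of_false (by simp [k, t]) fun c => h.cl0 ha c k
    obtain ⟨⟨k9, -⟩, c, r⟩ := h.cls ha k
    rw [show IsConj (e 1) (e a) ↔ IsConj (e 1) (e (rp (cl a))) from
      ⟨fun c => c.trans (isConj_iff.2 ⟨_, r⟩), fun c => c.trans (isConj_iff.2 ⟨_, r⟩).symm⟩]
    have n1 := h.not_c
    have n2 := h.not_e
    have n3 := IsConj.refl (e 1)
    generalize cl a = j at *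
    interval_cases j
    · exact (k rfl).elim
    all_goals simp only [t, rp, nd_eq]; simp [-isConj_iff, *]
  rcases nv_ok _ _ (decide (IsConj (e 1) (e 528))) _ (c.imp decide_eq_false (And.imp decide_eq_false decide_eq_false)) with r | r
  · have := (P a ha).2 z
    rw [r.1, r.2.1, r.2.2] at this
    obtain ⟨⟨k9, -⟩, -⟩ := h.cls ha (h.cl0 ha z)
    have t : ∀ a : Bool, ∀ k < 9, bt (mkP a false false false) k = true → k = 1 ∨ k = 2 ∧ a = true := by decide +kernel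
    simpa [-isConj_iff] using t _ _ k9 this
  · obtain ⟨s, s1, s2⟩ := anyL_iff.1 r
    exact (h.bad P (by clear s2; revert s; decide) s2).elim

theorem mu_T {a b : ℕ} (ha : a < 1024) (hb : b < 1024) : mu a b < 1024 := by
  have c1 := qm_lt (Nat.mod_lt a (by decide)) (get_lt 7 AC (128 * (a / 128 % 168) + b % 128))
  have c2 := (by decide +kernel : ∀ p < 8, ∀ q < 8, get 8 MT (168 * p + q) < 8) (a / 128 % 168) (by omega) (b / 128 % 168) (by omega)
  rw [mu_eq]; omega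

/-- the Sylow subgroup -/
noncomputable def Ce.T (h : Ce e) : Subgroup G := h.msub (· < 1024) (by decide) (fun _ _ _ _ => mu_T) fun a _ ha =>
  Nat.blt_eq ▸ (band_eq_true.1 (band_eq_true.1 (allLt_iff.1 t_ok a ha)).1).1

theorem Ce.mT (h : Ce e) {a : ℕ} (ha : a < 1024) : e a ∈ h.T := ⟨a, by omega, ha, rfl⟩

theorem Ce.nT (h : Ce e) {w : G} (hw : w ∈ normalizer (h.T : Set G)) : w * e 1 = e 1 * w := by
  obtain ⟨a, -, ha, r⟩ := (mem_normalizer_iff.1 hw _).1 (h.mT (a := 1) (by decide))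
  have := allLt_iff.1 t_ok a ha
  simp only [band_eq_true, bor_eq_true, anyL_iff, bn_iff, Nat.blt_eq, h.cm] at this
  rcases this.2.1 with c | ⟨g, g1, g2⟩
  · interval_cases a
    · exact (h.z1 (by simpa [h.zero] using r.symm)).elim
    · exact mul_inv_eq_iff_eq_mul.1 r.symm
  · obtain ⟨b, -, -, s⟩ := (mem_normalizer_iff''.1 hw _).1 (h.mT (a := g) (by simp at g1; omega))
    refine (g2 ?_).elim
    rw [r, show e g = w * e b * w⁻¹ by rw [s]; group]
    exact cj_comm (h.zc b).symm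

variable [Finite G]

theorem Ce.syl (h : Ce e) : H26.IsSyl 2 h.T ⊤ := by
  have : Fact (Nat.Prime 2) := ⟨Nat.prime_two⟩
  refine H26.isSyl_of_normalizer ⟨le_inf le_top le_normalizer, H26.isPGroup_iff_mem.2 ?_, fun Q hQ h1 h2 =>
    (eq_of_le_of_card_ge h1 ?_).symm⟩
  · rintro _ ⟨a, -, ha, rfl⟩
    have := allLt_iff.1 t_ok a ha
    simp only [band_eq_true, force_eq, Nat.beq_eq, ← h.meq1, ← h.mul] at this
    exact ⟨3, by rw [← this.1.2]; simp [pow_succ, mul_assoc]⟩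
  · obtain ⟨k, hk⟩ := hQ.exists_card_eq
    have d := card_dvd_of_le (show Q ≤ h.sub from fun x hx => h.mem.2 (h.nT (h2 hx).2))
    rw [h.card, hk] at d
    refine le_trans ?_ (h.le_card (l := List.range 1024) List.nodup_range fun a ha =>
      ⟨by simp at ha; omega, h.mT (List.mem_range.1 ha)⟩)
    rw [hk, List.length_range]
    exact Nat.pow_le_pow_right (n := 2) (j := 10) (by decide) (not_lt.1 fun c => absurd ((pow_dvd_pow 2 c).trans d) (by decide)) 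

theorem Ce.swap (h : Ce e) (c : IsConj (e 1) (e 8)) : ∃ u, u * e 1 * u⁻¹ = e 8 ∧ u * e 8 * u⁻¹ = e 1 := by
  have : Fact (Nat.Prime 2) := ⟨Nat.prime_two⟩
  obtain ⟨r, r1, r2, v, v1, v2⟩ := h.back (s := 2) (by decide) c
  obtain rfl | rfl : r = 2 ∨ r = 3 := by clear v2; revert r; decide +kernel
  · exact ⟨v, v1, v2⟩
  change v * e 1 * v⁻¹ = e 8 at v1
  change v * e 16 * v⁻¹ = e 1 at v2
  let V := h.msub (· ∈ [0, 1, 8, 9]) (by decide) (fun a _ b _ p q => (by decide +kernel :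
    ∀ a ∈ [0, 1, 8, 9], ∀ b ∈ [0, 1, 8, 9], mu a b ∈ [0, 1, 8, 9]) a p b q)
    fun a _ => (by decide +kernel : ∀ a ∈ [0, 1, 8, 9], iv a ∈ [0, 1, 8, 9]) a
  have mV : ∀ a ∈ [0, 1, 8, 9], e a ∈ V := fun a ha => ⟨a, by simp at ha; omega, ha, rfl⟩
  have t : ∀ a < 1024, (∀ x ∈ [0, 1, 8, 9], cj mu iv a x ∈ [0, 1, 8, 9]) ∧ ∀ x ∈ [0, 1, 16, 17], cj mu iv a x ∈ [0, 1, 16, 17] :=
    fun a ha => by simpa only [band_eq_true, allL_iff, memL_iff] using (band_eq_true.1 (band_eq_true.1 (allLt_iff.1 t_ok a ha)).2).2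
  have v0 : v * e 0 * v⁻¹ = e 0 := by simp [h.zero]
  have v3 : v * e 17 * v⁻¹ = e 9 := by
    rw [show 17 = mu 16 1 by decide +kernel, show 9 = mu 1 8 by decide +kernel, ← h.mul, ← h.mul, ← conj_mul]
    exact congrArg₂ _ v2 v1
  suffices k : cj(v, h.T) ≤ normalizer V ∧ h.T ≤ normalizer V by
    obtain ⟨n, n1, n2⟩ := ((h.syl.cj_of_mem (mem_top v)).mono k.1 le_top).exists_cj_eq (h.syl.mono k.2 le_top)
    rw [H26.cj_cj] at n2
    obtain ⟨d, hd, r⟩ := h.toCG.mem.1 (inv_mem (h.mem.2 (h.nT (H26.cj_eq_iff.1 n2))))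
    obtain ⟨a, a1, a2, a3⟩ := (mem_normalizer_iff.1 n1 _).1 (mV 1 (by decide))
    have := allLt_iff.1 pre_ok d hd
    simp only [band_eq_true, memL_iff] at this
    rw [h.inj _ (h.cj_lt (iv d) 16) _ a1 (by rw [a3, ← h.cj, ← h.inv, r, ← v2]; group)] at this
    exact ((by decide : ∀ a ∈ [0, 1, 8, 9], a ∉ (nd (0, []) K2 1).2) a a2 this.1.2).elim
  refine ⟨H26.cj_le_iff.2 ?_, ?_⟩
  · rintro _ ⟨a, -, ha, rfl⟩
    refine H26.mem_normalizer_of_cj_le (H26.cj_le_iff.2 ?_)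
    have f : ∀ c ∈ [0, 1, 16, 17], v * e a * v⁻¹ * (v * e c * v⁻¹) * (v * e a * v⁻¹)⁻¹ ∈ V := fun c hc => by
      rw [conj_mul, conj_inv, conj_mul, h.cj]
      have := (t a ha).2 c hc
      simp only [List.mem_cons, List.not_mem_nil, or_false] at this
      rcases this with r | r | r | r <;> rw [r]
      exacts [v0.symm ▸ mV 0 (by decide), v1.symm ▸ mV 8 (by decide), v2.symm ▸ mV 1 (by decide), v3.symm ▸ mV 9 (by decide)]
    rintro _ ⟨x, -, hx, rfl⟩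
    simp only [List.mem_cons, List.not_mem_nil, or_false] at hx
    rcases hx with rfl | rfl | rfl | rfl
    exacts [by rw [← v0]; exact f 0 (by decide), v2 ▸ f 16 (by decide), v1 ▸ f 1 (by decide), v3 ▸ f 17 (by decide)]
  · rintro _ ⟨a, -, ha, rfl⟩
    refine H26.mem_normalizer_of_cj_le (H26.cj_le_iff.2 ?_)
    rintro _ ⟨x, -, hx, rfl⟩
    exact h.cj a x ▸ mV _ ((t a ha).1 x hx)

end L.DD
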