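import Cfsg.Agent.L.DD5
import Cfsg.Agent.L.DD6a

/-!
The action of an element swapping two involutions (namespace `L.DD`).
`Act`, `ImS`, `Ce.fixp`, `Fz`, `Ce.fus`, `Ce.leaf`, `T0`, `TX`, `Ce.rel0`, `Ce.relX`, `Ce.relL`.
-/

set_option autoImplicit false
set_option maxRecDepth 100000

namespace L.DD
open H13 H14.PK Subgroup L.DE
open L.DC hiding qm mu iv wq el wc el_wc el_eq qm_lt trk fix srch alOk Dat run W steps node Ok Rel chk Step finOk W_append W_rep

variable {G : Type*} [Group G] {e u : ℕ → G}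

/-- the action is given by a table -/
def Act (e : ℕ → G) (u : G) (T : ℕ) : Prop := ∀ r, 0 < get 16 T r → u * e r = e (get 16 T r - 1) * u

/-- the images are correct -/
def ImS (e u : ℕ → G) (im : Im) : Prop := ∀ j r k, im j r k = true → ∃ d, k d = true ∧ u j * e r = e d * u j

theorem imA_spec {AL : List ℕ} (h : ∀ j, Act e (u j) (nd 0 AL j)) : ImS e u (imA AL) := fun j r _ c =>
  ⟨_, (band_eq_true.1 c).2, h j r (Nat.blt_eq ▸ (band_eq_true.1 c).1)⟩

theorem act0 {v : G} : Act e v 0 := fun r c => by simp at c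

theorem Act.one {v : G} {T : ℕ} (h : Act e v T) : ∀ j, Act e ((fun _ => v) j) (nd 0 [T] j)
  | 0 => h
  | _ + 1 => act0

/-- two elements -/
def two (v w : G) : ℕ → G
  | 0 => v
  | _ + 1 => w

theorem Act.two {v w : G} {T U : ℕ} (h : Act e v T) (h' : Act e w U) : ∀ j, Act e (two v w j) (nd 0 [T, U] j)
  | 0 => h
  | 1 => h'
  | _ + 2 => act0

theorem Act.im {v : G} {T r d : ℕ} (h : Act e v T) (c : get 16 T r = d + 1) : v * e r = e d * v := by
  simpa [c] using h r (by omega)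

theorem Ce.trk (h : Ce e) {im : Im} (I : ImS e u im) {c : ℕ} {l : List ℕ} {k : ℕ → Bool}
    (r : trk im l c k = true) : ∃ d, k d = true ∧ W e u l * e c = e d * W e u l := by
  induction l generalizing c with
  | nil => exact ⟨c, r, by simp [W]⟩
  | cons a l ih =>
    obtain ⟨d, a1, a2⟩ := I _ _ _ r
    obtain ⟨f, b1, b2⟩ := ih a1
    refine ⟨f, b1, ?_⟩
    rw [W, ← mul_assoc (e f), ← b2, mul_assoc, mul_assoc, mul_assoc, ← mul_assoc (e d), ← a2, ← h.cj]; group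

theorem Ce.fix (h : Ce e) {im : Im} (I : ImS e u im) {l ts : List ℕ} {p : ℕ → Bool}
    (r : fix im l ts p = true) : ∃ c < 21504, p c = true ∧ W e u l = e c := by
  induction ts generalizing p with
  | nil =>
    obtain ⟨a, b⟩ := band_eq_true.1 r
    obtain ⟨d, a1, a2⟩ := h.trk I a
    obtain ⟨c, c1, c2⟩ := (h.cen (W e u l)).1 (by rwa [Nat.eq_of_beq_eq_true a1] at a2)
    exact ⟨c, c1, allLt_iff.1 b c c1, c2.symm⟩
  | cons t ts ih =>
    obtain ⟨d, a1, a2⟩ := h.trk I r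
    obtain ⟨c, c1, c2, c3⟩ := ih a1
    refine ⟨c, c1, (bor_eq_true.1 c2).resolve_left fun s => bn_iff.1 s ?_, c3⟩
    rw [Nat.beq_eq, ← h.meq, ← c3, a2]

theorem W_rep (l : List ℕ) (k : ℕ) : W e u (List.replicate k l).flatten = W e u l ^ k := by
  induction k with
  | zero => simp [W]
  | succ k ih => rw [List.replicate_succ, List.flatten_cons, W_append, ih, pow_succ]

theorem Ce.fixp (h : Ce e) {im : Im} (I : ImS e u im) {l ts cs : List ℕ} {k : ℕ} (r : fixp im l k ts cs = true) :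
    ∃ c ∈ cs, W e u l ^ k = e c := by
  obtain ⟨c, c1, c2, c3⟩ := h.fix I r
  rw [W_rep] at c3
  refine ⟨c, memL_iff.1 ((bor_eq_true.1 c2).resolve_left fun s => ?_), c3⟩
  obtain ⟨d, d1, d2⟩ := h.trk I s
  simp only [band_eq_true, bn_iff, Nat.beq_eq, Nat.blt_eq] at d1
  rw [← c3, ← pow_succ', pow_succ, mul_left_inj, c3] at d2
  exact d1.2 (h.inj _ d1.1 _ c1 d2.symm)

/-- the classes in the mask are conjugate to `w` -/
def Fz (e : ℕ → G) (K : Subgroup G) (w : G) (M : ℕ) : Prop := ∀ a < 21504, bt M (cl a) = true → ∃ k ∈ K, k * e a * k⁻¹ = w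

variable {K : Subgroup G} {w : G} {M : ℕ}

theorem Ce.add (h : Ce e) (hK : h.sub ≤ K) (F : Fz e K w M) {a : ℕ} (ha : a < 21504) (k : cl a ≠ 0)
    (c : ∃ k ∈ K, k * e a * k⁻¹ = w) : Fz e K w (sb M (cl a)) := fun b hb r => by
  refine (bt_sb.1 r).elim (F b hb) fun r => ?_
  obtain ⟨g, g1, g2⟩ := c
  obtain ⟨-, x, hx⟩ := h.cls ha k
  obtain ⟨-, y, hy⟩ := h.cls hb (r ▸ k)
  refine ⟨g * (e x)⁻¹ * e y, mul_mem (mul_mem g1 (inv_mem (hK (h.mem' x)))) (hK (h.mem' y)), ?_⟩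
  calc _ = g * (e x)⁻¹ * (e y * e b * (e y)⁻¹) * (g * (e x)⁻¹)⁻¹ := by group
    _ = _ := by rw [hy, r, ← hx, ← g2]; group

theorem Ce.ini (h : Ce e) (hK : h.sub ≤ K) {a : ℕ} (c : a < 21504 ∧ cl a ≠ 0 ∧ sb 0 (cl a) = M) : Fz e K (e a) M :=
  c.2.2 ▸ h.add hK (fun _ _ r => (bt_zero r).elim) c.1 c.2.1 ⟨1, one_mem _, by simp⟩

theorem Ce.fus (h : Ce e) (hK : h.sub ≤ K) {v : G} (hv : v ∈ K) {im : ℕ → (ℕ → Bool) → Bool}
    (I : ∀ r k, im r k = true → ∃ d, k d = true ∧ v * e r = e d * v) {rs : List ℕ} {k : ℕ → Bool} (F : Fz e K w M)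
    (r : fus im rs M k = true) : ∃ M, k M = true ∧ Fz e K w M := by
  induction rs generalizing M with
  | nil => exact ⟨M, r, F⟩
  | cons a rs ih =>
    obtain ⟨d, d1, d2⟩ := I _ _ r
    simp only [band_eq_true, Nat.blt_eq, force_eq] at d1
    obtain ⟨⟨⟨a1, a2⟩, a3, a4⟩, d1⟩ := d1
    refine ih ?_ d1
    cases c : bt M (cl a)
    · cases c' : bt M (cl d)
      · exact F
      · obtain ⟨g, g1, g2⟩ := F d a2 c'
        exact h.add hK F a1 a3.ne' ⟨g * v, mul_mem g1 hv, by rw [← g2, mul_assoc g, d2]; group⟩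
    · obtain ⟨g, g1, g2⟩ := F a a1 c
      exact h.add hK F a2 a4.ne' ⟨g * v⁻¹, mul_mem g1 (inv_mem hv), by rw [← g2, ← mul_inv_eq_iff_eq_mul.2 d2]; group⟩

theorem Ce.fusA (h : Ce e) (hK : h.sub ≤ K) {v : G} (hv : v ∈ K) {T : ℕ} (A : Act e v T) {rs : List ℕ} {M' : ℕ} (F : Fz e K w M)
    (r : DD.fus (imA [T] 0) rs M (Nat.beq M') = true) : Fz e K w M' := by
  obtain ⟨M, a, b⟩ := h.fus hK hv (imA_spec A.one 0) F r
  rwa [Nat.eq_of_beq_eq_true a]

theorem Fz.isC (F : Fz e K w M) {a : ℕ} (c : a < 21504 ∧ bt M (cl a) = true) : IsConj w (e a) := by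
  obtain ⟨g, -, r⟩ := F a c.1 c.2
  exact (isConj_iff.2 ⟨g, r⟩).symm

theorem flt_spec {p : ℕ → Bool} {l acc : List ℕ} {k : List ℕ → Bool} (r : flt p l acc k = true) :
    ∃ m, k m = true ∧ ∀ a ∈ m, a ∈ acc ∨ a ∈ l ∧ p a = true := by
  induction l generalizing acc with
  | nil => exact ⟨acc, r, fun _ => .inl⟩
  | cons b l ih =>
    change Bool.rec (flt p l acc k) (flt p l (b :: acc) k) (p b) = true at r
    cases c : p b <;> rw [c] at r <;> obtain ⟨m, m1, m2⟩ := ih r <;> refine ⟨m, m1, fun a ha => ?_⟩ <;> have := m2 a ha <;> grind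

theorem fltN_spec {p : ℕ → Bool} {n : ℕ} {acc : List ℕ} {k : List ℕ → Bool} (r : fltN p n acc k = true) :
    ∃ m, k m = true ∧ ∀ a, a ∈ m ↔ a ∈ acc ∨ a < n ∧ p a = true := by
  induction n generalizing acc with
  | zero => exact ⟨acc, r, by simp⟩
  | succ b ih =>
    change Bool.rec (fltN p b acc k) (fltN p b (b :: acc) k) (p b) = true at r
    cases c : p b <;> rw [c] at r <;> obtain ⟨m, m1, m2⟩ := ih r <;> refine ⟨m, m1, fun a => ?_⟩ <;> have := m2 a <;> grind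

theorem Ce.srch (h : Ce e) {lf : List ℕ → List ℕ → Bool} {RL : List ℕ} (hR : ∀ a < 21504, mu a 8 = mu 8 a → a ∈ RL)
    {lv : List (ℕ × List (ℕ × ℕ))} (hl : ∀ l ∈ lv, mu l.1 8 = mu 8 l.1) {gs as Cs : List ℕ} {v : G}
    (v1 : v * e 1 * v⁻¹ = e 8) (v2 : v * e 8 * v⁻¹ = e 1) (I : Ind e v gs as)
    (hC : ∀ c ∈ Cs, e 8 * e c = e c * e 8 ∧ ∀ i, e (nd 0 as i) * e c = e c * e (nd 0 as i))
    (r : srch lf RL lv gs as Cs = true) : ∃ v gs as, Ind e v gs as ∧ lf gs as = true := by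
  induction lv generalizing gs as Cs v with
  | nil => exact ⟨v, gs, as, I, r⟩
  | cons l lv ih =>
    obtain ⟨l1, l2⟩ := List.forall_mem_cons.1 hl
    obtain ⟨a, a1, a2, a3⟩ := h.img v1 v2 l1
    induction a using Nat.strong_induction_on generalizing v with
    | _ a ih' =>
      rcases bor_eq_true.1 ((bor_eq_true.1 (allL_iff.1 r a (hR a a1 a2))).resolve_left fun s =>
        bn_iff.1 s (h.relsOk (I.cons a3) _)) with s | s
      · obtain ⟨c, c1, c2⟩ := anyL_iff.1 s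
        obtain ⟨c3, c4⟩ := hC c c1
        have w1 : e c * v * e 1 * (e c * v)⁻¹ = e 8 := by
          rw [← mul_inv_eq_iff_eq_mul.2 c3.symm, ← v1]; group
        have w2 : e c * v * e 8 * (e c * v)⁻¹ = e 1 := by
          rw [← mul_inv_eq_iff_eq_mul.2 (h.zc c), ← v2]; group
        have w3 : e c * v * e l.1 * (e c * v)⁻¹ = e (cj mu iv c a) := by rw [← h.cj, ← a3]; group
        refine ih' _ (Nat.blt_eq ▸ c2) w1 w2 (fun i => by rw [mul_assoc, I, ← mul_assoc, ← c4, mul_assoc]) (h.cj_lt _ _) ?_ w3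
        rw [← h.meq, ← w3, ← w1]
        exact cj_comm (h.zc _)
      · obtain ⟨m, m1, m2⟩ := flt_spec s
        refine ih l2 v1 v2 (I.cons a3) (fun c hc => ?_) m1
        obtain ⟨c1, c2⟩ := (m2 c hc).resolve_left (by simp)
        exact ⟨(hC c c1).1, fun i => by cases i; exacts [h.cm.1 c2, (hC c c1).2 _]⟩

theorem Ce.act (h : Ce e) {as : List ℕ} {T : ℕ} {v : G} (I : Ind e v [315, 179, 1536, 8, 1] as) (ok : alOk as T = true) :
    Act e v T := fun r hr => by
  simp only [alOk, band_eq_true, bor_eq_true, allLt_iff, Nat.blt_eq, p2_eq] at ok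
  rcases ok.2 r (by_contra fun c => hr.ne' (get_eq_zero_of_lt ok.1 (not_lt.1 c))) with s | s
  · exact (hr.ne' (Nat.eq_of_beq_eq_true s)).elim
  · obtain ⟨d, a, b⟩ := h.alp I s
    rwa [Nat.eq_of_beq_eq_true a, Nat.add_sub_cancel]

theorem Ce.sq1 (h : Ce e) {T : ℕ} {v : G} {ts : List ℕ} (A : Act e v T) (c : get 16 T 8 = 1 + 1)
    (ok : DD.fixp (imA [T]) [0] 2 ts [0, 9] = true) : ∃ v, v * v = 1 ∧ Act e v T := by
  obtain ⟨c, c1, c2⟩ := h.fixp (imA_spec A.one) ok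
  simp only [W, Nat.zero_mod, h.zero, one_mul, mul_one, pow_two] at c2
  simp only [List.mem_cons, List.not_mem_nil, or_false] at c1
  rcases c1 with rfl | rfl
  · exact ⟨v, c2.trans h.zero, A⟩
  · refine ⟨v * e 1, ?_, fun r hr => by rw [mul_assoc, ← h.zc, ← mul_assoc, A r hr, mul_assoc]⟩
    rw [mul_assoc, ← mul_assoc (e 1), ← A.im c, ← mul_assoc, ← mul_assoc, c2, h.mul, h.meq1]
    decide +kernel

variable [Finite G]

theorem Ce.leaf (h : Ce e) (c : IsConj (e 1) (e 8)) : ∃ v, v * v = 1 ∧ (Act e v AL0 ∨ Act e v ALX) := by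
  obtain ⟨v, v1, v2⟩ := h.swap c
  obtain ⟨RL, r, m⟩ := fltN_spec srch_ok
  simp only [List.not_mem_nil, false_or, band_eq_true, h.cm, Nat.blt_eq] at m
  obtain ⟨v, gs, as, I, r⟩ := h.srch (fun a ha c => (m a).2 ⟨ha, by
      have := allLt_iff.1 pre_ok a ha
      simp only [band_eq_true, bor_eq_true, bn_iff, Nat.beq_eq, Nat.blt_eq, c, not_true, false_or] at this
      exact this.2.1.1, (h.meq.2 c).symm⟩) (by decide +kernel) v1 v2 ((h.nil.cons v1).cons v2) (fun c hc => ⟨((m c).1 hc).2.2, by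
      rintro (_ | _ | i)
      exacts [(h.zc c).symm, ((m c).1 hc).2.2, by simp [nd_eq, h.zero]]⟩) r
  simp only [lf, bor_eq_true, band_eq_true, anyL_iff] at r
  rcases r with ⟨r, s⟩ | r | ⟨l, -, r⟩
  · rw [eqL_spec r] at I
    rcases s with s | s <;> rw [eqL_spec s] at I
    · obtain ⟨v, a, b⟩ := h.sq1 (h.act (v := (e 1536)⁻¹ * v) (fun i => by
        rw [mul_assoc, I, ← mul_assoc, ← mul_assoc, mul_left_inj, inv_mul_eq_iff_eq_mul, ← mul_assoc, h.cj]
        rcases i with _ | _ | _ | _ | _ | i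
        iterate 5 rfl
        rw [← h.cj]; simp [nd_eq, h.zero]) al0_ok) (by decide +kernel) f0s_ok
      exact ⟨v, a, .inl b⟩
    · obtain ⟨v, a, b⟩ := h.sq1 (h.act I alX_ok) (by decide +kernel) fXs_ok
      exact ⟨v, a, .inr b⟩
  · obtain ⟨g, hg⟩ := isConj_iff.1 c.symm
    obtain ⟨M, a, b⟩ := h.fus le_top trivial (fun _ _ => h.alp I) ((by decide +kernel : sb 2 (cl 8) = 6) ▸ h.add le_top
      (h.ini le_top (a := 1) (M := 2) (by decide +kernel)) (a := 8) (by decide) (by decide +kernel) ⟨g, trivial, hg⟩) r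
    rcases bor_eq_true.1 a with a | a
    · exact (h.not_c (b.isC ⟨by decide, (by decide +kernel : 4 = cl 24) ▸ a⟩)).elim
    · exact (h.not_e (b.isC ⟨by decide, (by decide +kernel : 6 = cl 129) ▸ a⟩)).elim
  · obtain ⟨c, -, r, -⟩ := h.fix (u := fun _ => v) (fun _ _ _ => h.alp I) r
    cases r

omit [Finite G]

theorem Ce.rel1 (h : Ce e) {v : G} {T : ℕ} (A : Act e v T) (s : v * v = 1) (t : (v * e 64) ^ 3 = 1) {a b c k : ℕ}
    (r : (v * e a) ^ (k + 1) = e c) (ok : a < 32768 ∧ mu a (iv c) = b) :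
    Rel e (fun _ => v) [T] [[0, 0], [64, 64, 64], b :: List.replicate k a] := by
  refine ⟨A.one, by
    simp only [List.forall_mem_cons]
    refine ⟨by simpa [W, h.zero] using s, by simpa [W, pow_succ] using t, ?_, by simp⟩
    have := W_rep (e := e) (u := fun _ => v) [a] k
    rw [List.flatten_replicate_singleton] at this
    rw [W, this, ← ok.2, Nat.mod_eq_of_lt ((mu_lt _ _).trans (by decide)), ← h.mul, ← h.inv, ← r]
    simp [W, Nat.mod_eq_of_lt ok.1, pow_succ, mul_assoc]⟩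

theorem Ce.rel0 (h : Ce e) {v : G} (A : Act e v AL0) (s : v * v = 1) : (v * e 64) ^ 3 = 1 ∧ (v * e 1216) ^ 3 = 1 := by
  obtain ⟨c, c1, t⟩ := h.fixp (imA_spec A.one) f0t_ok
  obtain ⟨d, d1, r⟩ := h.fixp (imA_spec A.one) f0h_ok
  simp only [List.mem_cons, List.not_mem_nil, or_false] at c1 d1
  simp only [W, one_mul, c1, h.zero, Nat.reduceMod] at t r
  refine ⟨t, ?_⟩
  rcases d1 with rfl | rfl
  · exact r.trans h.zero
  · exact (col0 h.toCG (D := cAD) (h.rel1 A s t r (by decide +kernel)) cA_ok).elim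

theorem Ce.relX (h : Ce e) {v : G} (A : Act e v ALX) (s : v * v = 1) :
    (v * e 64) ^ 3 = 1 ∧ ((v * e 1152) ^ 5 = e 0 ∨ (v * e 1152) ^ 5 = e 276) := by
  obtain ⟨c, c1, t⟩ := h.fixp (imA_spec A.one) fXt_ok
  obtain ⟨d, d1, r⟩ := h.fixp (imA_spec A.one) fXh_ok
  simp only [List.mem_cons, List.not_mem_nil, or_false] at c1 d1
  simp only [W, one_mul, c1, h.zero, Nat.reduceMod] at t r
  have z := mul_inv_eq_iff_eq_mul.2 (A.im (r := 1) (d := 8) (by decide +kernel))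
  refine ⟨t, ?_⟩
  rcases d1 with rfl | rfl | rfl | rfl
  exacts [.inl r, (col1 h (D := cX0D) (h.rel1 A s t r (by decide +kernel)) z cX0_ok).elim,
    (col1 h (D := cX1D) (h.rel1 A s t r (by decide +kernel)) z cX1_ok).elim, .inr r]

theorem Ce.actB (h : Ce e) {v : G} (A : Act (fun a => e (th a)) v AL0) : Act e v ALB := fun r hr => by
  have ok := alB_ok
  simp only [band_eq_true, bor_eq_true, allLt_iff, Nat.blt_eq, p2_eq, force_eq] at ok
  rcases ok.2 r (by_contra fun c => hr.ne' (get_eq_zero_of_lt ok.1 (not_lt.1 c))) with s | ⟨s, t⟩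
  · exact (hr.ne' (Nat.eq_of_beq_eq_true s)).elim
  · obtain ⟨d, a, b⟩ := imA_spec A.one _ _ _ t
    simp only [Nat.eq_of_beq_eq_true s] at b
    rwa [Nat.eq_of_beq_eq_true a, Nat.add_sub_cancel]

theorem Ce.rel2 (h : Ce e) {v w : G} (A : Act e v AL0) (B : Act e w ALB) (s : v * v = 1) (s' : w * w = 1)
    (t : (w * e 2) ^ 3 = 1 ∧ (w * e 1026) ^ 3 = 1) {c : ℕ} (r : (w * v) ^ 2 = e c) (ok : c < 32768 ∧ mu c c = 0) :
    Rel e (two v w) [AL0, ALB] [[0, 0], [32768, 32768], [64, 64, 64], [1216, 1216, 1216], [32770, 32770, 32770],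
      [33794, 33794, 33794], [c, 32768, 0, 32768]] := by
  have := h.rel0 A s
  refine ⟨A.two B, ?_⟩
  simp only [List.forall_mem_cons, W, Nat.reduceMod, Nat.reduceDiv, Nat.zero_mod, Nat.zero_div, two, h.zero, one_mul, mul_one,
    Nat.div_eq_of_lt ok.1, Nat.mod_eq_of_lt ok.1, ← pow_three']
  exact ⟨s, s', this.1, this.2, t.1, t.2, by rw [← h.meq1.2 ok.2]; nth_rw 2 [← r]; simp [pow_two, mul_assoc], by simp⟩

theorem Ce.relL (h : Ce e) {v w : G} (A : Act e v AL0) (B : Act e w ALB) (s : v * v = 1) (s' : w * w = 1)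
    (t : (w * e 2) ^ 3 = 1 ∧ (w * e 1026) ^ 3 = 1) : ∃ v, Act e v AL0 ∧ Rel e (two v w) fLD.AL fLD.RL := by
  obtain ⟨d, d1, r⟩ := h.fixp (imA_spec (A.two B)) fL_fx
  simp only [List.mem_cons, List.not_mem_nil, or_false] at d1
  simp only [W, one_mul, mul_one, h.zero, Nat.reduceMod, Nat.reduceDiv, Nat.zero_mod, Nat.zero_div, two] at r
  have z := mul_inv_eq_iff_eq_mul.2 (A.im (r := 1) (d := 8) (by decide +kernel))
  rcases d1 with rfl | rfl | rfl | rfl
  · exact ⟨v, A, h.rel2 A B s s' t r (by decide +kernel)⟩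
  · exact (col1 h (D := cL0D) (h.rel2 A B s s' t r (by decide +kernel)) z cL0_ok).elim
  · exact (col1 h (D := cL1D) (h.rel2 A B s s' t r (by decide +kernel)) z cL1_ok).elim
  have a8 := A.im (r := 8) (d := 1) (by decide +kernel)
  have a9 := A.im (r := 9) (d := 9) (by decide +kernel)
  have A' : Act e (v * e 9) AL0 := fun r hr => by
    have : e 8 * e r = e r * e 8 := mul_left_cancel (a := v) (by
      rw [← mul_assoc, a8, mul_assoc, A r hr, ← mul_assoc, ← h.zc, ← mul_assoc, A r hr, mul_assoc, mul_assoc, a8])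
    rw [show 9 = mu 1 8 by decide +kernel, ← h.mul, mul_assoc, mul_assoc, this, ← mul_assoc (e 1), ← h.zc, ← mul_assoc, ← mul_assoc,
      A r hr, mul_assoc, mul_assoc]
  refine ⟨_, A', h.rel2 A' B (by
    rw [mul_assoc, ← mul_assoc (e 9), ← a9, ← mul_assoc, ← mul_assoc, s, one_mul, h.meq1]; decide +kernel) s' t ?_ (by decide +kernel)⟩
  rw [show 0 = mu (mu 153 144) 9 by decide +kernel, ← h.mul, ← h.mul, ← r, pow_two, pow_two, mul_assoc _ _ (e 144), mul_assoc w v (e 144),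
    A.im (r := 144) (d := 144) (by decide +kernel), ← mul_assoc w (e 144), B.im (r := 144) (d := 9) (by decide +kernel)]
  simp only [mul_assoc]

end L.DD
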