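import Cfsg.Agent.L.DD6a

/-! Computations on subgroups without conjugates of the central involution (namespace `L.DD`). -/

set_option autoImplicit false
set_option maxRecDepth 100000

namespace L.DD
open H13 H14.PK
open L.DC hiding qm mu iv wq el wc el_wc el_eq qm_lt trk fix srch alOk

/-- map a list -/
noncomputable def mapK (f : ℕ → ℕ) (l : List ℕ) : List ℕ → (List ℕ → Bool) → Bool :=
  List.rec (fun acc k => k acc) (fun a _ ih acc k => force (f a) fun x => ih (x :: acc) k) l

/-- an involution modulo the subgroup -/
noncomputable def ivB (B : List ℕ) (y : ℕ) : Bool :=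
  band (band (Nat.blt y 1024) (bn (memL y B))) (band (memL (mu y y) B) (allL (fun b => memL (cj mu iv y b) B) B))

/-- the coset looks like the coset of the central involution -/
noncomputable def uB (p : ℕ) (B : List ℕ) (y : ℕ) : Bool := anyL (fun b => force (mu y b) fun x => band (allL (cm x) B)
  (anyL (fun c => force (mu c 1) fun w => allL (fun a => Bool.rec (bn (bt p (cl (mu w a)))) (bt p (cl (mu w a))) (bt p (cl (mu x a)))) B) B)) B

/-- all subgroups above the given one have a witness -/
noncomputable def chkB (p : ℕ) (Y WL : List ℕ) (WP : List (ℕ × ℕ)) (n : ℕ) : List ℕ → Bool :=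
  Nat.rec (fun _ => false) (fun _ ih B => band (bor (anyL (fun y => band (ivB B y) (bn (uB p B y))) WL)
      (anyL (fun y => band (band (ivB B y.1) (ivB B y.2)) (bn (memL (mu (cj mu iv y.1 y.2) (iv y.2)) B))) WP))
    (allL (fun y => bor (bor (bn (ivB B y)) (anyL (fun b => force (mu y b) fun x => bor (Nat.blt x y) (bt p (cl x))) B))
      (mapK (mu y) B B ih)) Y)) n

/-- the check -/
noncomputable def topOk (p q : ℕ) (WL : List ℕ) (WP : List (ℕ × ℕ)) : Bool :=
  band (band (bn (bt p 0)) (allLt (fun k => bor (Nat.beq k 0) (bor (bt p k) (bt q k))) 9))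
    (fltN (fun y => band (bn (bt p (cl y))) (cm y 24)) 1024 [] fun Y => chkB p Y WL WP 3 [0, 24])

theorem topL_ok : topOk 46 464 [136, 12, 4] [] = true := by decide +kernel
theorem topM_ok : topOk 302 208 [136, 40, 32] [] = true := by decide +kernel
theorem topH_ok : topOk 430 80 [136, 66] [(70, 98), (66, 110)] = true := by decide +kernel

theorem s_ok : allLt (fun a => band (bor (Nat.blt a 1024) (bn (cm a 24))) (bor (Nat.blt a 16) (anyL (fun y => force y fun y =>
    force (mu y (y % 16)) fun w => band (Nat.ble 16 w) (Nat.beq (mu w w) 0))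
    [a, mu (cj mu iv 16 a) (iv a), mu (cj mu iv 32 a) (iv a), mu (cj mu iv 64 a) (iv a)]))) 21504 = true := by decide +kernel

end L.DD
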