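import Cfsg.Agent.L.Fz3
import Cfsg.Agent.H02.FzK
import Cfsg.Agent.H24.FzN
import Cfsg.Agent.H21.FzX
import Cfsg.Agent.H12.FzT
import Cfsg.Agent.H25.FzS
import Cfsg.Agent.H10.FzF

/-! `N(J(T))/J(T) ≅ M₂₄` in groups of large Fischer type, given the module statement `PkS`. -/

set_option autoImplicit false
open scoped Pointwise

namespace L.Fz
universe u

theorem main (pk : H01.XF.PkS.{u}) {G : Type u} [Group G] [Finite G] (z : G) (Q : Subgroup (Subgroup.centralizer ({z} : Set G))) [Q.Normal]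
    (hF : Cfsg.IsOfLargeFischerTypeAt z Q) (T : Sylow 2 G) (A M : Subgroup G)
    (hA : A = Cfsg.thompsonSubgroupOf 2 (T : Subgroup G)) (hM : M = Subgroup.normalizer (A : Set G)) :
    (Cfsg.IsElementaryAbelian 2 A ∧ Nat.card A = 2 ^ 11 ∧ ∃ _ : (A.subgroupOf M).Normal, Nonempty (↥M ⧸ A.subgroupOf M ≃* ↥Cfsg.M24)) ∧
    ∀ t : G, t ∈ A → orderOf t = 2 → ¬ IsConj z t → ∃ _ : (A.subgroupOf (M ⊓ Subgroup.centralizer ({t} : Set G))).Normal,
      Nonempty (↥(M ⊓ Subgroup.centralizer ({t} : Set G)) ⧸ A.subgroupOf (M ⊓ Subgroup.centralizer ({t} : Set G)) ≃*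
        ↥(Cfsg.M24 ⊓ MulAction.stabilizer (Equiv.Perm Cfsg.GolayPt) ({none, some 0} : Set Cfsg.GolayPt))) :=
  let ⟨u, _, _, h⟩ := cf pk z Q hF
  fin Cfsg.Agent.H02.FzK.k H24.FzN.n H21.Fz.x H12.Fz.t H25.Fz.s H10.FzF.f u h T A M hA hM

end L.Fz
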