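import Mathlib

/-!
Recognition of the second and third Janko groups: the presentation (namespace L.HJ).
`s, f, t` generate `2^{1+4}:A5`, `u` is an involution normalising the four-group `⟨z, s⟩`.
-/

namespace L.HJ

variable {G : Type*} [Group G]

/-- the five anticommuting involutions -/
def ga (s f : G) (i : ℕ) : G := f ^ i * s * (f ^ i)⁻¹

/-- the central involution -/
def zz (s f : G) : G := (ga s f 0 * ga s f 1) ^ 2

/-- an element of order three -/
def yy (f t : G) : G := t * f * f * t * f⁻¹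

/-- an involution inverting `yy` -/
def hh (f t : G) : G := f⁻¹ * t * f

/-- the conjugate of `u` by `hh` -/
def uu (f t u : G) : G := hh f t * u * hh f t

/-- relations of `2^{1+4}:A5` -/
structure RH (s f t : G) : Prop where
  s2 : s ^ 2 = 1
  t2 : t ^ 2 = 1
  f5 : f ^ 5 = 1
  ft : (f * t) ^ 3 = 1
  st : (s * t) ^ 2 = 1
  z2 : zz s f ^ 2 = 1
  zf : zz s f * f = f * zz s f
  zt : zz s f * t = t * zz s f
  zs : zz s f * s = s * zz s f
  t12 : t * ga s f 1 * t * ga s f 2 = 1
  t34 : t * ga s f 3 * t * ga s f 4 = 1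
  prod : ga s f 0 * ga s f 1 * ga s f 2 * ga s f 3 * ga s f 4 = 1
  a02 : (ga s f 0 * ga s f 2) ^ 2 * zz s f = 1

/-- relations of the amalgam of `2^{1+4}:A5` and `2^{2+4}:(3 × S3)` -/
structure Rel (s f t u : G) : Prop extends RH s f t where
  u2 : u ^ 2 = 1
  uy : u * yy f t = yy f t * u
  g1u : (ga s f 1 * u) ^ 3 = 1
  uz : u * zz s f * u * s = 1
  ua : u * (ga s f 1 * ga s f 2) * u = zz s f * ga s f 2 * ga s f 3 * t

theorem map_ga {G' : Type*} [Group G'] (φ : G →* G') (s f : G) (i : ℕ) : φ (ga s f i) = ga (φ s) (φ f) i := by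
  simp [ga]

theorem map_zz {G' : Type*} [Group G'] (φ : G →* G') (s f : G) : φ (zz s f) = zz (φ s) (φ f) := by
  simp [zz, map_ga]

theorem map_yy {G' : Type*} [Group G'] (φ : G →* G') (f t : G) : φ (yy f t) = yy (φ f) (φ t) := by
  simp [yy]

theorem map_hh {G' : Type*} [Group G'] (φ : G →* G') (f t : G) : φ (hh f t) = hh (φ f) (φ t) := by
  simp [hh]

theorem map_uu {G' : Type*} [Group G'] (φ : G →* G') (f t u : G) : φ (uu f t u) = uu (φ f) (φ t) (φ u) := by
  simp [uu, map_hh]

end L.HJ
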