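import Cfsg.Agent.L.HJ1
import Cfsg.Agent.H03.LX1
import Cfsg.Agent.H04.Rank

/-!
Recognition of the second and third Janko groups: coordinates in the centraliser (namespace L.HJ).
`Base`, `Base.exists_inv`, `Base.exists_cl`, `Pre`, `Base.pre`.
-/

set_option autoImplicit false

namespace L.HJ

open Cfsg BG H03 H04 Subgroup Equiv
open scoped commutatorElement

variable {G : Type*} [Group G] [Finite G] {Q : Subgroup G} {z : G}

/-- the hypothesis on the centraliser of `z` -/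
structure Base (Q : Subgroup G) (z : G) : Prop where
  es : ES Q z
  card : Nat.card Q = 32
  quo : ∃ π : C_[z] →* alternatingGroup (Fin 5), Function.Surjective π ∧ ∀ x, π x = 1 ↔ (x : G) ∈ Q

omit [Finite G] in
theorem two_cases {z x : G} (hz : orderOf z = 2) (h : x ∈ zpowers z) : x = 1 ∨ x = z := by
  obtain ⟨k, rfl⟩ := h
  have h2 : z ^ (2 : ℤ) = 1 := by rw [zpow_ofNat, ← hz, pow_orderOf_eq_one]
  rcases Int.emod_two_eq_zero_or_one k with e | e
  · left; simp only; rw [zpow_eq_zpow_emod k h2, e, zpow_zero]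
  · right; simp only; rw [zpow_eq_zpow_emod k h2, e, zpow_one]

omit [Finite G] in
theorem sq_four {A B C D z : G} (hA : A * A = 1) (hB : B * B = 1) (hC : C * C = 1) (hD : D * D = 1)
    (zA : Commute A z) (zB : Commute B z) (zC : Commute C z) (zD : Commute D z) {a b : ℕ}
    (e1 : B * A = z ^ a * (A * B)) (e2 : C * B = z ^ a * (B * C)) (e3 : D * C = z ^ a * (C * D))
    (e4 : C * A = z ^ b * (A * C)) (e5 : D * B = z ^ b * (B * D)) (e6 : D * A = z ^ b * (A * D)) :
    A * B * C * D * (A * B * C * D) = z ^ (3 * a + 3 * b) := by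
  have m : ∀ {X : G}, Commute X z → ∀ (n : ℕ) (x : G), X * (z ^ n * x) = z ^ n * (X * x) := fun h n x => by
    rw [← mul_assoc, (h.pow_right n).eq, mul_assoc]
  have s : ∀ {X Y : G} {n : ℕ}, Y * X = z ^ n * (X * Y) → ∀ x, Y * (X * x) = z ^ n * (X * (Y * x)) := fun h x => by
    rw [← mul_assoc, h]; simp only [mul_assoc]
  have i : ∀ {X : G}, X * X = 1 → ∀ x, X * (X * x) = x := fun h x => by rw [← mul_assoc, h, one_mul]
  have p : ∀ (x : G) (m n : ℕ), z ^ m * (z ^ n * x) = z ^ (m + n) * x := fun x m n => by rw [pow_add, mul_assoc]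
  simp only [mul_assoc, s e1, s e2, s e3, s e4, s e5, s e6, m zA, m zB, m zC, m zD, i hA, i hB, i hC, i hD, hA, hB, hC, hD, p, mul_one, ← pow_add]
  congr 1; ring

namespace Base

variable (h : Base Q z)
include h

theorem ord : orderOf z = 2 := h.es.aes.ord

theorem z2 : z * z = 1 := by rw [← pow_two, ← h.ord, pow_orderOf_eq_one]

theorem z1 : z ≠ 1 := fun e => by have := h.ord; rw [e, orderOf_one] at this; omega

theorem zc {q : G} (hq : q ∈ Q) : q * z = z * q := mem_cent1.1 (aes_le h.es.aes hq)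

theorem cardH : Nat.card C_[z] = 1920 := by
  obtain ⟨π, h1, h2⟩ := h.quo
  have e : π.ker = Q.subgroupOf C_[z] := by ext x; rw [MonoidHom.mem_ker, h2, mem_subgroupOf]
  rw [← π.ker.card_mul_index, index_ker, MonoidHom.range_eq_top.2 h1, card_top, e, card_subgroupOf (aes_le h.es.aes), h.card,
    nat_card_alternatingGroup]
  simp [Nat.factorial]

theorem comm_or {x y : G} (hx : x ∈ Q) (hy : y ∈ Q) : y * x = z ^ 0 * (x * y) ∨ y * x = z ^ 1 * (x * y) := by
  rcases two_cases h.ord (h.es.aes.comm y hy x hx) with e | e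
  · left; rw [pow_zero, one_mul]; exact commutatorElement_eq_one_iff_mul_comm.1 e
  · right; rw [pow_one, ← e, commutatorElement_def]; group

/-- there is a non-central involution -/
theorem exists_inv : ∃ s ∈ Q, s * s = 1 ∧ s ∉ zpowers z := by
  by_contra! hn
  have sq : ∀ s ∈ Q, s ∉ zpowers z → s * s = z := fun s hs h1 =>
    (two_cases h.ord (pow_two s ▸ h.es.aes.pow s hs)).resolve_left fun e => h1 (hn s hs e)
  have nle : ∀ W : Subgroup G, 2 < Nat.card W → ∃ x ∈ W, x ∉ zpowers z := fun W hW => by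
    by_contra! hc
    have := card_le_of_le (show W ≤ zpowers z from hc)
    rw [h.es.card_z] at this; omega
  obtain ⟨x, hx, hx1⟩ := nle Q (by rw [h.card]; decide)
  have hA : zpowers x ≤ Q := zpowers_le.2 hx
  have zx : zpowers z ≤ zpowers x := zpowers_le.2 (sq x hx hx1 ▸ mul_mem (mem_zpowers x) (mem_zpowers x))
  have c1 := aes_card h.es.aes hA (h.es.zc.trans_le zx)
  have o4 : orderOf x ∣ 4 := orderOf_dvd_of_pow_eq_one (by
    rw [show x ^ 4 = x * x * (x * x) by simp only [pow_succ, pow_zero, one_mul, mul_assoc], sq x hx hx1, h.z2])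
  rw [h.es.zc, h.es.card_z, h.card, Nat.card_zpowers] at c1
  have c2 : ¬ Q ⊓ C_(zpowers x) ≤ zpowers x := fun hc => by
    have := card_le_of_le hc
    rw [Nat.card_zpowers] at this
    have := Nat.le_of_dvd (by decide) o4
    nlinarith
  obtain ⟨w, hw, hw1⟩ := SetLike.not_le_iff_exists.1 c2
  have cw : x * w = w * x := hw.2 x (mem_zpowers x)
  refine hw1 ?_
  have := hn (x * w) (mul_mem hx hw.1) (by
    rw [mul_assoc, ← mul_assoc w, ← cw, mul_assoc, sq w hw.1 fun e => hw1 (zx e), ← mul_assoc, sq x hx hx1, h.z2])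
  simpa using mul_mem (inv_mem (mem_zpowers x)) (zx this)

theorem exists_five : ∃ f ∈ C_[z], orderOf f = 5 := by
  have : Fact (Nat.Prime 5) := ⟨by decide⟩
  obtain ⟨f, hf⟩ := exists_prime_orderOf_dvd_card' (G := C_[z]) 5 (by rw [h.cardH]; decide)
  exact ⟨f, f.2, (orderOf_coe f).trans hf⟩

variable {f : G} (hf : f ∈ C_[z]) (o5 : orderOf f = 5)
include hf o5

theorem inv_sub (W : Subgroup G) (hW : W ≤ Q) (hz : z ∈ W) (hn : ∀ x ∈ W, f * x * f⁻¹ ∈ W) : W ≤ zpowers z ∨ W = Q := by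
  have : Fact (Nat.Prime 5) := ⟨by decide⟩
  have f5 : MulAut.conj f ^ 5 ^ 1 = 1 := by rw [pow_one, ← map_pow, ← o5, pow_orderOf_eq_one, map_one]
  have key : ∀ W : Subgroup G, W ≤ Q → Nat.card W ≡ 2 [MOD 5] → Nat.card W = 2 ∨ W = Q := fun W hW e => by
    have d := card_dvd_of_le hW
    rw [h.card] at d
    have : ∀ n, n ∣ 32 → n ≡ 2 [MOD 5] → n = 2 ∨ n = 32 := fun n hn => by
      have := Nat.le_of_dvd (by decide) hn
      interval_cases n <;> simp_all [Nat.ModEq]
    exact (this _ d e).imp_right fun c => eq_of_le_of_card_ge hW (by rw [c, h.card])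
  have zf : z ∈ fixSub (MulAut.conj f) := mul_inv_eq_iff_eq_mul.2 (mem_cent1.1 hf)
  have c0 : Q ⊓ fixSub (MulAut.conj f) = zpowers z := by
    have e := (card_modEq_card_inf_fixSub f5 Q fun x hx => conj_mem_of_norm (h.es.norm hf) hx).symm
    rw [h.card] at e
    rcases key _ inf_le_left (e.trans (by decide)) with c | c
    · exact (eq_of_le_of_card_ge (zpowers_le.2 (mem_inf.2 ⟨h.es.aes.mem, zf⟩)) (by rw [c, h.es.card_z])).symm
    · have : f ∈ zpowers z := h.es.cent fun q hq => (mul_inv_eq_iff_eq_mul.1 (c.ge hq).2).symm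
      have := orderOf_dvd_of_mem_zpowers this
      rw [o5, h.ord] at this; omega
  have e := card_modEq_card_inf_fixSub f5 W hn
  have c1 : W ⊓ fixSub (MulAut.conj f) = zpowers z :=
    le_antisymm (c0 ▸ inf_le_inf_right _ hW) (zpowers_le.2 ⟨hz, zf⟩)
  rw [c1, h.es.card_z] at e
  exact (key W hW e).imp_left fun c => (eq_of_le_of_card_ge (zpowers_le.2 hz) (by rw [c, h.es.card_z])).ge

theorem fpf {q : G} (hq : q ∈ Q) (e : f * q * f⁻¹ * q⁻¹ ∈ zpowers z) : q ∈ zpowers z := by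
  let W : Subgroup G :=
    { carrier := {q | q ∈ Q ∧ f * q * f⁻¹ * q⁻¹ ∈ zpowers z}
      one_mem' := ⟨one_mem _, by simp⟩
      mul_mem' := fun {a b} ha hb => ⟨mul_mem ha.1 hb.1, by
        have := conj_mem_of_norm (le_norm_of_cent ((cent_zpowers z).ge.trans' (aes_le h.es.aes)) ha.1) hb.2
        convert mul_mem ha.2 this using 1; group⟩
      inv_mem' := fun {a} ha => ⟨inv_mem ha.1, by
        have := conj_mem_of_norm' (le_norm_of_cent ((cent_zpowers z).ge.trans' (aes_le h.es.aes)) ha.1) (inv_mem ha.2)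
        convert this using 1; group⟩ }
  have fn : f ∈ N_(zpowers z) := le_norm_of_cent (cent_zpowers z).ge hf
  rcases h.inv_sub hf o5 W (fun _ hx => hx.1) ⟨h.es.aes.mem, by rw [mem_cent1.1 hf]; simp⟩ (fun x hx =>
    ⟨conj_mem_of_norm (h.es.norm hf) hx.1, by convert conj_mem_of_norm fn hx.2 using 1; group⟩) with c | c
  · exact c ⟨hq, e⟩
  · have := h.es.inner hf fun q hq => (c.ge hq).2
    have := orderOf_dvd_natCard (⟨f, this⟩ : Q)
    rw [← orderOf_coe, o5, h.card] at this; omega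

theorem cl_aux {s : G} (hs : s ∈ Q) (s2 : s * s = 1) (hz : s ∉ zpowers z) :
    (∀ i < 5, ∀ j < 5, i ≠ j → ga s f i * ga s f j = z * (ga s f j * ga s f i)) ∧
      ga s f 0 * ga s f 1 * ga s f 2 * ga s f 3 * ga s f 4 ∈ zpowers z := by
  have f5 : f ^ 5 = 1 := by rw [← o5, pow_orderOf_eq_one]
  have mem : ∀ i, ga s f i ∈ Q := fun i => conj_mem_of_norm (h.es.norm (pow_mem hf i)) hs
  have sh : ∀ i k, f ^ k * ga s f i * (f ^ k)⁻¹ = ga s f (i + k) := fun i k => by unfold ga; group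
  have sh1 : ∀ i, f * ga s f i * f⁻¹ = ga s f (i + 1) := fun i => by simpa using sh i 1
  have g5 : ga s f 5 = ga s f 0 := by simp [ga, f5]
  have g0 : ga s f 0 = s := by simp [ga]
  have sq : ∀ i, ga s f i * ga s f i = 1 := fun i => by unfold ga; rw [conj_mul, s2]; simp
  have cz : ∀ i, Commute (ga s f i) z := fun i => h.zc (mem i)
  have shift : ∀ {i j n : ℕ} (k : ℕ), ga s f j * ga s f i = z ^ n * (ga s f i * ga s f j) →
      ga s f (j + k) * ga s f (i + k) = z ^ n * (ga s f (i + k) * ga s f (j + k)) := fun {i j n} k e => by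
    have c : Commute (f ^ k) (z ^ n) := Commute.pow_pow (mem_cent1.1 hf) _ _
    rw [← sh, ← sh, conj_mul, conj_mul, e, ← mul_assoc, c.eq]; group
  have sym : ∀ {i j n : ℕ}, ga s f j * ga s f i = z ^ n * (ga s f i * ga s f j) →
      ga s f i * ga s f j = z ^ n * (ga s f j * ga s f i) := fun {i j n} e => by
    rw [e, ← mul_assoc, ← pow_add, ← two_mul, pow_mul, pow_two, h.z2, one_pow, one_mul]
  have hP : ga s f 0 * ga s f 1 * ga s f 2 * ga s f 3 * ga s f 4 ∈ zpowers z := by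
    have m : ga s f 1 * ga s f 2 * ga s f 3 * ga s f 4 ∈ Q := mul_mem (mul_mem (mul_mem (mem _) (mem _)) (mem _)) (mem _)
    refine h.fpf hf o5 (by simpa only [mul_assoc] using mul_mem (mem 0) m) ?_
    convert h.es.aes.comm _ m _ (mem 0) using 1
    rw [← conj_mul, ← conj_mul, ← conj_mul, ← conj_mul, sh1, sh1, sh1, sh1, sh1, g5, commutatorElement_def]
    group
  refine ⟨?_, hP⟩
  have main : ∀ a b : ℕ, ga s f 1 * ga s f 0 = z ^ a * (ga s f 0 * ga s f 1) →
      ga s f 2 * ga s f 0 = z ^ b * (ga s f 0 * ga s f 2) → z ^ (3 * a + 3 * b) = 1 ∧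
        ga s f 3 * ga s f 0 = z ^ b * (ga s f 0 * ga s f 3) ∧ ga s f 4 * ga s f 0 = z ^ a * (ga s f 0 * ga s f 4) := by
    intro a b e1 e2
    have e3 := sym (g5 ▸ shift 3 e2)
    refine ⟨?_, e3, sym (g5 ▸ shift 4 e1)⟩
    rw [← sq_four (sq 0) (sq 1) (sq 2) (sq 3) (cz 0) (cz 1) (cz 2) (cz 3) e1 (shift 1 e1) (shift 2 e1) e2 (shift 1 e2) e3]
    rcases two_cases h.ord hP with e | e
    · rw [eq_inv_of_mul_eq_one_left e, ← _root_.mul_inv_rev, sq, inv_one]
    · rw [eq_mul_inv_of_mul_eq e, mul_assoc, ← mul_assoc _ z, (cz 4).inv_left.eq, mul_assoc, ← _root_.mul_inv_rev, sq, inv_one,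
        mul_one, h.z2]
  have z3 : z ^ 3 ≠ 1 := by rw [pow_succ, pow_two, h.z2, one_mul]; exact h.z1
  rcases h.comm_or (mem 0) (mem 1) with e1 | e1 <;> rcases h.comm_or (mem 0) (mem 2) with e2 | e2
  · exfalso
    obtain ⟨-, e3, e4⟩ := main _ _ e1 e2
    simp only [pow_zero, one_mul] at e1 e2 e3 e4
    let W : Subgroup G :=
      { carrier := {q | q ∈ Q ∧ ∀ i < 5, ga s f i * q = q * ga s f i}
        one_mem' := ⟨one_mem _, by simp⟩
        mul_mem' := fun {a b} ha hb => ⟨mul_mem ha.1 hb.1, fun i hi => (Commute.mul_right (ha.2 i hi) (hb.2 i hi)).eq⟩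
        inv_mem' := fun {a} ha => ⟨inv_mem ha.1, fun i hi => (Commute.inv_right (ha.2 i hi)).eq⟩ }
    rcases h.inv_sub hf o5 W (fun _ hx => hx.1) ⟨h.es.aes.mem, fun i _ => cz i⟩ (fun x hx =>
      ⟨conj_mem_of_norm (h.es.norm hf) hx.1, fun i hi => by
        obtain ⟨j, hj, e⟩ : ∃ j < 5, ga s f i = ga s f (j + 1) := by
          rcases i with _ | i
          · exact ⟨4, by decide, g5.symm⟩
          · exact ⟨i, by omega, rfl⟩
        rw [e, ← sh1, conj_mul, conj_mul, hx.2 j hj]⟩) with c | c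
    · refine hz (g0 ▸ c ⟨mem 0, fun i hi => ?_⟩)
      interval_cases i
      exacts [rfl, e1, e2, e3, e4]
    · exact hz (h.es.cent fun q hq => (g0 ▸ (c.ge hq).2 0 (by decide)).symm)
  · exact absurd (main _ _ e1 e2).1 z3
  · exact absurd (main _ _ e1 e2).1 z3
  · obtain ⟨-, e3, e4⟩ := main _ _ e1 e2
    have lt : ∀ i d, 0 < d → d < 5 → ga s f (d + i) * ga s f (0 + i) = z ^ 1 * (ga s f (0 + i) * ga s f (d + i)) :=
      fun i d h0 h1 => shift i (by interval_cases d; exacts [e1, e2, e3, e4])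
    intro i hi j hj ne
    rw [← pow_one z]
    rcases lt_or_gt_of_ne ne with c | c
    · have := lt i (j - i) (by omega) (by omega)
      rw [zero_add, Nat.sub_add_cancel c.le] at this
      exact sym this
    · have := lt j (i - j) (by omega) (by omega)
      rwa [zero_add, Nat.sub_add_cancel c.le] at this

theorem exists_cl : ∃ s ∈ Q, Cl z (ga s f) := by
  have mk : ∀ s ∈ Q, s * s = 1 → s ∉ zpowers z → ga s f 0 * ga s f 1 * ga s f 2 * ga s f 3 * ga s f 4 = 1 → Cl z (ga s f) :=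
    fun s hs s2 hz e => ⟨h.z2, h.z1, fun i _ => by unfold ga; rw [conj_mul, s2]; simp,
      fun i _ => h.zc (conj_mem_of_norm (h.es.norm (pow_mem hf i)) hs), (h.cl_aux hf o5 hs s2 hz).1, e⟩
  obtain ⟨s, hs, s2, hz⟩ := h.exists_inv
  rcases two_cases h.ord (h.cl_aux hf o5 hs s2 hz).2 with e | e
  · exact ⟨s, hs, mk s hs s2 hz e⟩
  · refine ⟨z * s, mul_mem h.es.aes.mem hs, mk _ (mul_mem h.es.aes.mem hs) ?_ (fun c => hz ?_) ?_⟩
    · rw [mul_assoc, ← mul_assoc s, h.zc hs, mul_assoc, s2, mul_one, h.z2]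
    · simpa using mul_mem (inv_mem (mem_zpowers z)) c
    · have g : ∀ i, ga (z * s) f i = z * ga s f i := fun i => by
        have c : Commute (f ^ i) z := Commute.pow_left (mem_cent1.1 hf) _
        unfold ga; rw [← mul_assoc, c.eq]; group
      have m : ∀ i x, ga s f i * (z * x) = z * (ga s f i * x) := fun i x => by
        rw [← mul_assoc, h.zc (q := ga s f i) (conj_mem_of_norm (h.es.norm (pow_mem hf i)) hs), mul_assoc]
      simp only [g, mul_assoc, m] at e ⊢
      rw [e]; simp only [← mul_assoc, h.z2, one_mul]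

end Base

/-- coordinates in the centraliser, before the complement is known -/
structure Pre (Q : Subgroup G) (z : G) (γ : ℕ → G) : Prop where
  base : Base Q z
  cl : Cl z γ
  memQ : ∀ x, x ∈ Q ↔ ∃ a < 32, kap z γ a = x
  lift : ∀ p < 60, ∃ x, Ind z γ x p
  dec : ∀ x, x * z = z * x → ∃ p < 60, ∃ a < 32, ∃ T, Ind z γ T p ∧ x = kap z γ a * T

theorem Base.memQ (h : Base Q z) {γ : ℕ → G} (c : Cl z γ) (hγ : ∀ i < 5, γ i ∈ Q) (x : G) :
    x ∈ Q ↔ ∃ a < 32, kap z γ a = x := by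
  have m : ∀ a, kap z γ a ∈ Q := fun a => mul_mem (mul_mem (mul_mem (mul_mem (pow_mem h.es.aes.mem _)
    (pow_mem (hγ 0 (by decide)) _)) (pow_mem (hγ 1 (by decide)) _)) (pow_mem (hγ 2 (by decide)) _)) (pow_mem (hγ 3 (by decide)) _)
  refine ⟨fun hx => ?_, fun ⟨a, _, e⟩ => e ▸ m a⟩
  have hi : Function.Injective fun a : Fin 32 => (⟨kap z γ a, m a⟩ : Q) := fun a b e =>
    Fin.ext (c.kap_inj a.2 b.2 (congrArg Subtype.val e))
  obtain ⟨a, e⟩ := ((Nat.bijective_iff_injective_and_card _).2 ⟨hi, by rw [h.card]; simp⟩).2 ⟨x, hx⟩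
  exact ⟨a, a.2, congrArg Subtype.val e⟩

theorem Base.pre (h : Base Q z) : ∃ γ, Pre Q z γ := by
  obtain ⟨f, hf, o5⟩ := h.exists_five
  obtain ⟨s, hs, c⟩ := h.exists_cl hf o5
  have hγ : ∀ i < 5, ga s f i ∈ Q := fun i _ => conj_mem_of_norm (h.es.norm (pow_mem hf i)) hs
  have mQ := h.memQ c hγ
  generalize ga s f = γ at c hγ mQ
  have ex : ∀ (x : C_[z]) (k : Fin 5), ∃ j : Fin 5, ∃ e < 2, x * γ k * (x : G)⁻¹ = kap z γ (qm e (gc j)) := fun x k => by
    obtain ⟨a, ha, e⟩ := (mQ _).1 (conj_mem_of_norm (h.es.norm x.2) (hγ k k.2))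
    have t : ∀ a < 32, qm a a = 0 → a = 0 ∨ a = 1 ∨ ∃ j : Fin 5, ∃ e < 2, a = qm e (gc j) := by decide +kernel
    have t2 : ∀ k : Fin 5, gc k ≠ 0 ∧ gc k ≠ 1 := by decide +kernel
    rcases t a ha (c.kap_eq_one (qm_lt _ _) (by rw [c.kap_mul ha ha, e, conj_mul, c.sq k k.2]; simp)) with rfl | rfl | ⟨j, e', he, rfl⟩
    · rw [Cl.kap_zero, eq_comm, conj_eq_one_iff, ← c.kap_gc k.2] at e
      exact absurd (c.kap_eq_one (gc_lt _) e) (t2 k).1
    · rw [Cl.kap_one, eq_mul_inv_iff_mul_eq, ← mem_cent1.1 x.2, mul_right_inj, ← c.kap_gc k.2] at e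
      exact absurd (c.kap_inj (gc_lt _) (by decide) (e.symm.trans Cl.kap_one.symm)) (t2 k).2
    · exact ⟨j, e', he, e.symm⟩
  choose r er her hr using ex
  have uq : ∀ (x : C_[z]) (k j : Fin 5) e, e < 2 → x * γ k * (x : G)⁻¹ = kap z γ (qm e (gc j)) → r x k = j := fun x k j e he e' => by
    have t : ∀ i j : Fin 5, ∀ e < 2, ∀ e' < 2, qm e (gc i) = qm e' (gc j) → i = j := by decide +kernel
    exact t _ _ _ (her x k) _ he (c.kap_inj (qm_lt _ _) (qm_lt _ _) ((hr x k).symm.trans e'))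
  have kz : ∀ (x : C_[z]) e, e < 2 → x * kap z γ e * (x : G)⁻¹ = kap z γ e := fun x e he => by
    interval_cases e
    · simp [Cl.kap_zero]
    · rw [Cl.kap_one, mem_cent1.1 x.2, mul_inv_cancel_right]
  let ρ0 : C_[z] →* Function.End (Fin 5) :=
    { toFun := r
      map_one' := funext fun k => uq 1 k k 0 (by decide) (by
        rw [c.kap_mul (by decide) (gc_lt _), Cl.kap_zero, c.kap_gc k.2]; simp)
      map_mul' := fun x y => funext fun k => by
        have t : ∀ e < 2, ∀ e' < 2, (e + e') % 2 = qm e e' := by decide +kernel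
        refine uq _ k (r x (r y k)) ((er y k + er x (r y k)) % 2) (Nat.mod_lt _ (by decide)) ?_
        have l : ∀ e < 2, e < 32 := fun e he => by omega
        rw [t _ (her _ _) _ (her _ _), c.kap_mul (qm_lt _ _) (gc_lt _), c.kap_mul (l _ (her _ _)) (l _ (her _ _)), mul_assoc (kap _ _ _),
          ← c.kap_mul (l _ (her _ _)) (gc_lt _), ← hr, ← kz x _ (her y k), conj_mul, ← c.kap_gc (r y k).2,
          ← c.kap_mul (l _ (her _ _)) (gc_lt _), ← hr, Subgroup.coe_mul]
        group }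
  let ρ := ρ0.toHomPerm
  have hρ : ∀ x k, ρ x k = r x k := fun _ _ => rfl
  have ker : ρ.ker = Q.subgroupOf C_[z] := by
    ext x
    rw [MonoidHom.mem_ker, mem_subgroupOf]
    refine ⟨fun e => h.es.inner x.2 fun q hq => ?_, fun hx => Equiv.ext fun k => ?_⟩
    · let W : Subgroup G :=
        { carrier := {q | q ∈ Q ∧ x * q * (x : G)⁻¹ * q⁻¹ ∈ zpowers z}
          one_mem' := ⟨one_mem _, by simp⟩
          mul_mem' := fun {a b} ha hb => ⟨mul_mem ha.1 hb.1, by
            have := conj_mem_of_norm (le_norm_of_cent ((cent_zpowers z).ge.trans' (aes_le h.es.aes)) ha.1) hb.2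
            convert mul_mem ha.2 this using 1; group⟩
          inv_mem' := fun {a} ha => ⟨inv_mem ha.1, by
            have := conj_mem_of_norm' (le_norm_of_cent ((cent_zpowers z).ge.trans' (aes_le h.es.aes)) ha.1) (inv_mem ha.2)
            convert this using 1; group⟩ }
      have g : ∀ k < 5, γ k ∈ W := fun k hk => ⟨hγ k hk, by
        have e1 := hr x ⟨k, hk⟩
        have l := her x ⟨k, hk⟩
        rw [← hρ, e, c.kap_mul (by omega) (gc_lt _), Perm.one_apply, c.kap_gc hk] at e1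
        rw [e1, mul_inv_cancel_right]
        generalize er x ⟨k, hk⟩ = e at l
        interval_cases e <;> simp [Cl.kap_zero, Cl.kap_one]⟩
      have gz : z ∈ W := ⟨h.es.aes.mem, by rw [mem_cent1.1 x.2]; simp⟩
      obtain ⟨a, -, rfl⟩ := (mQ q).1 hq
      exact (mul_mem (mul_mem (mul_mem (mul_mem (pow_mem gz _) (pow_mem (g 0 (by decide)) _)) (pow_mem (g 1 (by decide)) _))
        (pow_mem (g 2 (by decide)) _)) (pow_mem (g 3 (by decide)) _) : kap z γ a ∈ W).2
    · obtain ⟨a, ha, e⟩ := (mQ _).1 hx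
      have t : ∀ a < 32, ∀ k : Fin 5, ∃ e < 2, qm (qm a (gc k)) (iv a) = qm e (gc k) := by decide +kernel
      obtain ⟨e', he, e1⟩ := t a ha k
      refine uq x k k e' he ?_
      rw [← e1, c.kap_mul (qm_lt _ _) (c.kap_iv ha).1, c.kap_mul ha (gc_lt _), (c.kap_iv ha).2, e, c.kap_gc k.2]
  have rng : ρ.range = alternatingGroup (Fin 5) := by
    refine Perm.eq_alternatingGroup_of_index_eq_two ?_
    have e1 := ρ.ker.card_mul_index
    rw [index_ker, ker, card_subgroupOf (aes_le h.es.aes), h.card, h.cardH] at e1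
    have e2 := ρ.range.card_mul_index
    rw [Nat.card_perm, Nat.card_eq_fintype_card (α := Fin 5), Fintype.card_fin, show Nat.card ρ.range = 60 by omega] at e2
    simp only [Nat.factorial] at e2
    omega
  have lift : ∀ p < 60, ∀ x : C_[z], ρ x = pl p → ∃ a < 32, Ind z γ (kap z γ a * x) p := fun p hp x e => by
    have e1 : ∀ k : Fin 5, x * γ k * (x : G)⁻¹ = kap z γ (qm (er x k) (gc (dg p k))) := fun k => by
      rw [hr, ← hρ, e, dg_spec p hp]
    have t : (al 60 fun p => al 2 fun e0 => al 2 fun e1 => al 2 fun e2 => al 2 fun e3 => al 2 fun e4 =>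
        !Nat.beq (qm (qm (qm (qm (qm e0 (gc (dg p 0))) (qm e1 (gc (dg p 1)))) (qm e2 (gc (dg p 2)))) (qm e3 (gc (dg p 3))))
          (qm e4 (gc (dg p 4)))) 0 || ex 32 fun a => al 5 fun k =>
            Nat.beq (qm (qm a (qm ([e0, e1, e2, e3, e4].getD k 0) (gc (dg p k)))) (iv a)) (gc (dg p k))) = true := by
      decide +kernel
    simp only [al_iff, ex_iff, Bool.or_eq_true, Nat.beq_eq, Bool.not_eq_true'] at t
    rcases t p hp _ (her x 0) _ (her x 1) _ (her x 2) _ (her x 3) _ (her x 4) with t | ⟨a, ha, t⟩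
    · refine absurd (c.kap_eq_one (qm_lt _ _) ?_) (Nat.ne_of_beq_eq_false t)
      simp only [c.kap_mul (qm_lt _ _) (qm_lt _ _)]
      have := e1 0; have := e1 1; have := e1 2; have := e1 3; have := e1 4
      simp only [Fin.val_zero, Fin.val_one, Fin.val_two, show ((3 : Fin 5) : ℕ) = 3 from rfl, show ((4 : Fin 5) : ℕ) = 4 from rfl] at *
      simp only [← ‹x * γ 0 * _ = _›, ← ‹x * γ 1 * _ = _›, ← ‹x * γ 2 * _ = _›, ← ‹x * γ 3 * _ = _›, ← ‹x * γ 4 * _ = _›, conj_mul,
        c.pr]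
      simp
    · refine ⟨a, ha, by rw [mul_assoc, mem_cent1.1 x.2, ← mul_assoc, c.kap_z ha, mul_assoc], fun k hk => ?_⟩
      have e2 : [er x 0, er x 1, er x 2, er x 3, er x 4].getD k 0 = er x ⟨k, hk⟩ := by interval_cases k <;> rfl
      rw [← c.kap_gc (dg_lt hp hk), ← t k hk, e2, c.kap_mul (qm_lt _ _) (c.kap_iv ha).1, c.kap_mul ha (qm_lt _ _),
        (c.kap_iv ha).2, ← e1 ⟨k, hk⟩]
      group
  refine ⟨γ, h, c, mQ, fun p hp => ?_, fun x hx => ?_⟩
  · obtain ⟨x, e⟩ : (pl p : Perm (Fin 5)) ∈ ρ.range := rng.ge (pl p).2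
    obtain ⟨a, -, e⟩ := lift p hp x e
    exact ⟨_, e⟩
  · obtain ⟨p, hp, e⟩ := exists_pl ⟨ρ ⟨x, mem_cent1.2 hx⟩, rng.le ⟨_, rfl⟩⟩
    obtain ⟨a, ha, e⟩ := lift p hp ⟨x, mem_cent1.2 hx⟩ (congrArg Subtype.val e).symm
    exact ⟨p, hp, _, (c.kap_iv ha).1, _, e, by rw [(c.kap_iv ha).2]; simp⟩

end L.HJ
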