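import Cfsg.Agent.L.HJ2
import Cfsg.Agent.L.AltPres

/-!
Recognition of the second and third Janko groups: the centraliser splits (namespace L.HJ).
`Deg`, `Pre.swap`, `Pre.sq_nw`, `Pre.sq_inv`, `Sm` (the coded centraliser), `Pre.sm`, `Base.sm_nw`, `Base.sm_inv`.
-/

set_option autoImplicit false
set_option synthInstance.maxSize 4096

namespace L.HJ

open Cfsg BG H03 H04 Subgroup Equiv

variable {G : Type*} [Group G] [Finite G] {Q : Subgroup G} {z : G} {γ : ℕ → G} {x y : G} {p q : ℕ}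

/-- inverses in the alternating group -/
def ip (p : ℕ) : ℕ := Nat.div (iv (Nat.mul 32 p)) 32

theorem ip_spec : ∀ p < 60, ip p < 60 ∧ mt p (ip p) = 0 ∧ mt (ip p) p = 0 ∧ ∀ k < 5, dg p (dg (ip p) k) = k := by
  decide +kernel

omit [Finite G] in
theorem Ind.inv (h : Ind z γ x p) (hp : p < 60) : Ind z γ x⁻¹ (ip p) := by
  obtain ⟨h1, -, -, h2⟩ := ip_spec p hp
  refine ⟨(Commute.inv_left h.1).eq, fun k hk => ?_⟩
  have := h.2 _ (dg_lt h1 hk)
  rw [h2 k hk] at this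
  rw [← this]; group

/-- the image of `x` in the alternating group -/
def Deg (z : G) (γ : ℕ → G) (x : G) (p : ℕ) : Prop := ∃ a < 32, ∃ T, Ind z γ T p ∧ x = kap z γ a * T

omit [Finite G] in
theorem Ind.deg (h : Ind z γ x p) : Deg z γ x p := ⟨0, by decide, x, h, by rw [Cl.kap_zero, one_mul]⟩

/-- product and inverse of codes -/
def M (a b : ℕ) : ℕ := mu (Nat.mod a 1920) (Nat.mod b 1920)
def I (a : ℕ) : ℕ := iv (Nat.mod a 1920)

/-- the coded centraliser of `e 1` -/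
structure Sm (Q : Subgroup G) (e : ℕ → G) : Prop where
  base : Base Q (e 1)
  zero : e 0 = 1
  mul : ∀ a b, e a * e b = e (M a b)
  inv : ∀ a, (e a)⁻¹ = e (I a)
  eq : ∀ a b, e a = e b ↔ a % 1920 = b % 1920
  memH : ∀ x, x * e 1 = e 1 * x ↔ ∃ a < 1920, e a = x
  memQ : ∀ x, x ∈ Q ↔ ∃ a < 32, e a = x

namespace Pre

variable (h : Pre Q z γ)
include h

theorem ind0 (e : Ind z γ x 0) : x = 1 ∨ x = z := two_cases h.base.ord <| h.base.es.cent fun q hq => by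
  obtain ⟨a, ha, rfl⟩ := (h.memQ q).1 hq
  have t : ∀ a < 32, ac 0 a = a := by decide +kernel
  have := e.kap h.cl (by decide) ha
  rw [t a ha] at this
  exact (mul_inv_eq_iff_eq_mul.1 this).symm

theorem ind_eq (e : Ind z γ x p) (e' : Ind z γ y p) (hp : p < 60) : x = y ∨ x = z * y := by
  have := e.mul (e'.inv hp) hp (ip_spec p hp).1
  rw [(ip_spec p hp).2.1] at this
  exact (h.ind0 this).imp mul_inv_eq_one.1 mul_inv_eq_iff_eq_mul.1

theorem deg_mul (e : Deg z γ x p) (e' : Deg z γ y q) (hp : p < 60) (hq : q < 60) : Deg z γ (x * y) (mt p q) := by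
  obtain ⟨a, ha, T, hT, rfl⟩ := e
  obtain ⟨b, hb, U, hU, rfl⟩ := e'
  refine ⟨qm a (ac p b), qm_lt _ _, T * U, hT.mul hU hp hq, ?_⟩
  rw [h.cl.kap_mul ha (ac_lt _ _), ← hT.kap h.cl hp hb]; group

theorem deg_act (e : Deg z γ x p) (hp : p < 60) {k : ℕ} (hk : k < 5) :
    ∃ a < 32, a / 2 = gc (dg p k) / 2 ∧ x * γ k * x⁻¹ = kap z γ a := by
  obtain ⟨a, ha, T, hT, rfl⟩ := e
  have t : ∀ a < 32, ∀ b < 32, qm (qm a b) (iv a) / 2 = b / 2 := by decide +kernel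
  refine ⟨_, qm_lt _ _, t a ha _ (gc_lt _), ?_⟩
  rw [h.cl.kap_mul (qm_lt _ _) (h.cl.kap_iv ha).1, h.cl.kap_mul ha (gc_lt _), (h.cl.kap_iv ha).2, h.cl.kap_gc (dg_lt hp hk),
    ← hT.2 k hk]
  group

theorem deg_uniq (e : Deg z γ x p) (e' : Deg z γ x q) (hp : p < 60) (hq : q < 60) : p = q :=
  pl_inj p hp q hq fun k hk => by
    obtain ⟨a, ha, h1, h2⟩ := h.deg_act e hp hk
    obtain ⟨b, hb, h3, h4⟩ := h.deg_act e' hq hk
    rw [← h1, ← h3, h.cl.kap_inj ha hb (h2.symm.trans h4)]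

theorem deg_zero : Deg z γ x 0 ↔ x ∈ Q := by
  refine ⟨fun ⟨a, ha, T, hT, e⟩ => e ▸ mul_mem ((h.memQ _).2 ⟨a, ha, rfl⟩) ?_, fun hx => ?_⟩
  · rcases h.ind0 hT with rfl | rfl
    exacts [one_mem _, h.base.es.aes.mem]
  · obtain ⟨a, ha, rfl⟩ := (h.memQ x).1 hx
    exact ⟨a, ha, 1, Ind.one, (mul_one _).symm⟩

theorem deg_inv (e : Deg z γ x p) (hp : p < 60) : Deg z γ x⁻¹ (ip p) := by
  obtain ⟨a, ha, T, hT, rfl⟩ := e
  have t : ∀ p < 60, mt (ip p) 0 = ip p := by decide +kernel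
  rw [_root_.mul_inv_rev, ← t p hp]
  exact h.deg_mul (hT.inv hp).deg (h.deg_zero.2 (inv_mem ((h.memQ _).2 ⟨a, ha, rfl⟩))) (ip_spec p hp).1 (by decide)

theorem gam {k : ℕ} (hk : k < 5) : γ k ∈ Q := (h.memQ _).2 ⟨_, gc_lt k, h.cl.kap_gc hk⟩

theorem kap2 : kap z γ 2 = γ 0 := h.cl.kap_gc (k := 0) (by decide)

theorem s_ne : γ 0 ≠ 1 ∧ γ 0 ≠ z := by
  rw [← h.kap2]
  exact ⟨fun e => absurd (h.cl.kap_eq_one (by decide) e) (by decide),
    fun e => absurd (h.cl.kap_inj (by decide) (by decide) (e.trans Cl.kap_one.symm)) (by decide)⟩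

theorem conj_s (hx : x ∈ Q) (h2 : x * x = 1) (h1 : x ≠ 1) (hz : x ≠ z) : IsConj x (γ 0) := by
  obtain ⟨a, ha, rfl⟩ := (h.memQ x).1 hx
  have t : ∀ a < 32, qm a a = 0 → a = 0 ∨ a = 1 ∨ ∃ p < 60, ∃ b < 32, qm (qm b (ac p a)) (iv b) = 2 := by decide +kernel
  rcases t a ha (h.cl.kap_eq_one (qm_lt _ _) (by rw [h.cl.kap_mul ha ha, h2])) with rfl | rfl | ⟨p, hp, b, hb, e⟩
  · exact absurd Cl.kap_zero h1
  · exact absurd Cl.kap_one hz
  · obtain ⟨T, hT⟩ := h.lift p hp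
    refine isConj_iff.2 ⟨kap z γ b * T, ?_⟩
    rw [← h.kap2, ← e, h.cl.kap_mul (qm_lt _ _) (h.cl.kap_iv hb).1, h.cl.kap_mul hb (ac_lt _ _), (h.cl.kap_iv hb).2,
      ← hT.kap h.cl hp ha]
    group

end Pre

theorem Base.trans (h : Base Q z) {s : G} (hs : s ∈ Q) (ne : s ≠ z) (c : IsConj z s) {u v : G} (hu : u ∈ closure ({z, s} : Set G))
    (hv : v ∈ closure ({z, s} : Set G)) (h1 : u ≠ 1) (h2 : v ≠ 1) (h3 : u ≠ v) : ∃ x, x * z * x⁻¹ = u ∧ x * s * x⁻¹ = v := by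
  obtain ⟨g, rfl⟩ := isConj_iff.1 c
  obtain ⟨x, -, e⟩ := H03.exists_trans h.es.lx (h.es.lx.cj g) hs (h.es.lx.sym' hs (by rw [h.card]; decide)) ne hu hv h1 h2 h3
  exact ⟨x, e⟩

namespace Pre

variable (h : Pre Q z γ)
include h

theorem sq_nw (c : IsConj z (γ 0)) {T : G} (hT : Ind z γ T 9) : T * T = 1 := by
  have z60 : (0 : ℕ) < 60 := by decide
  refine (h.ind0 (hT.mul hT (by decide) (by decide))).resolve_right fun e => ?_
  obtain ⟨g, g1, g2⟩ := h.base.trans (h.gam (by decide)) h.s_ne.2 c (subset_closure (by simp)) (subset_closure (by simp))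
    h.s_ne.1 h.cl.z1 h.s_ne.2
  have cz : ∀ x, x * γ 0 = γ 0 * x → g * x * g⁻¹ * z = z * (g * x * g⁻¹) := fun x hx => by
    rw [← g2, conj_mul, conj_mul, hx]
  have cs : ∀ x, x * z = z * x → g * x * g⁻¹ * γ 0 = γ 0 * (g * x * g⁻¹) := fun x hx => by
    rw [← g1, conj_mul, conj_mul, hx]
  have key : ∀ x, x * γ 0 = γ 0 * x → x * z = z * x → x * x = z →
      ∃ p, (p = 9 ∨ p = 30 ∨ p = 54) ∧ Deg z γ (g * x * g⁻¹) p := fun x h1 h2 h3 => by
    obtain ⟨p, hp, d⟩ := h.dec _ (cz x h1)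
    have d : Deg z γ (g * x * g⁻¹) p := d
    have t : ∀ p < 60, mt p p = 0 → 1 = gc (dg p 0) / 2 → p = 0 ∨ p = 9 ∨ p = 30 ∨ p = 54 := by decide +kernel
    have d2 := h.deg_mul d d hp hp
    rw [conj_mul, h3, g1] at d2
    obtain ⟨a, ha, e1, e2⟩ := h.deg_act d hp (k := 0) (by decide)
    rw [cs x h2, mul_inv_cancel_right, ← h.kap2] at e2
    rw [← h.cl.kap_inj (by decide) ha e2] at e1
    refine ⟨p, (t p hp (h.deg_uniq d2 (h.deg_zero.2 (h.gam (by decide))) (mt_spec p hp p hp).1 z60) e1).resolve_left ?_, d⟩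
    rintro rfl
    have := two_cases h.base.ord (h.base.es.aes.pow _ (h.deg_zero.1 d))
    rw [pow_two, conj_mul, h3, g1] at this
    exact this.elim h.s_ne.1 h.s_ne.2
  have kq : ∀ a < 32, qm a 2 = qm 2 a → qm a a = 1 →
      kap z γ a * γ 0 = γ 0 * kap z γ a ∧ kap z γ a * z = z * kap z γ a ∧ kap z γ a * kap z γ a = z := fun a ha h1 h2 =>
    ⟨by rw [← h.kap2, ← h.cl.kap_mul ha (by decide), h1, h.cl.kap_mul (by decide) ha], h.cl.kap_z ha,
      by rw [← h.cl.kap_mul ha ha, h2, Cl.kap_one]⟩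
  have T0 : T * γ 0 = γ 0 * T := mul_inv_eq_iff_eq_mul.1 (hT.2 0 (by decide))
  obtain ⟨p, hp, dp⟩ := key T T0 hT.1 e
  have ka := kq 12 (by decide) (by decide +kernel) (by decide +kernel)
  have kb := kq 20 (by decide) (by decide +kernel) (by decide +kernel)
  have kc := kq (qm 12 20) (qm_lt _ _) (by decide +kernel) (by decide +kernel)
  obtain ⟨q, hq, dq⟩ := key _ ka.1 ka.2.1 ka.2.2
  obtain ⟨r, hr, dr⟩ := key _ kb.1 kb.2.1 kb.2.2
  obtain ⟨w, hw, dw⟩ := key _ kc.1 kc.2.1 kc.2.2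
  have l : ∀ {p}, p = 9 ∨ p = 30 ∨ p = 54 → p < 60 := fun h => by omega
  have ew : w = mt q r := h.deg_uniq dw (by
    rw [h.cl.kap_mul (by decide) (by decide), ← conj_mul]; exact h.deg_mul dq dr (l hq) (l hr)) (l hw) (mt_spec _ (l hq) _ (l hr)).1
  obtain ⟨a, ha, ka, da⟩ : ∃ a < 32, (kap z γ a * γ 0 = γ 0 * kap z γ a ∧ kap z γ a * z = z * kap z γ a ∧
      kap z γ a * kap z γ a = z) ∧ Deg z γ (g * kap z γ a * g⁻¹) p := by
    have : p = q ∨ p = r ∨ p = w := by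
      subst ew
      revert hw
      rcases hp with rfl | rfl | rfl <;> rcases hq with rfl | rfl | rfl <;> rcases hr with rfl | rfl | rfl <;> decide +kernel
    rcases this with rfl | rfl | rfl
    exacts [⟨_, by decide, ka, dq⟩, ⟨_, by decide, kb, dr⟩, ⟨_, qm_lt _ _, kc, dw⟩]
  have d0 := h.deg_mul (h.deg_inv da (l hp)) dp (ip_spec p (l hp)).1 (l hp)
  rw [(ip_spec p (l hp)).2.2.1, h.deg_zero, h.memQ] at d0
  obtain ⟨b, hb, eb⟩ := d0
  have P2 : g * kap z γ a * g⁻¹ * (g * kap z γ a * g⁻¹) = γ 0 := by rw [conj_mul, ka.2.2, g1]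
  have U2 : g * T * g⁻¹ * (g * T * g⁻¹) = γ 0 := by rw [conj_mul, e, g1]
  have bs : kap z γ b * γ 0 = γ 0 * kap z γ b :=
    eb ▸ (Commute.mul_left (Commute.inv_left (cs _ ka.2.1)) (cs _ hT.1)).eq
  have mP : g * kap z γ a * g⁻¹ ∈ cj g Q := conj_mem_cj g ((h.memQ _).2 ⟨a, ha, rfl⟩)
  generalize g * kap z γ a * g⁻¹ = P at da eb P2 mP
  rw [eq_inv_mul_iff_mul_eq] at eb
  obtain ⟨a1, ha1, U, hU, eP⟩ := da
  have t : ∀ p, p = 9 ∨ p = 30 ∨ p = 54 → ∀ a < 32, ∀ b < 32, qm a (ac p a) / 2 = 1 → qm (qm a (ac p (iv b))) (iv a) = b →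
      qm b 2 = qm 2 b → mt p p = 0 ∧ (b = 0 ∨ b = 1 ∨ b = 2 ∨ b = qm 1 2) := by
    rintro p (rfl | rfl | rfl) <;> decide +kernel
  have hb4 := t p hp a1 ha1 b hb ?_ ?_ ?_
  · have mz : z ∈ cj g Q := g2 ▸ conj_mem_cj g (h.gam (by decide))
    have ms : γ 0 ∈ cj g Q := g1 ▸ conj_mem_cj g h.base.es.aes.mem
    have : kap z γ b ∈ cj g Q := by
      rcases hb4.2 with rfl | rfl | rfl | rfl
      · rw [Cl.kap_zero]; exact one_mem _
      · rw [Cl.kap_one]; exact mz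
      · rw [h.kap2]; exact ms
      · rw [h.cl.kap_mul (by decide) (by decide), Cl.kap_one, h.kap2]; exact mul_mem mz ms
    have := conj_mem_cj_iff.1 (eb ▸ mul_mem mP this)
    exact absurd (h.deg_uniq (h.deg_zero.2 this) hT.deg z60 (by decide)) (by decide)
  · have e1 : kap z γ (qm a1 (ac p a1)) * (U * U) = kap z γ 2 := by
      rw [h.kap2, ← P2, eP, h.cl.kap_mul ha1 (ac_lt _ _), ← hU.kap h.cl (l hp) ha1]; group
    have m0 : mt p p = 0 := by rcases hp with rfl | rfl | rfl <;> decide +kernel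
    have t2 : ∀ a < 32, qm a 1 = 2 → a / 2 = 1 := by decide +kernel
    rcases h.ind0 (m0 ▸ hU.mul hU (l hp) (l hp)) with e2 | e2
    · rw [e2, mul_one] at e1
      rw [h.cl.kap_inj (qm_lt _ _) (by decide) e1]
    · refine t2 _ (qm_lt _ _) (h.cl.kap_inj (qm_lt _ _) (by decide) ?_)
      rw [h.cl.kap_mul (qm_lt _ _) (by decide), Cl.kap_one, ← e1, e2]
  · refine h.cl.kap_inj (qm_lt _ _) hb ?_
    rw [h.cl.kap_mul (qm_lt _ _) (h.cl.kap_iv ha1).1, h.cl.kap_mul ha1 (ac_lt _ _), ← hU.kap h.cl (l hp) (h.cl.kap_iv hb).1,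
      (h.cl.kap_iv ha1).2, (h.cl.kap_iv hb).2]
    rw [← eb, ← P2, mul_assoc, mul_right_inj] at U2
    calc _ = P * (kap z γ b)⁻¹ * P⁻¹ := by rw [eP]; group
      _ = _ := by rw [mul_inv_eq_iff_eq_mul, mul_inv_eq_iff_eq_mul, mul_assoc, U2]
  · refine h.cl.kap_inj (qm_lt _ _) (qm_lt _ _) ?_
    rw [h.cl.kap_mul hb (by decide), h.cl.kap_mul (by decide) hb, h.kap2, bs]

theorem sq_inv (hx : x * z = z * x) (h2 : x * x = 1) (hQ : x ∉ Q) :
    ∃ p < 60, p ≠ 0 ∧ mt p p = 0 ∧ ∃ T, Ind z γ T p ∧ T * T = 1 := by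
  obtain ⟨p, hp, d⟩ := h.dec x hx
  have d' : Deg z γ x p := d
  have m0 : mt p p = 0 := h.deg_uniq (h.deg_mul d' d' hp hp) (h.deg_zero.2 (h2 ▸ one_mem Q)) (mt_spec p hp p hp).1 (by decide)
  obtain ⟨a, ha, T, hT, rfl⟩ := d
  have p0 : p ≠ 0 := by rintro rfl; exact hQ (h.deg_zero.1 d')
  refine ⟨p, hp, p0, m0, T, hT, (h.ind0 (m0 ▸ hT.mul hT hp hp)).resolve_right fun e => ?_⟩
  have t : ∀ p < 60, mt p p = 0 → p ≠ 0 → ∀ a < 32, qm (qm a (ac p a)) 1 ≠ 0 := by decide +kernel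
  refine t p hp m0 p0 a ha (h.cl.kap_eq_one (qm_lt _ _) ?_)
  rw [h.cl.kap_mul (qm_lt _ _) (by decide), Cl.kap_one, h.cl.kap_mul ha (ac_lt _ _), ← hT.kap h.cl hp ha, ← h2]
  nth_rw 3 [← e]
  group

theorem sm (H : ∃ p < 60, p ≠ 0 ∧ mt p p = 0 ∧ ∃ T, Ind z γ T p ∧ T * T = 1) : ∃ e, Sm Q e ∧ e 1 = z ∧ e 2 = γ 0 := by
  obtain ⟨p0, hp0, n0, m0, T0, hT0, s0⟩ := H
  have zz : ∀ {x : G}, x * z = z * x → x * x = 1 → z * x * (z * x) = 1 := fun {x} h1 h2 => by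
    rw [mul_assoc, ← mul_assoc x, h1, mul_assoc, h2, mul_one, h.cl.z2]
  have sq : ∀ q < 60, q ≠ 0 → mt q q = 0 → ∀ T, Ind z γ T q → T * T = 1 := fun q hq n m T hT => by
    have t : (al 60 fun p => al 60 fun q => Nat.beq p 0 || Nat.beq q 0 || !Nat.beq (mt p p) 0 || !Nat.beq (mt q q) 0 ||
        ex 60 fun r => Nat.beq (mt (mt r p) (ip r)) q) = true := by decide +kernel
    simp only [al_iff, ex_iff, Bool.or_eq_true, Nat.beq_eq, Bool.not_eq_true'] at t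
    obtain ⟨r, hr, e⟩ : ∃ r < 60, mt (mt r p0) (ip r) = q := by
      rcases t p0 hp0 q hq with (((t | t) | t) | t) | t
      exacts [absurd t n0, absurd t n, absurd m0 (Nat.ne_of_beq_eq_false t), absurd m (Nat.ne_of_beq_eq_false t), t]
    obtain ⟨L, hL⟩ := h.lift r hr
    have i := (hL.mul hT0 hr hp0).mul (hL.inv hr) (mt_spec _ hr _ hp0).1 (ip_spec r hr).1
    rw [e] at i
    have s : L * T0 * L⁻¹ * (L * T0 * L⁻¹) = 1 := by rw [conj_mul, s0]; simp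
    rcases h.ind_eq hT i hq with rfl | rfl
    exacts [s, zz i.1 s]
  have cube : ∀ q < 60, ∀ r < 60, mt (mt (mt r q) (mt r q)) (mt r q) = 0 → ∀ U, Ind z γ U r →
      ∃ T, Ind z γ T q ∧ (U * T) ^ 3 = 1 := fun q hq r hr m U hU => by
    obtain ⟨T, hT⟩ := h.lift q hq
    have i := hU.mul hT hr hq
    have l := (mt_spec _ hr _ hq).1
    have t : ∀ q < 60, mt 0 q = q := by decide +kernel
    rcases h.ind0 (m ▸ (i.mul i l l).mul i (mt_spec _ l _ l).1 l) with e | e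
    · exact ⟨T, hT, by rw [← e, pow_succ, pow_two]⟩
    · refine ⟨z * T, t q hq ▸ h.cl.indz.mul hT (by decide) hq, ?_⟩
      rw [← mul_assoc, hU.1, mul_assoc, Commute.mul_pow i.1.symm, pow_succ (U * T), pow_two (U * T), e, pow_succ, pow_two,
        h.cl.z2, one_mul, h.cl.z2]
  obtain ⟨a, ha, a3⟩ := cube 1 (by decide) 0 (by decide) (by decide +kernel) 1 Ind.one
  obtain ⟨b, hb, b3⟩ := cube 2 (by decide) _ (ip_spec 1 (by decide)).1 (by decide +kernel) _ (ha.inv (by decide))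
  obtain ⟨c, hc, c3⟩ := cube 3 (by decide) _ (ip_spec 2 (by decide)).1 (by decide +kernel) _ (hb.inv (by decide))
  have b2 := sq 2 (by decide) (by decide) (by decide +kernel) b hb
  have c2 := sq 3 (by decide) (by decide) (by decide +kernel) c hc
  have ac2 := sq _ (by decide +kernel) (by decide +kernel) (by decide +kernel) _
    ((ha.inv (by decide)).mul hc (ip_spec 1 (by decide)).1 (by decide))
  rw [one_mul] at a3
  obtain ⟨φ, hφ⟩ := L.exists_hom_alt ![1, a, b, c] (by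
    intro i j; fin_cases i <;> fin_cases j <;> simp [a3, b3, c3]) (by
    intro i j; fin_cases i <;> fin_cases j <;> simp [pow_two, b2, c2, ac2])
  have g : ∀ l, ∃ p < 60, pl p = aG l ∧ Ind z γ (φ (aG l)) p := fun l => by
    match l with
    | 0 => exact ⟨1, by decide, by decide +kernel, by
        have := hφ 0 1 (by rw [Perm.mem_alternatingGroup]; decide); simp at this; exact (this ▸ ha :)⟩
    | 1 => exact ⟨2, by decide, by decide +kernel, by
        have := hφ 0 2 (by rw [Perm.mem_alternatingGroup]; decide); simp at this; exact (this ▸ hb :)⟩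
    | l + 2 => exact ⟨3, by decide, by show pl 3 = aG 2; decide +kernel, by
        have := hφ 0 3 (by rw [Perm.mem_alternatingGroup]; decide); simp at this; exact (this ▸ hc :)⟩
  have pinj : ∀ p < 60, ∀ q < 60, pl p = pl q → p = q := fun p hp q hq e => pl_inj p hp q hq fun k hk => by
    rw [← dg_spec _ hp ⟨k, hk⟩, ← dg_spec _ hq ⟨k, hk⟩, e]
  have ind : ∀ p < 60, Ind z γ (φ (pl p)) p := fun p hp => by
    have : ∀ u : List ℕ, ∃ p < 60, pl p = (u.map aG).prod ∧ Ind z γ (φ (u.map aG).prod) p := fun u => by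
      induction u with
      | nil => exact ⟨0, by decide, rfl, by simpa using Ind.one⟩
      | cons l u ih =>
        obtain ⟨q, hq, e1, e2⟩ := g l
        obtain ⟨r, hr, e3, e4⟩ := ih
        exact ⟨mt q r, (mt_spec _ hq _ hr).1, by rw [pl_mt hq hr, e1, e3, List.map_cons, List.prod_cons],
          by rw [List.map_cons, List.prod_cons, map_mul]; exact e2.mul e4 hq hr⟩
    obtain ⟨q, hq, e1, e2⟩ := this (WD.getD p [])
    rwa [pinj q hq p hp e1] at e2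
  let e : ℕ → G := fun n => kap z γ (n % 1920 % 32) * φ (pl (n % 1920 / 32))
  have l1 : ∀ n, n % 1920 % 32 < 32 := fun n => by omega
  have l2 : ∀ n, n % 1920 / 32 < 60 := fun n => by omega
  have l3 : ∀ n, n % 1920 < 1920 := fun n => by omega
  have eq : ∀ a < 32, e a = kap z γ a := fun a ha => by
    simp only [e]; rw [show a % 1920 % 32 = a by omega, show a % 1920 / 32 = 0 by omega, pl_zero, map_one, mul_one]
  have mul : ∀ a b, e a * e b = e (M a b) := fun a b => by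
    have m : M a b = qm (a % 1920 % 32) (ac (a % 1920 / 32) (b % 1920 % 32)) + 32 * mt (a % 1920 / 32) (b % 1920 / 32) := rfl
    have h1 := qm_lt (a % 1920 % 32) (ac (a % 1920 / 32) (b % 1920 % 32))
    have h2 := (mt_spec _ (l2 a) _ (l2 b)).1
    simp only [e]
    rw [show M a b % 1920 % 32 = qm (a % 1920 % 32) (ac (a % 1920 / 32) (b % 1920 % 32)) by omega,
      show M a b % 1920 / 32 = mt (a % 1920 / 32) (b % 1920 / 32) by omega, h.cl.kap_mul (l1 a) (ac_lt _ _), pl_mt (l2 a) (l2 b),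
      map_mul, ← (ind _ (l2 a)).kap h.cl (l2 a) (l1 b)]
    group
  have e0 : e 0 = 1 := (eq 0 (by decide)).trans Cl.kap_zero
  have e1 : e 1 = z := (eq 1 (by decide)).trans Cl.kap_one
  have dg : ∀ n, Deg z γ (e n) (n % 1920 / 32) := fun n => ⟨_, l1 n, _, ind _ (l2 n), rfl⟩
  refine ⟨e, ⟨e1 ▸ h.base, e0, mul, fun a => inv_eq_of_mul_eq_one_right ?_, fun a b => ⟨fun q => ?_, fun q => ?_⟩,
    fun x => ⟨fun hx => ?_, ?_⟩, fun x => ?_⟩, e1, (eq 2 (by decide)).trans h.kap2⟩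
  · have := iv_spec _ (l3 a)
    rw [mul, show M a (I a) = mu (a % 1920) (iv (a % 1920) % 1920) from rfl, Nat.mod_eq_of_lt this.1, this.2, e0]
  · have q1 := h.deg_uniq (dg a) (q ▸ dg b) (l2 a) (l2 b)
    simp only [e] at q
    rw [q1, mul_left_inj] at q
    have := h.cl.kap_inj (l1 a) (l1 b) q
    omega
  · simp only [e, q]
  · rw [e1] at hx
    obtain ⟨p, hp, a, ha, T, hT, rfl⟩ := h.dec x hx
    have k : ∀ a < 32, e (a + 32 * p) = kap z γ a * φ (pl p) := fun a ha => by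
      simp only [e]; rw [show (a + 32 * p) % 1920 % 32 = a by omega, show (a + 32 * p) % 1920 / 32 = p by omega]
    rcases h.ind_eq hT (ind p hp) hp with rfl | rfl
    · exact ⟨_, by omega, k a ha⟩
    · have := qm_lt a 1
      exact ⟨_, by omega, (k _ this).trans (by rw [h.cl.kap_mul ha (by decide), Cl.kap_one, mul_assoc])⟩
  · rintro ⟨a, -, rfl⟩
    rw [e1]
    exact (Commute.mul_left (h.cl.kap_z (l1 a)) (ind _ (l2 a)).1).eq
  · rw [h.memQ]
    exact exists_congr fun a => and_congr_right fun ha => by rw [eq a ha]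

end Pre

theorem Base.sm_nw (h : Base Q z) {g : G} (h1 : g * z * g⁻¹ ∈ Q) (h2 : g * z * g⁻¹ ≠ z) :
    ∃ e, Sm Q e ∧ e 1 = z ∧ IsConj (e 1) (e 2) := by
  obtain ⟨γ, P⟩ := h.pre
  have c : IsConj z (γ 0) := (isConj_iff.2 ⟨g, rfl⟩).trans
    (P.conj_s h1 (by rw [conj_mul, h.z2]; simp) (by rw [Ne, conj_eq_one_iff]; exact h.z1) h2)
  obtain ⟨T, hT⟩ := P.lift 9 (by decide)
  obtain ⟨e, h1, h2, h3⟩ := P.sm ⟨9, by decide, by decide, by decide +kernel, T, hT, P.sq_nw c hT⟩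
  exact ⟨e, h1, h2, h2 ▸ h3 ▸ c⟩

theorem Base.sm_inv (h : Base Q z) (hx : x * z = z * x) (h2 : x * x = 1) (hQ : x ∉ Q) : ∃ e, Sm Q e ∧ e 1 = z := by
  obtain ⟨γ, P⟩ := h.pre
  obtain ⟨e, h1, h2, -⟩ := P.sm (P.sq_inv hx h2 hQ)
  exact ⟨e, h1, h2⟩

end L.HJ
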