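import Cfsg.Agent.L.HJ3

/-!
Recognition of the second and third Janko groups: the relations of the amalgam (namespace L.HJ).
`Sm.rh`, `Sm.exists_u`, `Sm.closure_eq`.
-/

set_option autoImplicit false
set_option synthInstance.maxSize 4096

namespace L.HJ

open Cfsg BG H03 H04 Subgroup Equiv

variable {G : Type*} [Group G] [Finite G] {Q : Subgroup G} {e : ℕ → G}

/-- powers of codes -/
noncomputable def P (a n : ℕ) : ℕ := Nat.rec 0 (fun _ r => M r a) n

namespace Sm

variable (h : Sm Q e)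
include h

theorem pw (a n : ℕ) : e a ^ n = e (P a n) := by
  induction n with
  | zero => rw [pow_zero, ← h.zero]; rfl
  | succ n ih => rw [pow_succ, ih, h.mul]; rfl

theorem eq1 (a : ℕ) : e a = 1 ↔ a % 1920 = 0 := by rw [← h.zero, h.eq]

theorem gam (i : ℕ) : ga (e 2) (e 416) i = e (M (M (P 416 i) 2) (I (P 416 i))) := by simp only [ga, h.pw, h.inv, h.mul]

theorem ga0 : ga (e 2) (e 416) 0 = e 2 := by rw [h.gam, h.eq]; decide +kernel
theorem ga1 : ga (e 2) (e 416) 1 = e 4 := by rw [h.gam, h.eq]; decide +kernel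
theorem ga2 : ga (e 2) (e 416) 2 = e 8 := by rw [h.gam, h.eq]; decide +kernel
theorem ga3 : ga (e 2) (e 416) 3 = e 16 := by rw [h.gam, h.eq]; decide +kernel
theorem ga4 : ga (e 2) (e 416) 4 = e 30 := by rw [h.gam, h.eq]; decide +kernel
theorem zz : zz (e 2) (e 416) = e 1 := by simp only [HJ.zz, h.ga0, h.ga1, h.pw, h.mul, h.eq]; decide +kernel
theorem yy : yy (e 416) (e 288) = e 256 := by simp only [HJ.yy, h.inv, h.mul, h.eq]; decide +kernel
theorem hh : hh (e 416) (e 288) = e 64 := by simp only [HJ.hh, h.inv, h.mul, h.eq]; decide +kernel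

theorem rh : RH (e 2) (e 416) (e 288) := by
  constructor <;> simp only [h.ga0, h.ga1, h.ga2, h.ga3, h.ga4, h.zz, h.pw, h.mul, h.eq1, h.eq] <;> decide +kernel

theorem z2 : e 1 * e 1 = 1 := h.base.z2

theorem memH' (a : ℕ) : e a * e 1 = e 1 * e a := (h.memH _).2 ⟨a % 1920, Nat.mod_lt _ (by decide), by rw [h.eq]; simp⟩

theorem trans (c : IsConj (e 1) (e 2)) {u v : ℕ} (hu : u = 1 ∨ u = 2 ∨ u = 3) (hv : v = 1 ∨ v = 2 ∨ v = 3) (ne : u ≠ v) :
    ∃ x, x * e 1 * x⁻¹ = e u ∧ x * e 2 * x⁻¹ = e v := by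
  have m : ∀ {u}, u = 1 ∨ u = 2 ∨ u = 3 → e u ∈ closure ({e 1, e 2} : Set G) := by
    rintro _ (rfl | rfl | rfl)
    · exact subset_closure (by simp)
    · exact subset_closure (by simp)
    · rw [show e 3 = e 1 * e 2 by rw [h.mul, h.eq]; decide +kernel]
      exact mul_mem (subset_closure (by simp)) (subset_closure (by simp))
  exact h.base.trans ((h.memQ _).2 ⟨2, by decide, rfl⟩) (by rw [Ne, h.eq]; decide) c (m hu) (m hv)
    (by rw [Ne, h.eq1]; omega) (by rw [Ne, h.eq1]; omega) (by rw [Ne, h.eq]; omega)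

theorem exists_u (c : IsConj (e 1) (e 2)) : ∃ u, Rel (e 2) (e 416) (e 288) u := by
  have e3 : e 3 = e 1 * e 2 := by rw [h.mul, h.eq]; decide +kernel
  obtain ⟨m, m1, m2, my⟩ : ∃ m, m * e 1 * m⁻¹ = e 3 ∧ m * e 2 * m⁻¹ = e 1 ∧
      (m * e 256 * m⁻¹ = e 256 ∨ m * e 256 * m⁻¹ = e 256 * e 256) := by
    obtain ⟨x, x1, x2⟩ := h.trans c (u := 3) (v := 1) (by decide) (by decide) (by decide)
    have x3 : x * e 3 * x⁻¹ = e 2 := by rw [e3, ← conj_mul, x1, x2, h.mul, h.eq]; decide +kernel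
    obtain ⟨a, ha, ea⟩ := (h.memH (x * e 256 * x⁻¹)).1 (by
      rw [← x2, conj_mul, conj_mul, h.mul, h.mul, show M 256 2 = M 2 256 by decide +kernel])
    have t : ∀ c < 1920, M c 2 % 1920 = M 2 c % 1920 → P c 3 % 1920 = 0 → c % 1920 ≠ 0 → ∃ q < 32, ∃ p ∈ [0, 288, 960, 1728],
        M (q + p) 2 = M 2 (q + p) ∧ (M (M (q + p) c) (I (q + p)) = 256 ∨ M (M (q + p) c) (I (q + p)) = M 256 256) := by
      decide +kernel
    obtain ⟨q, -, p, -, t1, t2⟩ := t a ha
      (by rw [← h.eq, ← h.mul, ← h.mul, ea, ← x3, conj_mul, conj_mul, h.mul, h.mul, show M 256 3 = M 3 256 by decide +kernel])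
      (by rw [← h.eq1, ← h.pw, ea, conj_pow, h.pw, show P 256 3 = 0 by decide +kernel, h.zero]; simp)
      (by rw [Ne, ← h.eq1, ea, conj_eq_one_iff, h.eq1]; decide)
    have d1 := h.memH' (q + p)
    have d2 : e (q + p) * e 2 = e 2 * e (q + p) := by rw [h.mul, h.mul, t1]
    have k : ∀ u, e (q + p) * x * u * (e (q + p) * x)⁻¹ = e (q + p) * (x * u * x⁻¹) * (e (q + p))⁻¹ := fun u => by group
    refine ⟨e (q + p) * x, ?_, ?_, ?_⟩
    · rw [k, x1, e3, ← conj_mul, d1, d2]; simp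
    · rw [k, x2, d1]; simp
    · rw [k, ← ea, h.inv, h.mul, h.mul, h.mul]
      exact t2.imp (congrArg e) (congrArg e)
  have m3 : m * e 3 * m⁻¹ = e 2 := by rw [e3, ← conj_mul, m1, m2, h.mul, h.eq]; decide +kernel
  obtain ⟨u, hu⟩ : ∃ u, u = m * e 4 * m⁻¹ := ⟨_, rfl⟩
  have u2 : u * u = 1 := by rw [hu, conj_mul, h.mul, conj_eq_one_iff, h.eq1]; decide +kernel
  have ui : u⁻¹ = u := inv_eq_of_mul_eq_one_right u2
  have uy : u * e 256 = e 256 * u := by
    have : u * (m * e 256 * m⁻¹) = m * e 256 * m⁻¹ * u := by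
      rw [hu, conj_mul, conj_mul, h.mul, h.mul, show M 4 256 = M 256 4 by decide +kernel]
    rcases my with my | my
    · rwa [my] at this
    · rw [my] at this
      have := (Commute.mul_right this this).eq
      rwa [h.mul, h.mul, show M (M 256 256) (M 256 256) = 256 by decide +kernel] at this
  have cj : ∀ a b c, m * e a * m⁻¹ = e b → M (M 4 a) 4 = c → u * e b * u = m * e c * m⁻¹ := fun a b c h1 h2 => by
    rw [← h1, hu, conj_mul, conj_mul, h.mul, h.mul, h2]
  have uz : u * e 1 * u = e 2 := (cj 2 1 3 m2 (by decide +kernel)).trans m3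
  have us : u * e 2 * u = e 1 := (cj 3 2 2 m3 (by decide +kernel)).trans m2
  have usz : u * e 3 * u = e 3 := (cj 1 3 1 m1 (by decide +kernel)).trans m1
  have uc : ∀ a b, u * a * u * (u * b * u) = u * (a * b) * u := fun a b => by
    rw [mul_assoc (u * a), ← mul_assoc u, ← mul_assoc u, u2]; group
  have mv : ∀ {a b : ℕ}, u * e a * u = e b → ∀ x, u * (e a * x) = e b * (u * x) := fun {a b} k x => by
    rw [← k, mul_assoc, mul_assoc, ← mul_assoc u u, u2, one_mul]
  have m' : ∀ a b x, e a * (e b * x) = e (M a b) * x := fun a b x => by rw [← mul_assoc, h.mul]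
  refine ⟨u, h.rh, by rw [pow_two, u2], h.yy ▸ uy, ?_, by rw [h.zz, uz, h.mul, h.eq1]; decide +kernel, ?_⟩
  · rw [h.ga1]
    have k : ∀ a b, u * e a * u = e b → ∀ c, M 4 b = M c 4 → e 4 * u * e a = e c * (e 4 * u) := fun a b k c l => by
      rw [mul_assoc, ← mul_one (e a), mv k, mul_one, m', l, ← m']
    have k1 := k 1 2 uz 3 (by decide +kernel)
    have k2 := k 2 1 us 1 (by decide +kernel)
    have k3 := k 3 3 usz 2 (by decide +kernel)
    have s1 : SemiconjBy ((e 4 * u) ^ 3) (e 1) (e 1) := by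
      rw [pow_succ, pow_two]; exact SemiconjBy.mul_left (SemiconjBy.mul_left k2 k3) k1
    have s2 : SemiconjBy ((e 4 * u) ^ 3) (e 2) (e 2) := by
      rw [pow_succ, pow_two]; exact SemiconjBy.mul_left (SemiconjBy.mul_left k3 k1) k2
    have s3 : Commute ((e 4 * u) ^ 3) (e 256) :=
      (Commute.mul_left (by rw [Commute, SemiconjBy, h.mul, h.mul, h.eq]; decide +kernel) uy).pow_left 3
    obtain ⟨a, ha, ea⟩ := (h.memH _).1 s1
    have t : ∀ c < 1920, M c 2 % 1920 = M 2 c % 1920 → M c 256 % 1920 = M 256 c % 1920 → M (M 4 c) (M 4 c) % 1920 = 0 →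
      c = 0 ∨ c = 1 := by decide +kernel
    have w2 : ∀ x, e 4 * (e 4 * x) = x := fun x => by rw [m', show M 4 4 = 0 by decide +kernel, h.zero, one_mul]
    have u2' : ∀ x, u * (u * x) = x := fun x => by rw [← mul_assoc, u2, one_mul]
    rcases t a ha (by rw [← h.eq, ← h.mul, ← h.mul, ea, s2.eq]) (by rw [← h.eq, ← h.mul, ← h.mul, ea, s3.eq])
      (by rw [← h.eq1, ← h.mul, ← h.mul, ea]; simp only [pow_succ, pow_zero, one_mul, mul_assoc, w2, u2', u2]) with rfl | rfl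
    · rw [← ea, h.zero]
    · have : e 4 * u * e 1 = e 1 * (e 4 * u) := by rw [ea]; exact (Commute.self_pow _ 3).eq
      rw [k1, mul_left_inj, h.eq] at this
      exact absurd this (by decide)
  · rw [h.ga1, h.ga2, h.ga3, h.zz, h.mul, show M 4 8 = 12 by decide +kernel]
    obtain ⟨a, ha, ea⟩ := (h.memH (u * e 12 * u)).1 (by
      rw [← us, uc, uc, h.mul, h.mul, show M 12 2 = M 2 12 by decide +kernel])
    have t : ∀ c < 1920, M c 2 % 1920 = M 2 c % 1920 → M c c % 1920 = 2 % 1920 →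
        M (M c (M (M 256 c) (I 256))) (M (M 256 (M (M 256 c) (I 256))) (I 256)) % 1920 = 3 % 1920 →
        (M (M 12 c) (M 12 c) % 1920 = 3 % 1920 ∨ ∃ v < 4, c % 1920 = M (I 12) (M 1 v) % 1920) → c = M (M (M 1 8) 16) 288 := by
      decide +kernel
    have yc : ∀ x, e 256 * (u * x * u) * (e 256)⁻¹ = u * (e 256 * x * (e 256)⁻¹) * u := fun x => by
      rw [← mul_assoc, ← mul_assoc, ← uy, mul_assoc _ u, (Commute.inv_right uy).eq]; group
    rw [← ea, h.mul, h.mul, h.mul]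
    refine congrArg e (t a ha ?_ ?_ ?_ ?_)
    · rw [← h.eq, ← h.mul, ← h.mul, ea, ← uz, uc, uc, h.memH']
    · rw [← h.eq, ← h.mul, ea, uc, h.mul, show M 12 12 = 1 by decide +kernel, uz]
    · simp only [← h.eq, ← h.mul, ← h.inv]
      rw [ea, yc, yc, uc, uc, ← usz]
      simp only [h.mul, h.inv]
      congr 2
    · have n : e 12 ∈ N_(BG.cj m Q) := (h.base.es.cj m).norm (mem_cent1.2 (by
        rw [m1, h.mul, h.mul, show M 12 3 = M 3 12 by decide +kernel]))
      have uq : u ∈ BG.cj m Q := hu ▸ conj_mem_cj m ((h.memQ _).2 ⟨4, by decide, rfl⟩)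
      obtain ⟨q, hq, eq⟩ := mem_cj'.1 (mul_mem (conj_mem_of_norm' n uq) uq)
      obtain ⟨b, hb, rfl⟩ := (h.memQ _).1 hq
      have e1 : e 12 * e a = e 1 * (m * e b * m⁻¹) := by
        rw [← eq, ea, show e 1 = e 12 * e 12 by rw [h.mul, h.eq]; decide +kernel]; group
      have c1 : m * e b * m⁻¹ * e 1 = e 1 * (m * e b * m⁻¹) := by
        rw [← inv_mul_eq_iff_eq_mul.2 e1, h.inv, h.mul, h.mul, h.memH']
      have t2 : ∀ c < 32, M c 2 % 1920 = M 2 c % 1920 → M c c = 1 ∨ c = 0 ∨ c = 1 ∨ c = 2 ∨ c = 3 := by decide +kernel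
      simp only [← h.eq, ← h.mul, ← h.inv]
      rcases t2 b hb (by
        rw [← m2, conj_mul, conj_mul, mul_left_inj, mul_right_inj] at c1
        rw [← h.eq, ← h.mul, ← h.mul, c1]) with t | rfl | rfl | rfl | rfl
      · left
        rw [e1, mul_assoc, ← mul_assoc _ (e 1), c1, mul_assoc, conj_mul, ← mul_assoc, h.z2, one_mul, h.mul, t, m1]
      · exact Or.inr ⟨0, by decide, by rw [eq_inv_mul_iff_mul_eq, e1, h.zero]; simp⟩
      · exact Or.inr ⟨3, by decide, by rw [eq_inv_mul_iff_mul_eq, e1, m1]⟩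
      · exact Or.inr ⟨1, by decide, by rw [eq_inv_mul_iff_mul_eq, e1, m2]⟩
      · exact Or.inr ⟨2, by decide, by rw [eq_inv_mul_iff_mul_eq, e1, m3]⟩

end Sm

end L.HJ
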