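import Cfsg.Agent.L.HJ4
import Cfsg.Agent.S3035
import Cfsg.Agent.H08.ZStarCore

/-!
Recognition of the second and third Janko groups: the centraliser of an element of order three (namespace L.HJ).
`rel_s6`, `rel_sl3`, `rel_of_d8`, `Sm.long`.
-/

set_option autoImplicit false
set_option synthInstance.maxSize 4096
set_option maxRecDepth 100000

namespace L.HJ

open Cfsg BG H03 H04 Subgroup Equiv

/-- image of a point under a coded permutation -/
def ap (c k : ℕ) : ℕ := Nat.mod (Nat.shiftRight c (Nat.mul 3 k)) 8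

/-- six digits -/
def dig (a0 a1 a2 a3 a4 a5 : ℕ) : ℕ :=
  Nat.add (Nat.add (Nat.add a0 (Nat.mul 8 a1)) (Nat.add (Nat.mul 64 a2) (Nat.mul 512 a3))) (Nat.add (Nat.mul 4096 a4) (Nat.mul 32768 a5))

/-- product of coded permutations -/
def cm (a b : ℕ) : ℕ := dig (ap a (ap b 0)) (ap a (ap b 1)) (ap a (ap b 2)) (ap a (ap b 3)) (ap a (ap b 4)) (ap a (ap b 5))

/-- the code of a permutation -/
def enc (σ : Perm (Fin 6)) : ℕ := dig (σ 0) (σ 1) (σ 2) (σ 3) (σ 4) (σ 5)

theorem ap_enc (σ : Perm (Fin 6)) (k : Fin 6) : ap (enc σ) k = σ k := by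
  have := (σ 0).2; have := (σ 1).2; have := (σ 2).2; have := (σ 3).2; have := (σ 4).2; have := (σ 5).2
  have m : ∀ a b : ℕ, Nat.mod a b = a % b := fun _ _ => rfl
  fin_cases k <;> simp [ap, enc, dig, Nat.shiftRight_eq_div_pow, m] <;> omega

theorem enc_mul (σ τ : Perm (Fin 6)) : enc (σ * τ) = cm (enc σ) (enc τ) := by
  have e : ∀ k : Fin 6, ap (enc σ) (ap (enc τ) k) = (σ * τ) k := fun k => by rw [ap_enc, ap_enc, Perm.mul_apply]
  have := e 0; have := e 1; have := e 2; have := e 3; have := e 4; have := e 5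
  simp only [enc, cm] at *
  congr 1 <;> symm <;> assumption

theorem enc_inj {σ τ : Perm (Fin 6)} : enc σ = enc τ ↔ σ = τ :=
  ⟨fun h => Equiv.ext fun k => Fin.ext (by rw [← ap_enc, h, ap_enc]), congrArg enc⟩

/-- the solutions of `x * x = 1` -/
def L76 : List ℕ := [5349, 5797, 8989, 9997, 14421, 14477, 17053, 17613, 18005, 18061, 34028, 34476, 41259, 42792, 47146, 47272,
  49323, 50408, 50730, 50856, 66396, 67404, 69987, 71520, 80193, 80200, 82251, 82776, 83777, 83784, 100948, 101004, 104994, 105120,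
  109313, 109320, 117258, 117328, 117377, 117384, 151635, 151691, 152090, 152216, 152769, 152776, 153098, 153168, 153217, 153224,
  164508, 165068, 165460, 165516, 168099, 169184, 169506, 169632, 172299, 172824, 173825, 173832, 178186, 178256, 178305, 178312,
  180307, 180363, 180762, 180888, 181441, 181448, 181770, 181840, 181889, 181896]

/-- quantifier over a list -/
noncomputable def alL (l : List ℕ) (f : ℕ → Bool) : Bool := List.rec true (fun k _ ih => Bool.rec false ih (f k)) l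

theorem alL_iff {l : List ℕ} {f : ℕ → Bool} : alL l f = true ↔ ∀ k ∈ l, f k = true := by
  induction l with
  | nil => simp [alL]
  | cons a l ih =>
    have : alL (a :: l) f = Bool.rec false (alL l f) (f a) := rfl
    rw [this, List.forall_mem_cons, ← ih]
    cases f a <;> simp

/-- lazy implication -/
noncomputable def im (a b : ℕ) (c : Bool) : Bool := Bool.rec true c (Nat.beq a b)

theorem im_iff {a b : ℕ} {c : Bool} : im a b c = true ↔ (a = b → c = true) := by
  unfold im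
  cases h : Nat.beq a b
  · simpa using fun e => absurd e (Nat.ne_of_beq_eq_false h)
  · simp [Nat.eq_of_beq_eq_true h]

theorem mem76 {σ : Perm (Fin 6)} (h : σ * σ = 1) : enc σ ∈ L76 := by
  have t : (al 6 fun a => al 6 fun b => al 6 fun c => al 6 fun d => al 6 fun e => al 6 fun f =>
      im (cm (dig a b c d e f) (dig a b c d e f)) 181896 (decide (dig a b c d e f ∈ L76))) = true := by decide +kernel
  simp only [al_iff, im_iff, decide_eq_true_eq] at t
  exact t _ (σ 0).2 _ (σ 1).2 _ (σ 2).2 _ (σ 3).2 _ (σ 4).2 _ (σ 5).2 ((enc_mul σ σ).symm.trans (h ▸ rfl))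

theorem rel_s6 {s w u v z : Perm (Fin 6)} (hs : s * s = 1) (hw : w * w = 1) (hu : u * u = 1) (hv : v * v = 1)
    (hz : s * w * (s * w) = z) (z2 : z * z = 1) (z1 : z ≠ 1) (h1 : u * z * u = s) (h2 : v * z * v = w)
    (h3 : (w * u) ^ 3 = 1) (h4 : (s * v) ^ 3 = 1) : (u * v) ^ 5 = 1 ∧ (s * u * v) ^ 4 = 1 := by
  have t : (alL L76 fun s => alL L76 fun w => im (cm (cm (cm s w) (cm s w)) (cm (cm s w) (cm s w))) 181896 <|
      Nat.beq (cm (cm s w) (cm s w)) 181896 ||
      alL L76 fun u => im (cm (cm u (cm (cm s w) (cm s w))) u) s <| im (cm (cm (cm w u) (cm w u)) (cm w u)) 181896 <|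
      alL L76 fun v => im (cm (cm v (cm (cm s w) (cm s w))) v) w <| im (cm (cm (cm s v) (cm s v)) (cm s v)) 181896 <|
        Nat.beq (cm (cm (cm (cm (cm u v) (cm u v)) (cm u v)) (cm u v)) (cm u v)) 181896 &&
        Nat.beq (cm (cm (cm (cm (cm s u) v) (cm (cm s u) v)) (cm (cm s u) v)) (cm (cm s u) v)) 181896) = true := by decide +kernel
  simp only [alL_iff, im_iff, Bool.or_eq_true, Bool.and_eq_true, Nat.beq_eq] at t
  have o : 181896 = enc 1 := rfl
  have := t _ (mem76 hs) _ (mem76 hw)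
  simp only [← enc_mul, o, enc_inj, hz] at this
  have := (this z2).resolve_left z1 _ (mem76 hu)
  simp only [← enc_mul, enc_inj] at this
  have := this h1 (by rwa [pow_succ, pow_two] at h3) _ (mem76 hv)
  simp only [← enc_mul, enc_inj] at this
  simpa only [pow_succ, pow_zero, one_mul] using this h2 (by rwa [pow_succ, pow_two] at h4)

theorem rel_sl3 {a b : Matrix.SpecialLinearGroup (Fin 3) (ZMod 2)} (ha : a * a = 1) (hb : b * b = 1) :
    (a * b) ^ 3 = 1 ∨ (a * b) ^ 4 = 1 := by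
  have t : ∀ a b c d e f g h i : ZMod 2, Matrix.det !![a, b, c; d, e, f; g, h, i] = 1 →
      Matrix.trace !![a, b, c; d, e, f; g, h, i] = Matrix.trace (Matrix.adjugate !![a, b, c; d, e, f; g, h, i]) →
      !![a, b, c; d, e, f; g, h, i] ^ 3 = 1 ∨ !![a, b, c; d, e, f; g, h, i] ^ 4 = 1 := by
    simp only [Matrix.det_fin_three, Matrix.adjugate_fin_three, Matrix.trace_fin_three, pow_succ, pow_zero, one_mul,
      Matrix.mul_fin_three, Matrix.one_fin_three, Matrix.of_apply, Matrix.cons_val', Matrix.cons_val_zero, Matrix.cons_val_one,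
      Matrix.cons_val_two, Matrix.cons_val_fin_one, Matrix.head_cons, Matrix.tail_cons, Matrix.head_fin_const,
      EmbeddingLike.apply_eq_iff_eq, Matrix.vecCons_inj, and_true]
    decide +kernel
  have e : (a * b)⁻¹ = b * a := by rw [_root_.mul_inv_rev, inv_eq_of_mul_eq_one_right ha, inv_eq_of_mul_eq_one_right hb]
  have e' := congrArg (fun x : Matrix.SpecialLinearGroup (Fin 3) (ZMod 2) => Matrix.trace (x : Matrix (Fin 3) (Fin 3) (ZMod 2))) e
  simp only [Matrix.SpecialLinearGroup.coe_inv] at e'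
  rw [Matrix.SpecialLinearGroup.coe_mul b a, Matrix.trace_mul_comm, ← Matrix.SpecialLinearGroup.coe_mul] at e'
  have d := (a * b).2
  generalize a * b = g at e' d
  have k := t _ _ _ _ _ _ _ _ _ (Matrix.eta_fin_three g.1 ▸ d) (Matrix.eta_fin_three g.1 ▸ e'.symm)
  rw [← Matrix.eta_fin_three g.1] at k
  exact k.imp (fun k => Subtype.ext k) fun k => Subtype.ext k

theorem no_sym {n : ℕ} (t : ∀ a : Perm (Fin n), Perm.sign a = 1 → a * a * (a * a) = 1 → a * a = 1) {s w u v z : Perm (Fin n)}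
    (hz : s * w * (s * w) = z) (z2 : z * z = 1) (h1 : u * z * u = s) (h2 : v * z * v = w) : z = 1 := by
  have e : Perm.sign z = 1 := by rw [← hz, map_mul, Int.units_mul_self]
  refine hz ▸ t _ ?_ (hz ▸ z2)
  rw [← h1, ← h2]
  simp only [map_mul, e, mul_one, Int.units_mul_self]

theorem rel_of_d8 {K : Type*} [Group K] [Finite K] {s w u v z : K} (hs : s * s = 1) (hw : w * w = 1) (hu : u * u = 1)
    (hv : v * v = 1) (hz : s * w * (s * w) = z) (z2 : z * z = 1) (z1 : z ≠ 1) (sz : s * z = z * s) (ne : s ≠ z)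
    (h1 : u * z * u = s) (h2 : v * z * v = w) (h3 : (w * u) ^ 3 = 1) (h4 : (s * v) ^ 3 = 1)
    (hC : Nonempty (C_[z] ≃* DihedralGroup 4)) :
    (u * v) ^ 3 = 1 ∨ (u * v) ^ 4 = 1 ∨ ((u * v) ^ 5 = 1 ∧ (s * u * v) ^ 4 = 1) := by
  rcases Cfsg.Agent.S3035.result z (orderOf_eq_prime (by rw [pow_two, z2]) z1) hC with h | ⟨⟨φ⟩⟩ | ⟨⟨φ⟩⟩ | ⟨⟨φ⟩⟩ | ⟨⟨φ⟩⟩
  · exfalso
    obtain ⟨c, hc, o, ho, e⟩ := mem_sup_of_normal_right.1 (h.ge (mem_top u))
    have m : z * s ∈ oddCore K := by
      have e1 : s = o⁻¹ * (c⁻¹ * z * c) * o := by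
        rw [← h1]; nth_rw 1 [← inv_eq_of_mul_eq_one_right hu]; rw [← e]; group
      rw [e1, mul_assoc c⁻¹, ← mem_cent1.1 hc, inv_mul_cancel_left]
      convert mul_mem ((inferInstance : (oddCore K).Normal).conj_mem _ (inv_mem ho) z) ho using 1
      rw [inv_eq_of_mul_eq_one_right z2]; group
    have o2 : orderOf (z * s) = 2 := orderOf_eq_prime
      (by rw [pow_two, mul_assoc, ← mul_assoc s, sz, mul_assoc, hs, mul_one, z2]) fun e =>
        ne (by rw [eq_inv_of_mul_eq_one_right e, inv_eq_of_mul_eq_one_right z2])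
    have := orderOf_dvd_natCard (⟨_, m⟩ : oddCore K)
    rw [← orderOf_coe, o2] at this
    exact (Nat.not_even_iff_odd.2 (H08.odd_card_oddCore K)) (even_iff_two_dvd.2 this)
  · exact absurd (φ.map_eq_one_iff.1 (no_sym (by decide +kernel) (s := φ s) (w := φ w) (u := φ u) (v := φ v)
      (by simp only [← map_mul, hz]) (by rw [← map_mul, z2, map_one]) (by simp only [← map_mul, h1])
      (by simp only [← map_mul, h2]))) z1
  · exact absurd (φ.map_eq_one_iff.1 (no_sym (by decide +kernel) (s := φ s) (w := φ w) (u := φ u) (v := φ v)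
      (by simp only [← map_mul, hz]) (by rw [← map_mul, z2, map_one]) (by simp only [← map_mul, h1])
      (by simp only [← map_mul, h2]))) z1
  · rcases rel_sl3 (a := φ u) (b := φ v) (by rw [← map_mul, hu, map_one]) (by rw [← map_mul, hv, map_one]) with h | h
    · exact Or.inl (φ.map_eq_one_iff.1 (by rw [map_pow, map_mul, h]))
    · exact Or.inr (Or.inl (φ.map_eq_one_iff.1 (by rw [map_pow, map_mul, h])))
  · let ψ : K →* Perm (Fin 6) := (alternatingGroup (Fin 6)).subtype.comp φ.toMonoidHom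
    have i : Function.Injective ψ := (subtype_injective _).comp φ.injective
    have := rel_s6 (s := ψ s) (w := ψ w) (u := ψ u) (v := ψ v) (z := ψ z) (by rw [← map_mul, hs, map_one])
      (by rw [← map_mul, hw, map_one]) (by rw [← map_mul, hu, map_one]) (by rw [← map_mul, hv, map_one])
      (by simp only [← map_mul, hz]) (by rw [← map_mul, z2, map_one]) (by rwa [Ne, map_eq_one_iff _ i])
      (by simp only [← map_mul, h1]) (by simp only [← map_mul, h2]) (by rw [← map_mul, ← map_pow, h3, map_one])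
      (by rw [← map_mul, ← map_pow, h4, map_one])
    simp only [← map_mul, ← map_pow, map_eq_one_iff _ i] at this
    exact Or.inr (Or.inr this)

variable {G : Type*} [Group G] [Finite G] {Q : Subgroup G} {e : ℕ → G}

theorem Sm.long (h : Sm Q e) {u : G} (R : Rel (e 2) (e 416) (e 288) u) :
    (u * uu (e 416) (e 288) u) ^ 3 = 1 ∨ (u * uu (e 416) (e 288) u) ^ 4 = 1 ∨ ((u * uu (e 416) (e 288) u) ^ 5 = 1 ∧
      ∃ k < 3, (e 2 * u * uu (e 416) (e 288) u) ^ 4 = HJ.yy (e 416) (e 288) ^ k) := by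
  have uy := R.uy
  have uz := R.uz
  have g1u := R.g1u
  have u2 : u * u = 1 := by rw [← pow_two, R.u2]
  rw [h.yy] at uy ⊢
  rw [h.zz, mul_eq_one_iff_eq_inv, h.inv, show I 2 = 2 by decide +kernel] at uz
  rw [h.ga1] at g1u
  obtain ⟨v, hv⟩ : ∃ v, v = e 64 * u * (e 64)⁻¹ := ⟨_, rfl⟩
  rw [show uu (e 416) (e 288) u = v by rw [hv, uu, h.hh, h.inv, show I 64 = 64 by decide +kernel]]
  have c : ∀ a b, M (M 64 a) (I 64) = b → e 64 * e a * (e 64)⁻¹ = e b := fun a b k => by rw [h.inv, h.mul, h.mul, k]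
  have v2 : v * v = 1 := by rw [hv, conj_mul, u2]; simp
  have vy : v * e 256 = e 256 * v := by
    rw [hv, ← c (M 256 256) 256 (by decide +kernel), conj_mul, conj_mul, ← h.mul, (Commute.mul_right uy uy).eq]
  have vz : v * e 1 * v = e 4 := by rw [hv, ← c 1 1 (by decide +kernel), conj_mul, conj_mul, uz, c 2 4 (by decide +kernel)]
  have sv : (e 2 * v) ^ 3 = 1 := by rw [hv, ← c 4 2 (by decide +kernel), conj_mul, conj_pow, g1u]; simp
  have y3 : e 256 ^ 3 = 1 := by rw [h.pw, h.eq1]; decide +kernel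
  have ym : ∀ x ∈ zpowers (e 256), ∃ k < 3, x = e 256 ^ k := fun x hx => by
    obtain ⟨k, rfl⟩ := mem_powers_iff_mem_zpowers.2 hx
    exact ⟨k % 3, Nat.mod_lt _ (by decide), pow_eq_pow_mod k y3⟩
  have y1 : ∀ x ∈ zpowers (e 256), x * x = 1 → x = 1 := fun x hx h2 => by
    obtain ⟨k, -, rfl⟩ := ym x hx
    have : (e 256 ^ k) ^ 3 = 1 := by rw [← pow_mul, mul_comm, pow_mul, y3, one_pow]
    rwa [pow_succ, pow_two, h2, one_mul] at this
  let Y : Subgroup C_[e 256] := (zpowers (e 256)).subgroupOf _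
  have : Y.Normal := normal_subgroupOf_of_le_normalizer (le_norm_of_cent (cent_zpowers _).ge)
  let φ := QuotientGroup.mk' Y
  have k : ∀ x, φ x = 1 ↔ (x : G) ∈ zpowers (e 256) := fun x => QuotientGroup.eq_one_iff x
  have mq : ∀ a, M a 256 = M 256 a → e a ∈ C_[e 256] := fun a k => mem_cent1.2 (by rw [h.mul, h.mul, k])
  let Z : C_[e 256] := ⟨e 1, mq 1 (by decide +kernel)⟩
  let S : C_[e 256] := ⟨e 2, mq 2 (by decide +kernel)⟩
  let W : C_[e 256] := ⟨e 4, mq 4 (by decide +kernel)⟩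
  let U : C_[e 256] := ⟨u, mem_cent1.2 uy⟩
  let V : C_[e 256] := ⟨v, mem_cent1.2 vy⟩
  have ne : ∀ x : C_[e 256], ∀ a, x = e a → M a a = 0 → a % 1920 ≠ 0 → φ x ≠ 1 := fun x a ea h1 h2 h3 =>
    h2 ((h.eq1 a).1 (y1 _ (ea ▸ (k x).1 h3) (by rw [h.mul, h1, h.zero])))
  have hs : S * S = 1 := Subtype.ext (by simp only [S, MulMemClass.mk_mul_mk, h.mul, OneMemClass.coe_one, h.eq1]; decide +kernel)
  have hw : W * W = 1 := Subtype.ext (by simp only [W, MulMemClass.mk_mul_mk, h.mul, OneMemClass.coe_one, h.eq1]; decide +kernel)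
  have hz : S * W * (S * W) = Z := Subtype.ext (by simp only [S, W, Z, MulMemClass.mk_mul_mk, h.mul, h.eq]; decide +kernel)
  have z2 : Z * Z = 1 := Subtype.ext h.z2
  have sz : S * Z = Z * S := Subtype.ext (h.memH' 2)
  have z1 : φ Z ≠ 1 := ne Z 1 rfl (by decide +kernel) (by decide)
  have fs : φ S * φ S = 1 := by rw [← map_mul, hs, map_one]
  have fw : φ W * φ W = 1 := by rw [← map_mul, hw, map_one]
  have fz : φ S * φ W * (φ S * φ W) = φ Z := by simp only [← map_mul, hz]
  have fz2 : φ Z * φ Z = 1 := by rw [← map_mul, z2, map_one]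
  have nsz : φ S ≠ φ Z := fun q => ne (S * Z) (M 2 1) (h.mul 2 1) (by decide +kernel) (by decide +kernel) (by
    rw [map_mul, q, fz2])
  have o4 : orderOf (φ S * φ W) = 4 := orderOf_eq_prime_pow (p := 2) (n := 1) (by rwa [pow_one, pow_two, fz])
    (by rw [show 2 ^ (1 + 1) = 2 * 2 from rfl, pow_mul, pow_two, pow_two, fz, fz2])
  have hC : C_[φ Z] = closure {φ S * φ W, φ S} := by
    have mr : φ S * φ W ∈ closure {φ S * φ W, φ S} := subset_closure (by simp)
    have ms : φ S ∈ closure {φ S * φ W, φ S} := subset_closure (by simp)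
    have mw : φ W ∈ closure {φ S * φ W, φ S} := by simpa using mul_mem (inv_mem ms) mr
    have mz : φ Z ∈ closure {φ S * φ W, φ S} := fz ▸ mul_mem mr mr
    refine le_antisymm (fun x hx => ?_) ((closure_le _).2 (Set.pair_subset (mem_cent1.2 ?_) (mem_cent1.2 ?_)))
    · obtain ⟨x, rfl⟩ := QuotientGroup.mk'_surjective Y x
      have h1 : (x * e 1 * (x : G)⁻¹ * (e 1)⁻¹ : G) ∈ zpowers (e 256) := (k (x * Z * x⁻¹ * Z⁻¹)).1 (by
        rw [map_mul, map_mul, map_mul, show φ x * φ Z = φ Z * φ x from mem_cent1.1 hx, map_inv, map_inv]; group)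
      have h2 := y1 _ h1 (by
        have c1 : Commute (x * e 1 * (x : G)⁻¹ * (e 1)⁻¹) (e 1) := ((cent_zpowers _).ge Z.2 _ h1)
        have c2 : Commute (x * e 1 * (x : G)⁻¹) (e 1)⁻¹ := by simpa using (c1.mul_left (Commute.refl _)).inv_right
        rw [← pow_two, c2.mul_pow, conj_pow, inv_pow, pow_two, h.z2]; simp)
      obtain ⟨a, ha, ea⟩ := (h.memH x).1 (by rwa [mul_inv_eq_one, mul_inv_eq_iff_eq_mul] at h2)
      have t : ∀ a < 1920, M a 256 % 1920 = M 256 a % 1920 → ∃ i < 2, ∃ j < 2, ∃ l < 2, ∃ k < 3,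
        a % 1920 = M (M (M (P 1 i) (P 2 j)) (P 4 l)) (P 256 k) % 1920 := by decide +kernel
      obtain ⟨i, -, j, -, l, -, m, -, e1⟩ := t a ha (by rw [← h.eq, ← h.mul, ← h.mul, ea, mem_cent1.1 x.2])
      simp only [← h.eq, ← h.mul, ← h.pw, ea] at e1
      have e2 : x = Z ^ i * S ^ j * W ^ l * ⟨e 256, mem_cent1_self _⟩ ^ m := Subtype.ext e1
      have e3 : φ ⟨e 256, mem_cent1_self _⟩ = 1 := (k _).2 (mem_zpowers _)
      rw [show (QuotientGroup.mk' Y) x = φ x from rfl, e2]
      simp only [map_mul, map_pow, e3, one_pow, mul_one]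
      exact mul_mem (mul_mem (pow_mem mz _) (pow_mem ms _)) (pow_mem mw _)
    · rw [← fz]; group
    · rw [← map_mul, sz, map_mul]
  have inv : ∀ n, φ (U * V) ^ n = 1 → (u * v) ^ n = 1 := fun n q => by
    have m : (u * v) ^ n ∈ zpowers (e 256) := (k ((U * V) ^ n)).1 (by rwa [map_pow])
    refine y1 _ m ?_
    have c1 : (u * v) ^ n * u = u * (u * v) ^ n := (cent_zpowers _).ge U.2 _ m
    have c2 : u * (u * v) ^ n * u⁻¹ = ((u * v) ^ n)⁻¹ := by rw [← conj_pow, H08.conj_mul_left u2 v2, inv_pow]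
    rw [← c1, mul_inv_cancel_right] at c2
    exact mul_eq_one_iff_eq_inv.2 c2
  have := rel_of_d8 (u := φ U) (v := φ V) fs fw (by rw [← map_mul, show U * U = 1 from Subtype.ext u2, map_one])
    (by rw [← map_mul, show V * V = 1 from Subtype.ext v2, map_one]) fz fz2 z1 (by rw [← map_mul, sz, map_mul]) nsz
    (by rw [← map_mul, ← map_mul, show U * Z * U = S from Subtype.ext uz])
    (by rw [← map_mul, ← map_mul, show V * Z * V = W from Subtype.ext vz])
    (by rw [← map_mul, ← map_pow, show (W * U) ^ 3 = 1 from Subtype.ext g1u, map_one])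
    (by rw [← map_mul, ← map_pow, show (S * V) ^ 3 = 1 from Subtype.ext sv, map_one])
    (hC ▸ H08.nonempty_closure_equiv_dihedral (by decide) o4 fs (H08.conj_mul_left fs fw) (H08.left_notMem_zpowers
      (orderOf_eq_prime (by rw [pow_two, fs]) (ne S 2 rfl (by decide +kernel) (by decide)))
      (orderOf_eq_prime (by rw [pow_two, fw]) (ne W 4 rfl (by decide +kernel) (by decide)))))
  simp only [← map_mul] at this
  exact this.imp (inv 3) (Or.imp (inv 4) (And.imp (inv 5) fun q => ym _ ((k ((S * U * V) ^ 4)).1 (by rwa [map_pow]))))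

end L.HJ
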