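import Cfsg.Agent.L.HJcAa

/-! Recognition of the second and third Janko groups: enumerations. Enumeration 3. -/

set_option maxRecDepth 100000
set_option Elab.async false

namespace L.HJca
open H13 H15
open H15.J3 (one app wfT mul wf h1 S)
open L.HJc

noncomputable def N4 : List (List ℕ × ℕ) :=
  [([nat_lit 6], nat_lit 2),
  ((unp (nat_lit 3) (nat_lit 0xadd5dc4a60c)), nat_lit 1),
  ((unp (nat_lit 3) (nat_lit 0xcc204)), nat_lit 3),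
  ((unp (nat_lit 3) (nat_lit 0x330830860b)), nat_lit 1),
  ((unp (nat_lit 3) (nat_lit 0x594594d949b6525736126161f)), nat_lit 1),
  ((unp (nat_lit 3) (nat_lit 0x51e51e08)), nat_lit 3)]

noncomputable def R4 : List (List ℕ × ℕ) :=
  R3 ++ N4

def nodes3 : List ℕ := [6]

def sb3 : List (ℕ × ℕ × ℕ) := [(7, 14, 0)]

noncomputable def rs3 : List (ℕ × ℕ × List (ℕ × ℕ)) :=
  [(nat_lit 14, nat_lit 0, [(nat_lit 1, (nat_lit 0x100002000040000800010000200004000080001)), (nat_lit 1, (nat_lit 0x100002000040000800010000200004000080001))]),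
  (nat_lit 15, nat_lit 7, [(nat_lit 1, (nat_lit 0x1ee35ee62970ce0500d08bb760d5b6a032680657c)), (nat_lit 1, (nat_lit 0x10003ee42b1dcfa59538adc760f734d392f56083c))]),
  (nat_lit 16, nat_lit 0, [(nat_lit 1, (nat_lit 0x100e0aba0d17c70444d02bf329fd10d7608f1b426)), (nat_lit 1, (nat_lit 0x100e0aba0d17c70444d02bf329fd10d7608f1b426)), (nat_lit 1, (nat_lit 0x100e0aba0d17c70444d02bf329fd10d7608f1b426))]),
  (nat_lit 17, nat_lit 10, [(nat_lit 1, (nat_lit 0x105f889bf84ba5216a50d0702eacb68cdacb59cb4)), (nat_lit 1, (nat_lit 0x1f17ab37d3680aec186d2ec989b1805c40f0c3439))]),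
  (nat_lit 18, nat_lit 10, [(nat_lit 1, (nat_lit 0x1687e1cdf7ad552f2ca2d77e4075b9279d7fdbf75)), (nat_lit 1, (nat_lit 0x1da703b34f00a0fd10b79be740d98950a80900c4f))]),
  (nat_lit 19, nat_lit 21, [(nat_lit 1, (nat_lit 0x1ff2a83cf20d718d3de5bc1982cba772f232b29e5)), (nat_lit 1, (nat_lit 0x1ff2a83cf20d718d3de5bc1982cba772f232b29e5)), (nat_lit 1, (nat_lit 0x1ff2a83cf20d718d3de5bc1982cba772f232b29e5)), (nat_lit 1, (nat_lit 0x1ff2a83cf20d718d3de5bc1982cba772f232b29e5)), (nat_lit 1, (nat_lit 0x1ff2a83cf20d718d3de5bc1982cba772f232b29e5)), (nat_lit 1, (nat_lit 0x1ff2a83cf20d718d3de5bc1982cba772f232b29e5))])]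

noncomputable def T3_0 : Tr :=
  (.nd (nat_lit 20) (.nd (nat_lit 10) (.nd (nat_lit 5) (.nd (nat_lit 2) (.nd (nat_lit 1) (.lf ⟨nat_lit 0, nat_lit 0, nat_lit 0, one, one, one, .triv⟩)
 (.lf ⟨nat_lit 0, nat_lit 0, nat_lit 0, one, one, one, .triv⟩))
 (.nd (nat_lit 3) (.lf ⟨nat_lit 1, nat_lit 1, nat_lit 0, (nat_lit 0x1ee35ee62970ce0500d08bb760d5b6a032680657c), (nat_lit 0x1ee35ee62970ce0500d08bb760d5b6a032680657c), one, (.wt (nat_lit 1) (nat_lit 0) one (.sp .nil) [] [])⟩)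
 (.nd (nat_lit 4) (.lf ⟨nat_lit 0, nat_lit 1, nat_lit 1, (nat_lit 0x1ee35ee62970ce0500d08bb760d5b6a032680657c), one, (nat_lit 0x1ee35ee62970ce0500d08bb760d5b6a032680657c), (.we (nat_lit 0) (nat_lit 1) (nat_lit 0x1ee35ee62970ce0500d08bb760d5b6a032680657c) (.st (nat_lit 2) [] [] (.sp .nil)))⟩)
 (.lf ⟨nat_lit 0, nat_lit 1, nat_lit 1, (nat_lit 0x10003ee42b1dcfa59538adc760f734d392f56083c), one, (nat_lit 0x10003ee42b1dcfa59538adc760f734d392f56083c), (.prod [nat_lit 3, nat_lit 3])⟩))))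
 (.nd (nat_lit 7) (.nd (nat_lit 6) (.lf ⟨nat_lit 1, nat_lit 1, nat_lit 0, (nat_lit 0x105f889bf84ba5216a50d0702eacb68cdacb59cb4), (nat_lit 0x1f17ab37d3680aec186d2ec989b1805c40f0c3439), one, (.wt (nat_lit 3) (nat_lit 0) one (.sp .nil) [] [])⟩)
 (.lf ⟨nat_lit 0, nat_lit 1, nat_lit 1, (nat_lit 0x105f889bf84ba5216a50d0702eacb68cdacb59cb4), one, (nat_lit 0x1f17ab37d3680aec186d2ec989b1805c40f0c3439), (.we (nat_lit 0) (nat_lit 1) (nat_lit 0x105f889bf84ba5216a50d0702eacb68cdacb59cb4) (.st (nat_lit 5) [] [] (.sp .nil)))⟩))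
 (.nd (nat_lit 8) (.lf ⟨nat_lit 1, nat_lit 1, nat_lit 0, (nat_lit 0x1f17ab37d3680aec186d2ec989b1805c40f0c3439), (nat_lit 0x105f889bf84ba5216a50d0702eacb68cdacb59cb4), one, (.wt (nat_lit 3) (nat_lit 1) one (.sp .nil) [] [])⟩)
 (.nd (nat_lit 9) (.lf ⟨nat_lit 0, nat_lit 1, nat_lit 1, (nat_lit 0x1f17ab37d3680aec186d2ec989b1805c40f0c3439), one, (nat_lit 0x105f889bf84ba5216a50d0702eacb68cdacb59cb4), (.we (nat_lit 0) (nat_lit 1) (nat_lit 0x1f17ab37d3680aec186d2ec989b1805c40f0c3439) (.st (nat_lit 7) [] [] (.sp .nil)))⟩)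
 (.lf ⟨nat_lit 0, nat_lit 1, nat_lit 1, (nat_lit 0xf5823ae2b3588c8e3fdffba9e8d20b3ac39d7087), one, (nat_lit 0xf5823ae2b3588c8e3fdffba9e8d20b3ac39d7087), (.prod [nat_lit 6, nat_lit 8])⟩)))))
 (.nd (nat_lit 15) (.nd (nat_lit 12) (.nd (nat_lit 11) (.lf ⟨nat_lit 1, nat_lit 1, nat_lit 0, (nat_lit 0x1687e1cdf7ad552f2ca2d77e4075b9279d7fdbf75), (nat_lit 0xe466be6b35c0bdc389652e9c4a72b8e508620181), one, (.wt (nat_lit 4) (nat_lit 0) one (.sp .nil) [] [])⟩)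
 (.lf ⟨nat_lit 0, nat_lit 1, nat_lit 1, (nat_lit 0x1687e1cdf7ad552f2ca2d77e4075b9279d7fdbf75), one, (nat_lit 0xe466be6b35c0bdc389652e9c4a72b8e508620181), (.we (nat_lit 0) (nat_lit 1) (nat_lit 0x1687e1cdf7ad552f2ca2d77e4075b9279d7fdbf75) (.st (nat_lit 10) [] [] (.sp .nil)))⟩))
 (.nd (nat_lit 13) (.lf ⟨nat_lit 0, nat_lit 1, nat_lit 1, (nat_lit 0xb48da6dbcdbbec10d7ee0c57c96eaaa39d15025e), one, (nat_lit 0x1da703b34f00a0fd10b79be740d98950a80900c4f), (.prod [nat_lit 6, nat_lit 11])⟩)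
 (.nd (nat_lit 14) (.lf ⟨nat_lit 0, nat_lit 1, nat_lit 1, (nat_lit 0x8e63aa1b814fbf745cff8bb8ff826f7280ea5d49), one, (nat_lit 0x1f6f9326d7c60ac923c68395ac37828e7fccc4b30), (.prod [nat_lit 8, nat_lit 11])⟩)
 (.lf ⟨nat_lit 0, nat_lit 1, nat_lit 1, (nat_lit 0x15290101f374771cfdd3cf038aab631dbaa2e3869), one, (nat_lit 0xc8efb732b8cc6ed92274a9811f93637b14129ef5), (.prod [nat_lit 9, nat_lit 11])⟩))))
 (.nd (nat_lit 17) (.nd (nat_lit 16) (.lf ⟨nat_lit 0, nat_lit 1, nat_lit 1, (nat_lit 0xfccab2fea80340cbf61cf35d0b59b9d4adc43e1e), one, (nat_lit 0x3139f9b77e839bb8eba1435077a9cdccbcdabb634), (.prod [nat_lit 11, nat_lit 3])⟩)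
 (.lf ⟨nat_lit 0, nat_lit 1, nat_lit 1, (nat_lit 0x11ad7be3ecca859b8ac250531975d2343651eeeae), one, (nat_lit 0x3e71d24eaa84a28abefeda0608e921ff2d1a2cc38), (.prod [nat_lit 12, nat_lit 3])⟩))
 (.nd (nat_lit 18) (.lf ⟨nat_lit 0, nat_lit 1, nat_lit 1, (nat_lit 0xc62408fa09b9db9ce3f3014103fa55227c46791c), one, (nat_lit 0x2e3e5a42c9d25a690203ba4d399c471e08f6a8a6e), (.prod [nat_lit 13, nat_lit 3])⟩)
 (.nd (nat_lit 19) (.lf ⟨nat_lit 0, nat_lit 1, nat_lit 1, (nat_lit 0x12039043a6092718f95caf72806334f068d2c67c0), one, (nat_lit 0x217671bb1d0d686d559c231b1f407326aaad33e0e), (.prod [nat_lit 14, nat_lit 3])⟩)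
 (.lf ⟨nat_lit 0, nat_lit 1, nat_lit 1, (nat_lit 0x194b40ebc1c2572393c3184b90c0cd8cd7a39816b), one, (nat_lit 0x19ab81ed15df905f1eb711b3bad06435ec5c9b7b5), (.prod [nat_lit 15, nat_lit 3])⟩))))))
 (.nd (nat_lit 30) (.nd (nat_lit 25) (.nd (nat_lit 22) (.nd (nat_lit 21) (.lf ⟨nat_lit 0, nat_lit 1, nat_lit 1, (nat_lit 0x3f17a0ad3bbb80b968ec7fda65f8261fc0adc3055), one, (nat_lit 0x1c8ecb76742a88a610646281907901380d54096c9), (.prod [nat_lit 15, nat_lit 11])⟩)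
 (.lf ⟨nat_lit 0, nat_lit 1, nat_lit 1, (nat_lit 0x1ae5ab878cfe0d5a87bcb09665e3d7a80f80becf0), one, (nat_lit 0x502c2413d84024c63c941eb41ee2ad885132c077), (.prod [nat_lit 16, nat_lit 3])⟩))
 (.nd (nat_lit 23) (.lf ⟨nat_lit 0, nat_lit 1, nat_lit 1, (nat_lit 0x201003011008a45038026000580180440d0683219), one, (nat_lit 0x1e4650d63eda2b29a3b67b6b3cbfd4fddfd14f7b5), (.prod [nat_lit 16, nat_lit 11])⟩)
 (.nd (nat_lit 24) (.lf ⟨nat_lit 0, nat_lit 1, nat_lit 1, (nat_lit 0xb48da6dbcdbbec10d7ee0c57c96eaaa39d15025e), one, (nat_lit 0x1da703b34f00a0fd10b79be740d98950a80900c4f), (.prod [nat_lit 6, nat_lit 11])⟩)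
 (.lf ⟨nat_lit 0, nat_lit 1, nat_lit 1, (nat_lit 0x8e63aa1b814fbf745cff8bb8ff826f7280ea5d49), one, (nat_lit 0x1f6f9326d7c60ac923c68395ac37828e7fccc4b30), (.prod [nat_lit 8, nat_lit 11])⟩))))
 (.nd (nat_lit 27) (.nd (nat_lit 26) (.lf ⟨nat_lit 0, nat_lit 1, nat_lit 1, (nat_lit 0xfccab2fea80340cbf61cf35d0b59b9d4adc43e1e), one, (nat_lit 0x3139f9b77e839bb8eba1435077a9cdccbcdabb634), (.prod [nat_lit 11, nat_lit 3])⟩)
 (.lf ⟨nat_lit 0, nat_lit 1, nat_lit 1, (nat_lit 0x11ad7be3ecca859b8ac250531975d2343651eeeae), one, (nat_lit 0x3e71d24eaa84a28abefeda0608e921ff2d1a2cc38), (.prod [nat_lit 23, nat_lit 3])⟩))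
 (.nd (nat_lit 28) (.lf ⟨nat_lit 0, nat_lit 1, nat_lit 1, (nat_lit 0x194b40ebc1c2572393c3184b90c0cd8cd7a39816b), one, (nat_lit 0x19ab81ed15df905f1eb711b3bad06435ec5c9b7b5), (.prod [nat_lit 25, nat_lit 3])⟩)
 (.nd (nat_lit 29) (.lf ⟨nat_lit 0, nat_lit 1, nat_lit 1, (nat_lit 0x1ae5ab878cfe0d5a87bcb09665e3d7a80f80becf0), one, (nat_lit 0x502c2413d84024c63c941eb41ee2ad885132c077), (.prod [nat_lit 26, nat_lit 3])⟩)
 (.lf ⟨nat_lit 1, nat_lit 1, nat_lit 0, (nat_lit 0x1da703b34f00a0fd10b79be740d98950a80900c4f), (nat_lit 0xb48da6dbcdbbec10d7ee0c57c96eaaa39d15025e), one, (.wt (nat_lit 4) (nat_lit 1) one (.sp .nil) [] [])⟩)))))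
 (.nd (nat_lit 35) (.nd (nat_lit 32) (.nd (nat_lit 31) (.lf ⟨nat_lit 0, nat_lit 1, nat_lit 1, (nat_lit 0x1da703b34f00a0fd10b79be740d98950a80900c4f), one, (nat_lit 0xb48da6dbcdbbec10d7ee0c57c96eaaa39d15025e), (.we (nat_lit 0) (nat_lit 1) (nat_lit 0x1da703b34f00a0fd10b79be740d98950a80900c4f) (.st (nat_lit 29) [] [] (.sp .nil)))⟩)
 (.lf ⟨nat_lit 0, nat_lit 1, nat_lit 1, (nat_lit 0x88278b68c34ad18f165e3342438a0200295c67c1), one, (nat_lit 0x2166738bec75d24e7294e9d92d918764f49333e0f), (.inv (nat_lit 18))⟩))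
 (.nd (nat_lit 33) (.lf ⟨nat_lit 0, nat_lit 1, nat_lit 1, (nat_lit 0x1f481347ebe334a70b6b3939b8e207e5d4a51b440), one, (nat_lit 0x7ca567dd30d58922be2dce626effc4f6e2a710ed), (.prod [nat_lit 30, nat_lit 31])⟩)
 (.nd (nat_lit 34) (.lf ⟨nat_lit 0, nat_lit 1, nat_lit 1, (nat_lit 0x1cb949980a7102eefd9cbcd339e6700f449bb75a6), one, (nat_lit 0xde880979a19e183f990488a2146d7c9dac5e4d69), (.prod [nat_lit 32, nat_lit 3])⟩)
 (.lf ⟨nat_lit 0, nat_lit 1, nat_lit 1, (nat_lit 0xd0230d63d7d0049f6d151f3340098dc903e84391), one, (nat_lit 0x2cf6c6ea4b96ce8a821440760e7746c7b4efbdff3), (.prod [nat_lit 33, nat_lit 3])⟩))))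
 (.nd (nat_lit 37) (.nd (nat_lit 36) (.lf ⟨nat_lit 0, nat_lit 1, nat_lit 1, (nat_lit 0x141fa1b56db8c2771d3150c96d54dd097535c483), one, (nat_lit 0x24c1b98ea97e97e74d7fc0f9b0fd1653697f935c), (.inv (nat_lit 27))⟩)
 (.lf ⟨nat_lit 0, nat_lit 1, nat_lit 1, (nat_lit 0xeaad67fd11c5b9223e2ddec3fe3fc4bea7a101af), one, (nat_lit 0xfcaaa1b57e374e549ab383d9c6c504e96ef4bd6a), (.prod [nat_lit 30, nat_lit 35])⟩))
 (.nd (nat_lit 38) (.lf ⟨nat_lit 1, nat_lit 1, nat_lit 0, one, one, one, (.wt (nat_lit 0) (nat_lit 0) one (.sp .nil) [] [])⟩)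
 (.nd (nat_lit 39) (.lf ⟨nat_lit 1, nat_lit 1, nat_lit 1, (nat_lit 0x100e0aba0d17c70444d02bf329fd10d7608f1b426), (nat_lit 0x100e0aba0d17c70444d02bf329fd10d7608f1b426), (nat_lit 0x100e0aba0d17c70444d02bf329fd10d7608f1b426), (.wt (nat_lit 2) (nat_lit 0) one (.st (nat_lit 37) [] [] (.sp .nil)) [] [])⟩)
 (.lf ⟨nat_lit 1, nat_lit 1, nat_lit 39, (nat_lit 0x3b6020b1ee99f350ad1583cd87ceba46c32e15ab7), one, one, (.df [nat_lit 3])⟩)))))))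

noncomputable def T3_40 : Tr :=
  (.nd (nat_lit 60) (.nd (nat_lit 50) (.nd (nat_lit 45) (.nd (nat_lit 42) (.nd (nat_lit 41) (.lf ⟨nat_lit 0, nat_lit 39, nat_lit 39, (nat_lit 0x1f481347ebe334a70b6b3939b8e207e5d4a51b440), one, (nat_lit 0x1ee35ee62970ce0500d08bb760d5b6a032680657c), (.cmp (nat_lit 39) (nat_lit 39) [nat_lit 3, nat_lit 33] [nat_lit 3])⟩)
 (.lf ⟨nat_lit 0, nat_lit 39, nat_lit 39, (nat_lit 0xfcaaa1b57e374e549ab383d9c6c504e96ef4bd6a), one, (nat_lit 0x10003ee42b1dcfa59538adc760f734d392f56083c), (.prod [nat_lit 40, nat_lit 40])⟩))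
 (.nd (nat_lit 43) (.lf ⟨nat_lit 0, nat_lit 39, nat_lit 39, (nat_lit 0x1f17ab37d3680aec186d2ec989b1805c40f0c3439), one, (nat_lit 0x1f17ab37d3680aec186d2ec989b1805c40f0c3439), (.cmp (nat_lit 39) (nat_lit 39) [nat_lit 8] [nat_lit 6])⟩)
 (.nd (nat_lit 44) (.lf ⟨nat_lit 0, nat_lit 39, nat_lit 39, (nat_lit 0xe61e38bec712a461515696e1bcf96e38c0a60401), one, (nat_lit 0x10cd06264ca2eb42128e7499f84c57846e90ee5fd), (.prod [nat_lit 40, nat_lit 42])⟩)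
 (.lf ⟨nat_lit 0, nat_lit 39, nat_lit 39, (nat_lit 0x1e4f1e2831920e847b847a3b6d041108eb073913), one, (nat_lit 0x129cd119da7a00e970b7d2071ff55af8efdcbc85), (.prod [nat_lit 41, nat_lit 42])⟩))))
 (.nd (nat_lit 47) (.nd (nat_lit 46) (.lf ⟨nat_lit 0, nat_lit 39, nat_lit 39, (nat_lit 0x144f71aeb2b26463c2b6d4f30c0d3e252450edb2b), one, (nat_lit 0x1f6f9326d7c60ac923c68395ac37828e7fccc4b30), (.cmp (nat_lit 39) (nat_lit 39) (unp (nat_lit 6) (nat_lit 0xd80303)) [nat_lit 24])⟩)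
 (.lf ⟨nat_lit 0, nat_lit 39, nat_lit 39, (nat_lit 0xa2ea9a2d0d739cc971a9d423bd96b619a03ddbf2), one, (nat_lit 0xc8efb732b8cc6ed92274a9811f93637b14129ef5), (.prod [nat_lit 42, nat_lit 45])⟩))
 (.nd (nat_lit 48) (.lf ⟨nat_lit 0, nat_lit 39, nat_lit 39, (nat_lit 0x1f481347ebe334a70b6b3939b8e207e5d4a51b440), one, (nat_lit 0x1ee35ee62970ce0500d08bb760d5b6a032680657c), (.inv (nat_lit 41))⟩)
 (.nd (nat_lit 49) (.lf ⟨nat_lit 0, nat_lit 39, nat_lit 39, (nat_lit 0x2cf6c6ea4b96ce8a821440760e7746c7b4efbdff3), one, (nat_lit 0xbcc58b68eda6baf80b67a6638ac95f5dfd1cf7b4), (.prod (unp (nat_lit 6) (nat_lit 0x2fb6803)))⟩)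
 (.lf ⟨nat_lit 0, nat_lit 39, nat_lit 39, (nat_lit 0x2ce6c6e84b968e8b851402b61ea742ffaae0bdff2), one, (nat_lit 0x1e4650d63eda2b29a3b67b6b3cbfd4fddfd14f7b5), (.prod [nat_lit 48, nat_lit 48])⟩)))))
 (.nd (nat_lit 55) (.nd (nat_lit 52) (.nd (nat_lit 51) (.lf ⟨nat_lit 1, nat_lit 39, nat_lit 1, one, (nat_lit 0x3b6020b1ee99f350ad1583cd87ceba46c32e15ab7), one, (.wt (nat_lit 0) (nat_lit 0) (nat_lit 0x3b6020b1ee99f350ad1583cd87ceba46c32e15ab7) (.st (nat_lit 39) [] [] .nil) [] [])⟩)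
 (.lf ⟨nat_lit 1, nat_lit 39, nat_lit 39, (nat_lit 0x100e0aba0d17c70444d02bf329fd10d7608f1b426), (nat_lit 0x302b154fb7995a5b3b2550e2002a535d7e5d04566), (nat_lit 0x105f889bf84ba5216a50d0702eacb68cdacb59cb4), (.wt (nat_lit 2) (nat_lit 2) (nat_lit 0x9804a5765266ab55a26058f43224121f97935816) (.st (nat_lit 50) [nat_lit 3, nat_lit 19] [] (.st (nat_lit 39) [] [nat_lit 8] .nil)) [] [])⟩))
 (.nd (nat_lit 53) (.lf ⟨nat_lit 1, nat_lit 39, nat_lit 52, (nat_lit 0x3b6020b1ee99f350ad1583cd87ceba46c32e15ab7), one, one, (.df [nat_lit 3])⟩)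
 (.nd (nat_lit 54) (.lf ⟨nat_lit 0, nat_lit 52, nat_lit 52, (nat_lit 0x27886d5f2d21155f20e72f284280a739b940580), one, (nat_lit 0x1c2dc834c117cc9be475051e9326443f773ad7902), (.cmp (nat_lit 52) (nat_lit 52) (unp (nat_lit 6) (nat_lit 0x1680403)) [nat_lit 48, nat_lit 44])⟩)
 (.lf ⟨nat_lit 0, nat_lit 52, nat_lit 52, (nat_lit 0x1b83d2413c1dbc1557085fa50601b07e39b9f355c), one, (nat_lit 0x1785dad8c614509bec4539d29c7547e7773a6c15e), (.prod [nat_lit 53, nat_lit 53])⟩))))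
 (.nd (nat_lit 57) (.nd (nat_lit 56) (.lf ⟨nat_lit 1, nat_lit 52, nat_lit 39, one, (nat_lit 0x3b6020b1ee99f350ad1583cd87ceba46c32e15ab7), one, (.wt (nat_lit 0) (nat_lit 0) (nat_lit 0x3b6020b1ee99f350ad1583cd87ceba46c32e15ab7) (.st (nat_lit 52) [] [] .nil) [] [])⟩)
 (.lf ⟨nat_lit 1, nat_lit 52, nat_lit 52, (nat_lit 0x100e0aba0d17c70444d02bf329fd10d7608f1b426), (nat_lit 0x2a8906d58172ec9055249ba5115c9c037e3b941a0), (nat_lit 0xb2c9974ee81aebb0a3b69890767c7661bec1a0fb), (.wt (nat_lit 2) (nat_lit 2) (nat_lit 0x23aeeee429463e09abe74cacbff7a256f927f45f3) (.st (nat_lit 55) (unp (nat_lit 6) (nat_lit 0x884403)) [] (.st (nat_lit 52) [nat_lit 34, nat_lit 11] [nat_lit 48, nat_lit 41] .nil)) [nat_lit 18] [])⟩))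
 (.nd (nat_lit 58) (.lf ⟨nat_lit 1, nat_lit 52, nat_lit 39, (nat_lit 0x2ba2cea7bd829f6f53bc17c3f6c7dba59a18cc2c5), (nat_lit 0x288b87cb7714816eead115bb72a10479a16572013), (nat_lit 0x21da16808bcd5de69609f80d514b2f307b649a8b4), (.wt (nat_lit 5) (nat_lit 2) (nat_lit 0x4fb3835e192aa5925c0d7ea58898d87c5284390) (.st (nat_lit 50) (unp (nat_lit 6) (nat_lit 0x1084303)) [] (.st (nat_lit 37) [] [] (.sp (.st (nat_lit 39) [nat_lit 4, nat_lit 33] [] (.st (nat_lit 52) (unp (nat_lit 6) (nat_lit 0x1188303)) [nat_lit 49, nat_lit 41] .nil))))) (unp (nat_lit 6) (nat_lit 0x1484303)) [])⟩)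
 (.nd (nat_lit 59) (.lf ⟨nat_lit 0, nat_lit 52, nat_lit 52, (nat_lit 0x210b25961101b0803255fa684a400234871d01cf), one, (nat_lit 0x1479ab9b0d2276c9f25c9b103c803058d49afd558), (.we (nat_lit 0) (nat_lit 0) (nat_lit 0x2ba2cea7bd829f6f53bc17c3f6c7dba59a18cc2c5) (.st (nat_lit 57) [] [] (.st (nat_lit 52) (unp (nat_lit 6) (nat_lit 0x684303)) [nat_lit 49, nat_lit 41] .nil)))⟩)
 (.lf ⟨nat_lit 1, nat_lit 52, nat_lit 59, (nat_lit 0x3b6020b1ee99f350ad1583cd87ceba46c32e15ab7), one, one, (.df [nat_lit 3])⟩))))))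
 (.nd (nat_lit 70) (.nd (nat_lit 65) (.nd (nat_lit 62) (.nd (nat_lit 61) (.lf ⟨nat_lit 0, nat_lit 59, nat_lit 59, (nat_lit 0x176708afc7d76226519823ab768f79ea6a430c16), one, (nat_lit 0x1479ab9b0d2276c9f25c9b103c803058d49afd558), (.cmp (nat_lit 59) (nat_lit 59) (unp (nat_lit 6) (nat_lit 0x980303)) [nat_lit 58])⟩)
 (.lf ⟨nat_lit 1, nat_lit 59, nat_lit 52, one, (nat_lit 0x3b6020b1ee99f350ad1583cd87ceba46c32e15ab7), one, (.wt (nat_lit 0) (nat_lit 0) (nat_lit 0x3b6020b1ee99f350ad1583cd87ceba46c32e15ab7) (.st (nat_lit 59) [] [] .nil) [] [])⟩))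
 (.nd (nat_lit 63) (.lf ⟨nat_lit 1, nat_lit 59, nat_lit 59, (nat_lit 0x125910161e8d6fe6d72746c6acb95732f82b12d8b), (nat_lit 0x35271bd1e6513ce044833cddcdc51e84a3d600e62), (nat_lit 0x8e0a522e3c8eaa96082f709c4a62d685271e46e6), (.wt (nat_lit 5) (nat_lit 2) (nat_lit 0x1ddf3a9b63322283151996aab71e7317d43dd89cb) (.st (nat_lit 61) (unp (nat_lit 6) (nat_lit 0x1488303)) [] (.st (nat_lit 56) [nat_lit 4, nat_lit 8] [] (.st (nat_lit 55) (unp (nat_lit 6) (nat_lit 0x888403)) [nat_lit 58] (.st (nat_lit 52) (unp (nat_lit 6) (nat_lit 0x1184403)) [nat_lit 49] (.st (nat_lit 59) [nat_lit 3, nat_lit 11] [nat_lit 54] .nil))))) (unp (nat_lit 6) (nat_lit 0x1680303)) [])⟩)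
 (.nd (nat_lit 64) (.lf ⟨nat_lit 1, nat_lit 59, nat_lit 59, (nat_lit 0x3eba12c3c3234cd354a978de13ad53d6c7be58abc), (nat_lit 0x16cd897ab01505ce47e5a0d7bd2b714ce478d30eb), (nat_lit 0xda5361086c1376585878ac04713add59a95a231b), (.wt (nat_lit 0) (nat_lit 0) (nat_lit 0x125910161e8d6fe6d72746c6acb95732f82b12d8b) (.st (nat_lit 62) [] [] .nil) (unp (nat_lit 6) (nat_lit 0x1384303)) [])⟩)
 (.lf ⟨nat_lit 0, nat_lit 52, nat_lit 59, (nat_lit 0x1c2234fc03f5d2883a409d0e9326015f0a0339104), one, (nat_lit 0x3eaaf42fffafba2aa2c47ad8a44d120e2b5370db3), (.we (nat_lit 5) (nat_lit 2) (nat_lit 0x184f708afc4f049da4862695fa3ee392a520b80d4) (.st (nat_lit 55) (unp (nat_lit 6) (nat_lit 0xb80303)) [] (.st (nat_lit 50) (unp (nat_lit 6) (nat_lit 0xf80403)) [] (.st (nat_lit 39) [nat_lit 34, nat_lit 11] [nat_lit 3, nat_lit 36] (.st (nat_lit 52) [nat_lit 4, nat_lit 20] [nat_lit 43] (.st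 (nat_lit 59) (unp (nat_lit 6) (nat_lit 0xd88303)) [] (.st (nat_lit 62) [nat_lit 3, nat_lit 21] [nat_lit 60] .nil)))))))⟩))))
 (.nd (nat_lit 67) (.nd (nat_lit 66) (.lf ⟨nat_lit 0, nat_lit 59, nat_lit 52, (nat_lit 0xdab8e4ec69335a0181d4be60bbd24956463300ac), one, (nat_lit 0x29392e28d2c5e088306d5a3027cbd67d29efbe84f), (.inv (nat_lit 64))⟩)
 (.lf ⟨nat_lit 0, nat_lit 59, nat_lit 39, (nat_lit 0xf732c80864b3e39050d7121c76819cc42a383da2), one, (nat_lit 0x24fdb3d1e9ee4700d9084eff98ff02eb2f2b053e5), (.cmp (nat_lit 62) (nat_lit 55) (unp (nat_lit 6) (nat_lit 0xf84303)) [nat_lit 65])⟩))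
 (.nd (nat_lit 68) (.lf ⟨nat_lit 0, nat_lit 59, nat_lit 59, (nat_lit 0x3712d09a1613c9f0f9c587cc7eabcc8768e90411a), one, (nat_lit 0x22b6206e681e4cd142ab036ce766acda0a3d2a728), (.cmp (nat_lit 63) (nat_lit 59) (unp (nat_lit 6) (nat_lit 0x1580303)) [nat_lit 65])⟩)
 (.nd (nat_lit 69) (.lf ⟨nat_lit 0, nat_lit 52, nat_lit 39, (nat_lit 0x133e1931986bdb68d8ecb338151da65f469c6ec08), one, (nat_lit 0x2b8c2a50880ca7a2846b98214a6459d80771c1be1), (.prod [nat_lit 64, nat_lit 66])⟩)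
 (.lf ⟨nat_lit 0, nat_lit 39, nat_lit 52, (nat_lit 0x133e1931986bdb68d8ecb338151da65f469c6ec08), one, (nat_lit 0x361a70057f60b706336213ccfe4eef35614405242), (.inv (nat_lit 68))⟩)))))
 (.nd (nat_lit 75) (.nd (nat_lit 72) (.nd (nat_lit 71) (.lf ⟨nat_lit 0, nat_lit 39, nat_lit 39, (nat_lit 0x1d3d942fb296d0055cc8723686535efa50770ffe3), one, (nat_lit 0x1713bba090c2a343420aa191d6e737486b74f25b7), (.prod (unp (nat_lit 7) (nat_lit 0x44830e04505)))⟩)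
 (.lf ⟨nat_lit 0, nat_lit 39, nat_lit 39, (nat_lit 0x144f71aeb2b26463c2b6d4f30c0d3e252450edb2b), one, (nat_lit 0x1f6f9326d7c60ac923c68395ac37828e7fccc4b30), (.inv (nat_lit 46))⟩))
 (.nd (nat_lit 73) (.lf ⟨nat_lit 0, nat_lit 39, nat_lit 39, (nat_lit 0x335293620e111e50ad0f523504bfc98ac4f20a1f3), one, (nat_lit 0x18fbd5baa14b8fa4b91af7c4c1ed2855f1ec9b6de), (.prod (unp (nat_lit 7) (nat_lit 0x11e32e03)))⟩)
 (.nd (nat_lit 74) (.lf ⟨nat_lit 0, nat_lit 39, nat_lit 1, (nat_lit 0x1288cbe786fa4166689f68998bf43ba331522a69), one, (nat_lit 0x2bfe45a40e5ff3531601c60d0c96658e1fc23d13c), (.cmp (nat_lit 51) (nat_lit 50) (unp (nat_lit 6) (nat_lit 0x1380403)) [nat_lit 72, nat_lit 70])⟩)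
 (.lf ⟨nat_lit 0, nat_lit 52, nat_lit 1, (nat_lit 0x7eb777cf527914fda8a00e9d63afc685d7636e85), one, (nat_lit 0x15e31207eb2d80370cef2c0a493538576df45c243), (.cmp (nat_lit 52) (nat_lit 50) [nat_lit 4, nat_lit 34] [nat_lit 48, nat_lit 72])⟩))))
 (.nd (nat_lit 78) (.nd (nat_lit 76) (.lf ⟨nat_lit 0, nat_lit 1, nat_lit 39, (nat_lit 0x11a79425802401370cd926f98235e6396d1dbbbd4), one, (nat_lit 0x29a8254fb6027177edb0de7a9dd3e4ffbb6ca9582), (.inv (nat_lit 73))⟩)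
 (.nd (nat_lit 77) (.lf ⟨nat_lit 0, nat_lit 1, nat_lit 1, (nat_lit 0x31f4efb866f1265b16bdcac5934345c9a181f7bfb), one, (nat_lit 0x1f6f9326d7c60ac923c68395ac37828e7fccc4b30), (.prod (unp (nat_lit 7) (nat_lit 0x12a2cb03)))⟩)
 (.lf ⟨nat_lit 0, nat_lit 1, nat_lit 1, (nat_lit 0x12a099eee3ba547a9e3c6ca274caf71ba3b96eda6), one, (nat_lit 0x1e2f30111b256848004839dd01009b7292ac08ad), (.inv (nat_lit 28))⟩)))
 (.nd (nat_lit 79) (.lf ⟨nat_lit 0, nat_lit 1, nat_lit 1, (nat_lit 0xf5ea9c297112a29b9596725bd2961c92eeffc827), one, (nat_lit 0x1c8ecb76742a88a610646281907901380d54096c9), (.prod (unp (nat_lit 7) (nat_lit 0x13660803)))⟩)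
 (.nd (nat_lit 80) (.lf ⟨nat_lit 0, nat_lit 1, nat_lit 1, (nat_lit 0x16d72a8d7d3d0f8a823d4702b2c6d7a8aea754c6d), one, (nat_lit 0x2f482a14c2f0e19802bcafaa4b5590571a669ace1), (.prod [nat_lit 78, nat_lit 36])⟩)
 (.lf ⟨nat_lit 0, nat_lit 1, nat_lit 0, (nat_lit 0x1eec5bd0317687206901609242d9ba29cf130c6f8), one, (nat_lit 0x307ba1743107afcdbff1097684a431d8d97b63173), (.cmp (nat_lit 38) (nat_lit 37) (unp (nat_lit 6) (nat_lit 0xd88303)) [nat_lit 79, nat_lit 76])⟩)))))))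

noncomputable def T3 : Tr :=
  (.nd (nat_lit 40) T3_0
 T3_40)

noncomputable def q3_1_0 : Net :=
  mkNet (nat_lit 5) (nat_lit 10) (nat_lit 0x10000010040f00010)

noncomputable def q3_1_2 : Net :=
  mkNet (nat_lit 5) (nat_lit 10) (nat_lit 0x1440800300c0500801)

noncomputable def q3_1_4 : Net :=
  mkNet (nat_lit 5) (nat_lit 10) (nat_lit 0x10040f00044)

noncomputable def q3_1_8 : Net :=
  mkNet (nat_lit 5) (nat_lit 10) (nat_lit 0x110040010040f0cc54)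

noncomputable def q3_1_9 : Net :=
  mkNet (nat_lit 5) (nat_lit 10) (nat_lit 0x110040010040504410)

noncomputable def q3_1_10 : Net :=
  mkNet (nat_lit 5) (nat_lit 10) (nat_lit 0x40c0000000608804)

noncomputable def q3_1_11 : Net :=
  mkNet (nat_lit 5) (nat_lit 10) (nat_lit 0x4084010040200404)

noncomputable def q3_1_12 : Net :=
  mkNet (nat_lit 5) (nat_lit 10) (nat_lit 0x10044010040800454)

noncomputable def q3_1 : List Net :=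
  [q3_1_0, q3_1_0, q3_1_2, rv q3_1_2, q3_1_4, q3_1_4, Net.nil, Net.nil, q3_1_8, q3_1_9, q3_1_10, q3_1_11, q3_1_12]

noncomputable def Qs3 : List (ℕ × ℕ × List Net) :=
  [(nat_lit 10, nat_lit 5, q3_1)]

noncomputable def ls3 : List Ld :=
  [⟨[(nat_lit 3, [nat_lit 12]), (nat_lit 32, [nat_lit 11]), (nat_lit 11, (unp (nat_lit 4) (nat_lit 0xb948305)))], [⟨nat_lit 0, [nat_lit 0, nat_lit 2], (nat_lit 0xe102bf0afdfbf7efdfbf080c0840afdfbf040c3057efc1bf7efc100), nat_lit 16⟩, ⟨nat_lit 2, [nat_lit 0, nat_lit 1], (nat_lit 0x7efdfbf7efdfbf7efdfbf7efdfbf7efc1bf7efdfbf02fdf827e01fbf), nat_lit 4⟩, ⟨nat_lit 4, [nat_lit 0], (nat_lit 0x7efdfbf7efdfbf7efdfbf7efdfbf7efc0bf7efdfbf04fdf807efdfbf), nat_lit 3⟩], [[nat_lit 1], [nat_lit 3]], (nat_lit 0xc31944221020)⟩]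

noncomputable def lk3 : List (List ℕ) :=
  [[nat_lit 80]]

noncomputable def ds3 : List Nd :=
  []

noncomputable def ks3 : List ℕ :=
  []

def kc3 : List (ℕ × ℕ) := [(0, 1)]

theorem Rn4 : Nat.beq R4.length 20 = true := by decide +kernel

theorem Nn4 : Nat.beq N4.length 6 = true := by decide +kernel

theorem hr3 : relsOk mul one lc3 dom3 nodes3 1 (2 * 4) R4 sb3 1 rs3 = true := by decide +kernel

theorem hc3_0 : rng (chk mul one wf T3 lc3 (mapR (fun e => e.2.2) rs3) 1) (nat_lit 0) (nat_lit 81) = true := by decide +kernel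

theorem AQ3_1_p : actP 5 10 q3_1 13 = true := by decide +kernel

theorem AQ3_1_l_0 : rng (actL 5 10 q3_1 dom3 (2 * 4) us3) (nat_lit 0) (nat_lit 13) = true := by decide +kernel

theorem AQ3_1_r_0 : rng (fun i => relN 5 10 q3_1 (2 * 4) (nthD ([], nat_lit 0) R3 i)) (nat_lit 0) (nat_lit 14) = true := by decide +kernel

theorem la3 : ldA mul one T3 81 lc3 32 7 n3 ls3 1 = true := by decide +kernel

theorem lb3 : ldB 1920 Qs3 ls3 1 = true := by decide +kernel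

theorem dn3 : Nat.beq ds3.length 0 = true := by decide +kernel

theorem hk3 : ks3 = ds3.map Nd.k := by decide +kernel

theorem hkc3 : kc3 = (0, 1) :: ds3.map fun d => (d.k, d.c) := by decide +kernel

theorem lo3 : linkOk mul one T3 81 ks3 lk3 1 = true := by decide +kernel

theorem do3 : domOk dom3 [0, 1, 2, 3] nodes3 1 R4 sb3 1 = true := by decide +kernel

theorem hc3 : ∀ i < 81, (chk mul one wf T3 lc3 (mapR (fun e => e.2.2) rs3) 1) i = true :=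
  (rng_add rng_zero hc3_0)

theorem AQ3_1_l : ∀ i < 13, (actL 5 10 q3_1 dom3 (2 * 4) us3) i = true :=
  (rng_add rng_zero AQ3_1_l_0)

theorem AQ3_1_r : ∀ i < 14, (fun i => relN 5 10 q3_1 (2 * 4) (nthD ([], nat_lit 0) R3 i)) i = true :=
  (rng_add rng_zero AQ3_1_r_0)

theorem na3 : ∀ i < 0, (fun i => ndA mul one T3 81 lc3 32 7 n3 1920 (nthD ⟨nat_lit 0, nat_lit 0, [], [], []⟩ ds3 i)) i = true :=
  rng_zero

theorem nb3 : ∀ i < 0, (fun i => ndB mul one T3 81 lc3 ks3 Qs3 1 (nthD ⟨nat_lit 0, nat_lit 0, [], [], []⟩ ds3 i)) i = true :=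
  rng_zero

section
universe u v
variable {R : Type v} {ι : Type} [CommRing R] [Fintype ι] [DecidableEq ι] (V : VCod R ι 9 18 app wfT) (h2 : V.mat one = 1)

theorem AQ3_1 : Act.{0} (((S V h2).sub (mdl (g V h2) dom3)).gen lc3) 10 5 q3_1 :=
  act_of_up (L3 V h2) (U3 V h2) AQ3_1_p AQ3_1_l (by decide) (allR Rn3 AQ3_1_r)

theorem C3 : Cert.{u} ((S V h2).sub (mdl (g V h2) dom3)) T3 81 (mgen (g V h2) dom3) dom3 [0, 1, 2, 3] nodes3 1 (R3 ++ N4) kc3 :=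
  have := fin3 V h2
  cert_of (L3 V h2) (card3 V h2).le (A3 V h2) (Qs := Qs3) (List.forall_mem_cons.2 ⟨AQ3_1 V h2, List.forall_mem_nil _⟩) hr3 hc3 la3 lb3 hk3 (allR dn3 na3) (allR dn3 nb3) lo3 do3 hkc3

end

end L.HJca
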