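import Cfsg.Agent.L.HJcAa

/-! Recognition of the second and third Janko groups: enumerations. Enumeration 3. -/

set_option maxRecDepth 100000
set_option Elab.async false

namespace L.HJcb
open H13 H15
open H15.J3 (one app wfT mul wf h1 S)
open L.HJc

noncomputable def N4 : List (List ℕ × ℕ) :=
  [([nat_lit 6], nat_lit 2),
  ((unp (nat_lit 3) (nat_lit 0xadd5dc4a60c)), nat_lit 1),
  ((unp (nat_lit 3) (nat_lit 0xcc204)), nat_lit 3),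
  ((unp (nat_lit 3) (nat_lit 0x330830860b)), nat_lit 1),
  ((unp (nat_lit 3) (nat_lit 0x594594d949b6525736126161f)), nat_lit 1),
  ((unp (nat_lit 3) (nat_lit 0x51e51e08)), nat_lit 4)]

noncomputable def R4 : List (List ℕ × ℕ) :=
  R3 ++ N4

def nodes3 : List ℕ := [6]

def sb3 : List (ℕ × ℕ × ℕ) := [(7, 14, 0)]

noncomputable def rs3 : List (ℕ × ℕ × List (ℕ × ℕ)) :=
  [(nat_lit 14, nat_lit 0, [(nat_lit 1, (nat_lit 0x100002000040000800010000200004000080001)), (nat_lit 1, (nat_lit 0x100002000040000800010000200004000080001))]),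
  (nat_lit 15, nat_lit 7, [(nat_lit 1, (nat_lit 0x1ee35ee62970ce0500d08bb760d5b6a032680657c)), (nat_lit 1, (nat_lit 0x10003ee42b1dcfa59538adc760f734d392f56083c))]),
  (nat_lit 16, nat_lit 0, [(nat_lit 1, (nat_lit 0x100e0aba0d17c70444d02bf329fd10d7608f1b426)), (nat_lit 1, (nat_lit 0x100e0aba0d17c70444d02bf329fd10d7608f1b426)), (nat_lit 1, (nat_lit 0x100e0aba0d17c70444d02bf329fd10d7608f1b426))]),
  (nat_lit 17, nat_lit 10, [(nat_lit 1, (nat_lit 0x105f889bf84ba5216a50d0702eacb68cdacb59cb4)), (nat_lit 1, (nat_lit 0x1f17ab37d3680aec186d2ec989b1805c40f0c3439))]),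
  (nat_lit 18, nat_lit 10, [(nat_lit 1, (nat_lit 0x1687e1cdf7ad552f2ca2d77e4075b9279d7fdbf75)), (nat_lit 1, (nat_lit 0x1da703b34f00a0fd10b79be740d98950a80900c4f))]),
  (nat_lit 19, nat_lit 29, [(nat_lit 1, (nat_lit 0x1ff2a83cf20d718d3de5bc1982cba772f232b29e5)), (nat_lit 1, (nat_lit 0x1ff2a83cf20d718d3de5bc1982cba772f232b29e5)), (nat_lit 1, (nat_lit 0x1ff2a83cf20d718d3de5bc1982cba772f232b29e5)), (nat_lit 1, (nat_lit 0x1ff2a83cf20d718d3de5bc1982cba772f232b29e5)), (nat_lit 1, (nat_lit 0x1ff2a83cf20d718d3de5bc1982cba772f232b29e5)), (nat_lit 1, (nat_lit 0x1ff2a83cf20d718d3de5bc1982cba772f232b29e5)), (nat_lit 1, (nat_lit 0x1ff2a83cf20d718d3de5bc1982cba772f232b29e5)), (nat_lit 1, (nat_lit 0x1ff2a83cf20d718d3de5bc1982cba772f232b29e5))])]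

noncomputable def T3_0 : Tr :=
  (.nd (nat_lit 25) (.nd (nat_lit 12) (.nd (nat_lit 6) (.nd (nat_lit 3) (.nd (nat_lit 1) (.lf ⟨nat_lit 0, nat_lit 0, nat_lit 0, one, one, one, .triv⟩)
 (.nd (nat_lit 2) (.lf ⟨nat_lit 0, nat_lit 0, nat_lit 0, one, one, one, .triv⟩)
 (.lf ⟨nat_lit 1, nat_lit 1, nat_lit 0, (nat_lit 0x1ee35ee62970ce0500d08bb760d5b6a032680657c), (nat_lit 0x1ee35ee62970ce0500d08bb760d5b6a032680657c), one, (.wt (nat_lit 1) (nat_lit 0) one (.sp .nil) [] [])⟩)))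
 (.nd (nat_lit 4) (.lf ⟨nat_lit 0, nat_lit 1, nat_lit 1, (nat_lit 0x1ee35ee62970ce0500d08bb760d5b6a032680657c), one, (nat_lit 0x1ee35ee62970ce0500d08bb760d5b6a032680657c), (.we (nat_lit 0) (nat_lit 1) (nat_lit 0x1ee35ee62970ce0500d08bb760d5b6a032680657c) (.st (nat_lit 2) [] [] (.sp .nil)))⟩)
 (.nd (nat_lit 5) (.lf ⟨nat_lit 0, nat_lit 1, nat_lit 1, (nat_lit 0x10003ee42b1dcfa59538adc760f734d392f56083c), one, (nat_lit 0x10003ee42b1dcfa59538adc760f734d392f56083c), (.prod [nat_lit 3, nat_lit 3])⟩)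
 (.lf ⟨nat_lit 1, nat_lit 1, nat_lit 0, (nat_lit 0x105f889bf84ba5216a50d0702eacb68cdacb59cb4), (nat_lit 0x1f17ab37d3680aec186d2ec989b1805c40f0c3439), one, (.wt (nat_lit 3) (nat_lit 0) one (.sp .nil) [] [])⟩))))
 (.nd (nat_lit 9) (.nd (nat_lit 7) (.lf ⟨nat_lit 0, nat_lit 1, nat_lit 1, (nat_lit 0x105f889bf84ba5216a50d0702eacb68cdacb59cb4), one, (nat_lit 0x1f17ab37d3680aec186d2ec989b1805c40f0c3439), (.we (nat_lit 0) (nat_lit 1) (nat_lit 0x105f889bf84ba5216a50d0702eacb68cdacb59cb4) (.st (nat_lit 5) [] [] (.sp .nil)))⟩)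
 (.nd (nat_lit 8) (.lf ⟨nat_lit 1, nat_lit 1, nat_lit 0, (nat_lit 0x1f17ab37d3680aec186d2ec989b1805c40f0c3439), (nat_lit 0x105f889bf84ba5216a50d0702eacb68cdacb59cb4), one, (.wt (nat_lit 3) (nat_lit 1) one (.sp .nil) [] [])⟩)
 (.lf ⟨nat_lit 0, nat_lit 1, nat_lit 1, (nat_lit 0x1f17ab37d3680aec186d2ec989b1805c40f0c3439), one, (nat_lit 0x105f889bf84ba5216a50d0702eacb68cdacb59cb4), (.we (nat_lit 0) (nat_lit 1) (nat_lit 0x1f17ab37d3680aec186d2ec989b1805c40f0c3439) (.st (nat_lit 7) [] [] (.sp .nil)))⟩)))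
 (.nd (nat_lit 10) (.lf ⟨nat_lit 0, nat_lit 1, nat_lit 1, (nat_lit 0xf5823ae2b3588c8e3fdffba9e8d20b3ac39d7087), one, (nat_lit 0xf5823ae2b3588c8e3fdffba9e8d20b3ac39d7087), (.prod [nat_lit 6, nat_lit 8])⟩)
 (.nd (nat_lit 11) (.lf ⟨nat_lit 1, nat_lit 1, nat_lit 0, (nat_lit 0x1687e1cdf7ad552f2ca2d77e4075b9279d7fdbf75), (nat_lit 0xe466be6b35c0bdc389652e9c4a72b8e508620181), one, (.wt (nat_lit 4) (nat_lit 0) one (.sp .nil) [] [])⟩)
 (.lf ⟨nat_lit 0, nat_lit 1, nat_lit 1, (nat_lit 0x1687e1cdf7ad552f2ca2d77e4075b9279d7fdbf75), one, (nat_lit 0xe466be6b35c0bdc389652e9c4a72b8e508620181), (.we (nat_lit 0) (nat_lit 1) (nat_lit 0x1687e1cdf7ad552f2ca2d77e4075b9279d7fdbf75) (.st (nat_lit 10) [] [] (.sp .nil)))⟩)))))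
 (.nd (nat_lit 18) (.nd (nat_lit 15) (.nd (nat_lit 13) (.lf ⟨nat_lit 0, nat_lit 1, nat_lit 1, (nat_lit 0xb48da6dbcdbbec10d7ee0c57c96eaaa39d15025e), one, (nat_lit 0x1da703b34f00a0fd10b79be740d98950a80900c4f), (.prod [nat_lit 6, nat_lit 11])⟩)
 (.nd (nat_lit 14) (.lf ⟨nat_lit 0, nat_lit 1, nat_lit 1, (nat_lit 0x8e63aa1b814fbf745cff8bb8ff826f7280ea5d49), one, (nat_lit 0x1f6f9326d7c60ac923c68395ac37828e7fccc4b30), (.prod [nat_lit 8, nat_lit 11])⟩)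
 (.lf ⟨nat_lit 0, nat_lit 1, nat_lit 1, (nat_lit 0x15290101f374771cfdd3cf038aab631dbaa2e3869), one, (nat_lit 0xc8efb732b8cc6ed92274a9811f93637b14129ef5), (.prod [nat_lit 9, nat_lit 11])⟩)))
 (.nd (nat_lit 16) (.lf ⟨nat_lit 0, nat_lit 1, nat_lit 1, (nat_lit 0xfccab2fea80340cbf61cf35d0b59b9d4adc43e1e), one, (nat_lit 0x3139f9b77e839bb8eba1435077a9cdccbcdabb634), (.prod [nat_lit 11, nat_lit 3])⟩)
 (.nd (nat_lit 17) (.lf ⟨nat_lit 0, nat_lit 1, nat_lit 1, (nat_lit 0x11ad7be3ecca859b8ac250531975d2343651eeeae), one, (nat_lit 0x3e71d24eaa84a28abefeda0608e921ff2d1a2cc38), (.prod [nat_lit 12, nat_lit 3])⟩)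
 (.lf ⟨nat_lit 0, nat_lit 1, nat_lit 1, (nat_lit 0xc62408fa09b9db9ce3f3014103fa55227c46791c), one, (nat_lit 0x2e3e5a42c9d25a690203ba4d399c471e08f6a8a6e), (.prod [nat_lit 13, nat_lit 3])⟩))))
 (.nd (nat_lit 21) (.nd (nat_lit 19) (.lf ⟨nat_lit 0, nat_lit 1, nat_lit 1, (nat_lit 0x12039043a6092718f95caf72806334f068d2c67c0), one, (nat_lit 0x217671bb1d0d686d559c231b1f407326aaad33e0e), (.prod [nat_lit 14, nat_lit 3])⟩)
 (.nd (nat_lit 20) (.lf ⟨nat_lit 0, nat_lit 1, nat_lit 1, (nat_lit 0x194b40ebc1c2572393c3184b90c0cd8cd7a39816b), one, (nat_lit 0x19ab81ed15df905f1eb711b3bad06435ec5c9b7b5), (.prod [nat_lit 15, nat_lit 3])⟩)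
 (.lf ⟨nat_lit 0, nat_lit 1, nat_lit 1, (nat_lit 0x3f17a0ad3bbb80b968ec7fda65f8261fc0adc3055), one, (nat_lit 0x1c8ecb76742a88a610646281907901380d54096c9), (.prod [nat_lit 15, nat_lit 11])⟩)))
 (.nd (nat_lit 23) (.nd (nat_lit 22) (.lf ⟨nat_lit 0, nat_lit 1, nat_lit 1, (nat_lit 0x1ae5ab878cfe0d5a87bcb09665e3d7a80f80becf0), one, (nat_lit 0x502c2413d84024c63c941eb41ee2ad885132c077), (.prod [nat_lit 16, nat_lit 3])⟩)
 (.lf ⟨nat_lit 0, nat_lit 1, nat_lit 1, (nat_lit 0x201003011008a45038026000580180440d0683219), one, (nat_lit 0x1e4650d63eda2b29a3b67b6b3cbfd4fddfd14f7b5), (.prod [nat_lit 16, nat_lit 11])⟩))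
 (.nd (nat_lit 24) (.lf ⟨nat_lit 0, nat_lit 1, nat_lit 1, (nat_lit 0xb48da6dbcdbbec10d7ee0c57c96eaaa39d15025e), one, (nat_lit 0x1da703b34f00a0fd10b79be740d98950a80900c4f), (.prod [nat_lit 6, nat_lit 11])⟩)
 (.lf ⟨nat_lit 0, nat_lit 1, nat_lit 1, (nat_lit 0x8e63aa1b814fbf745cff8bb8ff826f7280ea5d49), one, (nat_lit 0x1f6f9326d7c60ac923c68395ac37828e7fccc4b30), (.prod [nat_lit 8, nat_lit 11])⟩))))))
 (.nd (nat_lit 38) (.nd (nat_lit 31) (.nd (nat_lit 28) (.nd (nat_lit 26) (.lf ⟨nat_lit 0, nat_lit 1, nat_lit 1, (nat_lit 0xfccab2fea80340cbf61cf35d0b59b9d4adc43e1e), one, (nat_lit 0x3139f9b77e839bb8eba1435077a9cdccbcdabb634), (.prod [nat_lit 11, nat_lit 3])⟩)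
 (.nd (nat_lit 27) (.lf ⟨nat_lit 0, nat_lit 1, nat_lit 1, (nat_lit 0x194b40ebc1c2572393c3184b90c0cd8cd7a39816b), one, (nat_lit 0x19ab81ed15df905f1eb711b3bad06435ec5c9b7b5), (.prod [nat_lit 25, nat_lit 3])⟩)
 (.lf ⟨nat_lit 1, nat_lit 1, nat_lit 0, (nat_lit 0x1da703b34f00a0fd10b79be740d98950a80900c4f), (nat_lit 0xb48da6dbcdbbec10d7ee0c57c96eaaa39d15025e), one, (.wt (nat_lit 4) (nat_lit 1) one (.sp .nil) [] [])⟩)))
 (.nd (nat_lit 29) (.lf ⟨nat_lit 0, nat_lit 1, nat_lit 1, (nat_lit 0x1da703b34f00a0fd10b79be740d98950a80900c4f), one, (nat_lit 0xb48da6dbcdbbec10d7ee0c57c96eaaa39d15025e), (.we (nat_lit 0) (nat_lit 1) (nat_lit 0x1da703b34f00a0fd10b79be740d98950a80900c4f) (.st (nat_lit 27) [] [] (.sp .nil)))⟩)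
 (.nd (nat_lit 30) (.lf ⟨nat_lit 0, nat_lit 1, nat_lit 1, (nat_lit 0x88278b68c34ad18f165e3342438a0200295c67c1), one, (nat_lit 0x2166738bec75d24e7294e9d92d918764f49333e0f), (.inv (nat_lit 18))⟩)
 (.lf ⟨nat_lit 0, nat_lit 1, nat_lit 1, (nat_lit 0x1f481347ebe334a70b6b3939b8e207e5d4a51b440), one, (nat_lit 0x7ca567dd30d58922be2dce626effc4f6e2a710ed), (.prod [nat_lit 28, nat_lit 29])⟩))))
 (.nd (nat_lit 34) (.nd (nat_lit 32) (.lf ⟨nat_lit 0, nat_lit 1, nat_lit 1, (nat_lit 0x1cb949980a7102eefd9cbcd339e6700f449bb75a6), one, (nat_lit 0xde880979a19e183f990488a2146d7c9dac5e4d69), (.prod [nat_lit 30, nat_lit 3])⟩)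
 (.nd (nat_lit 33) (.lf ⟨nat_lit 0, nat_lit 1, nat_lit 1, (nat_lit 0xd0230d63d7d0049f6d151f3340098dc903e84391), one, (nat_lit 0x2cf6c6ea4b96ce8a821440760e7746c7b4efbdff3), (.prod [nat_lit 31, nat_lit 3])⟩)
 (.lf ⟨nat_lit 0, nat_lit 1, nat_lit 1, (nat_lit 0x141fa1b56db8c2771d3150c96d54dd097535c483), one, (nat_lit 0x24c1b98ea97e97e74d7fc0f9b0fd1653697f935c), (.inv (nat_lit 26))⟩)))
 (.nd (nat_lit 36) (.nd (nat_lit 35) (.lf ⟨nat_lit 0, nat_lit 1, nat_lit 1, (nat_lit 0xeaad67fd11c5b9223e2ddec3fe3fc4bea7a101af), one, (nat_lit 0xfcaaa1b57e374e549ab383d9c6c504e96ef4bd6a), (.prod [nat_lit 28, nat_lit 33])⟩)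
 (.lf ⟨nat_lit 1, nat_lit 1, nat_lit 0, one, one, one, (.wt (nat_lit 0) (nat_lit 0) one (.sp .nil) [] [])⟩))
 (.nd (nat_lit 37) (.lf ⟨nat_lit 1, nat_lit 1, nat_lit 1, (nat_lit 0x100e0aba0d17c70444d02bf329fd10d7608f1b426), (nat_lit 0x100e0aba0d17c70444d02bf329fd10d7608f1b426), (nat_lit 0x100e0aba0d17c70444d02bf329fd10d7608f1b426), (.wt (nat_lit 2) (nat_lit 0) one (.st (nat_lit 35) [] [] (.sp .nil)) [] [])⟩)
 (.lf ⟨nat_lit 1, nat_lit 1, nat_lit 37, (nat_lit 0x3b6020b1ee99f350ad1583cd87ceba46c32e15ab7), one, one, (.df [nat_lit 3])⟩)))))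
 (.nd (nat_lit 44) (.nd (nat_lit 41) (.nd (nat_lit 39) (.lf ⟨nat_lit 0, nat_lit 37, nat_lit 37, (nat_lit 0x1f481347ebe334a70b6b3939b8e207e5d4a51b440), one, (nat_lit 0x1ee35ee62970ce0500d08bb760d5b6a032680657c), (.cmp (nat_lit 37) (nat_lit 37) [nat_lit 3, nat_lit 31] [nat_lit 3])⟩)
 (.nd (nat_lit 40) (.lf ⟨nat_lit 0, nat_lit 37, nat_lit 37, (nat_lit 0xfcaaa1b57e374e549ab383d9c6c504e96ef4bd6a), one, (nat_lit 0x10003ee42b1dcfa59538adc760f734d392f56083c), (.prod [nat_lit 38, nat_lit 38])⟩)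
 (.lf ⟨nat_lit 0, nat_lit 37, nat_lit 37, (nat_lit 0x1f17ab37d3680aec186d2ec989b1805c40f0c3439), one, (nat_lit 0x1f17ab37d3680aec186d2ec989b1805c40f0c3439), (.cmp (nat_lit 37) (nat_lit 37) [nat_lit 8] [nat_lit 6])⟩)))
 (.nd (nat_lit 42) (.lf ⟨nat_lit 0, nat_lit 37, nat_lit 37, (nat_lit 0xe61e38bec712a461515696e1bcf96e38c0a60401), one, (nat_lit 0x10cd06264ca2eb42128e7499f84c57846e90ee5fd), (.prod [nat_lit 38, nat_lit 40])⟩)
 (.nd (nat_lit 43) (.lf ⟨nat_lit 0, nat_lit 37, nat_lit 37, (nat_lit 0x1e4f1e2831920e847b847a3b6d041108eb073913), one, (nat_lit 0x129cd119da7a00e970b7d2071ff55af8efdcbc85), (.prod [nat_lit 39, nat_lit 40])⟩)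
 (.lf ⟨nat_lit 0, nat_lit 37, nat_lit 37, (nat_lit 0x144f71aeb2b26463c2b6d4f30c0d3e252450edb2b), one, (nat_lit 0x1f6f9326d7c60ac923c68395ac37828e7fccc4b30), (.cmp (nat_lit 37) (nat_lit 37) (unp (nat_lit 5) (nat_lit 0x37c303)) [nat_lit 24])⟩))))
 (.nd (nat_lit 47) (.nd (nat_lit 45) (.lf ⟨nat_lit 0, nat_lit 37, nat_lit 37, (nat_lit 0x1f481347ebe334a70b6b3939b8e207e5d4a51b440), one, (nat_lit 0x1ee35ee62970ce0500d08bb760d5b6a032680657c), (.inv (nat_lit 39))⟩)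
 (.nd (nat_lit 46) (.lf ⟨nat_lit 0, nat_lit 37, nat_lit 37, (nat_lit 0x2cf6c6ea4b96ce8a821440760e7746c7b4efbdff3), one, (nat_lit 0xbcc58b68eda6baf80b67a6638ac95f5dfd1cf7b4), (.prod (unp (nat_lit 6) (nat_lit 0x2cae603)))⟩)
 (.lf ⟨nat_lit 0, nat_lit 37, nat_lit 37, (nat_lit 0x2ce6c6e84b968e8b851402b61ea742ffaae0bdff2), one, (nat_lit 0x1e4650d63eda2b29a3b67b6b3cbfd4fddfd14f7b5), (.prod [nat_lit 45, nat_lit 45])⟩)))
 (.nd (nat_lit 49) (.nd (nat_lit 48) (.lf ⟨nat_lit 1, nat_lit 37, nat_lit 1, one, (nat_lit 0x3b6020b1ee99f350ad1583cd87ceba46c32e15ab7), one, (.wt (nat_lit 0) (nat_lit 0) (nat_lit 0x3b6020b1ee99f350ad1583cd87ceba46c32e15ab7) (.st (nat_lit 37) [] [] .nil) [] [])⟩)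
 (.lf ⟨nat_lit 1, nat_lit 37, nat_lit 37, (nat_lit 0x100e0aba0d17c70444d02bf329fd10d7608f1b426), (nat_lit 0x302b154fb7995a5b3b2550e2002a535d7e5d04566), (nat_lit 0x105f889bf84ba5216a50d0702eacb68cdacb59cb4), (.wt (nat_lit 2) (nat_lit 2) (nat_lit 0x9804a5765266ab55a26058f43224121f97935816) (.st (nat_lit 47) [nat_lit 3, nat_lit 19] [] (.st (nat_lit 37) [] [nat_lit 8] .nil)) [] [])⟩))
 (.nd (nat_lit 50) (.lf ⟨nat_lit 1, nat_lit 37, nat_lit 49, (nat_lit 0x3b6020b1ee99f350ad1583cd87ceba46c32e15ab7), one, one, (.df [nat_lit 3])⟩)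
 (.lf ⟨nat_lit 0, nat_lit 49, nat_lit 49, (nat_lit 0x27886d5f2d21155f20e72f284280a739b940580), one, (nat_lit 0x1c2dc834c117cc9be475051e9326443f773ad7902), (.cmp (nat_lit 49) (nat_lit 49) (unp (nat_lit 5) (nat_lit 0x5bc403)) [nat_lit 45, nat_lit 42])⟩)))))))

noncomputable def T3_51 : Tr :=
  (.nd (nat_lit 76) (.nd (nat_lit 63) (.nd (nat_lit 57) (.nd (nat_lit 54) (.nd (nat_lit 52) (.lf ⟨nat_lit 0, nat_lit 49, nat_lit 49, (nat_lit 0x1b83d2413c1dbc1557085fa50601b07e39b9f355c), one, (nat_lit 0x1785dad8c614509bec4539d29c7547e7773a6c15e), (.prod [nat_lit 50, nat_lit 50])⟩)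
 (.nd (nat_lit 53) (.lf ⟨nat_lit 1, nat_lit 49, nat_lit 37, one, (nat_lit 0x3b6020b1ee99f350ad1583cd87ceba46c32e15ab7), one, (.wt (nat_lit 0) (nat_lit 0) (nat_lit 0x3b6020b1ee99f350ad1583cd87ceba46c32e15ab7) (.st (nat_lit 49) [] [] .nil) [] [])⟩)
 (.lf ⟨nat_lit 1, nat_lit 49, nat_lit 49, (nat_lit 0x100e0aba0d17c70444d02bf329fd10d7608f1b426), (nat_lit 0x2a8906d58172ec9055249ba5115c9c037e3b941a0), (nat_lit 0xb2c9974ee81aebb0a3b69890767c7661bec1a0fb), (.wt (nat_lit 2) (nat_lit 2) (nat_lit 0x23aeeee429463e09abe74cacbff7a256f927f45f3) (.st (nat_lit 52) (unp (nat_lit 5) (nat_lit 0x23e403)) [] (.st (nat_lit 49) [nat_lit 32, nat_lit 11] [nat_lit 45, nat_lit 39] .nil)) [nat_lit 18] [])⟩)))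
 (.nd (nat_lit 55) (.lf ⟨nat_lit 1, nat_lit 49, nat_lit 54, (nat_lit 0x2ba2cea7bd829f6f53bc17c3f6c7dba59a18cc2c5), one, one, (.df [nat_lit 2, nat_lit 0])⟩)
 (.nd (nat_lit 56) (.lf ⟨nat_lit 1, nat_lit 54, nat_lit 49, one, (nat_lit 0x2ba2cea7bd829f6f53bc17c3f6c7dba59a18cc2c5), one, (.wt (nat_lit 0) (nat_lit 0) (nat_lit 0x2ba2cea7bd829f6f53bc17c3f6c7dba59a18cc2c5) (.st (nat_lit 54) [] [] .nil) [] [])⟩)
 (.lf ⟨nat_lit 1, nat_lit 54, nat_lit 49, (nat_lit 0x2ba2cea7bd829f6f53bc17c3f6c7dba59a18cc2c5), (nat_lit 0x2f1e1579102e93a0181bb9804df7202d621f47cc0), (nat_lit 0x1479ab9b0d2276c9f25c9b103c803058d49afd558), (.wt (nat_lit 5) (nat_lit 2) (nat_lit 0x12ef2a6dbda37e1ffb505c10de316c1f31fcaae36) (.st (nat_lit 52) (unp (nat_lit 6) (nat_lit 0x1080303)) [] (.st (nat_lit 47) (unp (nat_lit 5) (nat_lit 0x4fc303)) [] (.st (nat_lit 35) (unp (nat_lit 5) (nat_lit 0x4fc403))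 [] (.sp (.st (nat_lit 37) [nat_lit 4, nat_lit 31] [] (.st (nat_lit 49) (unp (nat_lit 6) (nat_lit 0x1180303)) [nat_lit 46, nat_lit 39] (.st (nat_lit 54) (unp (nat_lit 5) (nat_lit 0x53e303)) [] .nil))))))) (unp (nat_lit 5) (nat_lit 0x4fc403)) [])⟩))))
 (.nd (nat_lit 60) (.nd (nat_lit 58) (.lf ⟨nat_lit 0, nat_lit 54, nat_lit 54, (nat_lit 0x4bcd175a4299bcf4b8d0265ad6fd4dd52b7214c7), one, (nat_lit 0x1479ab9b0d2276c9f25c9b103c803058d49afd558), (.we (nat_lit 0) (nat_lit 0) (nat_lit 0x2ba2cea7bd829f6f53bc17c3f6c7dba59a18cc2c5) (.st (nat_lit 56) [] [] (.st (nat_lit 54) (unp (nat_lit 6) (nat_lit 0xe80303)) [] .nil)))⟩)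
 (.nd (nat_lit 59) (.lf ⟨nat_lit 0, nat_lit 49, nat_lit 49, (nat_lit 0x1ed8fb50bf2d96c3c7a8537414b6c49ffe02041bd), one, (nat_lit 0x1a36fac72f0e1f064ff05ec53564d5192eefa84ae), (.we (nat_lit 5) (nat_lit 1) (nat_lit 0x1d9e2d2758975477ce8f7418783745b2dffa41576) (.st (nat_lit 54) (unp (nat_lit 5) (nat_lit 0x3bc303)) [] (.st (nat_lit 55) [nat_lit 3, nat_lit 12] [nat_lit 57] (.st (nat_lit 53) [nat_lit 3, nat_lit 11] [] (.st (nat_lit 54) (unp (nat_lit 5) (nat_lit 0x3bc303)) [] (.st (nat_lit 55) [nat_lit 3, nat_lit 12] [nat_lit 57] (.st (nat_lit 53) [nat_lit 3, nat_lit 11] [] (.st (nat_lit 54) (unp (nat_lit 5) (nat_lit 0x3bc303)) [] (.st (nat_lit 55) [nat_lit 3, nat_lit 12] [nat_lit 57] .nil)))))))))⟩)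
 (.lf ⟨nat_lit 0, nat_lit 49, nat_lit 49, (nat_lit 0x1b83d2413c1dbc1557085fa50601b07e39b9f355c), one, (nat_lit 0x1785dad8c614509bec4539d29c7547e7773a6c15e), (.inv (nat_lit 50))⟩)))
 (.nd (nat_lit 61) (.lf ⟨nat_lit 0, nat_lit 49, nat_lit 49, (nat_lit 0x98b2154ca236c43dec85ffc3fe2557b5e428d05c), one, (nat_lit 0x8be938d6b421a6b7314c7e01fca67031eb839ccb), (.prod [nat_lit 58, nat_lit 59])⟩)
 (.nd (nat_lit 62) (.lf ⟨nat_lit 1, nat_lit 49, nat_lit 61, (nat_lit 0x3b6020b1ee99f350ad1583cd87ceba46c32e15ab7), one, one, (.df [nat_lit 3])⟩)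
 (.lf ⟨nat_lit 0, nat_lit 61, nat_lit 61, (nat_lit 0x1e09eba24b57d5e67670e7f33d4d71ef2cf14b425), one, (nat_lit 0x1a36fac72f0e1f064ff05ec53564d5192eefa84ae), (.cmp (nat_lit 61) (nat_lit 61) (unp (nat_lit 5) (nat_lit 0x4be403)) [nat_lit 60, nat_lit 50])⟩)))))
 (.nd (nat_lit 69) (.nd (nat_lit 66) (.nd (nat_lit 64) (.lf ⟨nat_lit 1, nat_lit 61, nat_lit 49, one, (nat_lit 0x3b6020b1ee99f350ad1583cd87ceba46c32e15ab7), one, (.wt (nat_lit 0) (nat_lit 0) (nat_lit 0x3b6020b1ee99f350ad1583cd87ceba46c32e15ab7) (.st (nat_lit 61) [] [] .nil) [] [])⟩)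
 (.nd (nat_lit 65) (.lf ⟨nat_lit 1, nat_lit 61, nat_lit 64, (nat_lit 0x1fce42ed966b34fae64312a96f69e1eea7db1de4), one, one, (.df [nat_lit 8])⟩)
 (.lf ⟨nat_lit 1, nat_lit 64, nat_lit 61, one, (nat_lit 0x1fce42ed966b34fae64312a96f69e1eea7db1de4), one, (.wt (nat_lit 0) (nat_lit 0) (nat_lit 0x1fce42ed966b34fae64312a96f69e1eea7db1de4) (.st (nat_lit 64) [] [] .nil) [] [])⟩)))
 (.nd (nat_lit 67) (.lf ⟨nat_lit 1, nat_lit 64, nat_lit 61, (nat_lit 0x3b6020b1ee99f350ad1583cd87ceba46c32e15ab7), (nat_lit 0x208142c9371d116f63a9ae571b863149e4c3a9e26), (nat_lit 0x14b80cb6ebca23a7c50c7bd43ecc2b912b8f0d0de), (.wt (nat_lit 5) (nat_lit 2) (nat_lit 0x17075b37d16d38e80b2cebb83dd1b5776eb28350e) (.st (nat_lit 63) (unp (nat_lit 6) (nat_lit 0x980403)) [] (.st (nat_lit 52) (unp (nat_lit 5) (nat_lit 0x3fe403)) [nat_lit 60] (.st (nat_lit 49) (unp (nat_lit 5) (nat_lit 0x23c303))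 [nat_lit 46] (.st (nat_lit 52) [nat_lit 3, nat_lit 13] [nat_lit 60] (.st (nat_lit 49) [nat_lit 32, nat_lit 8] [nat_lit 41] (.st (nat_lit 61) (unp (nat_lit 5) (nat_lit 0x47e303)) [nat_lit 60] (.st (nat_lit 64) [nat_lit 4, nat_lit 14] [nat_lit 62] .nil))))))) [nat_lit 3, nat_lit 19] [])⟩)
 (.nd (nat_lit 68) (.lf ⟨nat_lit 0, nat_lit 64, nat_lit 64, (nat_lit 0x1eec39f1727ee1e3eff9172691c3c747f6b6ecc00), one, (nat_lit 0x16cd897ab01505ce47e5a0d7bd2b714ce478d30eb), (.we (nat_lit 0) (nat_lit 0) (nat_lit 0x3b6020b1ee99f350ad1583cd87ceba46c32e15ab7) (.st (nat_lit 66) [] [] (.st (nat_lit 64) (unp (nat_lit 6) (nat_lit 0x1180403)) [nat_lit 62] .nil)))⟩)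
 (.lf ⟨nat_lit 1, nat_lit 64, nat_lit 61, (nat_lit 0x9a472e71a6030c6693ace0c7e5978349d74b3855), (nat_lit 0x1aadeae81fa03fa234cc0d29e75d72068f479f22a), (nat_lit 0x33fed16bd7541e4771c50e2bbf37e1ccb464b3a9e), (.wt (nat_lit 5) (nat_lit 2) (nat_lit 0x16e3ab878ecaecdee67e003153bff636f7dfed6fe) (.st (nat_lit 63) (unp (nat_lit 6) (nat_lit 0xc80303)) [] (.st (nat_lit 52) (unp (nat_lit 5) (nat_lit 0x2fc303)) [] (.st (nat_lit 47) (unp (nat_lit 5) (nat_lit 0x3fc403)) [] (.st (nat_lit 37) [nat_lit 32, nat_lit 11] [nat_lit 3, nat_lit 34] (.st (nat_lit 49) [nat_lit 4, nat_lit 20] [nat_lit 41] (.st (nat_lit 61) (unp (nat_lit 6) (nat_lit 0xd80303)) [] (.st (nat_lit 64) [nat_lit 30, nat_lit 6] [nat_lit 62] .nil))))))) [nat_lit 30, nat_lit 9] [])⟩))))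
 (.nd (nat_lit 72) (.nd (nat_lit 70) (.lf ⟨nat_lit 0, nat_lit 64, nat_lit 64, (nat_lit 0x14958ad7e103008364905244342a553d5ea5c8444), one, (nat_lit 0x98b2154ca236c43dec85ffc3fe2557b5e428d05c), (.we (nat_lit 0) (nat_lit 0) (nat_lit 0x9a472e71a6030c6693ace0c7e5978349d74b3855) (.st (nat_lit 68) [] [] (.st (nat_lit 64) (unp (nat_lit 6) (nat_lit 0x1280303)) [nat_lit 62] .nil)))⟩)
 (.nd (nat_lit 71) (.lf ⟨nat_lit 0, nat_lit 64, nat_lit 64, (nat_lit 0x21da16808bcd5de69609f80d514b2f307b649a8b4), one, (nat_lit 0x8120571e18eae01047bad148cb05079600c46a64), (.prod [nat_lit 67, nat_lit 69])⟩)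
 (.lf ⟨nat_lit 0, nat_lit 64, nat_lit 64, (nat_lit 0x2d83a77ff1e69b2573d0ee89c562ef36af7506974), one, (nat_lit 0x21186d22aa5c742d2832af4a161a29870280b26f), (.inv (nat_lit 70))⟩)))
 (.nd (nat_lit 74) (.nd (nat_lit 73) (.lf ⟨nat_lit 0, nat_lit 64, nat_lit 64, (nat_lit 0x1e534bd4b33bf3c69fb92a379164c1c2c47fce02a), one, (nat_lit 0x68f70060803628d9124431100a606241a7d4c97e), (.prod (unp (nat_lit 7) (nat_lit 0x11e1c603)))⟩)
 (.lf ⟨nat_lit 0, nat_lit 61, nat_lit 61, (nat_lit 0x6df23067175ace1a6a90f928aae01c5b01285035), one, (nat_lit 0x4bcd175a4299bcf4b8d0265ad6fd4dd52b7214c7), (.cmp (nat_lit 65) (nat_lit 65) (unp (nat_lit 5) (nat_lit 0x4fe303)) [nat_lit 72, nat_lit 70])⟩))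
 (.nd (nat_lit 75) (.lf ⟨nat_lit 0, nat_lit 61, nat_lit 61, (nat_lit 0x236105b8a0404766063c4c098fa5b0f3c26e739a9), one, (nat_lit 0x29bd6124d69f5fd01c1139afc4eb5ed6937ca989), (.prod [nat_lit 62, nat_lit 73])⟩)
 (.lf ⟨nat_lit 0, nat_lit 64, nat_lit 49, (nat_lit 0xb6640dad88c279bec6138a9ebbc678bb3ef898d7), one, (nat_lit 0x29bd6124d69f5fd01c1139afc4eb5ed6937ca989), (.cmp (nat_lit 64) (nat_lit 63) [nat_lit 4, nat_lit 19] [nat_lit 74])⟩))))))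
 (.nd (nat_lit 89) (.nd (nat_lit 82) (.nd (nat_lit 79) (.nd (nat_lit 77) (.lf ⟨nat_lit 0, nat_lit 49, nat_lit 64, (nat_lit 0x740c002fe864a17713590fcce1cd7a0f34e77dd3), one, (nat_lit 0x5971714955ee9304d2deb51e4ae922f5701011f7), (.inv (nat_lit 75))⟩)
 (.nd (nat_lit 78) (.lf ⟨nat_lit 0, nat_lit 49, nat_lit 49, (nat_lit 0xa8b2e7196c78218099a844af4bb54b3272a703c), one, (nat_lit 0x154c8a188115ff807c0026da20701652e260928c5), (.prod (unp (nat_lit 7) (nat_lit 0x12e1cc03)))⟩)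
 (.lf ⟨nat_lit 0, nat_lit 49, nat_lit 49, (nat_lit 0x27886d5f2d21155f20e72f284280a739b940580), one, (nat_lit 0x1c2dc834c117cc9be475051e9326443f773ad7902), (.inv (nat_lit 51))⟩)))
 (.nd (nat_lit 80) (.lf ⟨nat_lit 0, nat_lit 49, nat_lit 49, (nat_lit 0x16d72a8d7d3d0f8a823d4702b2c6d7a8aea754c6d), one, (nat_lit 0x48a0014643e668e9b4d2e03b35ed30664a10ecde), (.prod (unp (nat_lit 7) (nat_lit 0x13a6b303)))⟩)
 (.nd (nat_lit 81) (.lf ⟨nat_lit 0, nat_lit 49, nat_lit 49, (nat_lit 0x335293620e111e50ad0f523504bfc98ac4f20a1f3), one, (nat_lit 0x31b73f9a4d70501cfc6a6369132564f593111dff0), (.prod [nat_lit 79, nat_lit 60])⟩)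
 (.lf ⟨nat_lit 0, nat_lit 49, nat_lit 49, (nat_lit 0x48a0014643e668e9b4d2e03b35ed30664a10ecde), one, (nat_lit 0x135e171446b8665be08be2d2219b395507e6e9f2), (.prod [nat_lit 80, nat_lit 79])⟩))))
 (.nd (nat_lit 85) (.nd (nat_lit 83) (.lf ⟨nat_lit 0, nat_lit 49, nat_lit 37, (nat_lit 0x14ba033e1ccdfb19a43977e5bafdffd1c0bcb6ba9), one, (nat_lit 0x314d6f110b9829e4fab08f286313f2bfaff96efda), (.cmp (nat_lit 53) (nat_lit 52) [nat_lit 32, nat_lit 18] [nat_lit 81, nat_lit 77])⟩)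
 (.nd (nat_lit 84) (.lf ⟨nat_lit 0, nat_lit 37, nat_lit 49, (nat_lit 0x27c68fbc1a882f6ad85a530a1379b557e09b7f72), one, (nat_lit 0x3ffdcfa32dcf5c42bcc0f12b742cb755c18d84e61), (.inv (nat_lit 82))⟩)
 (.lf ⟨nat_lit 0, nat_lit 37, nat_lit 37, (nat_lit 0x236105b8a0404766063c4c098fa5b0f3c26e739a9), one, (nat_lit 0xfcaaa1b57e374e549ab383d9c6c504e96ef4bd6a), (.prod (unp (nat_lit 7) (nat_lit 0x14995303)))⟩)))
 (.nd (nat_lit 87) (.nd (nat_lit 86) (.lf ⟨nat_lit 0, nat_lit 37, nat_lit 37, (nat_lit 0xa2ea9a2d0d739cc971a9d423bd96b619a03ddbf2), one, (nat_lit 0xc8efb732b8cc6ed92274a9811f93637b14129ef5), (.inv (nat_lit 43))⟩)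
 (.lf ⟨nat_lit 0, nat_lit 37, nat_lit 37, (nat_lit 0x3f4cfb5efd843c9223f902eae739503436c0a1045), one, (nat_lit 0xc62408fa09b9db9ce3f3014103fa55227c46791c), (.prod [nat_lit 84, nat_lit 85])⟩))
 (.nd (nat_lit 88) (.lf ⟨nat_lit 0, nat_lit 37, nat_lit 37, (nat_lit 0x1584b14606c7d17c8500c93c2dc0c4bcae132a823), one, (nat_lit 0x1141c1aeb1e26c0104476f84481c863fc23823ad5), (.prod [nat_lit 39, nat_lit 86])⟩)
 (.lf ⟨nat_lit 0, nat_lit 37, nat_lit 37, (nat_lit 0x3012536c62912aa5952065cf4ae035c119205a05c), one, (nat_lit 0xf20133bb32f31cbd46cd0482611f4667a3cfc082), (.prod [nat_lit 86, nat_lit 45])⟩)))))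
 (.nd (nat_lit 95) (.nd (nat_lit 92) (.nd (nat_lit 90) (.lf ⟨nat_lit 0, nat_lit 37, nat_lit 37, (nat_lit 0x2f0bc84c1dd2dc457080ebe760d501b11b1d971be), one, (nat_lit 0xf20133bb32f31cbd46cd0482611f4667a3cfc082), (.inv (nat_lit 88))⟩)
 (.nd (nat_lit 91) (.lf ⟨nat_lit 0, nat_lit 37, nat_lit 37, (nat_lit 0x10003ee42b1dcfa59538adc760f734d392f56083c), one, (nat_lit 0x862b0e372164baa8a44520b2636a7a070ce350bb), (.prod (unp (nat_lit 7) (nat_lit 0x166b5603)))⟩)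
 (.lf ⟨nat_lit 0, nat_lit 37, nat_lit 37, (nat_lit 0x1de8be73b1042ea23c49f17504bff259e9a244555), one, (nat_lit 0x105f889bf84ba5216a50d0702eacb68cdacb59cb4), (.prod [nat_lit 46, nat_lit 90])⟩)))
 (.nd (nat_lit 93) (.lf ⟨nat_lit 0, nat_lit 37, nat_lit 1, (nat_lit 0x3da7253bdadf0e4c63e66dda1e0a6c555ea2b6373), one, (nat_lit 0x1ee35ee62970ce0500d08bb760d5b6a032680657c), (.cmp (nat_lit 48) (nat_lit 47) (unp (nat_lit 5) (nat_lit 0x27c403)) [nat_lit 86, nat_lit 87])⟩)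
 (.nd (nat_lit 94) (.lf ⟨nat_lit 0, nat_lit 49, nat_lit 1, (nat_lit 0x3ea8ba787e9e801316fbea8c81a59aae74667963d), one, (nat_lit 0x12039043a6092718f95caf72806334f068d2c67c0), (.cmp (nat_lit 49) (nat_lit 47) [nat_lit 32] [nat_lit 91, nat_lit 86])⟩)
 (.lf ⟨nat_lit 0, nat_lit 1, nat_lit 37, (nat_lit 0x2bb34d1c6690ddeb9586fa2b14438d326e4dfb7ee), one, (nat_lit 0x10003ee42b1dcfa59538adc760f734d392f56083c), (.inv (nat_lit 92))⟩))))
 (.nd (nat_lit 98) (.nd (nat_lit 96) (.lf ⟨nat_lit 0, nat_lit 1, nat_lit 1, (nat_lit 0x310079e6136eb800ec007e6000cb6bd3e81c0e), one, (nat_lit 0x133e1931986bdb68d8ecb338151da65f469c6ec08), (.prod (unp (nat_lit 7) (nat_lit 0x1769de03)))⟩)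
 (.nd (nat_lit 97) (.lf ⟨nat_lit 0, nat_lit 1, nat_lit 1, (nat_lit 0x1687e1cdf7ad552f2ca2d77e4075b9279d7fdbf75), one, (nat_lit 0xe466be6b35c0bdc389652e9c4a72b8e508620181), (.inv (nat_lit 23))⟩)
 (.lf ⟨nat_lit 0, nat_lit 1, nat_lit 1, (nat_lit 0x32eb01e524ba9ffc5d26178f4ac35386c0b5d8aeb), one, (nat_lit 0x3895467605afc0d69d950c2a2aa583daffa5ddacb), (.prod [nat_lit 95, nat_lit 96])⟩)))
 (.nd (nat_lit 100) (.nd (nat_lit 99) (.lf ⟨nat_lit 0, nat_lit 1, nat_lit 1, (nat_lit 0x2810443bd9a2ad708bf8e8a1451d34b0f4e8f470f), one, (nat_lit 0x3743969dbcda33b87a65722e69e92ada29ae59a8d), (.prod [nat_lit 8, nat_lit 97])⟩)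
 (.lf ⟨nat_lit 0, nat_lit 1, nat_lit 1, (nat_lit 0x2101002c2d39410bc49b20f171d53d405ba698223), one, (nat_lit 0x113a82ffd2fa1cfc14b0dde44999e309948c436c6), (.prod [nat_lit 97, nat_lit 3])⟩))
 (.nd (nat_lit 101) (.lf ⟨nat_lit 0, nat_lit 1, nat_lit 1, (nat_lit 0x13ea0bc0d56ce86cc9fd377d87ce81f0a0dee6589), one, (nat_lit 0x188bd3cd3baea2a890df6be633ee2a4f079f6e7a), (.prod [nat_lit 99, nat_lit 3])⟩)
 (.lf ⟨nat_lit 0, nat_lit 1, nat_lit 0, (nat_lit 0x3764f667a529d98823e07f0ee438ebbff912b0705), one, (nat_lit 0xeec2ffa7313504be97229fcbbbe15f53a1d6796), (.cmp (nat_lit 36) (nat_lit 35) (unp (nat_lit 5) (nat_lit 0x57c303)) [nat_lit 100, nat_lit 98])⟩)))))))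

noncomputable def T3 : Tr :=
  (.nd (nat_lit 51) T3_0
 T3_51)

noncomputable def q3_1_0 : Net :=
  mkNet (nat_lit 5) (nat_lit 10) (nat_lit 0x10000010040f00010)

noncomputable def q3_1_2 : Net :=
  mkNet (nat_lit 5) (nat_lit 10) (nat_lit 0x1440800300c0500801)

noncomputable def q3_1_4 : Net :=
  mkNet (nat_lit 5) (nat_lit 10) (nat_lit 0x10040f00044)

noncomputable def q3_1_8 : Net :=
  mkNet (nat_lit 5) (nat_lit 10) (nat_lit 0x110040010040f0cc54)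

noncomputable def q3_1_9 : Net :=
  mkNet (nat_lit 5) (nat_lit 10) (nat_lit 0x110040010040504410)

noncomputable def q3_1_10 : Net :=
  mkNet (nat_lit 5) (nat_lit 10) (nat_lit 0x40c0000000608804)

noncomputable def q3_1_11 : Net :=
  mkNet (nat_lit 5) (nat_lit 10) (nat_lit 0x4084010040200404)

noncomputable def q3_1_12 : Net :=
  mkNet (nat_lit 5) (nat_lit 10) (nat_lit 0x10044010040800454)

noncomputable def q3_1 : List Net :=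
  [q3_1_0, q3_1_0, q3_1_2, rv q3_1_2, q3_1_4, q3_1_4, Net.nil, Net.nil, q3_1_8, q3_1_9, q3_1_10, q3_1_11, q3_1_12]

noncomputable def Qs3 : List (ℕ × ℕ × List Net) :=
  [(nat_lit 10, nat_lit 5, q3_1)]

noncomputable def ls3 : List Ld :=
  [⟨[(nat_lit 3, [nat_lit 12]), (nat_lit 30, [nat_lit 11]), (nat_lit 11, (unp (nat_lit 4) (nat_lit 0xb948305)))], [⟨nat_lit 0, [nat_lit 0, nat_lit 2], (nat_lit 0xe102bf0afdfbf7efdfbf080c0840afdfbf040c3057efc1bf7efc100), nat_lit 16⟩, ⟨nat_lit 2, [nat_lit 0, nat_lit 1], (nat_lit 0x7efdfbf7efdfbf7efdfbf7efdfbf7efc1bf7efdfbf02fdf827e01fbf), nat_lit 4⟩, ⟨nat_lit 4, [nat_lit 0], (nat_lit 0x7efdfbf7efdfbf7efdfbf7efdfbf7efc0bf7efdfbf04fdf807efdfbf), nat_lit 3⟩], [[nat_lit 1], [nat_lit 3]], (nat_lit 0xc31944221020)⟩]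

noncomputable def lk3 : List (List ℕ) :=
  [[nat_lit 101]]

noncomputable def ds3 : List Nd :=
  []

noncomputable def ks3 : List ℕ :=
  []

def kc3 : List (ℕ × ℕ) := [(0, 1)]

theorem Rn4 : Nat.beq R4.length 20 = true := by decide +kernel

theorem Nn4 : Nat.beq N4.length 6 = true := by decide +kernel

theorem hr3 : relsOk mul one lc3 dom3 nodes3 1 (2 * 4) R4 sb3 1 rs3 = true := by decide +kernel

theorem hc3_0 : rng (chk mul one wf T3 lc3 (mapR (fun e => e.2.2) rs3) 1) (nat_lit 0) (nat_lit 102) = true := by decide +kernel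

theorem AQ3_1_p : actP 5 10 q3_1 13 = true := by decide +kernel

theorem AQ3_1_l_0 : rng (actL 5 10 q3_1 dom3 (2 * 4) us3) (nat_lit 0) (nat_lit 13) = true := by decide +kernel

theorem AQ3_1_r_0 : rng (fun i => relN 5 10 q3_1 (2 * 4) (nthD ([], nat_lit 0) R3 i)) (nat_lit 0) (nat_lit 14) = true := by decide +kernel

theorem la3 : ldA mul one T3 102 lc3 32 7 n3 ls3 1 = true := by decide +kernel

theorem lb3 : ldB 1920 Qs3 ls3 1 = true := by decide +kernel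

theorem dn3 : Nat.beq ds3.length 0 = true := by decide +kernel

theorem hk3 : ks3 = ds3.map Nd.k := by decide +kernel

theorem hkc3 : kc3 = (0, 1) :: ds3.map fun d => (d.k, d.c) := by decide +kernel

theorem lo3 : linkOk mul one T3 102 ks3 lk3 1 = true := by decide +kernel

theorem do3 : domOk dom3 [0, 1, 2, 3] nodes3 1 R4 sb3 1 = true := by decide +kernel

theorem hc3 : ∀ i < 102, (chk mul one wf T3 lc3 (mapR (fun e => e.2.2) rs3) 1) i = true :=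
  (rng_add rng_zero hc3_0)

theorem AQ3_1_l : ∀ i < 13, (actL 5 10 q3_1 dom3 (2 * 4) us3) i = true :=
  (rng_add rng_zero AQ3_1_l_0)

theorem AQ3_1_r : ∀ i < 14, (fun i => relN 5 10 q3_1 (2 * 4) (nthD ([], nat_lit 0) R3 i)) i = true :=
  (rng_add rng_zero AQ3_1_r_0)

theorem na3 : ∀ i < 0, (fun i => ndA mul one T3 102 lc3 32 7 n3 1920 (nthD ⟨nat_lit 0, nat_lit 0, [], [], []⟩ ds3 i)) i = true :=
  rng_zero

theorem nb3 : ∀ i < 0, (fun i => ndB mul one T3 102 lc3 ks3 Qs3 1 (nthD ⟨nat_lit 0, nat_lit 0, [], [], []⟩ ds3 i)) i = true :=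
  rng_zero

section
universe u v
variable {R : Type v} {ι : Type} [CommRing R] [Fintype ι] [DecidableEq ι] (V : VCod R ι 9 18 app wfT) (h2 : V.mat one = 1)

theorem AQ3_1 : Act.{0} (((S V h2).sub (mdl (g V h2) dom3)).gen lc3) 10 5 q3_1 :=
  act_of_up (L3 V h2) (U3 V h2) AQ3_1_p AQ3_1_l (by decide) (allR Rn3 AQ3_1_r)

theorem C3 : Cert.{u} ((S V h2).sub (mdl (g V h2) dom3)) T3 102 (mgen (g V h2) dom3) dom3 [0, 1, 2, 3] nodes3 1 (R3 ++ N4) kc3 :=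
  have := fin3 V h2
  cert_of (L3 V h2) (card3 V h2).le (A3 V h2) (Qs := Qs3) (List.forall_mem_cons.2 ⟨AQ3_1 V h2, List.forall_mem_nil _⟩) hr3 hc3 la3 lb3 hk3 (allR dn3 na3) (allR dn3 nb3) lo3 do3 hkc3

end

end L.HJcb
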