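import Cfsg.Agent.L.HJcAa

/-! Recognition of the second and third Janko groups: enumerations. Enumeration 3. -/

set_option maxRecDepth 100000
set_option Elab.async false

namespace L.HJcc
open H13 H15
open H15.J3 (one app wfT mul wf h1 S)
open L.HJc

noncomputable def N4 : List (List ℕ × ℕ) :=
  [([nat_lit 6], nat_lit 2),
  ((unp (nat_lit 3) (nat_lit 0xadd5dc4a60c)), nat_lit 1),
  ((unp (nat_lit 3) (nat_lit 0xcc204)), nat_lit 3),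
  ((unp (nat_lit 3) (nat_lit 0x330830860b)), nat_lit 1),
  ((unp (nat_lit 3) (nat_lit 0x594594d949b6525736126161f)), nat_lit 1),
  ((unp (nat_lit 3) (nat_lit 0x51e51e08)), nat_lit 5),
  ((unp (nat_lit 3) (nat_lit 0x56ea51e51e0a3ca3c147947828f28f029)), nat_lit 1)]

noncomputable def R4 : List (List ℕ × ℕ) :=
  R3 ++ N4

def nodes3 : List ℕ := [6]

def sb3 : List (ℕ × ℕ × ℕ) := [(7, 14, 0)]

noncomputable def rs3 : List (ℕ × ℕ × List (ℕ × ℕ)) :=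
  [(nat_lit 14, nat_lit 0, [(nat_lit 1, (nat_lit 0x100002000040000800010000200004000080001)), (nat_lit 1, (nat_lit 0x100002000040000800010000200004000080001))]),
  (nat_lit 15, nat_lit 7, [(nat_lit 1, (nat_lit 0x1ee35ee62970ce0500d08bb760d5b6a032680657c)), (nat_lit 1, (nat_lit 0x10003ee42b1dcfa59538adc760f734d392f56083c))]),
  (nat_lit 16, nat_lit 0, [(nat_lit 1, (nat_lit 0x100e0aba0d17c70444d02bf329fd10d7608f1b426)), (nat_lit 1, (nat_lit 0x100e0aba0d17c70444d02bf329fd10d7608f1b426)), (nat_lit 1, (nat_lit 0x100e0aba0d17c70444d02bf329fd10d7608f1b426))]),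
  (nat_lit 17, nat_lit 10, [(nat_lit 1, (nat_lit 0x105f889bf84ba5216a50d0702eacb68cdacb59cb4)), (nat_lit 1, (nat_lit 0x1f17ab37d3680aec186d2ec989b1805c40f0c3439))]),
  (nat_lit 18, nat_lit 10, [(nat_lit 1, (nat_lit 0x1687e1cdf7ad552f2ca2d77e4075b9279d7fdbf75)), (nat_lit 1, (nat_lit 0x1da703b34f00a0fd10b79be740d98950a80900c4f))]),
  (nat_lit 19, nat_lit 37, [(nat_lit 1, (nat_lit 0x1ff2a83cf20d718d3de5bc1982cba772f232b29e5)), (nat_lit 1, (nat_lit 0x1ff2a83cf20d718d3de5bc1982cba772f232b29e5)), (nat_lit 1, (nat_lit 0x1ff2a83cf20d718d3de5bc1982cba772f232b29e5)), (nat_lit 1, (nat_lit 0x1ff2a83cf20d718d3de5bc1982cba772f232b29e5)), (nat_lit 1, (nat_lit 0x1ff2a83cf20d718d3de5bc1982cba772f232b29e5)), (nat_lit 1, (nat_lit 0x1ff2a83cf20d718d3de5bc1982cba772f232b29e5)), (nat_lit 1, (nat_lit 0x1ff2a83cf20d718d3de5bc1982cba772f232b29e5)), (nat_lit 1, (nat_lit 0x1ff2a83cf20d718d3de5bc1982cba772f232b29e5)),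 (nat_lit 1, (nat_lit 0x1ff2a83cf20d718d3de5bc1982cba772f232b29e5)), (nat_lit 1, (nat_lit 0x1ff2a83cf20d718d3de5bc1982cba772f232b29e5))]),
  (nat_lit 20, nat_lit 33, [(nat_lit 1, (nat_lit 0x1ff2a83cf20d718d3de5bc1982cba772f232b29e5)), (nat_lit 1, (nat_lit 0x3aa136d7dd3464bfa00893d2d46909716236da798)), (nat_lit 1, (nat_lit 0x1ff2a83cf20d718d3de5bc1982cba772f232b29e5)), (nat_lit 1, (nat_lit 0x3aa136d7dd3464bfa00893d2d46909716236da798)), (nat_lit 1, (nat_lit 0x1ff2a83cf20d718d3de5bc1982cba772f232b29e5)), (nat_lit 1, (nat_lit 0x3aa136d7dd3464bfa00893d2d46909716236da798)), (nat_lit 1, (nat_lit 0x1ff2a83cf20d718d3de5bc1982cba772f232b29e5)), (nat_lit 1, (nat_lit 0x27599493763bbdbb4a8e307d7ebdbc3880aa7ac87))])]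

noncomputable def T3_0 : Tr :=
  (.nd (nat_lit 21) (.nd (nat_lit 10) (.nd (nat_lit 5) (.nd (nat_lit 2) (.nd (nat_lit 1) (.lf ⟨nat_lit 0, nat_lit 0, nat_lit 0, one, one, one, .triv⟩)
 (.lf ⟨nat_lit 0, nat_lit 0, nat_lit 0, one, one, one, .triv⟩))
 (.nd (nat_lit 3) (.lf ⟨nat_lit 1, nat_lit 1, nat_lit 0, (nat_lit 0x1ee35ee62970ce0500d08bb760d5b6a032680657c), (nat_lit 0x1ee35ee62970ce0500d08bb760d5b6a032680657c), one, (.wt (nat_lit 1) (nat_lit 0) one (.sp .nil) [] [])⟩)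
 (.nd (nat_lit 4) (.lf ⟨nat_lit 0, nat_lit 1, nat_lit 1, (nat_lit 0x1ee35ee62970ce0500d08bb760d5b6a032680657c), one, (nat_lit 0x1ee35ee62970ce0500d08bb760d5b6a032680657c), (.we (nat_lit 0) (nat_lit 1) (nat_lit 0x1ee35ee62970ce0500d08bb760d5b6a032680657c) (.st (nat_lit 2) [] [] (.sp .nil)))⟩)
 (.lf ⟨nat_lit 0, nat_lit 1, nat_lit 1, (nat_lit 0x10003ee42b1dcfa59538adc760f734d392f56083c), one, (nat_lit 0x10003ee42b1dcfa59538adc760f734d392f56083c), (.prod [nat_lit 3, nat_lit 3])⟩))))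
 (.nd (nat_lit 7) (.nd (nat_lit 6) (.lf ⟨nat_lit 1, nat_lit 1, nat_lit 0, (nat_lit 0x105f889bf84ba5216a50d0702eacb68cdacb59cb4), (nat_lit 0x1f17ab37d3680aec186d2ec989b1805c40f0c3439), one, (.wt (nat_lit 3) (nat_lit 0) one (.sp .nil) [] [])⟩)
 (.lf ⟨nat_lit 0, nat_lit 1, nat_lit 1, (nat_lit 0x105f889bf84ba5216a50d0702eacb68cdacb59cb4), one, (nat_lit 0x1f17ab37d3680aec186d2ec989b1805c40f0c3439), (.we (nat_lit 0) (nat_lit 1) (nat_lit 0x105f889bf84ba5216a50d0702eacb68cdacb59cb4) (.st (nat_lit 5) [] [] (.sp .nil)))⟩))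
 (.nd (nat_lit 8) (.lf ⟨nat_lit 1, nat_lit 1, nat_lit 0, (nat_lit 0x1f17ab37d3680aec186d2ec989b1805c40f0c3439), (nat_lit 0x105f889bf84ba5216a50d0702eacb68cdacb59cb4), one, (.wt (nat_lit 3) (nat_lit 1) one (.sp .nil) [] [])⟩)
 (.nd (nat_lit 9) (.lf ⟨nat_lit 0, nat_lit 1, nat_lit 1, (nat_lit 0x1f17ab37d3680aec186d2ec989b1805c40f0c3439), one, (nat_lit 0x105f889bf84ba5216a50d0702eacb68cdacb59cb4), (.we (nat_lit 0) (nat_lit 1) (nat_lit 0x1f17ab37d3680aec186d2ec989b1805c40f0c3439) (.st (nat_lit 7) [] [] (.sp .nil)))⟩)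
 (.lf ⟨nat_lit 0, nat_lit 1, nat_lit 1, (nat_lit 0xf5823ae2b3588c8e3fdffba9e8d20b3ac39d7087), one, (nat_lit 0xf5823ae2b3588c8e3fdffba9e8d20b3ac39d7087), (.prod [nat_lit 6, nat_lit 8])⟩)))))
 (.nd (nat_lit 15) (.nd (nat_lit 12) (.nd (nat_lit 11) (.lf ⟨nat_lit 1, nat_lit 1, nat_lit 0, (nat_lit 0x1687e1cdf7ad552f2ca2d77e4075b9279d7fdbf75), (nat_lit 0xe466be6b35c0bdc389652e9c4a72b8e508620181), one, (.wt (nat_lit 4) (nat_lit 0) one (.sp .nil) [] [])⟩)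
 (.lf ⟨nat_lit 0, nat_lit 1, nat_lit 1, (nat_lit 0x1687e1cdf7ad552f2ca2d77e4075b9279d7fdbf75), one, (nat_lit 0xe466be6b35c0bdc389652e9c4a72b8e508620181), (.we (nat_lit 0) (nat_lit 1) (nat_lit 0x1687e1cdf7ad552f2ca2d77e4075b9279d7fdbf75) (.st (nat_lit 10) [] [] (.sp .nil)))⟩))
 (.nd (nat_lit 13) (.lf ⟨nat_lit 0, nat_lit 1, nat_lit 1, (nat_lit 0xb48da6dbcdbbec10d7ee0c57c96eaaa39d15025e), one, (nat_lit 0x1da703b34f00a0fd10b79be740d98950a80900c4f), (.prod [nat_lit 6, nat_lit 11])⟩)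
 (.nd (nat_lit 14) (.lf ⟨nat_lit 0, nat_lit 1, nat_lit 1, (nat_lit 0x8e63aa1b814fbf745cff8bb8ff826f7280ea5d49), one, (nat_lit 0x1f6f9326d7c60ac923c68395ac37828e7fccc4b30), (.prod [nat_lit 8, nat_lit 11])⟩)
 (.lf ⟨nat_lit 0, nat_lit 1, nat_lit 1, (nat_lit 0x15290101f374771cfdd3cf038aab631dbaa2e3869), one, (nat_lit 0xc8efb732b8cc6ed92274a9811f93637b14129ef5), (.prod [nat_lit 9, nat_lit 11])⟩))))
 (.nd (nat_lit 18) (.nd (nat_lit 16) (.lf ⟨nat_lit 0, nat_lit 1, nat_lit 1, (nat_lit 0xfccab2fea80340cbf61cf35d0b59b9d4adc43e1e), one, (nat_lit 0x3139f9b77e839bb8eba1435077a9cdccbcdabb634), (.prod [nat_lit 11, nat_lit 3])⟩)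
 (.nd (nat_lit 17) (.lf ⟨nat_lit 0, nat_lit 1, nat_lit 1, (nat_lit 0x11ad7be3ecca859b8ac250531975d2343651eeeae), one, (nat_lit 0x3e71d24eaa84a28abefeda0608e921ff2d1a2cc38), (.prod [nat_lit 12, nat_lit 3])⟩)
 (.lf ⟨nat_lit 0, nat_lit 1, nat_lit 1, (nat_lit 0xc62408fa09b9db9ce3f3014103fa55227c46791c), one, (nat_lit 0x2e3e5a42c9d25a690203ba4d399c471e08f6a8a6e), (.prod [nat_lit 13, nat_lit 3])⟩)))
 (.nd (nat_lit 19) (.lf ⟨nat_lit 0, nat_lit 1, nat_lit 1, (nat_lit 0x12039043a6092718f95caf72806334f068d2c67c0), one, (nat_lit 0x217671bb1d0d686d559c231b1f407326aaad33e0e), (.prod [nat_lit 14, nat_lit 3])⟩)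
 (.nd (nat_lit 20) (.lf ⟨nat_lit 0, nat_lit 1, nat_lit 1, (nat_lit 0x194b40ebc1c2572393c3184b90c0cd8cd7a39816b), one, (nat_lit 0x19ab81ed15df905f1eb711b3bad06435ec5c9b7b5), (.prod [nat_lit 15, nat_lit 3])⟩)
 (.lf ⟨nat_lit 0, nat_lit 1, nat_lit 1, (nat_lit 0x3f17a0ad3bbb80b968ec7fda65f8261fc0adc3055), one, (nat_lit 0x1c8ecb76742a88a610646281907901380d54096c9), (.prod [nat_lit 15, nat_lit 11])⟩))))))
 (.nd (nat_lit 31) (.nd (nat_lit 26) (.nd (nat_lit 23) (.nd (nat_lit 22) (.lf ⟨nat_lit 0, nat_lit 1, nat_lit 1, (nat_lit 0x1ae5ab878cfe0d5a87bcb09665e3d7a80f80becf0), one, (nat_lit 0x502c2413d84024c63c941eb41ee2ad885132c077), (.prod [nat_lit 16, nat_lit 3])⟩)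
 (.lf ⟨nat_lit 0, nat_lit 1, nat_lit 1, (nat_lit 0x201003011008a45038026000580180440d0683219), one, (nat_lit 0x1e4650d63eda2b29a3b67b6b3cbfd4fddfd14f7b5), (.prod [nat_lit 16, nat_lit 11])⟩))
 (.nd (nat_lit 24) (.lf ⟨nat_lit 0, nat_lit 1, nat_lit 1, (nat_lit 0xb48da6dbcdbbec10d7ee0c57c96eaaa39d15025e), one, (nat_lit 0x1da703b34f00a0fd10b79be740d98950a80900c4f), (.prod [nat_lit 6, nat_lit 11])⟩)
 (.nd (nat_lit 25) (.lf ⟨nat_lit 0, nat_lit 1, nat_lit 1, (nat_lit 0x8e63aa1b814fbf745cff8bb8ff826f7280ea5d49), one, (nat_lit 0x1f6f9326d7c60ac923c68395ac37828e7fccc4b30), (.prod [nat_lit 8, nat_lit 11])⟩)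
 (.lf ⟨nat_lit 0, nat_lit 1, nat_lit 1, (nat_lit 0xfccab2fea80340cbf61cf35d0b59b9d4adc43e1e), one, (nat_lit 0x3139f9b77e839bb8eba1435077a9cdccbcdabb634), (.prod [nat_lit 11, nat_lit 3])⟩))))
 (.nd (nat_lit 28) (.nd (nat_lit 27) (.lf ⟨nat_lit 0, nat_lit 1, nat_lit 1, (nat_lit 0x11ad7be3ecca859b8ac250531975d2343651eeeae), one, (nat_lit 0x3e71d24eaa84a28abefeda0608e921ff2d1a2cc38), (.prod [nat_lit 23, nat_lit 3])⟩)
 (.lf ⟨nat_lit 0, nat_lit 1, nat_lit 1, (nat_lit 0x194b40ebc1c2572393c3184b90c0cd8cd7a39816b), one, (nat_lit 0x19ab81ed15df905f1eb711b3bad06435ec5c9b7b5), (.prod [nat_lit 25, nat_lit 3])⟩))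
 (.nd (nat_lit 29) (.lf ⟨nat_lit 0, nat_lit 1, nat_lit 1, (nat_lit 0x1ae5ab878cfe0d5a87bcb09665e3d7a80f80becf0), one, (nat_lit 0x502c2413d84024c63c941eb41ee2ad885132c077), (.prod [nat_lit 26, nat_lit 3])⟩)
 (.nd (nat_lit 30) (.lf ⟨nat_lit 1, nat_lit 1, nat_lit 0, (nat_lit 0x1da703b34f00a0fd10b79be740d98950a80900c4f), (nat_lit 0xb48da6dbcdbbec10d7ee0c57c96eaaa39d15025e), one, (.wt (nat_lit 4) (nat_lit 1) one (.sp .nil) [] [])⟩)
 (.lf ⟨nat_lit 0, nat_lit 1, nat_lit 1, (nat_lit 0x1da703b34f00a0fd10b79be740d98950a80900c4f), one, (nat_lit 0xb48da6dbcdbbec10d7ee0c57c96eaaa39d15025e), (.we (nat_lit 0) (nat_lit 1) (nat_lit 0x1da703b34f00a0fd10b79be740d98950a80900c4f) (.st (nat_lit 29) [] [] (.sp .nil)))⟩)))))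
 (.nd (nat_lit 36) (.nd (nat_lit 33) (.nd (nat_lit 32) (.lf ⟨nat_lit 0, nat_lit 1, nat_lit 1, (nat_lit 0x88278b68c34ad18f165e3342438a0200295c67c1), one, (nat_lit 0x2166738bec75d24e7294e9d92d918764f49333e0f), (.inv (nat_lit 18))⟩)
 (.lf ⟨nat_lit 0, nat_lit 1, nat_lit 1, (nat_lit 0x1f481347ebe334a70b6b3939b8e207e5d4a51b440), one, (nat_lit 0x7ca567dd30d58922be2dce626effc4f6e2a710ed), (.prod [nat_lit 30, nat_lit 31])⟩))
 (.nd (nat_lit 34) (.lf ⟨nat_lit 0, nat_lit 1, nat_lit 1, (nat_lit 0x1cb949980a7102eefd9cbcd339e6700f449bb75a6), one, (nat_lit 0xde880979a19e183f990488a2146d7c9dac5e4d69), (.prod [nat_lit 32, nat_lit 3])⟩)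
 (.nd (nat_lit 35) (.lf ⟨nat_lit 0, nat_lit 1, nat_lit 1, (nat_lit 0xd0230d63d7d0049f6d151f3340098dc903e84391), one, (nat_lit 0x2cf6c6ea4b96ce8a821440760e7746c7b4efbdff3), (.prod [nat_lit 33, nat_lit 3])⟩)
 (.lf ⟨nat_lit 0, nat_lit 1, nat_lit 1, (nat_lit 0x141fa1b56db8c2771d3150c96d54dd097535c483), one, (nat_lit 0x24c1b98ea97e97e74d7fc0f9b0fd1653697f935c), (.inv (nat_lit 27))⟩))))
 (.nd (nat_lit 39) (.nd (nat_lit 37) (.lf ⟨nat_lit 0, nat_lit 1, nat_lit 1, (nat_lit 0xeaad67fd11c5b9223e2ddec3fe3fc4bea7a101af), one, (nat_lit 0xfcaaa1b57e374e549ab383d9c6c504e96ef4bd6a), (.prod [nat_lit 30, nat_lit 35])⟩)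
 (.nd (nat_lit 38) (.lf ⟨nat_lit 1, nat_lit 1, nat_lit 0, one, one, one, (.wt (nat_lit 0) (nat_lit 0) one (.sp .nil) [] [])⟩)
 (.lf ⟨nat_lit 1, nat_lit 1, nat_lit 1, (nat_lit 0x100e0aba0d17c70444d02bf329fd10d7608f1b426), (nat_lit 0x100e0aba0d17c70444d02bf329fd10d7608f1b426), (nat_lit 0x100e0aba0d17c70444d02bf329fd10d7608f1b426), (.wt (nat_lit 2) (nat_lit 0) one (.st (nat_lit 37) [] [] (.sp .nil)) [] [])⟩)))
 (.nd (nat_lit 40) (.lf ⟨nat_lit 1, nat_lit 1, nat_lit 39, (nat_lit 0x3b6020b1ee99f350ad1583cd87ceba46c32e15ab7), one, one, (.df [nat_lit 3])⟩)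
 (.nd (nat_lit 41) (.lf ⟨nat_lit 0, nat_lit 39, nat_lit 39, (nat_lit 0x1f481347ebe334a70b6b3939b8e207e5d4a51b440), one, (nat_lit 0x1ee35ee62970ce0500d08bb760d5b6a032680657c), (.cmp (nat_lit 39) (nat_lit 39) [nat_lit 3, nat_lit 33] [nat_lit 3])⟩)
 (.lf ⟨nat_lit 0, nat_lit 39, nat_lit 39, (nat_lit 0xfcaaa1b57e374e549ab383d9c6c504e96ef4bd6a), one, (nat_lit 0x10003ee42b1dcfa59538adc760f734d392f56083c), (.prod [nat_lit 40, nat_lit 40])⟩)))))))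

noncomputable def T3_42 : Tr :=
  (.nd (nat_lit 63) (.nd (nat_lit 52) (.nd (nat_lit 47) (.nd (nat_lit 44) (.nd (nat_lit 43) (.lf ⟨nat_lit 0, nat_lit 39, nat_lit 39, (nat_lit 0x1f17ab37d3680aec186d2ec989b1805c40f0c3439), one, (nat_lit 0x1f17ab37d3680aec186d2ec989b1805c40f0c3439), (.cmp (nat_lit 39) (nat_lit 39) [nat_lit 8] [nat_lit 6])⟩)
 (.lf ⟨nat_lit 0, nat_lit 39, nat_lit 39, (nat_lit 0xe61e38bec712a461515696e1bcf96e38c0a60401), one, (nat_lit 0x10cd06264ca2eb42128e7499f84c57846e90ee5fd), (.prod [nat_lit 40, nat_lit 42])⟩))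
 (.nd (nat_lit 45) (.lf ⟨nat_lit 0, nat_lit 39, nat_lit 39, (nat_lit 0x1e4f1e2831920e847b847a3b6d041108eb073913), one, (nat_lit 0x129cd119da7a00e970b7d2071ff55af8efdcbc85), (.prod [nat_lit 41, nat_lit 42])⟩)
 (.nd (nat_lit 46) (.lf ⟨nat_lit 0, nat_lit 39, nat_lit 39, (nat_lit 0x144f71aeb2b26463c2b6d4f30c0d3e252450edb2b), one, (nat_lit 0x1f6f9326d7c60ac923c68395ac37828e7fccc4b30), (.cmp (nat_lit 39) (nat_lit 39) (unp (nat_lit 6) (nat_lit 0xd80303)) [nat_lit 24])⟩)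
 (.lf ⟨nat_lit 0, nat_lit 39, nat_lit 39, (nat_lit 0x1f481347ebe334a70b6b3939b8e207e5d4a51b440), one, (nat_lit 0x1ee35ee62970ce0500d08bb760d5b6a032680657c), (.inv (nat_lit 41))⟩))))
 (.nd (nat_lit 49) (.nd (nat_lit 48) (.lf ⟨nat_lit 0, nat_lit 39, nat_lit 39, (nat_lit 0x2cf6c6ea4b96ce8a821440760e7746c7b4efbdff3), one, (nat_lit 0xbcc58b68eda6baf80b67a6638ac95f5dfd1cf7b4), (.prod (unp (nat_lit 6) (nat_lit 0x2eb6803)))⟩)
 (.lf ⟨nat_lit 0, nat_lit 39, nat_lit 39, (nat_lit 0x2ce6c6e84b968e8b851402b61ea742ffaae0bdff2), one, (nat_lit 0x1e4650d63eda2b29a3b67b6b3cbfd4fddfd14f7b5), (.prod [nat_lit 47, nat_lit 47])⟩))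
 (.nd (nat_lit 50) (.lf ⟨nat_lit 1, nat_lit 39, nat_lit 1, one, (nat_lit 0x3b6020b1ee99f350ad1583cd87ceba46c32e15ab7), one, (.wt (nat_lit 0) (nat_lit 0) (nat_lit 0x3b6020b1ee99f350ad1583cd87ceba46c32e15ab7) (.st (nat_lit 39) [] [] .nil) [] [])⟩)
 (.nd (nat_lit 51) (.lf ⟨nat_lit 1, nat_lit 39, nat_lit 39, (nat_lit 0x100e0aba0d17c70444d02bf329fd10d7608f1b426), (nat_lit 0x302b154fb7995a5b3b2550e2002a535d7e5d04566), (nat_lit 0x105f889bf84ba5216a50d0702eacb68cdacb59cb4), (.wt (nat_lit 2) (nat_lit 2) (nat_lit 0x9804a5765266ab55a26058f43224121f97935816) (.st (nat_lit 49) [nat_lit 3, nat_lit 19] [] (.st (nat_lit 39) [] [nat_lit 8] .nil)) [] [])⟩)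
 (.lf ⟨nat_lit 1, nat_lit 39, nat_lit 51, (nat_lit 0x3b6020b1ee99f350ad1583cd87ceba46c32e15ab7), one, one, (.df [nat_lit 3])⟩)))))
 (.nd (nat_lit 57) (.nd (nat_lit 54) (.nd (nat_lit 53) (.lf ⟨nat_lit 0, nat_lit 51, nat_lit 51, (nat_lit 0x27886d5f2d21155f20e72f284280a739b940580), one, (nat_lit 0x1c2dc834c117cc9be475051e9326443f773ad7902), (.cmp (nat_lit 51) (nat_lit 51) (unp (nat_lit 6) (nat_lit 0x1680403)) [nat_lit 47, nat_lit 44])⟩)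
 (.lf ⟨nat_lit 0, nat_lit 51, nat_lit 51, (nat_lit 0x1b83d2413c1dbc1557085fa50601b07e39b9f355c), one, (nat_lit 0x1785dad8c614509bec4539d29c7547e7773a6c15e), (.prod [nat_lit 52, nat_lit 52])⟩))
 (.nd (nat_lit 55) (.lf ⟨nat_lit 1, nat_lit 51, nat_lit 39, one, (nat_lit 0x3b6020b1ee99f350ad1583cd87ceba46c32e15ab7), one, (.wt (nat_lit 0) (nat_lit 0) (nat_lit 0x3b6020b1ee99f350ad1583cd87ceba46c32e15ab7) (.st (nat_lit 51) [] [] .nil) [] [])⟩)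
 (.nd (nat_lit 56) (.lf ⟨nat_lit 1, nat_lit 51, nat_lit 51, (nat_lit 0x100e0aba0d17c70444d02bf329fd10d7608f1b426), (nat_lit 0x2a8906d58172ec9055249ba5115c9c037e3b941a0), (nat_lit 0xb2c9974ee81aebb0a3b69890767c7661bec1a0fb), (.wt (nat_lit 2) (nat_lit 2) (nat_lit 0x23aeeee429463e09abe74cacbff7a256f927f45f3) (.st (nat_lit 54) (unp (nat_lit 6) (nat_lit 0x884403)) [] (.st (nat_lit 51) [nat_lit 34, nat_lit 11] [nat_lit 47, nat_lit 41] .nil)) [nat_lit 18] [])⟩)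
 (.lf ⟨nat_lit 1, nat_lit 51, nat_lit 56, (nat_lit 0x29d069dd4289881cb0b1977aaf1daee2c113e4bec), one, one, (.df [nat_lit 2])⟩))))
 (.nd (nat_lit 60) (.nd (nat_lit 58) (.lf ⟨nat_lit 0, nat_lit 56, nat_lit 56, (nat_lit 0x2166738bec75d24e7294e9d92d918764f49333e0f), one, (nat_lit 0x1c2dc834c117cc9be475051e9326443f773ad7902), (.cmp (nat_lit 56) (nat_lit 56) [nat_lit 33, nat_lit 20] [nat_lit 52])⟩)
 (.nd (nat_lit 59) (.lf ⟨nat_lit 0, nat_lit 56, nat_lit 56, (nat_lit 0x217671bb1d0d686d559c231b1f407326aaad33e0e), one, (nat_lit 0x1785dad8c614509bec4539d29c7547e7773a6c15e), (.prod [nat_lit 57, nat_lit 57])⟩)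
 (.lf ⟨nat_lit 1, nat_lit 56, nat_lit 51, one, (nat_lit 0x29d069dd4289881cb0b1977aaf1daee2c113e4bec), one, (.wt (nat_lit 0) (nat_lit 0) (nat_lit 0x29d069dd4289881cb0b1977aaf1daee2c113e4bec) (.st (nat_lit 56) [] [] .nil) [] [])⟩)))
 (.nd (nat_lit 61) (.lf ⟨nat_lit 1, nat_lit 56, nat_lit 51, (nat_lit 0x2ba2cea7bd829f6f53bc17c3f6c7dba59a18cc2c5), (nat_lit 0x1cb0d7507ab2a1ad6c9bec137e42c3c018d023d4d), (nat_lit 0x86ad1ff6a33f145f4194337adc5138ad8c9bdcb7), (.wt (nat_lit 6) (nat_lit 2) (nat_lit 0x10e4101f00faf42cdfc15aeb1f6e6b0be4f5696c) (.st (nat_lit 54) (unp (nat_lit 6) (nat_lit 0xf88303)) [] (.st (nat_lit 49) (unp (nat_lit 6) (nat_lit 0x1484303)) [] (.st (nat_lit 37) (unp (nat_lit 6) (nat_lit 0x1380403)) [] (.sp (.st (nat_lit 39) [nat_lit 4, nat_lit 33] [nat_lit 8] (.st (nat_lit 51) (unp (nat_lit 6) (nat_lit 0x1188303)) [nat_lit 48, nat_lit 41] (.st (nat_lit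 56) (unp (nat_lit 6) (nat_lit 0xd80303)) [] .nil))))))) (unp (nat_lit 6) (nat_lit 0xf80403)) [])⟩)
 (.nd (nat_lit 62) (.lf ⟨nat_lit 0, nat_lit 56, nat_lit 56, (nat_lit 0xe4ec14e9a160fc505e0b2c71efc21ecb4e09b4b3), one, (nat_lit 0x86ad1ff6a33f145f4194337adc5138ad8c9bdcb7), (.we (nat_lit 0) (nat_lit 0) (nat_lit 0x2ba2cea7bd829f6f53bc17c3f6c7dba59a18cc2c5) (.st (nat_lit 60) [] [] (.st (nat_lit 56) (unp (nat_lit 6) (nat_lit 0x1688303)) [] .nil)))⟩)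
 (.lf ⟨nat_lit 0, nat_lit 56, nat_lit 56, (nat_lit 0xc5e71250a7eeeee29cd26a3a8a9d589a2afcb57c), one, (nat_lit 0x13ea0bc0d56ce86cc9fd377d87ce81f0a0dee6589), (.prod [nat_lit 57, nat_lit 61])⟩))))))
 (.nd (nat_lit 73) (.nd (nat_lit 68) (.nd (nat_lit 65) (.nd (nat_lit 64) (.lf ⟨nat_lit 0, nat_lit 56, nat_lit 56, (nat_lit 0x210b25961101b0803255fa684a400234871d01cf), one, (nat_lit 0x1038c8d1b85cc5293dd44986257891a6781760163), (.prod [nat_lit 58, nat_lit 61])⟩)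
 (.lf ⟨nat_lit 1, nat_lit 51, nat_lit 64, (nat_lit 0x2ba2cea7bd829f6f53bc17c3f6c7dba59a18cc2c5), one, one, (.df [nat_lit 2, nat_lit 0])⟩))
 (.nd (nat_lit 66) (.lf ⟨nat_lit 0, nat_lit 64, nat_lit 64, (nat_lit 0x2166738bec75d24e7294e9d92d918764f49333e0f), one, (nat_lit 0x1c2dc834c117cc9be475051e9326443f773ad7902), (.cmp (nat_lit 64) (nat_lit 64) [nat_lit 33, nat_lit 20] [nat_lit 52])⟩)
 (.nd (nat_lit 67) (.lf ⟨nat_lit 0, nat_lit 64, nat_lit 64, (nat_lit 0x217671bb1d0d686d559c231b1f407326aaad33e0e), one, (nat_lit 0x1785dad8c614509bec4539d29c7547e7773a6c15e), (.prod [nat_lit 65, nat_lit 65])⟩)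
 (.lf ⟨nat_lit 1, nat_lit 64, nat_lit 51, one, (nat_lit 0x2ba2cea7bd829f6f53bc17c3f6c7dba59a18cc2c5), one, (.wt (nat_lit 0) (nat_lit 0) (nat_lit 0x2ba2cea7bd829f6f53bc17c3f6c7dba59a18cc2c5) (.st (nat_lit 64) [] [] .nil) [] [])⟩))))
 (.nd (nat_lit 70) (.nd (nat_lit 69) (.lf ⟨nat_lit 1, nat_lit 64, nat_lit 56, (nat_lit 0x100e0aba0d17c70444d02bf329fd10d7608f1b426), (nat_lit 0x100e0aba0d17c70444d02bf329fd10d7608f1b426), one, (.wt (nat_lit 2) (nat_lit 2) one (.st (nat_lit 59) [] [] (.st (nat_lit 64) [] [] .nil)) [] [])⟩)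
 (.lf ⟨nat_lit 1, nat_lit 56, nat_lit 64, (nat_lit 0x100e0aba0d17c70444d02bf329fd10d7608f1b426), (nat_lit 0x100e0aba0d17c70444d02bf329fd10d7608f1b426), one, (.wt (nat_lit 0) (nat_lit 0) (nat_lit 0x100e0aba0d17c70444d02bf329fd10d7608f1b426) (.st (nat_lit 68) [] [] .nil) [] [])⟩))
 (.nd (nat_lit 71) (.lf ⟨nat_lit 1, nat_lit 64, nat_lit 51, (nat_lit 0x29d069dd4289881cb0b1977aaf1daee2c113e4bec), (nat_lit 0xdd8f1d76b5c64eaaffa8a93eaf892d65fd57a74), (nat_lit 0x371021b1d6048299b2ca6b82df430b7d0cdf7524), (.wt (nat_lit 6) (nat_lit 2) (nat_lit 0x3c6d1cdf43d874bde01eb181764d780260f0c80e) (.st (nat_lit 54) (unp (nat_lit 6) (nat_lit 0x1288303)) [] (.st (nat_lit 50) (unp (nat_lit 6) (nat_lit 0x1380303)) [] (.st (nat_lit 51) (unp (nat_lit 6) (nat_lit 0xc88303)) [nat_lit 47, nat_lit 41] (.st (nat_lit 56) (unp (nat_lit 6) (nat_lit 0xb80303)) [] (.st (nat_lit 59) [nat_lit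 3, nat_lit 16] [nat_lit 61] (.st (nat_lit 55) [nat_lit 4, nat_lit 22] [] (.st (nat_lit 64) (unp (nat_lit 6) (nat_lit 0x1580303)) [] .nil))))))) (unp (nat_lit 6) (nat_lit 0x1484403)) [])⟩)
 (.nd (nat_lit 72) (.lf ⟨nat_lit 0, nat_lit 64, nat_lit 64, (nat_lit 0x1cd859d3a253deebde548cf608ea6261d0fe4dd58), one, (nat_lit 0x371021b1d6048299b2ca6b82df430b7d0cdf7524), (.we (nat_lit 0) (nat_lit 0) (nat_lit 0x29d069dd4289881cb0b1977aaf1daee2c113e4bec) (.st (nat_lit 70) [] [] (.st (nat_lit 64) (unp (nat_lit 6) (nat_lit 0xc88303)) [] .nil)))⟩)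
 (.lf ⟨nat_lit 1, nat_lit 56, nat_lit 72, (nat_lit 0x3b6020b1ee99f350ad1583cd87ceba46c32e15ab7), one, one, (.df [nat_lit 3])⟩)))))
 (.nd (nat_lit 78) (.nd (nat_lit 75) (.nd (nat_lit 74) (.lf ⟨nat_lit 0, nat_lit 72, nat_lit 72, (nat_lit 0x176708afc7d76226519823ab768f79ea6a430c16), one, (nat_lit 0x1038c8d1b85cc5293dd44986257891a6781760163), (.cmp (nat_lit 72) (nat_lit 72) (unp (nat_lit 6) (nat_lit 0x980303)) [nat_lit 63])⟩)
 (.lf ⟨nat_lit 1, nat_lit 72, nat_lit 56, one, (nat_lit 0x3b6020b1ee99f350ad1583cd87ceba46c32e15ab7), one, (.wt (nat_lit 0) (nat_lit 0) (nat_lit 0x3b6020b1ee99f350ad1583cd87ceba46c32e15ab7) (.st (nat_lit 72) [] [] .nil) [] [])⟩))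
 (.nd (nat_lit 76) (.lf ⟨nat_lit 1, nat_lit 56, nat_lit 75, (nat_lit 0xf6d11ea1f2003230c9ae98d7ebf7a100d6421009), one, one, (.df (unp (nat_lit 2) (nat_lit 0x2203)))⟩)
 (.nd (nat_lit 77) (.lf ⟨nat_lit 0, nat_lit 75, nat_lit 75, (nat_lit 0xf20133bb32f31cbd46cd0482611f4667a3cfc082), one, (nat_lit 0x13ea0bc0d56ce86cc9fd377d87ce81f0a0dee6589), (.cmp (nat_lit 75) (nat_lit 75) (unp (nat_lit 6) (nat_lit 0x1184403)) [nat_lit 62])⟩)
 (.lf ⟨nat_lit 1, nat_lit 75, nat_lit 56, one, (nat_lit 0xf6d11ea1f2003230c9ae98d7ebf7a100d6421009), one, (.wt (nat_lit 0) (nat_lit 0) (nat_lit 0xf6d11ea1f2003230c9ae98d7ebf7a100d6421009) (.st (nat_lit 75) [] [] .nil) [] [])⟩))))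
 (.nd (nat_lit 81) (.nd (nat_lit 79) (.lf ⟨nat_lit 1, nat_lit 75, nat_lit 72, (nat_lit 0x100e0aba0d17c70444d02bf329fd10d7608f1b426), (nat_lit 0x7290265e57c5cadff2ce9cf2c7db2a3381f279b1), (nat_lit 0x1c2dc834c117cc9be475051e9326443f773ad7902), (.wt (nat_lit 2) (nat_lit 2) (nat_lit 0x2a0a9a2d15c2218952a404dbfae086843305090d) (.st (nat_lit 74) (unp (nat_lit 6) (nat_lit 0x1580403)) [] (.st (nat_lit 75) [] [nat_lit 58] .nil)) [] [])⟩)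
 (.nd (nat_lit 80) (.lf ⟨nat_lit 1, nat_lit 72, nat_lit 75, (nat_lit 0x100e0aba0d17c70444d02bf329fd10d7608f1b426), (nat_lit 0x1d9a2fbca274202ca5f359fb70f2deb66082d395e), (nat_lit 0x1785dad8c614509bec4539d29c7547e7773a6c15e), (.wt (nat_lit 0) (nat_lit 0) (nat_lit 0x100e0aba0d17c70444d02bf329fd10d7608f1b426) (.st (nat_lit 78) [] [] .nil) (unp (nat_lit 6) (nat_lit 0x1684403)) [])⟩)
 (.lf ⟨nat_lit 1, nat_lit 64, nat_lit 80, (nat_lit 0x3b6020b1ee99f350ad1583cd87ceba46c32e15ab7), one, one, (.df [nat_lit 3])⟩)))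
 (.nd (nat_lit 82) (.lf ⟨nat_lit 1, nat_lit 80, nat_lit 64, one, (nat_lit 0x3b6020b1ee99f350ad1583cd87ceba46c32e15ab7), one, (.wt (nat_lit 0) (nat_lit 0) (nat_lit 0x3b6020b1ee99f350ad1583cd87ceba46c32e15ab7) (.st (nat_lit 80) [] [] .nil) [] [])⟩)
 (.nd (nat_lit 83) (.lf ⟨nat_lit 1, nat_lit 64, nat_lit 82, (nat_lit 0xf6d11ea1f2003230c9ae98d7ebf7a100d6421009), one, one, (.df (unp (nat_lit 2) (nat_lit 0x2203)))⟩)
 (.lf ⟨nat_lit 0, nat_lit 82, nat_lit 82, (nat_lit 0x1e71d8df0207a38ad2b5cb84a68c733ee8effccac), one, (nat_lit 0x371021b1d6048299b2ca6b82df430b7d0cdf7524), (.cmp (nat_lit 82) (nat_lit 82) (unp (nat_lit 6) (nat_lit 0x680303)) [nat_lit 71])⟩)))))))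

noncomputable def T3_84 : Tr :=
  (.nd (nat_lit 105) (.nd (nat_lit 94) (.nd (nat_lit 89) (.nd (nat_lit 86) (.nd (nat_lit 85) (.lf ⟨nat_lit 1, nat_lit 82, nat_lit 64, one, (nat_lit 0xf6d11ea1f2003230c9ae98d7ebf7a100d6421009), one, (.wt (nat_lit 0) (nat_lit 0) (nat_lit 0xf6d11ea1f2003230c9ae98d7ebf7a100d6421009) (.st (nat_lit 82) [] [] .nil) [] [])⟩)
 (.lf ⟨nat_lit 1, nat_lit 51, nat_lit 85, (nat_lit 0x3b6020b1ee99f350ad1583cd87ceba46c32e15ab7), one, one, (.df [nat_lit 3])⟩))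
 (.nd (nat_lit 87) (.lf ⟨nat_lit 1, nat_lit 85, nat_lit 51, one, (nat_lit 0x3b6020b1ee99f350ad1583cd87ceba46c32e15ab7), one, (.wt (nat_lit 0) (nat_lit 0) (nat_lit 0x3b6020b1ee99f350ad1583cd87ceba46c32e15ab7) (.st (nat_lit 85) [] [] .nil) [] [])⟩)
 (.nd (nat_lit 88) (.lf ⟨nat_lit 1, nat_lit 51, nat_lit 87, (nat_lit 0x125910161e8d6fe6d72746c6acb95732f82b12d8b), one, one, (.df [nat_lit 2, nat_lit 8])⟩)
 (.lf ⟨nat_lit 1, nat_lit 87, nat_lit 51, one, (nat_lit 0x125910161e8d6fe6d72746c6acb95732f82b12d8b), one, (.wt (nat_lit 0) (nat_lit 0) (nat_lit 0x125910161e8d6fe6d72746c6acb95732f82b12d8b) (.st (nat_lit 87) [] [] .nil) [] [])⟩))))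
 (.nd (nat_lit 91) (.nd (nat_lit 90) (.lf ⟨nat_lit 1, nat_lit 87, nat_lit 85, (nat_lit 0x100e0aba0d17c70444d02bf329fd10d7608f1b426), (nat_lit 0x1fcc4265e5f5e8c58e758190706d179ef60cc5dd7), one, (.wt (nat_lit 2) (nat_lit 2) (nat_lit 0xa2ea9a2d0d739cc971a9d423bd96b619a03ddbf2) (.st (nat_lit 86) [nat_lit 4, nat_lit 22] [] (.st (nat_lit 87) [] [] .nil)) [] [])⟩)
 (.lf ⟨nat_lit 1, nat_lit 85, nat_lit 87, (nat_lit 0x100e0aba0d17c70444d02bf329fd10d7608f1b426), (nat_lit 0x3e9bb5a40ffe36717b19c821828fe8c2a374cf1a2), one, (.wt (nat_lit 0) (nat_lit 0) (nat_lit 0x100e0aba0d17c70444d02bf329fd10d7608f1b426) (.st (nat_lit 89) [] [] .nil) (unp (nat_lit 6) (nat_lit 0xf88303)) [])⟩))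
 (.nd (nat_lit 92) (.lf ⟨nat_lit 1, nat_lit 72, nat_lit 91, (nat_lit 0x3b6020b1ee99f350ad1583cd87ceba46c32e15ab7), one, one, (.df [nat_lit 3])⟩)
 (.nd (nat_lit 93) (.lf ⟨nat_lit 1, nat_lit 91, nat_lit 72, one, (nat_lit 0x3b6020b1ee99f350ad1583cd87ceba46c32e15ab7), one, (.wt (nat_lit 0) (nat_lit 0) (nat_lit 0x3b6020b1ee99f350ad1583cd87ceba46c32e15ab7) (.st (nat_lit 91) [] [] .nil) [] [])⟩)
 (.lf ⟨nat_lit 1, nat_lit 72, nat_lit 93, (nat_lit 0xf6d11ea1f2003230c9ae98d7ebf7a100d6421009), one, one, (.df (unp (nat_lit 2) (nat_lit 0x2203)))⟩)))))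
 (.nd (nat_lit 99) (.nd (nat_lit 96) (.nd (nat_lit 95) (.lf ⟨nat_lit 1, nat_lit 93, nat_lit 72, one, (nat_lit 0xf6d11ea1f2003230c9ae98d7ebf7a100d6421009), one, (.wt (nat_lit 0) (nat_lit 0) (nat_lit 0xf6d11ea1f2003230c9ae98d7ebf7a100d6421009) (.st (nat_lit 93) [] [] .nil) [] [])⟩)
 (.lf ⟨nat_lit 1, nat_lit 72, nat_lit 95, (nat_lit 0x125910161e8d6fe6d72746c6acb95732f82b12d8b), one, one, (.df [nat_lit 2, nat_lit 8])⟩))
 (.nd (nat_lit 97) (.lf ⟨nat_lit 1, nat_lit 95, nat_lit 91, (nat_lit 0x100e0aba0d17c70444d02bf329fd10d7608f1b426), (nat_lit 0x1fcc4265e5f5e8c58e758190706d179ef60cc5dd7), one, (.wt (nat_lit 2) (nat_lit 2) (nat_lit 0xa2ea9a2d0d739cc971a9d423bd96b619a03ddbf2) (.st (nat_lit 92) [nat_lit 4, nat_lit 22] [] (.st (nat_lit 95) [] [] .nil)) [] [])⟩)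
 (.nd (nat_lit 98) (.lf ⟨nat_lit 1, nat_lit 91, nat_lit 95, (nat_lit 0x100e0aba0d17c70444d02bf329fd10d7608f1b426), (nat_lit 0x3e9bb5a40ffe36717b19c821828fe8c2a374cf1a2), one, (.wt (nat_lit 0) (nat_lit 0) (nat_lit 0x100e0aba0d17c70444d02bf329fd10d7608f1b426) (.st (nat_lit 96) [] [] .nil) (unp (nat_lit 6) (nat_lit 0xf88303)) [])⟩)
 (.lf ⟨nat_lit 1, nat_lit 72, nat_lit 98, (nat_lit 0x3eba12c3c3234cd354a978de13ad53d6c7be58abc), one, one, (.df [nat_lit 2, nat_lit 2])⟩))))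
 (.nd (nat_lit 102) (.nd (nat_lit 100) (.lf ⟨nat_lit 1, nat_lit 98, nat_lit 72, one, (nat_lit 0x3eba12c3c3234cd354a978de13ad53d6c7be58abc), one, (.wt (nat_lit 0) (nat_lit 0) (nat_lit 0x3eba12c3c3234cd354a978de13ad53d6c7be58abc) (.st (nat_lit 98) [] [] .nil) [] [])⟩)
 (.nd (nat_lit 101) (.lf ⟨nat_lit 1, nat_lit 75, nat_lit 100, (nat_lit 0x3b6020b1ee99f350ad1583cd87ceba46c32e15ab7), one, one, (.df [nat_lit 3])⟩)
 (.lf ⟨nat_lit 1, nat_lit 100, nat_lit 75, one, (nat_lit 0x3b6020b1ee99f350ad1583cd87ceba46c32e15ab7), one, (.wt (nat_lit 0) (nat_lit 0) (nat_lit 0x3b6020b1ee99f350ad1583cd87ceba46c32e15ab7) (.st (nat_lit 100) [] [] .nil) [] [])⟩)))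
 (.nd (nat_lit 103) (.lf ⟨nat_lit 1, nat_lit 75, nat_lit 102, (nat_lit 0x29d069dd4289881cb0b1977aaf1daee2c113e4bec), one, one, (.df [nat_lit 2])⟩)
 (.nd (nat_lit 104) (.lf ⟨nat_lit 1, nat_lit 102, nat_lit 75, one, (nat_lit 0x29d069dd4289881cb0b1977aaf1daee2c113e4bec), one, (.wt (nat_lit 0) (nat_lit 0) (nat_lit 0x29d069dd4289881cb0b1977aaf1daee2c113e4bec) (.st (nat_lit 102) [] [] .nil) [] [])⟩)
 (.lf ⟨nat_lit 1, nat_lit 75, nat_lit 104, (nat_lit 0x125910161e8d6fe6d72746c6acb95732f82b12d8b), one, one, (.df [nat_lit 2, nat_lit 8])⟩))))))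
 (.nd (nat_lit 115) (.nd (nat_lit 110) (.nd (nat_lit 107) (.nd (nat_lit 106) (.lf ⟨nat_lit 1, nat_lit 104, nat_lit 75, one, (nat_lit 0x125910161e8d6fe6d72746c6acb95732f82b12d8b), one, (.wt (nat_lit 0) (nat_lit 0) (nat_lit 0x125910161e8d6fe6d72746c6acb95732f82b12d8b) (.st (nat_lit 104) [] [] .nil) [] [])⟩)
 (.lf ⟨nat_lit 1, nat_lit 104, nat_lit 100, (nat_lit 0x100e0aba0d17c70444d02bf329fd10d7608f1b426), (nat_lit 0x1fcc4265e5f5e8c58e758190706d179ef60cc5dd7), one, (.wt (nat_lit 2) (nat_lit 2) (nat_lit 0xa2ea9a2d0d739cc971a9d423bd96b619a03ddbf2) (.st (nat_lit 101) [nat_lit 4, nat_lit 22] [] (.st (nat_lit 104) [] [] .nil)) [] [])⟩))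
 (.nd (nat_lit 108) (.lf ⟨nat_lit 1, nat_lit 100, nat_lit 104, (nat_lit 0x100e0aba0d17c70444d02bf329fd10d7608f1b426), (nat_lit 0x3e9bb5a40ffe36717b19c821828fe8c2a374cf1a2), one, (.wt (nat_lit 0) (nat_lit 0) (nat_lit 0x100e0aba0d17c70444d02bf329fd10d7608f1b426) (.st (nat_lit 106) [] [] .nil) (unp (nat_lit 6) (nat_lit 0xf88303)) [])⟩)
 (.nd (nat_lit 109) (.lf ⟨nat_lit 1, nat_lit 75, nat_lit 108, (nat_lit 0x1fce42ed966b34fae64312a96f69e1eea7db1de4), one, one, (.df [nat_lit 8])⟩)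
 (.lf ⟨nat_lit 1, nat_lit 108, nat_lit 75, one, (nat_lit 0x1fce42ed966b34fae64312a96f69e1eea7db1de4), one, (.wt (nat_lit 0) (nat_lit 0) (nat_lit 0x1fce42ed966b34fae64312a96f69e1eea7db1de4) (.st (nat_lit 108) [] [] .nil) [] [])⟩))))
 (.nd (nat_lit 112) (.nd (nat_lit 111) (.lf ⟨nat_lit 1, nat_lit 80, nat_lit 110, (nat_lit 0x29d069dd4289881cb0b1977aaf1daee2c113e4bec), one, one, (.df [nat_lit 2])⟩)
 (.lf ⟨nat_lit 1, nat_lit 110, nat_lit 80, one, (nat_lit 0x29d069dd4289881cb0b1977aaf1daee2c113e4bec), one, (.wt (nat_lit 0) (nat_lit 0) (nat_lit 0x29d069dd4289881cb0b1977aaf1daee2c113e4bec) (.st (nat_lit 110) [] [] .nil) [] [])⟩))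
 (.nd (nat_lit 113) (.lf ⟨nat_lit 1, nat_lit 82, nat_lit 112, (nat_lit 0x3b6020b1ee99f350ad1583cd87ceba46c32e15ab7), one, one, (.df [nat_lit 3])⟩)
 (.nd (nat_lit 114) (.lf ⟨nat_lit 1, nat_lit 112, nat_lit 82, one, (nat_lit 0x3b6020b1ee99f350ad1583cd87ceba46c32e15ab7), one, (.wt (nat_lit 0) (nat_lit 0) (nat_lit 0x3b6020b1ee99f350ad1583cd87ceba46c32e15ab7) (.st (nat_lit 112) [] [] .nil) [] [])⟩)
 (.lf ⟨nat_lit 1, nat_lit 82, nat_lit 114, (nat_lit 0x29d069dd4289881cb0b1977aaf1daee2c113e4bec), one, one, (.df [nat_lit 2])⟩)))))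
 (.nd (nat_lit 120) (.nd (nat_lit 117) (.nd (nat_lit 116) (.lf ⟨nat_lit 1, nat_lit 114, nat_lit 82, one, (nat_lit 0x29d069dd4289881cb0b1977aaf1daee2c113e4bec), one, (.wt (nat_lit 0) (nat_lit 0) (nat_lit 0x29d069dd4289881cb0b1977aaf1daee2c113e4bec) (.st (nat_lit 114) [] [] .nil) [] [])⟩)
 (.lf ⟨nat_lit 1, nat_lit 114, nat_lit 112, (nat_lit 0x100e0aba0d17c70444d02bf329fd10d7608f1b426), (nat_lit 0x4191b02e9e998011195e148f8d0499aa12b3195e), (nat_lit 0x371021b1d6048299b2ca6b82df430b7d0cdf7524), (.wt (nat_lit 2) (nat_lit 2) (nat_lit 0x12ef2a6dbda37e1ffb505c10de316c1f31fcaae36) (.st (nat_lit 113) (unp (nat_lit 6) (nat_lit 0x1088303)) [] (.st (nat_lit 114) [] [nat_lit 83] .nil)) [] [])⟩))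
 (.nd (nat_lit 118) (.lf ⟨nat_lit 1, nat_lit 85, nat_lit 117, (nat_lit 0x3b6020b1ee99f350ad1583cd87ceba46c32e15ab7), one, one, (.df [nat_lit 3])⟩)
 (.nd (nat_lit 119) (.lf ⟨nat_lit 1, nat_lit 117, nat_lit 85, one, (nat_lit 0x3b6020b1ee99f350ad1583cd87ceba46c32e15ab7), one, (.wt (nat_lit 0) (nat_lit 0) (nat_lit 0x3b6020b1ee99f350ad1583cd87ceba46c32e15ab7) (.st (nat_lit 117) [] [] .nil) [] [])⟩)
 (.lf ⟨nat_lit 1, nat_lit 117, nat_lit 93, (nat_lit 0x2ba2cea7bd829f6f53bc17c3f6c7dba59a18cc2c5), (nat_lit 0x2ce13c0d5f098477928e24993addeac7571e8e5e1), (nat_lit 0xc8efb732b8cc6ed92274a9811f93637b14129ef5), (.wt (nat_lit 6) (nat_lit 2) (nat_lit 0x13c6ebc176ae1c7009837846b99116e574d4212b3) (.st (nat_lit 94) [nat_lit 34, nat_lit 13] [] (.st (nat_lit 74) (unp (nat_lit 6) (nat_lit 0x1688303)) [] (.st (nat_lit 59) [nat_lit 4] [] (.st (nat_lit 54) [nat_lit 4, nat_lit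 34] [] (.st (nat_lit 51) (unp (nat_lit 6) (nat_lit 0x1184403)) [nat_lit 48] (.st (nat_lit 85) [nat_lit 3, nat_lit 11] [nat_lit 53] (.st (nat_lit 117) (unp (nat_lit 6) (nat_lit 0xd88303)) [] .nil))))))) (unp (nat_lit 6) (nat_lit 0xd80303)) [])⟩))))
 (.nd (nat_lit 123) (.nd (nat_lit 121) (.lf ⟨nat_lit 1, nat_lit 93, nat_lit 117, (nat_lit 0x1fce42ed966b34fae64312a96f69e1eea7db1de4), (nat_lit 0x2b782035ae9bf7f41199582ebabc010f83a71b5bd), (nat_lit 0x1f6f9326d7c60ac923c68395ac37828e7fccc4b30), (.wt (nat_lit 0) (nat_lit 0) (nat_lit 0x2ba2cea7bd829f6f53bc17c3f6c7dba59a18cc2c5) (.st (nat_lit 119) [] [] .nil) (unp (nat_lit 6) (nat_lit 0x980303)) [])⟩)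
 (.nd (nat_lit 122) (.lf ⟨nat_lit 1, nat_lit 85, nat_lit 121, (nat_lit 0x29d069dd4289881cb0b1977aaf1daee2c113e4bec), one, one, (.df [nat_lit 2])⟩)
 (.lf ⟨nat_lit 1, nat_lit 121, nat_lit 85, one, (nat_lit 0x29d069dd4289881cb0b1977aaf1daee2c113e4bec), one, (.wt (nat_lit 0) (nat_lit 0) (nat_lit 0x29d069dd4289881cb0b1977aaf1daee2c113e4bec) (.st (nat_lit 121) [] [] .nil) [] [])⟩)))
 (.nd (nat_lit 124) (.lf ⟨nat_lit 1, nat_lit 121, nat_lit 85, (nat_lit 0x2ba2cea7bd829f6f53bc17c3f6c7dba59a18cc2c5), (nat_lit 0x1c15ce4154e672a8e2d0c3910acbdddd5d1cefd22), (nat_lit 0x1297196ed42b6340dca88ed43a53b145041a1d13c), (.wt (nat_lit 6) (nat_lit 2) (nat_lit 0x2d90b043a76378cbf11504ca88deb5a52e648d3e4) (.st (nat_lit 86) (unp (nat_lit 6) (nat_lit 0x1388303)) [] (.st (nat_lit 54) (unp (nat_lit 6) (nat_lit 0x1180303)) [] (.st (nat_lit 49) (unp (nat_lit 6) (nat_lit 0xb80403))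 [] (.st (nat_lit 39) [nat_lit 34, nat_lit 15] [nat_lit 3, nat_lit 36] (.st (nat_lit 51) [nat_lit 3, nat_lit 17] [nat_lit 40] (.st (nat_lit 85) (unp (nat_lit 6) (nat_lit 0x1188303)) [] (.st (nat_lit 121) (unp (nat_lit 6) (nat_lit 0xd80303)) [] .nil))))))) (unp (nat_lit 6) (nat_lit 0xf80403)) [])⟩)
 (.nd (nat_lit 125) (.lf ⟨nat_lit 0, nat_lit 121, nat_lit 121, (nat_lit 0xc5e71250a7eeeee29cd26a3a8a9d589a2afcb57c), one, (nat_lit 0x1297196ed42b6340dca88ed43a53b145041a1d13c), (.we (nat_lit 0) (nat_lit 0) (nat_lit 0x2ba2cea7bd829f6f53bc17c3f6c7dba59a18cc2c5) (.st (nat_lit 123) [] [] (.st (nat_lit 121) (unp (nat_lit 6) (nat_lit 0xd88303)) [] .nil)))⟩)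
 (.lf ⟨nat_lit 1, nat_lit 85, nat_lit 125, (nat_lit 0xf6d11ea1f2003230c9ae98d7ebf7a100d6421009), one, one, (.df (unp (nat_lit 2) (nat_lit 0x2203)))⟩)))))))

noncomputable def T3_126 : Tr :=
  (.nd (nat_lit 147) (.nd (nat_lit 136) (.nd (nat_lit 131) (.nd (nat_lit 128) (.nd (nat_lit 127) (.lf ⟨nat_lit 1, nat_lit 125, nat_lit 85, one, (nat_lit 0xf6d11ea1f2003230c9ae98d7ebf7a100d6421009), one, (.wt (nat_lit 0) (nat_lit 0) (nat_lit 0xf6d11ea1f2003230c9ae98d7ebf7a100d6421009) (.st (nat_lit 125) [] [] .nil) [] [])⟩)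
 (.lf ⟨nat_lit 1, nat_lit 85, nat_lit 127, (nat_lit 0x125910161e8d6fe6d72746c6acb95732f82b12d8b), one, one, (.df [nat_lit 2, nat_lit 8])⟩))
 (.nd (nat_lit 129) (.lf ⟨nat_lit 1, nat_lit 127, nat_lit 85, one, (nat_lit 0x125910161e8d6fe6d72746c6acb95732f82b12d8b), one, (.wt (nat_lit 0) (nat_lit 0) (nat_lit 0x125910161e8d6fe6d72746c6acb95732f82b12d8b) (.st (nat_lit 127) [] [] .nil) [] [])⟩)
 (.nd (nat_lit 130) (.lf ⟨nat_lit 1, nat_lit 85, nat_lit 129, (nat_lit 0x9a472e71a6030c6693ace0c7e5978349d74b3855), one, one, (.df [nat_lit 8, nat_lit 0])⟩)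
 (.lf ⟨nat_lit 1, nat_lit 129, nat_lit 85, one, (nat_lit 0x9a472e71a6030c6693ace0c7e5978349d74b3855), one, (.wt (nat_lit 0) (nat_lit 0) (nat_lit 0x9a472e71a6030c6693ace0c7e5978349d74b3855) (.st (nat_lit 129) [] [] .nil) [] [])⟩))))
 (.nd (nat_lit 133) (.nd (nat_lit 132) (.lf ⟨nat_lit 1, nat_lit 129, nat_lit 102, (nat_lit 0x3b6020b1ee99f350ad1583cd87ceba46c32e15ab7), (nat_lit 0x342afaf9185addce0e9966d7e620715b2054ecc57), (nat_lit 0x217671bb1d0d686d559c231b1f407326aaad33e0e), (.wt (nat_lit 6) (nat_lit 2) (nat_lit 0x217671bb1d0d686d559c231b1f407326aaad33e0e) (.st (nat_lit 103) [nat_lit 18] [] (.st (nat_lit 77) [nat_lit 33, nat_lit 15] [] (.st (nat_lit 59) [nat_lit 4, nat_lit 18] [] (.st (nat_lit 54) [nat_lit 3, nat_lit 15] [] (.st (nat_lit 51) [nat_lit 33, nat_lit 8] [nat_lit 43] (.st (nat_lit 85) [nat_lit 33, nat_lit 11] [nat_lit 52] (.st (nat_lit 129)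 [nat_lit 4, nat_lit 14] [] .nil))))))) [nat_lit 3, nat_lit 19] [])⟩)
 (.lf ⟨nat_lit 1, nat_lit 102, nat_lit 129, (nat_lit 0x9a472e71a6030c6693ace0c7e5978349d74b3855), (nat_lit 0x45eeb9cd8e13e9fcd01a0130deb845016dd11c72), (nat_lit 0x2166738bec75d24e7294e9d92d918764f49333e0f), (.wt (nat_lit 0) (nat_lit 0) (nat_lit 0x3b6020b1ee99f350ad1583cd87ceba46c32e15ab7) (.st (nat_lit 131) [] [] .nil) [nat_lit 33, nat_lit 9] [])⟩))
 (.nd (nat_lit 134) (.lf ⟨nat_lit 1, nat_lit 87, nat_lit 133, (nat_lit 0x29d069dd4289881cb0b1977aaf1daee2c113e4bec), one, one, (.df [nat_lit 2])⟩)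
 (.nd (nat_lit 135) (.lf ⟨nat_lit 1, nat_lit 133, nat_lit 87, one, (nat_lit 0x29d069dd4289881cb0b1977aaf1daee2c113e4bec), one, (.wt (nat_lit 0) (nat_lit 0) (nat_lit 0x29d069dd4289881cb0b1977aaf1daee2c113e4bec) (.st (nat_lit 133) [] [] .nil) [] [])⟩)
 (.lf ⟨nat_lit 1, nat_lit 133, nat_lit 87, (nat_lit 0x29d069dd4289881cb0b1977aaf1daee2c113e4bec), (nat_lit 0x3f30947cacb9bcf776f5b4cf9fc57e2a95bd408f4), (nat_lit 0x1a61280e6271482f172cedb3225072149888b2d86), (.wt (nat_lit 5) (nat_lit 2) (nat_lit 0x31b73f9a4d70501cfc6a6369132564f593111dff0) (.st (nat_lit 89) [nat_lit 3, nat_lit 12] [] (.st (nat_lit 121) (unp (nat_lit 6) (nat_lit 0x1280303)) [] (.st (nat_lit 122) [nat_lit 4, nat_lit 22] [nat_lit 124] (.st (nat_lit 86) (unp (nat_lit 6) (nat_lit 0xb88303)) [] (.st (nat_lit 54) (unp (nat_lit 6) (nat_lit 0xd80303)) [] (.st (nat_lit 50) (unp (nat_lit 6) (nat_lit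 0xf80403)) [] (.st (nat_lit 51) (unp (nat_lit 6) (nat_lit 0x984403)) [nat_lit 40] (.st (nat_lit 87) (unp (nat_lit 6) (nat_lit 0xc88303)) [nat_lit 53] (.st (nat_lit 133) (unp (nat_lit 6) (nat_lit 0xb80303)) [] .nil))))))))) (unp (nat_lit 6) (nat_lit 0xf80403)) [])⟩)))))
 (.nd (nat_lit 141) (.nd (nat_lit 138) (.nd (nat_lit 137) (.lf ⟨nat_lit 0, nat_lit 133, nat_lit 133, (nat_lit 0x19ba4ababf39a505ff984efb1f4386305e83f5d7d), one, (nat_lit 0x1a61280e6271482f172cedb3225072149888b2d86), (.we (nat_lit 0) (nat_lit 0) (nat_lit 0x29d069dd4289881cb0b1977aaf1daee2c113e4bec) (.st (nat_lit 135) [] [] (.st (nat_lit 133) (unp (nat_lit 6) (nat_lit 0xb88303)) [] .nil)))⟩)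
 (.lf ⟨nat_lit 1, nat_lit 87, nat_lit 137, (nat_lit 0x125910161e8d6fe6d72746c6acb95732f82b12d8b), one, one, (.df [nat_lit 2, nat_lit 8])⟩))
 (.nd (nat_lit 139) (.lf ⟨nat_lit 1, nat_lit 137, nat_lit 87, one, (nat_lit 0x125910161e8d6fe6d72746c6acb95732f82b12d8b), one, (.wt (nat_lit 0) (nat_lit 0) (nat_lit 0x125910161e8d6fe6d72746c6acb95732f82b12d8b) (.st (nat_lit 137) [] [] .nil) [] [])⟩)
 (.nd (nat_lit 140) (.lf ⟨nat_lit 1, nat_lit 137, nat_lit 108, (nat_lit 0x2ba2cea7bd829f6f53bc17c3f6c7dba59a18cc2c5), (nat_lit 0x310079e6136eb800ec007e6000cb6bd3e81c0e), (nat_lit 0x27d8a97980d2da5e617e08a760f783a78051e9f8c), (.wt (nat_lit 6) (nat_lit 2) (nat_lit 0x5668326d5d206ff7df916b118b7b0fcca8c82cf8) (.st (nat_lit 109) (unp (nat_lit 6) (nat_lit 0xb88403)) [] (.st (nat_lit 78) [nat_lit 34, nat_lit 12] [] (.st (nat_lit 93) [nat_lit 34, nat_lit 19] [nat_lit 73] (.st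 (nat_lit 120) (unp (nat_lit 6) (nat_lit 0xe84303)) [] (.st (nat_lit 118) (unp (nat_lit 6) (nat_lit 0x1680303)) [] (.st (nat_lit 90) (unp (nat_lit 6) (nat_lit 0xf80303)) [] (.st (nat_lit 137) (unp (nat_lit 6) (nat_lit 0xd88303)) [] .nil))))))) (unp (nat_lit 6) (nat_lit 0xd80303)) [])⟩)
 (.lf ⟨nat_lit 1, nat_lit 108, nat_lit 137, (nat_lit 0x3eba12c3c3234cd354a978de13ad53d6c7be58abc), (nat_lit 0xe2c70fd6ea2662f35ce0698549385100f31f4921), (nat_lit 0x32eb01e524ba9ffc5d26178f4ac35386c0b5d8aeb), (.wt (nat_lit 0) (nat_lit 0) (nat_lit 0x2ba2cea7bd829f6f53bc17c3f6c7dba59a18cc2c5) (.st (nat_lit 139) [] [] .nil) [nat_lit 33, nat_lit 18] [])⟩))))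
 (.nd (nat_lit 144) (.nd (nat_lit 142) (.lf ⟨nat_lit 1, nat_lit 87, nat_lit 141, (nat_lit 0x1fce42ed966b34fae64312a96f69e1eea7db1de4), one, one, (.df [nat_lit 8])⟩)
 (.nd (nat_lit 143) (.lf ⟨nat_lit 1, nat_lit 141, nat_lit 87, one, (nat_lit 0x1fce42ed966b34fae64312a96f69e1eea7db1de4), one, (.wt (nat_lit 0) (nat_lit 0) (nat_lit 0x1fce42ed966b34fae64312a96f69e1eea7db1de4) (.st (nat_lit 141) [] [] .nil) [] [])⟩)
 (.lf ⟨nat_lit 1, nat_lit 141, nat_lit 98, (nat_lit 0x3b6020b1ee99f350ad1583cd87ceba46c32e15ab7), (nat_lit 0x2d61346d186ab59c55bea31a6288dab4d6e50b581), (nat_lit 0x16036823174282cc23094c451dfbc0684da4ca2f0), (.wt (nat_lit 5) (nat_lit 2) (nat_lit 0x72a9b4b89926604048f60710ac8b8dbd27025fa9) (.st (nat_lit 99) [nat_lit 32, nat_lit 13] [] (.st (nat_lit 79) [nat_lit 32, nat_lit 9] [] (.st (nat_lit 108) (unp (nat_lit 6) (nat_lit 0x1388403)) [nat_lit 76]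 (.st (nat_lit 140) [nat_lit 34, nat_lit 17] [] (.st (nat_lit 138) (unp (nat_lit 6) (nat_lit 0x1680303)) [] (.st (nat_lit 88) (unp (nat_lit 6) (nat_lit 0x1080303)) [] (.st (nat_lit 55) (unp (nat_lit 6) (nat_lit 0xc80403)) [] (.st (nat_lit 87) [nat_lit 33, nat_lit 19] [nat_lit 53] (.st (nat_lit 141) [nat_lit 4, nat_lit 14] [] .nil))))))))) [nat_lit 3, nat_lit 19] [])⟩)))
 (.nd (nat_lit 145) (.lf ⟨nat_lit 1, nat_lit 98, nat_lit 141, (nat_lit 0x3b6020b1ee99f350ad1583cd87ceba46c32e15ab7), (nat_lit 0x2af775942db2b3184bc98854cb1e96cffbe698891), (nat_lit 0x1c8ecb76742a88a610646281907901380d54096c9), (.wt (nat_lit 0) (nat_lit 0) (nat_lit 0x3b6020b1ee99f350ad1583cd87ceba46c32e15ab7) (.st (nat_lit 143) [] [] .nil) (unp (nat_lit 6) (nat_lit 0x688403)) [])⟩)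
 (.nd (nat_lit 146) (.lf ⟨nat_lit 1, nat_lit 87, nat_lit 145, (nat_lit 0x9a472e71a6030c6693ace0c7e5978349d74b3855), one, one, (.df [nat_lit 8, nat_lit 0])⟩)
 (.lf ⟨nat_lit 1, nat_lit 145, nat_lit 87, one, (nat_lit 0x9a472e71a6030c6693ace0c7e5978349d74b3855), one, (.wt (nat_lit 0) (nat_lit 0) (nat_lit 0x9a472e71a6030c6693ace0c7e5978349d74b3855) (.st (nat_lit 145) [] [] .nil) [] [])⟩))))))
 (.nd (nat_lit 157) (.nd (nat_lit 152) (.nd (nat_lit 149) (.nd (nat_lit 148) (.lf ⟨nat_lit 1, nat_lit 145, nat_lit 141, (nat_lit 0x100e0aba0d17c70444d02bf329fd10d7608f1b426), (nat_lit 0x1b94dc9a9f5dafe6001e2ccbef9b1bb06e7ad4c94), one, (.wt (nat_lit 2) (nat_lit 2) (nat_lit 0x1be19238427c315eec4e063d6ba4a62fe4d8a67fd) (.st (nat_lit 142) [nat_lit 4, nat_lit 16] [] (.st (nat_lit 145) [] [] .nil)) [] [])⟩)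
 (.lf ⟨nat_lit 1, nat_lit 145, nat_lit 114, (nat_lit 0x125910161e8d6fe6d72746c6acb95732f82b12d8b), (nat_lit 0x2e4f495c03911d8dd87add77540537a96d399babc), (nat_lit 0x217671bb1d0d686d559c231b1f407326aaad33e0e), (.wt (nat_lit 5) (nat_lit 2) (nat_lit 0x217671bb1d0d686d559c231b1f407326aaad33e0e) (.st (nat_lit 115) [nat_lit 18] [] (.st (nat_lit 84) [nat_lit 33, nat_lit 15] [] (.st (nat_lit 68) (unp (nat_lit 6) (nat_lit 0xb88403)) [] (.st (nat_lit 75) (unp (nat_lit 6) (nat_lit 0x884303)) [] (.st (nat_lit 102) [nat_lit 33, nat_lit 20] [] (.st (nat_lit 132) (unp (nat_lit 6) (nat_lit 0xe88403)) [] (.st (nat_lit 130) (unp (nat_lit 6) (nat_lit 0xf80403)) [] (.st (nat_lit 90) (unp (nat_lit 6) (nat_lit 0xb84403)) [] (.st (nat_lit 145) [nat_lit 4, nat_lit 11] [] .nil))))))))) [nat_lit 4, nat_lit 22] [])⟩))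
 (.nd (nat_lit 150) (.lf ⟨nat_lit 1, nat_lit 114, nat_lit 145, (nat_lit 0x9a472e71a6030c6693ace0c7e5978349d74b3855), (nat_lit 0x277bbc9804a1af08cd5e394edaf9ab169dc77267c), (nat_lit 0x2166738bec75d24e7294e9d92d918764f49333e0f), (.wt (nat_lit 0) (nat_lit 0) (nat_lit 0x125910161e8d6fe6d72746c6acb95732f82b12d8b) (.st (nat_lit 148) [] [] .nil) [nat_lit 33, nat_lit 6] [])⟩)
 (.nd (nat_lit 151) (.lf ⟨nat_lit 1, nat_lit 91, nat_lit 150, (nat_lit 0x3b6020b1ee99f350ad1583cd87ceba46c32e15ab7), one, one, (.df [nat_lit 3])⟩)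
 (.lf ⟨nat_lit 1, nat_lit 150, nat_lit 91, one, (nat_lit 0x3b6020b1ee99f350ad1583cd87ceba46c32e15ab7), one, (.wt (nat_lit 0) (nat_lit 0) (nat_lit 0x3b6020b1ee99f350ad1583cd87ceba46c32e15ab7) (.st (nat_lit 150) [] [] .nil) [] [])⟩))))
 (.nd (nat_lit 154) (.nd (nat_lit 153) (.lf ⟨nat_lit 1, nat_lit 150, nat_lit 91, (nat_lit 0x29d069dd4289881cb0b1977aaf1daee2c113e4bec), (nat_lit 0xe4f7b71734b9780fd09b53f390cc2788160ac776), (nat_lit 0x8be938d6b421a6b7314c7e01fca67031eb839ccb), (.wt (nat_lit 6) (nat_lit 3) (nat_lit 0x38961e28011c1a6798dea2110436c970fca45585) (.st (nat_lit 92) (unp (nat_lit 6) (nat_lit 0x1180303)) [] (.st (nat_lit 74) (unp (nat_lit 6) (nat_lit 0xb80403)) [] (.st (nat_lit 69) (unp (nat_lit 6) (nat_lit 0x1180303)) [nat_lit 63] (.st (nat_lit 68) [nat_lit 33, nat_lit 11] [nat_lit 71] (.st (nat_lit 72) (unp (nat_lit 6) (nat_lit 0x1288303)) [nat_lit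 58] (.st (nat_lit 91) [nat_lit 4, nat_lit 20] [nat_lit 73] (.st (nat_lit 150) (unp (nat_lit 6) (nat_lit 0xd88303)) [] .nil))))))) (unp (nat_lit 6) (nat_lit 0xd80303)) [])⟩)
 (.lf ⟨nat_lit 0, nat_lit 150, nat_lit 150, (nat_lit 0x1f9a4a010b4159a6912095192d92721700a145c79), one, (nat_lit 0x8be938d6b421a6b7314c7e01fca67031eb839ccb), (.we (nat_lit 0) (nat_lit 0) (nat_lit 0x29d069dd4289881cb0b1977aaf1daee2c113e4bec) (.st (nat_lit 152) [] [] (.st (nat_lit 150) (unp (nat_lit 6) (nat_lit 0x984303)) [] .nil)))⟩))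
 (.nd (nat_lit 155) (.lf ⟨nat_lit 1, nat_lit 91, nat_lit 154, (nat_lit 0x125910161e8d6fe6d72746c6acb95732f82b12d8b), one, one, (.df [nat_lit 2, nat_lit 8])⟩)
 (.nd (nat_lit 156) (.lf ⟨nat_lit 1, nat_lit 154, nat_lit 91, one, (nat_lit 0x125910161e8d6fe6d72746c6acb95732f82b12d8b), one, (.wt (nat_lit 0) (nat_lit 0) (nat_lit 0x125910161e8d6fe6d72746c6acb95732f82b12d8b) (.st (nat_lit 154) [] [] .nil) [] [])⟩)
 (.lf ⟨nat_lit 1, nat_lit 154, nat_lit 127, (nat_lit 0x2ba2cea7bd829f6f53bc17c3f6c7dba59a18cc2c5), (nat_lit 0x3c8b1753b7df9ca27a4fd28433e014d82d0cb8e11), (nat_lit 0x8eee63e390f7dbcaa77e43ad8713d61e88a0fe63), (.wt (nat_lit 6) (nat_lit 2) (nat_lit 0x2f482a14c2f0e19802bcafaa4b5590571a669ace1) (.st (nat_lit 128) (unp (nat_lit 6) (nat_lit 0x1484303)) [] (.st (nat_lit 86) (unp (nat_lit 6) (nat_lit 0x1580403)) [] (.st (nat_lit 64) (unp (nat_lit 6) (nat_lit 0x684303))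 [] (.st (nat_lit 68) (unp (nat_lit 6) (nat_lit 0x988403)) [nat_lit 71] (.st (nat_lit 72) (unp (nat_lit 6) (nat_lit 0x1588303)) [nat_lit 57] (.st (nat_lit 91) [nat_lit 3, nat_lit 13] [nat_lit 73] (.st (nat_lit 154) (unp (nat_lit 6) (nat_lit 0xe88303)) [] .nil))))))) (unp (nat_lit 6) (nat_lit 0xb80303)) [])⟩)))))
 (.nd (nat_lit 162) (.nd (nat_lit 159) (.nd (nat_lit 158) (.lf ⟨nat_lit 1, nat_lit 127, nat_lit 154, (nat_lit 0x3b6020b1ee99f350ad1583cd87ceba46c32e15ab7), (nat_lit 0x24aa517ba1ce9702502c1e1b742c8bce32af57082), (nat_lit 0x74fe6b5db56fe18d587e771ef5faa1dee933f78e), (.wt (nat_lit 0) (nat_lit 0) (nat_lit 0x2ba2cea7bd829f6f53bc17c3f6c7dba59a18cc2c5) (.st (nat_lit 156) [] [] .nil) (unp (nat_lit 6) (nat_lit 0xc80303)) [])⟩)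
 (.lf ⟨nat_lit 1, nat_lit 95, nat_lit 158, (nat_lit 0x3b6020b1ee99f350ad1583cd87ceba46c32e15ab7), one, one, (.df [nat_lit 3])⟩))
 (.nd (nat_lit 160) (.lf ⟨nat_lit 1, nat_lit 158, nat_lit 95, one, (nat_lit 0x3b6020b1ee99f350ad1583cd87ceba46c32e15ab7), one, (.wt (nat_lit 0) (nat_lit 0) (nat_lit 0x3b6020b1ee99f350ad1583cd87ceba46c32e15ab7) (.st (nat_lit 158) [] [] .nil) [] [])⟩)
 (.nd (nat_lit 161) (.lf ⟨nat_lit 1, nat_lit 158, nat_lit 141, (nat_lit 0x2ba2cea7bd829f6f53bc17c3f6c7dba59a18cc2c5), (nat_lit 0x2c6166924c797ee6764d858d7d4cbf5261e6cbfa1), (nat_lit 0x8eee63e390f7dbcaa77e43ad8713d61e88a0fe63), (.wt (nat_lit 6) (nat_lit 2) (nat_lit 0x3bee2f44535c109cfbd75dea39712b27875669ef) (.st (nat_lit 142) (unp (nat_lit 6) (nat_lit 0xf84403)) [] (.st (nat_lit 89) (unp (nat_lit 6) (nat_lit 0x684303)) [] (.st (nat_lit 127) [nat_lit 3, nat_lit 13] [] (.st (nat_lit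 157) (unp (nat_lit 6) (nat_lit 0x1480303)) [] (.st (nat_lit 155) (unp (nat_lit 6) (nat_lit 0x1588303)) [] (.st (nat_lit 97) (unp (nat_lit 6) (nat_lit 0x1280303)) [] (.st (nat_lit 158) (unp (nat_lit 6) (nat_lit 0xe88303)) [] .nil))))))) (unp (nat_lit 6) (nat_lit 0xb80303)) [])⟩)
 (.lf ⟨nat_lit 1, nat_lit 141, nat_lit 158, (nat_lit 0x1fce42ed966b34fae64312a96f69e1eea7db1de4), (nat_lit 0x16571c021329b7792bb0e52289a1a6e6b991d46ce), (nat_lit 0x74fe6b5db56fe18d587e771ef5faa1dee933f78e), (.wt (nat_lit 0) (nat_lit 0) (nat_lit 0x2ba2cea7bd829f6f53bc17c3f6c7dba59a18cc2c5) (.st (nat_lit 160) [] [] .nil) [nat_lit 33, nat_lit 22] [])⟩))))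
 (.nd (nat_lit 165) (.nd (nat_lit 163) (.lf ⟨nat_lit 1, nat_lit 95, nat_lit 162, (nat_lit 0x125910161e8d6fe6d72746c6acb95732f82b12d8b), one, one, (.df [nat_lit 2, nat_lit 8])⟩)
 (.nd (nat_lit 164) (.lf ⟨nat_lit 1, nat_lit 162, nat_lit 158, (nat_lit 0x100e0aba0d17c70444d02bf329fd10d7608f1b426), (nat_lit 0x1fcc4265e5f5e8c58e758190706d179ef60cc5dd7), one, (.wt (nat_lit 2) (nat_lit 2) (nat_lit 0xa2ea9a2d0d739cc971a9d423bd96b619a03ddbf2) (.st (nat_lit 159) [nat_lit 4, nat_lit 22] [] (.st (nat_lit 162) [] [] .nil)) [] [])⟩)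
 (.lf ⟨nat_lit 1, nat_lit 162, nat_lit 100, (nat_lit 0x29d069dd4289881cb0b1977aaf1daee2c113e4bec), (nat_lit 0x1bae8de33ef94231063ee39743cd753e397fc50bc), (nat_lit 0x19307ba4434fd96d3cd4a4e925ddb1c63057aa038), (.wt (nat_lit 5) (nat_lit 2) (nat_lit 0x11664316c5a7bd4fae6ebbed1545eb3b58e36dba0) (.st (nat_lit 101) (unp (nat_lit 6) (nat_lit 0xf84303)) [] (.st (nat_lit 77) [nat_lit 8] [] (.st (nat_lit 59) (unp (nat_lit 6) (nat_lit 0x1684303)) [nat_lit 61] (.st (nat_lit 85) [nat_lit 4, nat_lit 15] [nat_lit 53] (.st (nat_lit 127) [nat_lit 3, nat_lit 18] [] (.st (nat_lit 157) (unp (nat_lit 6) (nat_lit 0xf88303)) [] (.st (nat_lit 155) (unp (nat_lit 6) (nat_lit 0xc88303)) [] (.st (nat_lit 97) (unp (nat_lit 6) (nat_lit 0xe80303)) [] (.st (nat_lit 162) (unp (nat_lit 6) (nat_lit 0xb88303)) [] .nil))))))))) (unp (nat_lit 6) (nat_lit 0xd80303)) [])⟩)))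
 (.nd (nat_lit 166) (.lf ⟨nat_lit 1, nat_lit 100, nat_lit 162, (nat_lit 0x3eba12c3c3234cd354a978de13ad53d6c7be58abc), (nat_lit 0x57e9bd57a7672f850ece99f1ef8142d791481537), (nat_lit 0x19307ba4434fd96d3cd4a4e925ddb1c63057aa038), (.wt (nat_lit 0) (nat_lit 0) (nat_lit 0x29d069dd4289881cb0b1977aaf1daee2c113e4bec) (.st (nat_lit 164) [] [] .nil) [nat_lit 4, nat_lit 6] [])⟩)
 (.nd (nat_lit 167) (.lf ⟨nat_lit 1, nat_lit 98, nat_lit 166, (nat_lit 0x2ba2cea7bd829f6f53bc17c3f6c7dba59a18cc2c5), one, one, (.df [nat_lit 2, nat_lit 0])⟩)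
 (.lf ⟨nat_lit 1, nat_lit 100, nat_lit 167, (nat_lit 0x125910161e8d6fe6d72746c6acb95732f82b12d8b), one, one, (.df [nat_lit 2, nat_lit 8])⟩)))))))

noncomputable def T3_168 : Tr :=
  (.nd (nat_lit 189) (.nd (nat_lit 178) (.nd (nat_lit 173) (.nd (nat_lit 170) (.nd (nat_lit 169) (.lf ⟨nat_lit 1, nat_lit 100, nat_lit 168, (nat_lit 0x1fce42ed966b34fae64312a96f69e1eea7db1de4), one, one, (.df [nat_lit 8])⟩)
 (.lf ⟨nat_lit 1, nat_lit 102, nat_lit 169, (nat_lit 0x3b6020b1ee99f350ad1583cd87ceba46c32e15ab7), one, one, (.df [nat_lit 3])⟩))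
 (.nd (nat_lit 171) (.lf ⟨nat_lit 1, nat_lit 169, nat_lit 102, one, (nat_lit 0x3b6020b1ee99f350ad1583cd87ceba46c32e15ab7), one, (.wt (nat_lit 0) (nat_lit 0) (nat_lit 0x3b6020b1ee99f350ad1583cd87ceba46c32e15ab7) (.st (nat_lit 169) [] [] .nil) [] [])⟩)
 (.nd (nat_lit 172) (.lf ⟨nat_lit 1, nat_lit 104, nat_lit 171, (nat_lit 0xf6d11ea1f2003230c9ae98d7ebf7a100d6421009), one, one, (.df (unp (nat_lit 2) (nat_lit 0x2203)))⟩)
 (.lf ⟨nat_lit 1, nat_lit 171, nat_lit 104, one, (nat_lit 0xf6d11ea1f2003230c9ae98d7ebf7a100d6421009), one, (.wt (nat_lit 0) (nat_lit 0) (nat_lit 0xf6d11ea1f2003230c9ae98d7ebf7a100d6421009) (.st (nat_lit 171) [] [] .nil) [] [])⟩))))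
 (.nd (nat_lit 175) (.nd (nat_lit 174) (.lf ⟨nat_lit 1, nat_lit 171, nat_lit 104, (nat_lit 0x9a472e71a6030c6693ace0c7e5978349d74b3855), (nat_lit 0x1e57add2f39acb282ee8e069823743e65a976dc49), (nat_lit 0x1a36fac72f0e1f064ff05ec53564d5192eefa84ae), (.wt (nat_lit 5) (nat_lit 2) (nat_lit 0x1c2bc3588e3249de837483a9230144dc438517d9a) (.st (nat_lit 105) (unp (nat_lit 6) (nat_lit 0xc84303)) [] (.st (nat_lit 78) [nat_lit 3, nat_lit 9] [] (.st (nat_lit 91) [nat_lit 3, nat_lit 14] [] (.st (nat_lit 150) (unp (nat_lit 6) (nat_lit 0x1388303)) [] (.st (nat_lit 151) (unp (nat_lit 6) (nat_lit 0xb88303)) [nat_lit 153] (.st (nat_lit 92) (unp (nat_lit 6) (nat_lit 0xd80303)) [] (.st (nat_lit 79) (unp (nat_lit 6) (nat_lit 0xf80403)) [] (.st (nat_lit 104) [nat_lit 4, nat_lit 34] [] (.st (nat_lit 171) [nat_lit 34, nat_lit 14] [] .nil))))))))) (unp (nat_lit 6) (nat_lit 0x1584303))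 [])⟩)
 (.lf ⟨nat_lit 0, nat_lit 171, nat_lit 171, (nat_lit 0xc8441ea1e3419cb6e1d487692c344373eba10456), one, (nat_lit 0x1a36fac72f0e1f064ff05ec53564d5192eefa84ae), (.we (nat_lit 0) (nat_lit 0) (nat_lit 0x9a472e71a6030c6693ace0c7e5978349d74b3855) (.st (nat_lit 173) [] [] (.st (nat_lit 171) (unp (nat_lit 6) (nat_lit 0x1384303)) [] .nil)))⟩))
 (.nd (nat_lit 176) (.lf ⟨nat_lit 1, nat_lit 171, nat_lit 175, (nat_lit 0x3b6020b1ee99f350ad1583cd87ceba46c32e15ab7), one, one, (.df [nat_lit 3])⟩)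
 (.nd (nat_lit 177) (.lf ⟨nat_lit 0, nat_lit 175, nat_lit 175, (nat_lit 0x1ddf3a9b63322283151996aab71e7317d43dd89cb), one, (nat_lit 0x1a36fac72f0e1f064ff05ec53564d5192eefa84ae), (.cmp (nat_lit 175) (nat_lit 175) (unp (nat_lit 6) (nat_lit 0x988403)) [nat_lit 174])⟩)
 (.lf ⟨nat_lit 1, nat_lit 104, nat_lit 177, (nat_lit 0x3eba12c3c3234cd354a978de13ad53d6c7be58abc), one, one, (.df [nat_lit 2, nat_lit 2])⟩)))))
 (.nd (nat_lit 183) (.nd (nat_lit 180) (.nd (nat_lit 179) (.lf ⟨nat_lit 1, nat_lit 177, nat_lit 171, (nat_lit 0x100e0aba0d17c70444d02bf329fd10d7608f1b426), (nat_lit 0x100e0aba0d17c70444d02bf329fd10d7608f1b426), one, (.wt (nat_lit 2) (nat_lit 2) one (.st (nat_lit 172) [] [] (.st (nat_lit 177) [] [] .nil)) [] [])⟩)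
 (.lf ⟨nat_lit 1, nat_lit 177, nat_lit 145, (nat_lit 0x125910161e8d6fe6d72746c6acb95732f82b12d8b), (nat_lit 0x9636f3df99b6d8e2ba3437668ae253a927c46123), (nat_lit 0x28a8b174305352efbc461ffbdb945b33f74809702), (.wt (nat_lit 5) (nat_lit 2) (nat_lit 0xcf6c238431296858381ed13a54f36fddaf7bedeb) (.st (nat_lit 146) (unp (nat_lit 6) (nat_lit 0x1284403)) [] (.st (nat_lit 88) (unp (nat_lit 6) (nat_lit 0x1584403)) [] (.st (nat_lit 56) (unp (nat_lit 6) (nat_lit 0x1084403)) [] (.st (nat_lit 72) (unp (nat_lit 6) (nat_lit 0x1480303)) [nat_lit 57] (.st (nat_lit 95) [nat_lit 3, nat_lit 12] [nat_lit 73] (.st (nat_lit 162) (unp (nat_lit 6) (nat_lit 0x1588303)) [] (.st (nat_lit 164) (unp (nat_lit 6) (nat_lit 0xf80303)) [] (.st (nat_lit 107) [nat_lit 34, nat_lit 9] [] (.st (nat_lit 177) [nat_lit 12] [] .nil))))))))) [nat_lit 33, nat_lit 21] [])⟩))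
 (.nd (nat_lit 181) (.lf ⟨nat_lit 1, nat_lit 145, nat_lit 177, (nat_lit 0x9a472e71a6030c6693ace0c7e5978349d74b3855), (nat_lit 0x2f4c7ae81f2ec7d0366509317f6e1258ab2ae0593), (nat_lit 0x255fd1146a57536f380704c77dff4d3e55ffada51), (.wt (nat_lit 0) (nat_lit 0) (nat_lit 0x125910161e8d6fe6d72746c6acb95732f82b12d8b) (.st (nat_lit 179) [] [] .nil) [nat_lit 4, nat_lit 9] [])⟩)
 (.nd (nat_lit 182) (.lf ⟨nat_lit 1, nat_lit 104, nat_lit 181, (nat_lit 0x9a472e71a6030c6693ace0c7e5978349d74b3855), one, one, (.df [nat_lit 8, nat_lit 0])⟩)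
 (.lf ⟨nat_lit 1, nat_lit 181, nat_lit 104, one, (nat_lit 0x9a472e71a6030c6693ace0c7e5978349d74b3855), one, (.wt (nat_lit 0) (nat_lit 0) (nat_lit 0x9a472e71a6030c6693ace0c7e5978349d74b3855) (.st (nat_lit 181) [] [] .nil) [] [])⟩))))
 (.nd (nat_lit 186) (.nd (nat_lit 184) (.lf ⟨nat_lit 1, nat_lit 108, nat_lit 183, (nat_lit 0x125910161e8d6fe6d72746c6acb95732f82b12d8b), one, one, (.df [nat_lit 2, nat_lit 8])⟩)
 (.nd (nat_lit 185) (.lf ⟨nat_lit 1, nat_lit 108, nat_lit 184, (nat_lit 0x2ba2cea7bd829f6f53bc17c3f6c7dba59a18cc2c5), one, one, (.df [nat_lit 2, nat_lit 0])⟩)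
 (.lf ⟨nat_lit 1, nat_lit 110, nat_lit 185, (nat_lit 0x29d069dd4289881cb0b1977aaf1daee2c113e4bec), one, one, (.df [nat_lit 2])⟩)))
 (.nd (nat_lit 187) (.lf ⟨nat_lit 1, nat_lit 185, nat_lit 110, one, (nat_lit 0x29d069dd4289881cb0b1977aaf1daee2c113e4bec), one, (.wt (nat_lit 0) (nat_lit 0) (nat_lit 0x29d069dd4289881cb0b1977aaf1daee2c113e4bec) (.st (nat_lit 185) [] [] .nil) [] [])⟩)
 (.nd (nat_lit 188) (.lf ⟨nat_lit 1, nat_lit 185, nat_lit 129, (nat_lit 0xf6d11ea1f2003230c9ae98d7ebf7a100d6421009), (nat_lit 0x3a71bc1c4856d01f2e648ff521c1d89df46c9f963), (nat_lit 0x86ad1ff6a33f145f4194337adc5138ad8c9bdcb7), (.wt (nat_lit 6) (nat_lit 3) (nat_lit 0x1f481347ebe334a70b6b3939b8e207e5d4a51b440) (.st (nat_lit 130) (unp (nat_lit 6) (nat_lit 0xc84403)) [] (.st (nat_lit 86) (unp (nat_lit 6) (nat_lit 0xc84403)) [] (.st (nat_lit 56) [nat_lit 3, nat_lit 34] [] (.st (nat_lit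 69) [nat_lit 33, nat_lit 15] [nat_lit 63] (.st (nat_lit 80) (unp (nat_lit 6) (nat_lit 0xe88303)) [nat_lit 66] (.st (nat_lit 110) (unp (nat_lit 6) (nat_lit 0xf80303)) [] (.st (nat_lit 185) (unp (nat_lit 6) (nat_lit 0xb80403)) [] .nil))))))) (unp (nat_lit 6) (nat_lit 0x980303)) [])⟩)
 (.lf ⟨nat_lit 1, nat_lit 110, nat_lit 188, (nat_lit 0x2ba2cea7bd829f6f53bc17c3f6c7dba59a18cc2c5), one, one, (.df [nat_lit 2, nat_lit 0])⟩))))))
 (.nd (nat_lit 199) (.nd (nat_lit 194) (.nd (nat_lit 191) (.nd (nat_lit 190) (.lf ⟨nat_lit 1, nat_lit 188, nat_lit 185, (nat_lit 0x100e0aba0d17c70444d02bf329fd10d7608f1b426), (nat_lit 0x100e0aba0d17c70444d02bf329fd10d7608f1b426), one, (.wt (nat_lit 2) (nat_lit 2) one (.st (nat_lit 186) [] [] (.st (nat_lit 188) [] [] .nil)) [] [])⟩)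
 (.lf ⟨nat_lit 1, nat_lit 185, nat_lit 188, (nat_lit 0x100e0aba0d17c70444d02bf329fd10d7608f1b426), (nat_lit 0x100e0aba0d17c70444d02bf329fd10d7608f1b426), one, (.wt (nat_lit 0) (nat_lit 0) (nat_lit 0x100e0aba0d17c70444d02bf329fd10d7608f1b426) (.st (nat_lit 189) [] [] .nil) [] [])⟩))
 (.nd (nat_lit 192) (.lf ⟨nat_lit 1, nat_lit 188, nat_lit 110, (nat_lit 0x3eba12c3c3234cd354a978de13ad53d6c7be58abc), (nat_lit 0x3fe204152a179df4c8a6d00b10ef7747c84df34a9), (nat_lit 0x1038c8d1b85cc5293dd44986257891a6781760163), (.wt (nat_lit 6) (nat_lit 2) (nat_lit 0x1c2dc834c117cc9be475051e9326443f773ad7902) (.st (nat_lit 111) [nat_lit 3, nat_lit 14] [] (.st (nat_lit 81) (unp (nat_lit 6) (nat_lit 0x1388303)) [] (.st (nat_lit 68) (unp (nat_lit 6) (nat_lit 0x1180303)) [] (.st (nat_lit 69) [nat_lit 3, nat_lit 16] [nat_lit 63] (.st (nat_lit 80) (unp (nat_lit 6) (nat_lit 0x1088303))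 [] (.st (nat_lit 110) (unp (nat_lit 6) (nat_lit 0x1380303)) [] (.st (nat_lit 188) (unp (nat_lit 6) (nat_lit 0xb80403)) [] .nil))))))) (unp (nat_lit 6) (nat_lit 0xf84403)) [])⟩)
 (.nd (nat_lit 193) (.lf ⟨nat_lit 0, nat_lit 188, nat_lit 188, (nat_lit 0x1038c8d1b85cc5293dd44986257891a6781760163), one, (nat_lit 0x1038c8d1b85cc5293dd44986257891a6781760163), (.we (nat_lit 0) (nat_lit 0) (nat_lit 0x3eba12c3c3234cd354a978de13ad53d6c7be58abc) (.st (nat_lit 191) [] [] (.st (nat_lit 188) [nat_lit 34, nat_lit 13] [] .nil)))⟩)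
 (.lf ⟨nat_lit 1, nat_lit 188, nat_lit 193, (nat_lit 0x3b6020b1ee99f350ad1583cd87ceba46c32e15ab7), one, one, (.df [nat_lit 3])⟩))))
 (.nd (nat_lit 196) (.nd (nat_lit 195) (.lf ⟨nat_lit 0, nat_lit 193, nat_lit 193, (nat_lit 0xbae13ae2b16c4456f31ba7bbf7733e634bf7bcc4), one, (nat_lit 0x1038c8d1b85cc5293dd44986257891a6781760163), (.cmp (nat_lit 193) (nat_lit 193) (unp (nat_lit 6) (nat_lit 0x1688303)) [nat_lit 192])⟩)
 (.lf ⟨nat_lit 1, nat_lit 112, nat_lit 195, (nat_lit 0x9a472e71a6030c6693ace0c7e5978349d74b3855), one, one, (.df [nat_lit 8, nat_lit 0])⟩))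
 (.nd (nat_lit 197) (.lf ⟨nat_lit 1, nat_lit 195, nat_lit 112, one, (nat_lit 0x9a472e71a6030c6693ace0c7e5978349d74b3855), one, (.wt (nat_lit 0) (nat_lit 0) (nat_lit 0x9a472e71a6030c6693ace0c7e5978349d74b3855) (.st (nat_lit 195) [] [] .nil) [] [])⟩)
 (.nd (nat_lit 198) (.lf ⟨nat_lit 1, nat_lit 114, nat_lit 197, (nat_lit 0xf6d11ea1f2003230c9ae98d7ebf7a100d6421009), one, one, (.df (unp (nat_lit 2) (nat_lit 0x2203)))⟩)
 (.lf ⟨nat_lit 1, nat_lit 197, nat_lit 114, one, (nat_lit 0xf6d11ea1f2003230c9ae98d7ebf7a100d6421009), one, (.wt (nat_lit 0) (nat_lit 0) (nat_lit 0xf6d11ea1f2003230c9ae98d7ebf7a100d6421009) (.st (nat_lit 197) [] [] .nil) [] [])⟩)))))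
 (.nd (nat_lit 204) (.nd (nat_lit 201) (.nd (nat_lit 200) (.lf ⟨nat_lit 1, nat_lit 125, nat_lit 199, (nat_lit 0x3b6020b1ee99f350ad1583cd87ceba46c32e15ab7), one, one, (.df [nat_lit 3])⟩)
 (.lf ⟨nat_lit 1, nat_lit 199, nat_lit 125, one, (nat_lit 0x3b6020b1ee99f350ad1583cd87ceba46c32e15ab7), one, (.wt (nat_lit 0) (nat_lit 0) (nat_lit 0x3b6020b1ee99f350ad1583cd87ceba46c32e15ab7) (.st (nat_lit 199) [] [] .nil) [] [])⟩))
 (.nd (nat_lit 202) (.lf ⟨nat_lit 1, nat_lit 199, nat_lit 195, (nat_lit 0x9a472e71a6030c6693ace0c7e5978349d74b3855), (nat_lit 0x19e924e6d0f830244000a2c3032d76726a6d8d00), (nat_lit 0x1785dad8c614509bec4539d29c7547e7773a6c15e), (.wt (nat_lit 6) (nat_lit 3) (nat_lit 0x1141c1aeb1e26c0104476f84481c863fc23823ad5) (.st (nat_lit 196) (unp (nat_lit 6) (nat_lit 0x1380403)) [] (.st (nat_lit 113) (unp (nat_lit 6) (nat_lit 0x984303)) [] (.st (nat_lit 84)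 [nat_lit 32, nat_lit 19] [] (.st (nat_lit 67) (unp (nat_lit 6) (nat_lit 0xe88403)) [] (.st (nat_lit 85) (unp (nat_lit 6) (nat_lit 0xc88403)) [nat_lit 52] (.st (nat_lit 125) [nat_lit 3, nat_lit 22] [] (.st (nat_lit 199) [nat_lit 33, nat_lit 11] [] .nil))))))) [nat_lit 22] [])⟩)
 (.nd (nat_lit 203) (.lf ⟨nat_lit 1, nat_lit 195, nat_lit 199, (nat_lit 0x3b6020b1ee99f350ad1583cd87ceba46c32e15ab7), (nat_lit 0x3654a5d554b5f2c9a3e73d65ca79a2a655ddf28d3), (nat_lit 0x1c2dc834c117cc9be475051e9326443f773ad7902), (.wt (nat_lit 0) (nat_lit 0) (nat_lit 0x9a472e71a6030c6693ace0c7e5978349d74b3855) (.st (nat_lit 201) [] [] .nil) [nat_lit 33, nat_lit 17] [])⟩)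
 (.lf ⟨nat_lit 1, nat_lit 133, nat_lit 203, (nat_lit 0x3b6020b1ee99f350ad1583cd87ceba46c32e15ab7), one, one, (.df [nat_lit 3])⟩))))
 (.nd (nat_lit 207) (.nd (nat_lit 205) (.lf ⟨nat_lit 1, nat_lit 203, nat_lit 133, one, (nat_lit 0x3b6020b1ee99f350ad1583cd87ceba46c32e15ab7), one, (.wt (nat_lit 0) (nat_lit 0) (nat_lit 0x3b6020b1ee99f350ad1583cd87ceba46c32e15ab7) (.st (nat_lit 203) [] [] .nil) [] [])⟩)
 (.nd (nat_lit 206) (.lf ⟨nat_lit 1, nat_lit 203, nat_lit 197, (nat_lit 0x3eba12c3c3234cd354a978de13ad53d6c7be58abc), (nat_lit 0xef153e98b72519e9e55a29a140a314f87cff2878), (nat_lit 0x20a500fcc609c24f6a87be1396c175c0ea997d36), (.wt (nat_lit 5) (nat_lit 2) (nat_lit 0x1e2e6a14c1972a7eab3301440cb8f4842393859ca) (.st (nat_lit 198) [nat_lit 33, nat_lit 19] [] (.st (nat_lit 116) (unp (nat_lit 6) (nat_lit 0x1388403)) [] (.st (nat_lit 195) [nat_lit 4, nat_lit 13] []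 (.st (nat_lit 202) [nat_lit 4, nat_lit 20] [] (.st (nat_lit 200) (unp (nat_lit 6) (nat_lit 0x988303)) [] (.st (nat_lit 126) [nat_lit 32, nat_lit 15] [] (.st (nat_lit 90) [nat_lit 20] [] (.st (nat_lit 133) [nat_lit 3, nat_lit 6] [] (.st (nat_lit 203) (unp (nat_lit 6) (nat_lit 0x880403)) [] .nil))))))))) [nat_lit 13] [])⟩)
 (.lf ⟨nat_lit 1, nat_lit 167, nat_lit 206, (nat_lit 0x125910161e8d6fe6d72746c6acb95732f82b12d8b), one, one, (.df [nat_lit 2, nat_lit 8])⟩)))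
 (.nd (nat_lit 208) (.lf ⟨nat_lit 1, nat_lit 169, nat_lit 207, (nat_lit 0x9a472e71a6030c6693ace0c7e5978349d74b3855), one, one, (.df [nat_lit 8, nat_lit 0])⟩)
 (.nd (nat_lit 209) (.lf ⟨nat_lit 1, nat_lit 207, nat_lit 169, one, (nat_lit 0x9a472e71a6030c6693ace0c7e5978349d74b3855), one, (.wt (nat_lit 0) (nat_lit 0) (nat_lit 0x9a472e71a6030c6693ace0c7e5978349d74b3855) (.st (nat_lit 207) [] [] .nil) [] [])⟩)
 (.lf ⟨nat_lit 1, nat_lit 171, nat_lit 209, (nat_lit 0x29d069dd4289881cb0b1977aaf1daee2c113e4bec), one, one, (.df [nat_lit 2])⟩)))))))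

noncomputable def T3_210 : Tr :=
  (.nd (nat_lit 231) (.nd (nat_lit 220) (.nd (nat_lit 215) (.nd (nat_lit 212) (.nd (nat_lit 211) (.lf ⟨nat_lit 1, nat_lit 209, nat_lit 171, one, (nat_lit 0x29d069dd4289881cb0b1977aaf1daee2c113e4bec), one, (.wt (nat_lit 0) (nat_lit 0) (nat_lit 0x29d069dd4289881cb0b1977aaf1daee2c113e4bec) (.st (nat_lit 209) [] [] .nil) [] [])⟩)
 (.lf ⟨nat_lit 1, nat_lit 175, nat_lit 211, (nat_lit 0x3b6020b1ee99f350ad1583cd87ceba46c32e15ab7), one, one, (.df [nat_lit 3])⟩))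
 (.nd (nat_lit 213) (.lf ⟨nat_lit 1, nat_lit 211, nat_lit 175, one, (nat_lit 0x3b6020b1ee99f350ad1583cd87ceba46c32e15ab7), one, (.wt (nat_lit 0) (nat_lit 0) (nat_lit 0x3b6020b1ee99f350ad1583cd87ceba46c32e15ab7) (.st (nat_lit 211) [] [] .nil) [] [])⟩)
 (.nd (nat_lit 214) (.lf ⟨nat_lit 1, nat_lit 175, nat_lit 213, (nat_lit 0xf6d11ea1f2003230c9ae98d7ebf7a100d6421009), one, one, (.df (unp (nat_lit 2) (nat_lit 0x2203)))⟩)
 (.lf ⟨nat_lit 1, nat_lit 213, nat_lit 211, (nat_lit 0x100e0aba0d17c70444d02bf329fd10d7608f1b426), (nat_lit 0x306d7b621701e18e2b9379790d8edfd09378e9c3e), (nat_lit 0x1a36fac72f0e1f064ff05ec53564d5192eefa84ae), (.wt (nat_lit 2) (nat_lit 2) (nat_lit 0xf6fabba707546b47a069b9cf9f35dee4b1b2631f) (.st (nat_lit 212) [nat_lit 4, nat_lit 19] [] (.st (nat_lit 213) [] [nat_lit 176] .nil)) [] [])⟩))))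
 (.nd (nat_lit 217) (.nd (nat_lit 216) (.lf ⟨nat_lit 1, nat_lit 211, nat_lit 213, (nat_lit 0x100e0aba0d17c70444d02bf329fd10d7608f1b426), (nat_lit 0x277e6e5cfd1d5c8364add3ac419999e1898f62af0), (nat_lit 0x1a36fac72f0e1f064ff05ec53564d5192eefa84ae), (.wt (nat_lit 0) (nat_lit 0) (nat_lit 0x100e0aba0d17c70444d02bf329fd10d7608f1b426) (.st (nat_lit 214) [] [] .nil) (unp (nat_lit 6) (nat_lit 0x1088403)) [])⟩)
 (.lf ⟨nat_lit 1, nat_lit 213, nat_lit 203, (nat_lit 0x1fce42ed966b34fae64312a96f69e1eea7db1de4), (nat_lit 0x1478e067c092061546060a0027cb0d6e8c20b1163), (nat_lit 0x367f3c88de1ec42bb73fe9d834263cf73194aa785), (.wt (nat_lit 6) (nat_lit 2) (nat_lit 0x154f983d1e740d09ed0ee6d9c5611a201f6f0bc8f) (.st (nat_lit 205) [nat_lit 3, nat_lit 18] [] (.st (nat_lit 198) (unp (nat_lit 6) (nat_lit 0x1188303)) [] (.st (nat_lit 149) [nat_lit 32, nat_lit 11] [] (.st (nat_lit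 180) [nat_lit 33, nat_lit 12] [] (.st (nat_lit 178) [nat_lit 3, nat_lit 6] [] (.st (nat_lit 175) (unp (nat_lit 6) (nat_lit 0x980403)) [] (.st (nat_lit 213) [nat_lit 34, nat_lit 12] [] .nil))))))) (unp (nat_lit 6) (nat_lit 0x1584303)) [])⟩))
 (.nd (nat_lit 218) (.lf ⟨nat_lit 1, nat_lit 177, nat_lit 211, (nat_lit 0x2ba2cea7bd829f6f53bc17c3f6c7dba59a18cc2c5), (nat_lit 0x32303aab59fb42ce9ee2e5cdd6cc8319f77c593b0), (nat_lit 0x37b7a5b0db568d748f7ffef5be8209c85ac67b34d), (.wt (nat_lit 6) (nat_lit 0) (nat_lit 0x1ae5ab878cfe0d5a87bcb09665e3d7a80f80becf0) (.st (nat_lit 212) [nat_lit 32, nat_lit 14] [] (.st (nat_lit 213) [nat_lit 32, nat_lit 6] [] (.st (nat_lit 216) [nat_lit 32, nat_lit 9] [] (.st (nat_lit 204) (unp (nat_lit 6) (nat_lit 0xe84403)) [] (.st (nat_lit 134) (unp (nat_lit 6) (nat_lit 0x1688403)) [nat_lit 136] (.st (nat_lit 145) [nat_lit 34, nat_lit 21]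 [] (.st (nat_lit 180) (unp (nat_lit 6) (nat_lit 0xc84303)) [] .nil))))))) (unp (nat_lit 6) (nat_lit 0x888303)) [])⟩)
 (.nd (nat_lit 219) (.lf ⟨nat_lit 1, nat_lit 211, nat_lit 177, (nat_lit 0x125910161e8d6fe6d72746c6acb95732f82b12d8b), (nat_lit 0x3f1d10057d9b7bd3be44b93d81d5372b47fe2bc59), (nat_lit 0x2aa4afde9c6324fd10b3639b881b3d6f6c522f708), (.wt (nat_lit 0) (nat_lit 0) (nat_lit 0x2ba2cea7bd829f6f53bc17c3f6c7dba59a18cc2c5) (.st (nat_lit 217) [] [] .nil) (unp (nat_lit 6) (nat_lit 0x1084303)) [])⟩)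
 (.lf ⟨nat_lit 1, nat_lit 175, nat_lit 219, (nat_lit 0x1fce42ed966b34fae64312a96f69e1eea7db1de4), one, one, (.df [nat_lit 8])⟩)))))
 (.nd (nat_lit 225) (.nd (nat_lit 222) (.nd (nat_lit 221) (.lf ⟨nat_lit 1, nat_lit 219, nat_lit 207, (nat_lit 0x125910161e8d6fe6d72746c6acb95732f82b12d8b), (nat_lit 0xb318dc6ee09bdad6c93b9a9248d908848d00b4b3), one, (.wt (nat_lit 6) (nat_lit 3) (nat_lit 0x1141c1aeb1e26c0104476f84481c863fc23823ad5) (.st (nat_lit 208) (unp (nat_lit 6) (nat_lit 0x1380403)) [] (.st (nat_lit 170) (unp (nat_lit 6) (nat_lit 0x984303)) [] (.st (nat_lit 103) [nat_lit 32, nat_lit 19] [] (.st (nat_lit 104) (unp (nat_lit 6) (nat_lit 0xd88403)) [] (.st (nat_lit 171) [nat_lit 16] [] (.st (nat_lit 175) [nat_lit 33, nat_lit 19] [] (.st (nat_lit 219) [nat_lit 4, nat_lit 14] [] .nil))))))) [nat_lit 3, nat_lit 21] [])⟩)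
 (.lf ⟨nat_lit 1, nat_lit 207, nat_lit 219, (nat_lit 0x3b6020b1ee99f350ad1583cd87ceba46c32e15ab7), (nat_lit 0x130bc244a96298a4776e84dfaad6373e42014665e), one, (.wt (nat_lit 0) (nat_lit 0) (nat_lit 0x125910161e8d6fe6d72746c6acb95732f82b12d8b) (.st (nat_lit 220) [] [] .nil) [nat_lit 34, nat_lit 22] [])⟩))
 (.nd (nat_lit 223) (.lf ⟨nat_lit 1, nat_lit 219, nat_lit 209, (nat_lit 0x3eba12c3c3234cd354a978de13ad53d6c7be58abc), (nat_lit 0x10b25ce497b6bcd094d66b19cb3d5a9a7169efb83), (nat_lit 0x204cdcedad26b0d7c9c222ad9c6ccb38b174629d9), (.wt (nat_lit 6) (nat_lit 3) (nat_lit 0x7ca567dd30d58922be2dce626effc4f6e2a710ed) (.st (nat_lit 210) [nat_lit 32] [] (.st (nat_lit 175) [nat_lit 4, nat_lit 13] [] (.st (nat_lit 211) [nat_lit 4, nat_lit 20] [] (.st (nat_lit 218) (unp (nat_lit 6) (nat_lit 0xe88303)) [] (.st (nat_lit 178) [nat_lit 3, nat_lit 15] [] (.st (nat_lit 175)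 (unp (nat_lit 6) (nat_lit 0x1680303)) [] (.st (nat_lit 219) (unp (nat_lit 6) (nat_lit 0xe88403)) [nat_lit 176] .nil))))))) [nat_lit 34, nat_lit 11] [])⟩)
 (.nd (nat_lit 224) (.lf ⟨nat_lit 1, nat_lit 209, nat_lit 219, (nat_lit 0x3eba12c3c3234cd354a978de13ad53d6c7be58abc), (nat_lit 0x1ffd65b8a15b8225fd9a55ce745bd67ed2f21bae1), (nat_lit 0x35704746ac0d8517369b296504f54b85b5749f957), (.wt (nat_lit 0) (nat_lit 0) (nat_lit 0x3eba12c3c3234cd354a978de13ad53d6c7be58abc) (.st (nat_lit 222) [] [] .nil) [nat_lit 22] [])⟩)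
 (.lf ⟨nat_lit 1, nat_lit 207, nat_lit 171, (nat_lit 0x3eba12c3c3234cd354a978de13ad53d6c7be58abc), (nat_lit 0x3b177ad6fcda8e5f12092c208b9ef0c2d04dc3f98), (nat_lit 0x342143ea557b9ebcb3994f10a4ba6f0365d6bb95), (.wt (nat_lit 6) (nat_lit 3) (nat_lit 0xf20133bb32f31cbd46cd0482611f4667a3cfc082) (.st (nat_lit 172) [nat_lit 33, nat_lit 9] [] (.st (nat_lit 105) [nat_lit 34, nat_lit 9] [] (.st (nat_lit 104) (unp (nat_lit 6) (nat_lit 0x1384403)) [nat_lit 76] (.st (nat_lit 171) (unp (nat_lit 6) (nat_lit 0x1284403)) [] (.st (nat_lit 209) (unp (nat_lit 6) (nat_lit 0x1288403)) [nat_lit 174] (.st (nat_lit 223) [nat_lit 34, nat_lit 11] [] (.st (nat_lit 220) [nat_lit 34, nat_lit 13] [] .nil))))))) [nat_lit 34] [])⟩))))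
 (.nd (nat_lit 228) (.nd (nat_lit 226) (.lf ⟨nat_lit 0, nat_lit 207, nat_lit 209, (nat_lit 0x3bff537ba1526caeb7f2ded2e124e3be1893704f), one, (nat_lit 0x278e8c7107676ddb3a578e22c35f0b94ebd4c17a5), (.we (nat_lit 0) (nat_lit 0) (nat_lit 0x3eba12c3c3234cd354a978de13ad53d6c7be58abc) (.st (nat_lit 224) [] [] (.st (nat_lit 209) [nat_lit 3, nat_lit 21] [nat_lit 174] .nil)))⟩)
 (.nd (nat_lit 227) (.lf ⟨nat_lit 1, nat_lit 181, nat_lit 185, (nat_lit 0xf6d11ea1f2003230c9ae98d7ebf7a100d6421009), (nat_lit 0x19c559b5d40adb0bbd0c03950c161026a1642bf49), (nat_lit 0xb12516a34df0a3836e20122eb5a6f762f888c91a), (.wt (nat_lit 6) (nat_lit 5) (nat_lit 0x1c9cc6f3e08a819d628c2921b822a516942e5473) (.st (nat_lit 187) [nat_lit 13] [] (.st (nat_lit 131) [nat_lit 32, nat_lit 18] [] (.st (nat_lit 169) [nat_lit 32, nat_lit 12] [] (.st (nat_lit 207) (unp (nat_lit 6) (nat_lit 0xc88403))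 [] (.st (nat_lit 224) [nat_lit 34, nat_lit 11] [] (.st (nat_lit 172) (unp (nat_lit 6) (nat_lit 0x1584303)) [] (.st (nat_lit 181) (unp (nat_lit 6) (nat_lit 0xf80403)) [] .nil))))))) (unp (nat_lit 6) (nat_lit 0x988303)) [])⟩)
 (.lf ⟨nat_lit 0, nat_lit 181, nat_lit 188, (nat_lit 0x3a30108b850c69fc5d2456d5e5fd9193274fbe029), one, (nat_lit 0xb12516a34df0a3836e20122eb5a6f762f888c91a), (.we (nat_lit 0) (nat_lit 0) (nat_lit 0xf6d11ea1f2003230c9ae98d7ebf7a100d6421009) (.st (nat_lit 226) [] [] (.st (nat_lit 190) [nat_lit 4, nat_lit 33] [] .nil)))⟩)))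
 (.nd (nat_lit 229) (.lf ⟨nat_lit 0, nat_lit 188, nat_lit 181, (nat_lit 0x2620fb6fa64fdf1cb0b5387171d4947029173005d), one, (nat_lit 0x2951002a2d74772f8e7d03e54ad9f43230e59d6e), (.inv (nat_lit 227))⟩)
 (.nd (nat_lit 230) (.lf ⟨nat_lit 0, nat_lit 193, nat_lit 104, (nat_lit 0x351a4d7ff5c23da47748ec0bdb977aa1e317308d3), one, (nat_lit 0x2951002a2d74772f8e7d03e54ad9f43230e59d6e), (.cmp (nat_lit 193) (nat_lit 182) [nat_lit 3] [nat_lit 228])⟩)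
 (.lf ⟨nat_lit 0, nat_lit 104, nat_lit 193, (nat_lit 0x35e0fe39e8f4c1e600018efd65392f7d4d26db831), one, (nat_lit 0xb12516a34df0a3836e20122eb5a6f762f888c91a), (.inv (nat_lit 229))⟩))))))
 (.nd (nat_lit 241) (.nd (nat_lit 236) (.nd (nat_lit 233) (.nd (nat_lit 232) (.lf ⟨nat_lit 0, nat_lit 104, nat_lit 104, (nat_lit 0x135e171446b8665be08be2d2219b395507e6e9f2), one, (nat_lit 0x1297196ed42b6340dca88ed43a53b145041a1d13c), (.prod (unp (nat_lit 8) (nat_lit 0xe5c2e603)))⟩)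
 (.lf ⟨nat_lit 0, nat_lit 171, nat_lit 75, (nat_lit 0x852608fbd0e39177128c82153bf678b945daa5cb), one, (nat_lit 0x1297196ed42b6340dca88ed43a53b145041a1d13c), (.cmp (nat_lit 171) (nat_lit 105) (unp (nat_lit 6) (nat_lit 0x1180403)) [nat_lit 231])⟩))
 (.nd (nat_lit 234) (.lf ⟨nat_lit 0, nat_lit 177, nat_lit 100, (nat_lit 0x310b0f844063a1e5e68e2eb480505beda80f64502), one, (nat_lit 0x1297196ed42b6340dca88ed43a53b145041a1d13c), (.cmp (nat_lit 177) (nat_lit 106) (unp (nat_lit 6) (nat_lit 0x1180403)) [nat_lit 231])⟩)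
 (.nd (nat_lit 235) (.lf ⟨nat_lit 0, nat_lit 75, nat_lit 171, (nat_lit 0x2fb0223e623ba177910ac71539ce1dabeb898809), one, (nat_lit 0x1297196ed42b6340dca88ed43a53b145041a1d13c), (.inv (nat_lit 232))⟩)
 (.lf ⟨nat_lit 0, nat_lit 75, nat_lit 75, (nat_lit 0x20a500fcc609c24f6a87be1396c175c0ea997d36), one, (nat_lit 0x1ff2a83cf20d718d3de5bc1982cba772f232b29e5), (.prod (unp (nat_lit 8) (nat_lit 0xe8aeea03)))⟩))))
 (.nd (nat_lit 238) (.nd (nat_lit 237) (.lf ⟨nat_lit 0, nat_lit 175, nat_lit 108, (nat_lit 0x12a099eee3ba547a9e3c6ca274caf71ba3b96eda6), one, (nat_lit 0x29040964e02c06d74a4091956be75539ce633e254), (.cmp (nat_lit 175) (nat_lit 108) [nat_lit 21] [nat_lit 232, nat_lit 76])⟩)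
 (.lf ⟨nat_lit 0, nat_lit 209, nat_lit 56, (nat_lit 0x96d70db8d8a14914fc4b7286f191845d1667ff37), one, (nat_lit 0x1297196ed42b6340dca88ed43a53b145041a1d13c), (.cmp (nat_lit 209) (nat_lit 77) (unp (nat_lit 6) (nat_lit 0x1280303)) [nat_lit 232])⟩))
 (.nd (nat_lit 239) (.lf ⟨nat_lit 0, nat_lit 145, nat_lit 168, (nat_lit 0x3c0d3ef6795e96dd16229c75baa7367f807fd31ff), one, (nat_lit 0x3764f667a529d98823e07f0ee438ebbff912b0705), (.cmp (nat_lit 179) (nat_lit 168) (unp (nat_lit 6) (nat_lit 0x680303)) [nat_lit 233])⟩)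
 (.nd (nat_lit 240) (.lf ⟨nat_lit 0, nat_lit 211, nat_lit 167, (nat_lit 0x3cda17b72c15f0b8006f574ccbe76dfb71be48eac), one, (nat_lit 0x1d36afb6a4866b1ffb5b2ad66a070a4f291f6fac6), (.cmp (nat_lit 217) (nat_lit 167) [nat_lit 4, nat_lit 32] [nat_lit 233])⟩)
 (.lf ⟨nat_lit 0, nat_lit 75, nat_lit 75, (nat_lit 0x1109587d8cf40d01d2cfb86fc04531bd7feacc93d), one, (nat_lit 0x16d72a8d7d3d0f8a823d4702b2c6d7a8aea754c6d), (.prod [nat_lit 76, nat_lit 235])⟩)))))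
 (.nd (nat_lit 246) (.nd (nat_lit 243) (.nd (nat_lit 242) (.lf ⟨nat_lit 0, nat_lit 75, nat_lit 75, (nat_lit 0x1103f87060b6fb2db70bd53ef6e527c671141655d), one, (nat_lit 0x16d72a8d7d3d0f8a823d4702b2c6d7a8aea754c6d), (.prod [nat_lit 235, nat_lit 76])⟩)
 (.lf ⟨nat_lit 0, nat_lit 75, nat_lit 75, (nat_lit 0x206f3620d37f64df46d9007bfe931dd34e88d5ce), one, (nat_lit 0x1ff2a83cf20d718d3de5bc1982cba772f232b29e5), (.prod [nat_lit 240, nat_lit 76])⟩))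
 (.nd (nat_lit 244) (.lf ⟨nat_lit 0, nat_lit 75, nat_lit 75, (nat_lit 0x16d520f1143372008403558243017d182d1faca0), one, (nat_lit 0x13ea0bc0d56ce86cc9fd377d87ce81f0a0dee6589), (.prod [nat_lit 241, nat_lit 235])⟩)
 (.nd (nat_lit 245) (.lf ⟨nat_lit 0, nat_lit 75, nat_lit 75, (nat_lit 0x16925b0dafb92ce21162e0a2b0107204732bd028), one, one, (.prod [nat_lit 242, nat_lit 235])⟩)
 (.lf ⟨nat_lit 0, nat_lit 100, nat_lit 56, (nat_lit 0x19307ba4434fd96d3cd4a4e925ddb1c63057aa038), one, (nat_lit 0x16d72a8d7d3d0f8a823d4702b2c6d7a8aea754c6d), (.cmp (nat_lit 100) (nat_lit 77) (unp (nat_lit 6) (nat_lit 0x684403)) [nat_lit 240])⟩))))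
 (.nd (nat_lit 249) (.nd (nat_lit 247) (.lf ⟨nat_lit 0, nat_lit 102, nat_lit 72, (nat_lit 0x307ba1743107afcdbff1097684a431d8d97b63173), one, (nat_lit 0x1c2dc834c117cc9be475051e9326443f773ad7902), (.cmp (nat_lit 102) (nat_lit 78) [nat_lit 34, nat_lit 12] [nat_lit 244])⟩)
 (.nd (nat_lit 248) (.lf ⟨nat_lit 0, nat_lit 108, nat_lit 56, (nat_lit 0xc4564d2de2a3b0c6e166ca204f709836f12cc92f), one, (nat_lit 0x13ea0bc0d56ce86cc9fd377d87ce81f0a0dee6589), (.cmp (nat_lit 108) (nat_lit 77) [nat_lit 4, nat_lit 11] [nat_lit 243])⟩)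
 (.lf ⟨nat_lit 0, nat_lit 211, nat_lit 183, (nat_lit 0x1a056076eb8876c45ca57dc9ea432ffa8ca214e99), one, (nat_lit 0x29040964e02c06d74a4091956be75539ce633e254), (.cmp (nat_lit 211) (nat_lit 183) [nat_lit 15] [nat_lit 236])⟩)))
 (.nd (nat_lit 250) (.lf ⟨nat_lit 0, nat_lit 213, nat_lit 184, (nat_lit 0x11ad7be3ecca859b8ac250531975d2343651eeeae), one, (nat_lit 0x29040964e02c06d74a4091956be75539ce633e254), (.cmp (nat_lit 213) (nat_lit 184) [nat_lit 4, nat_lit 11] [nat_lit 236])⟩)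
 (.nd (nat_lit 251) (.lf ⟨nat_lit 0, nat_lit 219, nat_lit 137, (nat_lit 0x2627dfabd5dcf2cbf12a5182ba7597d9ef5f6eef9), one, (nat_lit 0x1c2bc3588e3249de837483a9230144dc438517d9a), (.cmp (nat_lit 219) (nat_lit 140) (unp (nat_lit 6) (nat_lit 0xb80403)) [nat_lit 236])⟩)
 (.lf ⟨nat_lit 0, nat_lit 207, nat_lit 56, (nat_lit 0x3a71bc1c4856d01f2e648ff521c1d89df46c9f963), one, (nat_lit 0x1f3eb72c6491106683fa7bc47f223e5d71ef5fa8), (.prod [nat_lit 225, nat_lit 237])⟩)))))))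

noncomputable def T3_252 : Tr :=
  (.nd (nat_lit 273) (.nd (nat_lit 262) (.nd (nat_lit 257) (.nd (nat_lit 254) (.nd (nat_lit 253) (.lf ⟨nat_lit 0, nat_lit 169, nat_lit 64, (nat_lit 0x32fb289f602b51b47a147c42ba741dcf158bb6d60), one, (nat_lit 0x16e3ab878ecaecdee67e003153bff636f7dfed6fe), (.cmp (nat_lit 208) (nat_lit 69) [nat_lit 3, nat_lit 9] [nat_lit 251, nat_lit 63])⟩)
 (.lf ⟨nat_lit 0, nat_lit 219, nat_lit 75, (nat_lit 0xed71f52cb661ad1e5e39fcc65230a692c451ff4b), one, (nat_lit 0x31f1c0af71adb66d4b43cb5e357ae4c1648637b6e), (.cmp (nat_lit 221) (nat_lit 75) (unp (nat_lit 6) (nat_lit 0xb84403)) [nat_lit 251, nat_lit 58])⟩))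
 (.nd (nat_lit 255) (.lf ⟨nat_lit 0, nat_lit 213, nat_lit 206, (nat_lit 0x35329f286a5b70dd1632c5e14b9e81b988ca5ae5c), one, (nat_lit 0x29488968b2796df745fb0c6d5fd433634167eae0f), (.cmp (nat_lit 215) (nat_lit 206) [nat_lit 33, nat_lit 17] [nat_lit 239])⟩)
 (.nd (nat_lit 256) (.lf ⟨nat_lit 0, nat_lit 162, nat_lit 64, (nat_lit 0xc5e71250a7eeeee29cd26a3a8a9d589a2afcb57c), one, (nat_lit 0x2774ea0a3532f4cfdefead6bfef4f46425f23e3b), (.cmp (nat_lit 165) (nat_lit 69) (unp (nat_lit 6) (nat_lit 0xb80303)) [nat_lit 245, nat_lit 58])⟩)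
 (.lf ⟨nat_lit 0, nat_lit 167, nat_lit 75, (nat_lit 0x1be19238427c315eec4e063d6ba4a62fe4d8a67fd), one, (nat_lit 0x2bac06808a227c3e12e151b440b5939c6c81e0464), (.cmp (nat_lit 167) (nat_lit 75) (unp (nat_lit 6) (nat_lit 0x1580403)) [nat_lit 245, nat_lit 58])⟩))))
 (.nd (nat_lit 259) (.nd (nat_lit 258) (.lf ⟨nat_lit 0, nat_lit 168, nat_lit 51, (nat_lit 0x2fd4cc1937a19dd3cd5cc00f5afe9a7833e994ea1), one, (nat_lit 0x2f2df0a9eed8ff5c27de6b80a9962aad2369e55e1), (.cmp (nat_lit 168) (nat_lit 59) [nat_lit 34, nat_lit 20] [nat_lit 245, nat_lit 61])⟩)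
 (.lf ⟨nat_lit 0, nat_lit 129, nat_lit 98, (nat_lit 0x341b406a2fcc5215b37b276cbba9ea09e3470fccc), one, (nat_lit 0x16036823174282cc23094c451dfbc0684da4ca2f0), (.cmp (nat_lit 132) (nat_lit 98) [nat_lit 4, nat_lit 12] [nat_lit 246])⟩))
 (.nd (nat_lit 260) (.lf ⟨nat_lit 0, nat_lit 169, nat_lit 98, (nat_lit 0x154d4d84058f950103afc2a86301958892b8be546), one, (nat_lit 0x86ad1ff6a33f145f4194337adc5138ad8c9bdcb7), (.cmp (nat_lit 169) (nat_lit 98) [nat_lit 33, nat_lit 17] [nat_lit 246, nat_lit 73])⟩)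
 (.nd (nat_lit 261) (.lf ⟨nat_lit 0, nat_lit 137, nat_lit 72, (nat_lit 0x60b9ae8680d8ed0f80ec46ad87303b720e5e730f), one, (nat_lit 0x1c8ecb76742a88a610646281907901380d54096c9), (.cmp (nat_lit 140) (nat_lit 72) (unp (nat_lit 6) (nat_lit 0x1680303)) [nat_lit 247, nat_lit 58])⟩)
 (.lf ⟨nat_lit 0, nat_lit 183, nat_lit 64, (nat_lit 0x360285d5819ac421bb5fd1ddb76f5f222579bb8c6), one, (nat_lit 0x1785dad8c614509bec4539d29c7547e7773a6c15e), (.cmp (nat_lit 183) (nat_lit 69) [nat_lit 32, nat_lit 13] [nat_lit 247, nat_lit 63])⟩)))))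
 (.nd (nat_lit 267) (.nd (nat_lit 264) (.nd (nat_lit 263) (.lf ⟨nat_lit 0, nat_lit 184, nat_lit 51, (nat_lit 0x762b6060da8981ed93d909d89630dbcf23cbf488), one, (nat_lit 0x13ea0bc0d56ce86cc9fd377d87ce81f0a0dee6589), (.cmp (nat_lit 184) (nat_lit 59) (unp (nat_lit 6) (nat_lit 0x1688303)) [nat_lit 247])⟩)
 (.lf ⟨nat_lit 0, nat_lit 167, nat_lit 211, (nat_lit 0x278e8c7107676ddb3a578e22c35f0b94ebd4c17a5), one, (nat_lit 0x10b25ce497b6bcd094d66b19cb3d5a9a7169efb83), (.inv (nat_lit 239))⟩))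
 (.nd (nat_lit 265) (.lf ⟨nat_lit 0, nat_lit 167, nat_lit 183, (nat_lit 0x68f70060803628d9124431100a606241a7d4c97e), one, (nat_lit 0x33f733dd8ce27e20bf299b799a63d1204f6e3d2a2), (.prod [nat_lit 263, nat_lit 248])⟩)
 (.nd (nat_lit 266) (.lf ⟨nat_lit 0, nat_lit 137, nat_lit 219, (nat_lit 0x367857302dbf38e080b766423565d7413f8ff5a22), one, (nat_lit 0xf0799b8eb01ccde8b4c37670e50771d4385bc502), (.inv (nat_lit 250))⟩)
 (.lf ⟨nat_lit 0, nat_lit 137, nat_lit 75, (nat_lit 0x12b65a74c109b90d71245ec51beb86f15e2de184a), one, (nat_lit 0x19bcadae4d457316e2cc45abdc42bd2eee9fcb45b), (.prod [nat_lit 265, nat_lit 253])⟩))))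
 (.nd (nat_lit 270) (.nd (nat_lit 268) (.lf ⟨nat_lit 0, nat_lit 87, nat_lit 72, (nat_lit 0x24c0cc7fe55de8a1b3ebdb91dc5cb732fd4b49740), one, (nat_lit 0x18d6c8a43a0a160dcb140fd1165f863e96f80cc7f), (.cmp (nat_lit 138) (nat_lit 78) (unp (nat_lit 6) (nat_lit 0xe88403)) [nat_lit 266, nat_lit 240])⟩)
 (.nd (nat_lit 269) (.lf ⟨nat_lit 0, nat_lit 108, nat_lit 72, (nat_lit 0x3a6d7b3e13cc505a8be5515474d9901ab44b26091), one, (nat_lit 0x31877969e478480eb7db7272b911d416831c7ff5b), (.cmp (nat_lit 139) (nat_lit 78) [nat_lit 15] [nat_lit 266, nat_lit 235])⟩)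
 (.lf ⟨nat_lit 0, nat_lit 56, nat_lit 108, (nat_lit 0x88694b08a161988fe1e51a513648fcec9114a09f), one, (nat_lit 0x13ea0bc0d56ce86cc9fd377d87ce81f0a0dee6589), (.inv (nat_lit 247))⟩)))
 (.nd (nat_lit 271) (.lf ⟨nat_lit 0, nat_lit 184, nat_lit 213, (nat_lit 0x142b3823159f4577929633dc34bfc6bc1ce6ada97), one, (nat_lit 0x34f111789602085680486ded7441f4b9320901235), (.inv (nat_lit 249))⟩)
 (.nd (nat_lit 272) (.lf ⟨nat_lit 0, nat_lit 184, nat_lit 206, (nat_lit 0x133e1931986bdb68d8ecb338151da65f469c6ec08), one, (nat_lit 0x180049c7ca63e8698a5da6748bdc270912afcfc41), (.prod [nat_lit 270, nat_lit 254])⟩)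
 (.lf ⟨nat_lit 0, nat_lit 158, nat_lit 51, (nat_lit 0x19b95abd21589383ec8dea3a20723ccac598b4173), one, (nat_lit 0x10696c0210301158a9554de8ad8c0ad055b39e511), (.cmp (nat_lit 163) (nat_lit 67) (unp (nat_lit 6) (nat_lit 0xb80303)) [nat_lit 255, nat_lit 71])⟩))))))
 (.nd (nat_lit 283) (.nd (nat_lit 278) (.nd (nat_lit 275) (.nd (nat_lit 274) (.lf ⟨nat_lit 0, nat_lit 206, nat_lit 56, (nat_lit 0x3d79d0b395c1e2326aa54562c96949df183f9a64d), one, (nat_lit 0x3bee2f44535c109cfbd75dea39712b27875669ef), (.cmp (nat_lit 206) (nat_lit 77) (unp (nat_lit 6) (nat_lit 0xd88303)) [nat_lit 256, nat_lit 235])⟩)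
 (.lf ⟨nat_lit 0, nat_lit 145, nat_lit 51, (nat_lit 0x2ac5d16da96bd1e044a8336100a6fc581c45cece7), one, (nat_lit 0x3fc2fd94e4a294ca5fd8e69f390f8f1574cc34993), (.prod [nat_lit 238, nat_lit 257])⟩))
 (.nd (nat_lit 276) (.lf ⟨nat_lit 0, nat_lit 87, nat_lit 87, (nat_lit 0x2d2cd2c974016a631591d3ed8e815b03c688fd930), one, (nat_lit 0x30b6320d0518c15c28a0b6bcac3a7bac863235ba6), (.cmp (nat_lit 146) (nat_lit 87) [nat_lit 4, nat_lit 9] [nat_lit 274, nat_lit 52])⟩)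
 (.nd (nat_lit 277) (.lf ⟨nat_lit 0, nat_lit 141, nat_lit 85, (nat_lit 0x3f07912dda83acdac1d91680dd5d6e3b6fa3e79ec), one, (nat_lit 0x30b6320d0518c15c28a0b6bcac3a7bac863235ba6), (.cmp (nat_lit 147) (nat_lit 85) (unp (nat_lit 6) (nat_lit 0x1684303)) [nat_lit 274, nat_lit 52])⟩)
 (.lf ⟨nat_lit 0, nat_lit 85, nat_lit 166, (nat_lit 0x1a90956bf41686206935b3911b60b87f4b0200213), one, (nat_lit 0x16036823174282cc23094c451dfbc0684da4ca2f0), (.cmp (nat_lit 130) (nat_lit 166) [nat_lit 3] [nat_lit 258])⟩))))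
 (.nd (nat_lit 280) (.nd (nat_lit 279) (.lf ⟨nat_lit 0, nat_lit 64, nat_lit 169, (nat_lit 0x3425488ab450dd19c439201132229b53cfa67b596), one, (nat_lit 0x1ee559b77dae1cff8c3689317d12c52d87a42cfdd), (.inv (nat_lit 252))⟩)
 (.lf ⟨nat_lit 0, nat_lit 64, nat_lit 98, (nat_lit 0x208dd0c49ffbbeffd562e651a8b1a4962b762921f), one, (nat_lit 0x1ad4eaa3971ff2a4b9200cce09f92151a96275bfe), (.prod [nat_lit 278, nat_lit 259])⟩))
 (.nd (nat_lit 281) (.lf ⟨nat_lit 0, nat_lit 98, nat_lit 64, (nat_lit 0x2e39332488cf55342c1fd9970eaaf4871b3ccf3c8), one, (nat_lit 0x1f7bca6efb545700ba30dcb30deb8278a102cd2ef), (.inv (nat_lit 279))⟩)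
 (.nd (nat_lit 282) (.lf ⟨nat_lit 0, nat_lit 141, nat_lit 82, (nat_lit 0x115b96ca23e60cf9377af863e2e8eef108bf015be), one, (nat_lit 0x28a14970bb832c62c29b8b57a1a5c6802ba6b1012), (.cmp (nat_lit 144) (nat_lit 82) (unp (nat_lit 6) (nat_lit 0xe88303)) [nat_lit 280, nat_lit 66])⟩)
 (.lf ⟨nat_lit 0, nat_lit 166, nat_lit 56, (nat_lit 0x999a824d68d0c6b69a99f472f8aff91f5bd76316), one, (nat_lit 0x29cc13448510289d8908110b0132d4603d9930f66), (.cmp (nat_lit 166) (nat_lit 68) [nat_lit 32, nat_lit 17] [nat_lit 280, nat_lit 71])⟩)))))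
 (.nd (nat_lit 288) (.nd (nat_lit 285) (.nd (nat_lit 284) (.lf ⟨nat_lit 0, nat_lit 75, nat_lit 137, (nat_lit 0x12b65a74c109b90d71245ec51beb86f15e2de184a), one, (nat_lit 0x11d62e118a3e4c7c2f91e54978634da02eeab5549), (.inv (nat_lit 266))⟩)
 (.lf ⟨nat_lit 0, nat_lit 75, nat_lit 72, (nat_lit 0xb1fc20ecb52ca25fda1cb6b80f4272e1a30dc8ef), one, (nat_lit 0x314b337873f08af6a923215245f7856c376c4305d), (.prod [nat_lit 283, nat_lit 260])⟩))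
 (.nd (nat_lit 286) (.lf ⟨nat_lit 0, nat_lit 72, nat_lit 75, (nat_lit 0xb1fc20ecb52ca25fda1cb6b80f4272e1a30dc8ef), one, (nat_lit 0x2e97ab2019dce371730a3cafdcd9441fc331961ab), (.inv (nat_lit 284))⟩)
 (.nd (nat_lit 287) (.lf ⟨nat_lit 0, nat_lit 75, nat_lit 167, (nat_lit 0x96689540f2d8d3c81aea94b519fd1ede2f4f5ed2), one, (nat_lit 0x2a3454762b4cc7103a7c5b69f50a416f08a8e8d7c), (.inv (nat_lit 256))⟩)
 (.lf ⟨nat_lit 0, nat_lit 72, nat_lit 64, (nat_lit 0x4082b621685acd7819a68faa846876ee7535a5cb), one, (nat_lit 0x1e09eba24b57d5e67670e7f33d4d71ef2cf14b425), (.prod (unp (nat_lit 9) (nat_lit 0x82c223d1d04)))⟩))))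
 (.nd (nat_lit 291) (.nd (nat_lit 289) (.lf ⟨nat_lit 0, nat_lit 87, nat_lit 64, (nat_lit 0x3667da6afabca7792b89b3dc3b41fc9e6e766a425), one, (nat_lit 0x236105b8a0404766063c4c098fa5b0f3c26e739a9), (.prod [nat_lit 267, nat_lit 287])⟩)
 (.nd (nat_lit 290) (.lf ⟨nat_lit 0, nat_lit 56, nat_lit 64, (nat_lit 0x193487cb7775acd29c34ab9132865a16518c00c10), one, (nat_lit 0x2d70e9cb593cd316e2d140d7bee7be693208d0af6), (.prod (unp (nat_lit 9) (nat_lit 0x47e190d03)))⟩)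
 (.lf ⟨nat_lit 0, nat_lit 64, nat_lit 56, (nat_lit 0xe934f94ab00207f2118077e20507af92593f6d2e), one, (nat_lit 0x308ac2ead21dcbd56959805fa320dffeae2ff5bd3), (.inv (nat_lit 289))⟩)))
 (.nd (nat_lit 292) (.lf ⟨nat_lit 0, nat_lit 51, nat_lit 184, (nat_lit 0x3eab6f861a6f99d876d327989b0ec5282a1e50b8), one, (nat_lit 0x13ea0bc0d56ce86cc9fd377d87ce81f0a0dee6589), (.inv (nat_lit 262))⟩)
 (.nd (nat_lit 293) (.lf ⟨nat_lit 0, nat_lit 51, nat_lit 56, (nat_lit 0x39b95ded8c8e12836f164dca7853fe80982d3adca), one, (nat_lit 0x10e973cb7281a4980a79eca638ac93ddc0f3c7478), (.prod (unp (nat_lit 9) (nat_lit 0x4461f2303)))⟩)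
 (.lf ⟨nat_lit 0, nat_lit 56, nat_lit 51, (nat_lit 0x35e0ecaa8a9bdc4b0d12fedc66f7dad73eaf3984c), one, (nat_lit 0xe4348d331b84b50b2143244a8aa30de8c80f3cb0), (.inv (nat_lit 292))⟩)))))))

noncomputable def T3_294 : Tr :=
  (.nd (nat_lit 315) (.nd (nat_lit 304) (.nd (nat_lit 299) (.nd (nat_lit 296) (.nd (nat_lit 295) (.lf ⟨nat_lit 0, nat_lit 64, nat_lit 87, (nat_lit 0x393db97701effd92356cef96b581bd2bb6e2730cb), one, (nat_lit 0x237105baa068686c15f1aab92e3946e3c875311c7), (.inv (nat_lit 288))⟩)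
 (.lf ⟨nat_lit 0, nat_lit 51, nat_lit 51, (nat_lit 0x262e3d7f488997cd773fb266d7c802bff12747c9d), one, (nat_lit 0x3a24a59ca97ff04ca566f72ef09f2e559e1c53ece), (.prod (unp (nat_lit 9) (nat_lit 0x496452089c9a432407)))⟩))
 (.nd (nat_lit 297) (.lf ⟨nat_lit 0, nat_lit 51, nat_lit 51, (nat_lit 0xb4a1d94e44122ec186e31ced167d3c46e113c2d3), one, (nat_lit 0x3f3d0b5b5dd02ce325dc069847953d5ea24de0d6f), (.prod [nat_lit 52, nat_lit 295])⟩)
 (.nd (nat_lit 298) (.lf ⟨nat_lit 0, nat_lit 51, nat_lit 51, (nat_lit 0xc3e7dc11197bf216f6529552c128e719f366e144), one, (nat_lit 0x16b6aa2c354fb1af80a4f76136bff3663c51be93c), (.prod [nat_lit 53, nat_lit 295])⟩)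
 (.lf ⟨nat_lit 0, nat_lit 51, nat_lit 51, (nat_lit 0x82f1b347ba6ed6fa5939453efbcd85bf9619867a), one, (nat_lit 0x209d3b30dd09807c019e06769f80327833bbf04b7), (.prod [nat_lit 295, nat_lit 295])⟩))))
 (.nd (nat_lit 301) (.nd (nat_lit 300) (.lf ⟨nat_lit 0, nat_lit 51, nat_lit 51, (nat_lit 0x2a812ff9b61e3837cac51a4d6f06d5bd53796a61d), one, (nat_lit 0x8cd099323e7ac397137b19172470c3aaeefa1298), (.prod [nat_lit 296, nat_lit 295])⟩)
 (.lf ⟨nat_lit 0, nat_lit 51, nat_lit 51, (nat_lit 0x1845839c67deb24771cf5df1e3c5784671932d235), one, (nat_lit 0x2211be69467244e69611a2d65a76444671240cc79), (.prod [nat_lit 298, nat_lit 295])⟩))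
 (.nd (nat_lit 302) (.lf ⟨nat_lit 0, nat_lit 51, nat_lit 51, (nat_lit 0x3654a5d554b5f2c9a3e73d65ca79a2a655ddf28d3), one, (nat_lit 0x23dcef6e32105f69023ff8935fa8be726ed13ebdb), (.inv (nat_lit 295))⟩)
 (.nd (nat_lit 303) (.lf ⟨nat_lit 0, nat_lit 51, nat_lit 51, (nat_lit 0x9859893007064a23c442082b2c65b6a30ddc2f3d), one, (nat_lit 0x1de0926ac393940084824fe339ed067b5ce35c944), (.prod (unp (nat_lit 9) (nat_lit 0x4b4692703)))⟩)
 (.lf ⟨nat_lit 0, nat_lit 51, nat_lit 51, (nat_lit 0x148a3002a254cc2b0e593e2a21465b6e44a3c2f3c), one, (nat_lit 0x8003a3e5793d485e5c24eee137313da8e483dce0), (.inv (nat_lit 302))⟩)))))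
 (.nd (nat_lit 309) (.nd (nat_lit 306) (.nd (nat_lit 305) (.lf ⟨nat_lit 0, nat_lit 51, nat_lit 51, (nat_lit 0x82f1b347ba6ed6fa5939453efbcd85bf9619867a), one, (nat_lit 0x3c8e45d2c1564e2395a80eb7c70562ed07c2df161), (.inv (nat_lit 300))⟩)
 (.lf ⟨nat_lit 0, nat_lit 51, nat_lit 51, (nat_lit 0x10003ee42b1dcfa59538adc760f734d392f56083c), one, (nat_lit 0x1093a1e1b051738d4803b687d318f7b707ff9ff72), (.prod (unp (nat_lit 9) (nat_lit 0x97cc0692b04)))⟩))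
 (.nd (nat_lit 307) (.lf ⟨nat_lit 0, nat_lit 51, nat_lit 51, (nat_lit 0xf5ea9c297112a29b9596725bd2961c92eeffc827), one, (nat_lit 0x170cb0e9cbb51ccf9a633cafa32213bd341ac548b), (.prod [nat_lit 302, nat_lit 305])⟩)
 (.nd (nat_lit 308) (.lf ⟨nat_lit 0, nat_lit 51, nat_lit 51, (nat_lit 0x1ee35ee62970ce0500d08bb760d5b6a032680657c), one, (nat_lit 0x1d40d86292bb6d4c1d889ccf4ac2c1004aa4cd89d), (.prod [nat_lit 305, nat_lit 305])⟩)
 (.lf ⟨nat_lit 0, nat_lit 51, nat_lit 39, (nat_lit 0x222b62f474766792ab9c22e6170df19ff518ff61f), one, (nat_lit 0x3254006a2cc3b8b8ae0ca468e4a3085dabc3a943b), (.cmp (nat_lit 55) (nat_lit 54) [nat_lit 34, nat_lit 8] [nat_lit 306, nat_lit 297])⟩))))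
 (.nd (nat_lit 312) (.nd (nat_lit 310) (.lf ⟨nat_lit 0, nat_lit 56, nat_lit 39, (nat_lit 0x1bfb20dad9208e69db029cedda83e6ffc1a462bc3), one, (nat_lit 0x3361f66b4869fff6ada5467dbed48f2ea5afdea26), (.cmp (nat_lit 56) (nat_lit 54) [nat_lit 4, nat_lit 32] [nat_lit 307, nat_lit 302])⟩)
 (.nd (nat_lit 311) (.lf ⟨nat_lit 0, nat_lit 158, nat_lit 125, (nat_lit 0x32fd4398c55f7dbb8ca77ee5f2fd2d284bc9b3590), one, (nat_lit 0x1845839c67deb24771cf5df1e3c5784671932d235), (.cmp (nat_lit 161) (nat_lit 125) (unp (nat_lit 6) (nat_lit 0x1180303)) [nat_lit 276])⟩)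
 (.lf ⟨nat_lit 0, nat_lit 85, nat_lit 141, (nat_lit 0x2c3989b5d6a4cbd29c25ea38d9314e4c07281ddc0), one, (nat_lit 0x23e82b4c39015212c40582c339e6bf52004e73a4d), (.inv (nat_lit 276))⟩)))
 (.nd (nat_lit 313) (.lf ⟨nat_lit 0, nat_lit 85, nat_lit 82, (nat_lit 0x35e8c83da27bc354a2c6a7f82df6b300c313f19ff), one, (nat_lit 0x3d0e538d6a1e39d7c3fc73159340e6871074204ff), (.prod [nat_lit 311, nat_lit 281])⟩)
 (.nd (nat_lit 314) (.lf ⟨nat_lit 0, nat_lit 82, nat_lit 85, (nat_lit 0x39f029190808dfb87a4a84db2b7bb6c0c17c7f987), one, (nat_lit 0x2e3c39c0df281fdf3bd1857b0604c1453eb61e981), (.inv (nat_lit 312))⟩)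
 (.lf ⟨nat_lit 0, nat_lit 82, nat_lit 51, (nat_lit 0x1b81f08b848e798eb36f44c6849a77f7b32753668), one, (nat_lit 0x39b95ded8c8e12836f164dca7853fe80982d3adca), (.prod (unp (nat_lit 9) (nat_lit 0x92c6a2b3904)))⟩))))))
 (.nd (nat_lit 325) (.nd (nat_lit 320) (.nd (nat_lit 317) (.nd (nat_lit 316) (.lf ⟨nat_lit 0, nat_lit 51, nat_lit 82, (nat_lit 0x6c3a84ebeb5af0b36f7afb9a91ac45c2bd6dcb03), one, (nat_lit 0x35e0ecaa8a9bdc4b0d12fedc66f7dad73eaf3984c), (.inv (nat_lit 314))⟩)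
 (.lf ⟨nat_lit 0, nat_lit 39, nat_lit 51, (nat_lit 0x247af0fccd3ed53bc178a40639c9415565ed2e3be), one, (nat_lit 0x25e6582790e76738066554f449993c8881e41e477), (.inv (nat_lit 308))⟩))
 (.nd (nat_lit 318) (.lf ⟨nat_lit 0, nat_lit 39, nat_lit 39, (nat_lit 0x11796f813d507679b6677a915fd079858b3066880), one, (nat_lit 0x13d260494f754f6e29a7793095efad81f9f494ff9), (.prod (unp (nat_lit 9) (nat_lit 0x4d6493c03)))⟩)
 (.nd (nat_lit 319) (.lf ⟨nat_lit 0, nat_lit 39, nat_lit 39, (nat_lit 0x1e4f1e2831920e847b847a3b6d041108eb073913), one, (nat_lit 0x129cd119da7a00e970b7d2071ff55af8efdcbc85), (.inv (nat_lit 43))⟩)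
 (.lf ⟨nat_lit 0, nat_lit 39, nat_lit 39, (nat_lit 0x1838f2efee660fc69fb5dbce927016a89c18c749d), one, (nat_lit 0xe3d8b0d407d6021bb75d59593e561eaf240dbd79), (.prod [nat_lit 317, nat_lit 318])⟩))))
 (.nd (nat_lit 322) (.nd (nat_lit 321) (.lf ⟨nat_lit 0, nat_lit 39, nat_lit 39, (nat_lit 0x21c22ff176804b064fea429b7a77bce9d638b9887), one, (nat_lit 0x312f6cbbbb9bb76cb1957ae14771fa75c10b7b4cc), (.prod [nat_lit 42, nat_lit 319])⟩)
 (.lf ⟨nat_lit 0, nat_lit 39, nat_lit 39, (nat_lit 0xf5ea9c297112a29b9596725bd2961c92eeffc827), one, (nat_lit 0x125450fccf465eef6ce9ad428db0a6733c9ff419b), (.prod [nat_lit 319, nat_lit 319])⟩))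
 (.nd (nat_lit 323) (.lf ⟨nat_lit 0, nat_lit 39, nat_lit 39, (nat_lit 0xf5ea9c297112a29b9596725bd2961c92eeffc827), one, (nat_lit 0x125450fccf465eef6ce9ad428db0a6733c9ff419b), (.inv (nat_lit 319))⟩)
 (.nd (nat_lit 324) (.lf ⟨nat_lit 0, nat_lit 39, nat_lit 39, (nat_lit 0x2ce6c6e84b968e8b851402b61ea742ffaae0bdff2), one, (nat_lit 0x1e4650d63eda2b29a3b67b6b3cbfd4fddfd14f7b5), (.inv (nat_lit 47))⟩)
 (.lf ⟨nat_lit 0, nat_lit 39, nat_lit 39, (nat_lit 0x1ee35ee62970ce0500d08bb760d5b6a032680657c), one, (nat_lit 0x8003a3e5793d485e5c24eee137313da8e483dce0), (.prod (unp (nat_lit 9) (nat_lit 0xa1d085f3f04)))⟩)))))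
 (.nd (nat_lit 330) (.nd (nat_lit 327) (.nd (nat_lit 326) (.lf ⟨nat_lit 0, nat_lit 39, nat_lit 1, (nat_lit 0x3bd964d29ed0e56d5590f2a3ca323ef363df189bf), one, (nat_lit 0x19c2b8cf6e438e24d791822d8962277482bd5dd6c), (.cmp (nat_lit 50) (nat_lit 49) [nat_lit 32, nat_lit 16] [nat_lit 321, nat_lit 320])⟩)
 (.lf ⟨nat_lit 0, nat_lit 51, nat_lit 158, (nat_lit 0x15f0ea18df311f2898909edab76bf8f45b30764e3), one, (nat_lit 0x11081d9814021f1986cd33c2910019be898265d47), (.inv (nat_lit 272))⟩))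
 (.nd (nat_lit 328) (.lf ⟨nat_lit 0, nat_lit 39, nat_lit 125, (nat_lit 0x474f537e50a5f05ebd068c9f3c7ada9238956445), one, (nat_lit 0x2087c24000219428c58cbe13d5da841579a147d3), (.prod (unp (nat_lit 9) (nat_lit 0x4da8d3c03)))⟩)
 (.nd (nat_lit 329) (.lf ⟨nat_lit 0, nat_lit 125, nat_lit 39, (nat_lit 0x19a86a9a40dcfc4c9c1ac5147719dbddfb7ee49d), one, (nat_lit 0x100095be98281b058e6097d011417da60dc08d706), (.inv (nat_lit 327))⟩)
 (.lf ⟨nat_lit 0, nat_lit 85, nat_lit 1, (nat_lit 0x474f537e50a5f05ebd068c9f3c7ada9238956445), one, (nat_lit 0x1186bb89ad1570002d96655fa4c4f1af5001eda5c), (.cmp (nat_lit 126) (nat_lit 49) [nat_lit 4, nat_lit 33] (unp (nat_lit 9) (nat_lit 0x502894803)))⟩))))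
 (.nd (nat_lit 333) (.nd (nat_lit 331) (.lf ⟨nat_lit 0, nat_lit 1, nat_lit 39, (nat_lit 0x28877d99fad70d2427f588bf67de2efcdb00c3cdb), one, (nat_lit 0x19c2b8cf6e438e24d791822d8962277482bd5dd6c), (.inv (nat_lit 325))⟩)
 (.nd (nat_lit 332) (.lf ⟨nat_lit 0, nat_lit 1, nat_lit 1, (nat_lit 0x28259b229e32c22bb9145cc0db339237b4644a15a), one, (nat_lit 0x28749aa3968710e3e3db7d95d331b6e8f636f316c), (.prod (unp (nat_lit 9) (nat_lit 0x1499ccee794a05)))⟩)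
 (.lf ⟨nat_lit 0, nat_lit 1, nat_lit 1, (nat_lit 0x12a099eee3ba547a9e3c6ca274caf71ba3b96eda6), one, (nat_lit 0x1e2f30111b256848004839dd01009b7292ac08ad), (.inv (nat_lit 28))⟩)))
 (.nd (nat_lit 334) (.lf ⟨nat_lit 0, nat_lit 1, nat_lit 1, (nat_lit 0x18634bd57b7d476e7edd54379164c1a7eccba057e), one, (nat_lit 0x32e5058ff9a89677ce8e9dcb8412a5677f0a38c3b), (.prod [nat_lit 331, nat_lit 332])⟩)
 (.nd (nat_lit 335) (.lf ⟨nat_lit 0, nat_lit 1, nat_lit 1, (nat_lit 0x130bc244a96298a4776e84dfaad6373e42014665e), one, (nat_lit 0x30095b347a81b3f5e04a23924c5c4d75d086dc4c6), (.prod [nat_lit 8, nat_lit 333])⟩)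
 (.lf ⟨nat_lit 0, nat_lit 1, nat_lit 0, (nat_lit 0x100e0aba0d17c70444d02bf329fd10d7608f1b426), one, (nat_lit 0xce932164857bab00cb55c128122080632e462053), (.cmp (nat_lit 38) (nat_lit 37) [] [nat_lit 333, nat_lit 334])⟩)))))))

noncomputable def T3 : Tr :=
  (.nd (nat_lit 168) (.nd (nat_lit 84) (.nd (nat_lit 42) T3_0
 T3_42)
 (.nd (nat_lit 126) T3_84
 T3_126))
 (.nd (nat_lit 252) (.nd (nat_lit 210) T3_168
 T3_210)
 (.nd (nat_lit 294) T3_252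
 T3_294)))

noncomputable def q3_1_0 : Net :=
  mkNet (nat_lit 5) (nat_lit 10) (nat_lit 0x10000010040f00010)

noncomputable def q3_1_2 : Net :=
  mkNet (nat_lit 5) (nat_lit 10) (nat_lit 0x1440800300c0500801)

noncomputable def q3_1_4 : Net :=
  mkNet (nat_lit 5) (nat_lit 10) (nat_lit 0x10040f00044)

noncomputable def q3_1_8 : Net :=
  mkNet (nat_lit 5) (nat_lit 10) (nat_lit 0x110040010040f0cc54)

noncomputable def q3_1_9 : Net :=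
  mkNet (nat_lit 5) (nat_lit 10) (nat_lit 0x110040010040504410)

noncomputable def q3_1_10 : Net :=
  mkNet (nat_lit 5) (nat_lit 10) (nat_lit 0x40c0000000608804)

noncomputable def q3_1_11 : Net :=
  mkNet (nat_lit 5) (nat_lit 10) (nat_lit 0x4084010040200404)

noncomputable def q3_1_12 : Net :=
  mkNet (nat_lit 5) (nat_lit 10) (nat_lit 0x10044010040800454)

noncomputable def q3_1 : List Net :=
  [q3_1_0, q3_1_0, q3_1_2, rv q3_1_2, q3_1_4, q3_1_4, Net.nil, Net.nil, q3_1_8, q3_1_9, q3_1_10, q3_1_11, q3_1_12]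

noncomputable def Qs3 : List (ℕ × ℕ × List Net) :=
  [(nat_lit 10, nat_lit 5, q3_1)]

noncomputable def ls3 : List Ld :=
  [⟨[(nat_lit 3, [nat_lit 12]), (nat_lit 32, [nat_lit 11]), (nat_lit 11, (unp (nat_lit 4) (nat_lit 0xb948305)))], [⟨nat_lit 0, [nat_lit 0, nat_lit 2], (nat_lit 0xe102bf0afdfbf7efdfbf080c0840afdfbf040c3057efc1bf7efc100), nat_lit 16⟩, ⟨nat_lit 2, [nat_lit 0, nat_lit 1], (nat_lit 0x7efdfbf7efdfbf7efdfbf7efdfbf7efc1bf7efdfbf02fdf827e01fbf), nat_lit 4⟩, ⟨nat_lit 4, [nat_lit 0], (nat_lit 0x7efdfbf7efdfbf7efdfbf7efdfbf7efc0bf7efdfbf04fdf807efdfbf), nat_lit 3⟩], [[nat_lit 1], [nat_lit 3]], (nat_lit 0xc31944221020)⟩]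

noncomputable def lk3 : List (List ℕ) :=
  [[nat_lit 335]]

noncomputable def ds3 : List Nd :=
  []

noncomputable def ks3 : List ℕ :=
  []

def kc3 : List (ℕ × ℕ) := [(0, 1)]

theorem Rn4 : Nat.beq R4.length 21 = true := by decide +kernel

theorem Nn4 : Nat.beq N4.length 7 = true := by decide +kernel

theorem hr3 : relsOk mul one lc3 dom3 nodes3 1 (2 * 4) R4 sb3 1 rs3 = true := by decide +kernel

theorem hc3_0 : rng (chk mul one wf T3 lc3 (mapR (fun e => e.2.2) rs3) 1) (nat_lit 0) (nat_lit 336) = true := by decide +kernel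

theorem AQ3_1_p : actP 5 10 q3_1 13 = true := by decide +kernel

theorem AQ3_1_l_0 : rng (actL 5 10 q3_1 dom3 (2 * 4) us3) (nat_lit 0) (nat_lit 13) = true := by decide +kernel

theorem AQ3_1_r_0 : rng (fun i => relN 5 10 q3_1 (2 * 4) (nthD ([], nat_lit 0) R3 i)) (nat_lit 0) (nat_lit 14) = true := by decide +kernel

theorem la3 : ldA mul one T3 336 lc3 32 7 n3 ls3 1 = true := by decide +kernel

theorem lb3 : ldB 1920 Qs3 ls3 1 = true := by decide +kernel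

theorem dn3 : Nat.beq ds3.length 0 = true := by decide +kernel

theorem hk3 : ks3 = ds3.map Nd.k := by decide +kernel

theorem hkc3 : kc3 = (0, 1) :: ds3.map fun d => (d.k, d.c) := by decide +kernel

theorem lo3 : linkOk mul one T3 336 ks3 lk3 1 = true := by decide +kernel

theorem do3 : domOk dom3 [0, 1, 2, 3] nodes3 1 R4 sb3 1 = true := by decide +kernel

theorem hc3 : ∀ i < 336, (chk mul one wf T3 lc3 (mapR (fun e => e.2.2) rs3) 1) i = true :=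
  (rng_add rng_zero hc3_0)

theorem AQ3_1_l : ∀ i < 13, (actL 5 10 q3_1 dom3 (2 * 4) us3) i = true :=
  (rng_add rng_zero AQ3_1_l_0)

theorem AQ3_1_r : ∀ i < 14, (fun i => relN 5 10 q3_1 (2 * 4) (nthD ([], nat_lit 0) R3 i)) i = true :=
  (rng_add rng_zero AQ3_1_r_0)

theorem na3 : ∀ i < 0, (fun i => ndA mul one T3 336 lc3 32 7 n3 1920 (nthD ⟨nat_lit 0, nat_lit 0, [], [], []⟩ ds3 i)) i = true :=
  rng_zero

theorem nb3 : ∀ i < 0, (fun i => ndB mul one T3 336 lc3 ks3 Qs3 1 (nthD ⟨nat_lit 0, nat_lit 0, [], [], []⟩ ds3 i)) i = true :=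
  rng_zero

section
universe u v
variable {R : Type v} {ι : Type} [CommRing R] [Fintype ι] [DecidableEq ι] (V : VCod R ι 9 18 app wfT) (h2 : V.mat one = 1)

theorem AQ3_1 : Act.{0} (((S V h2).sub (mdl (g V h2) dom3)).gen lc3) 10 5 q3_1 :=
  act_of_up (L3 V h2) (U3 V h2) AQ3_1_p AQ3_1_l (by decide) (allR Rn3 AQ3_1_r)

theorem C3 : Cert.{u} ((S V h2).sub (mdl (g V h2) dom3)) T3 336 (mgen (g V h2) dom3) dom3 [0, 1, 2, 3] nodes3 1 (R3 ++ N4) kc3 :=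
  have := fin3 V h2
  cert_of (L3 V h2) (card3 V h2).le (A3 V h2) (Qs := Qs3) (List.forall_mem_cons.2 ⟨AQ3_1 V h2, List.forall_mem_nil _⟩) hr3 hc3 la3 lb3 hk3 (allR dn3 na3) (allR dn3 nb3) lo3 do3 hkc3

end

end L.HJcc
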