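import Cfsg.Agent.L.HJceAa
import Cfsg.Agent.H15.J3B

/-! Recognition of the third Janko group: words in the model. -/

set_option maxRecDepth 100000
set_option Elab.async false

namespace L.HJm3
open H13 H15
open H15.J3 (one app wfT mul wf h1 S lc5 dom5)

noncomputable def es : List (ℕ × List ℕ) :=
  [((nat_lit 0x1f17ab37d3680aec186d2ec989b1805c40f0c3439), (unp (nat_lit 4) (nat_lit 0x9379248628250c))),
  ((nat_lit 0x1f17ab37d3680aec186d2ec989b1805c40f0c3439), (unp (nat_lit 4) (nat_lit 0x9379248628250c))),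
  ((nat_lit 0x29d069dd4289881cb0b1977aaf1daee2c113e4bec), (unp (nat_lit 4) (nat_lit 0x13379643833620d))),
  ((nat_lit 0x3b6020b1ee99f350ad1583cd87ceba46c32e15ab7), (unp (nat_lit 4) (nat_lit 0x3722825686220d))),
  ((nat_lit 0x1a61280e6271482f172cedb3225072149888b2d86), (unp (nat_lit 4) (nat_lit 0x53584484240a))),
  ((nat_lit 0x1a61280e6271482f172cedb3225072149888b2d86), (unp (nat_lit 4) (nat_lit 0x53584484240a))),
  ((nat_lit 0x161388361c6076ae8b2da2a1bc21765b4696c7cb9), (unp (nat_lit 4) (nat_lit 0x9279282833640c))),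
  ((nat_lit 0x161388361c6076ae8b2da2a1bc21765b4696c7cb9), (unp (nat_lit 4) (nat_lit 0x9279282833640c)))]

noncomputable def pr : List (List ℕ) :=
  [(unp (nat_lit 2) (nat_lit 0xdd775dd775dd775dd77528)),
  (unp (nat_lit 3) (nat_lit 0x626a28925144924928ca4911f)),
  (unp (nat_lit 3) (nat_lit 0x1c75d6dbb136daada16)),
  (unp (nat_lit 3) (nat_lit 0x175924d249a492e9a492493492492627)),
  (unp (nat_lit 3) (nat_lit 0x6b65f6dbedb77befb6dfac1d))]

theorem es_so : H15.slpOk mul one lc5 es = true := by decide +kernel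

theorem es_bc : bcOk mul one (mapR Prod.fst es) 4 = true := by decide +kernel

theorem es_r : allL (relC mul one (mapR Prod.fst es) (2 * 4)) (HJc.R3 ++ HJce.N4) = true := by decide +kernel

theorem pr_ok : slpRun mul one (mapR (fun i => nthD one lc5 (Nat.mul (nat_lit 2) i)) dom5) pr
    (mapR (nthD one (mapR Prod.fst es)) [0, 2, 4, 6]) = true := by decide +kernel

end L.HJm3
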