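import Cfsg.Agent.L.HJ0
import Cfsg.Agent.L.HJm2
import Cfsg.Agent.L.HJm3
import Cfsg.Agent.L.HJcaAa
import Cfsg.Agent.L.HJcbAa
import Cfsg.Agent.L.HJccAa

/-!
Recognition of the second and third Janko groups: the groups given by the presentations (namespace L.HJ).
`Rel.col`, `Rel.two`, `Rel.three`.
-/

set_option autoImplicit false

namespace L.HJ
open H13 H15 Cfsg Subgroup

universe u

variable {G : Type u} [Group G] {s f t u : G}

/-- the four generators -/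
def gg (s f t u : G) : ℕ → G
  | 0 => s
  | 1 => f
  | 2 => t
  | _ => u

/-- relators of the centraliser -/
def W3 : List (List ℕ × ℕ) :=
  [([2, 3], 1),
   ([2], 5),
   ([4], 2),
   ([2, 4], 3),
   ([0], 2),
   ([0, 4], 2),
   ([0, 2, 0, 3, 0, 2, 0, 3], 2),
   ([0, 2, 0, 3, 0, 2, 0, 3, 2, 2, 1, 3, 1, 2, 1, 3, 1, 3], 1),
   ([0, 2, 0, 3, 0, 2, 0, 3, 4, 2, 1, 3, 1, 2, 1, 3, 1, 5], 1),
   ([0, 2, 0, 3, 0, 2, 0, 3, 0, 2, 1, 3, 1, 2, 1, 3, 1, 1], 1),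
   ([4, 2, 0, 3, 4, 2, 2, 0, 3, 3], 1),
   ([4, 2, 2, 2, 0, 3, 3, 3, 4, 2, 2, 2, 2, 0, 3, 3, 3, 3], 1),
   ([0, 2, 0, 3, 2, 2, 0, 3, 3, 2, 2, 2, 0, 3, 3, 3, 2, 2, 2, 2, 0, 3, 3, 3, 3], 1),
   ([0, 2, 2, 0, 3, 3, 0, 2, 2, 0, 3, 3, 0, 2, 0, 3, 0, 2, 0, 3], 1)]

/-- relators of the amalgam -/
def W4 : List (List ℕ × ℕ) :=
  [([6], 2),
   ([6, 4, 2, 2, 4, 3, 7, 2, 5, 3, 3, 5], 1),
   ([2, 0, 3, 6], 3),
   ([6, 0, 2, 0, 3, 0, 2, 0, 3, 6, 0], 1),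
   ([6, 2, 0, 3, 2, 2, 0, 3, 3, 6, 5, 2, 2, 2, 1, 3, 3, 3, 2, 2, 1, 3, 3, 2, 1, 3, 1, 2, 1, 3, 1], 1)]

theorem R3_eq : HJc.R3 = W3 := by decide +kernel
theorem Na : HJca.N4 = W4 ++ [([6, 3, 4, 2, 6, 3, 4, 2], 3)] := by decide +kernel
theorem Nb : HJcb.N4 = W4 ++ [([6, 3, 4, 2, 6, 3, 4, 2], 4)] := by decide +kernel
theorem Nc : HJcc.N4 = W4 ++ [([6, 3, 4, 2, 6, 3, 4, 2], 5), ([0, 6, 3, 4, 2, 6, 3, 4, 2, 0, 6, 3, 4, 2, 6, 3, 4, 2, 0, 6, 3, 4, 2, 6, 3, 4, 2, 0, 6, 3, 4, 2, 6, 3, 4, 2, 2, 5, 3, 3, 5], 1)] := by decide +kernel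
theorem Nd : HJcd.N4 = W4 ++ [([6, 3, 4, 2, 6, 3, 4, 2], 5), ([0, 6, 3, 4, 2, 6, 3, 4, 2, 0, 6, 3, 4, 2, 6, 3, 4, 2, 0, 6, 3, 4, 2, 6, 3, 4, 2, 0, 6, 3, 4, 2, 6, 3, 4, 2, 2, 5, 3, 3, 5, 2, 5, 3, 3, 5], 1)] := by decide +kernel
theorem Ne : HJce.N4 = W4 ++ [([6, 3, 4, 2, 6, 3, 4, 2], 5), ([0, 6, 3, 4, 2, 6, 3, 4, 2], 4)] := by decide +kernel

theorem ls (s f t u : G) : sg (gg s f t u) 0 = s ∧ sg (gg s f t u) 1 = s⁻¹ ∧ sg (gg s f t u) 2 = f ∧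
    sg (gg s f t u) 3 = f⁻¹ ∧ sg (gg s f t u) 4 = t ∧ sg (gg s f t u) 5 = t⁻¹ ∧ sg (gg s f t u) 6 = u ∧
    sg (gg s f t u) 7 = u⁻¹ := ⟨rfl, rfl, rfl, rfl, rfl, rfl, rfl, rfl⟩

theorem RH.rels (R : RH s f t) (u : G) : H15.Rels W3 (gg s f t u) := by
  obtain ⟨l0, l1, l2, l3, l4, l5, -, -⟩ := ls s f t u
  simp only [H15.Rels, W3, List.forall_mem_cons, evalW_cons, evalW_nil, l0, l1, l2, l3, l4, l5, List.not_mem_nil,
    IsEmpty.forall_iff, implies_true, and_true, mul_one, pow_one]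
  refine ⟨by group, R.f5, R.t2, R.ft, R.s2, R.st, ?_, ?_, ?_, ?_, ?_, ?_, ?_, ?_⟩
  · rw [← R.z2]; simp only [zz, ga]; congr 1; simp only [pow_two]; group
  · rw [← mul_inv_eq_one.2 R.zf]; simp only [zz, ga, pow_two]; group
  · rw [← mul_inv_eq_one.2 R.zt]; simp only [zz, ga, pow_two]; group
  · rw [← mul_inv_eq_one.2 R.zs]; simp only [zz, ga, pow_two]; group
  · rw [← R.t12]; simp only [ga, pow_succ, pow_zero, one_mul, _root_.mul_inv_rev, inv_inv, mul_assoc, inv_one, mul_one]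
  · rw [← R.t34]; simp only [ga, pow_succ, pow_zero, one_mul, _root_.mul_inv_rev, inv_inv, mul_assoc, inv_one, mul_one]
  · rw [← R.prod]; simp only [ga]; group
  · rw [← R.a02]; simp only [zz, ga, pow_succ, pow_zero, one_mul, _root_.mul_inv_rev, inv_inv, mul_assoc, inv_one, mul_one]

theorem Rel.rels (R : Rel s f t u) : H15.Rels W4 (gg s f t u) := by
  obtain ⟨l0, l1, l2, l3, l4, l5, l6, l7⟩ := ls s f t u
  simp only [H15.Rels, W4, List.forall_mem_cons, evalW_cons, evalW_nil, l0, l1, l2, l3, l4, l5, l6, l7, List.not_mem_nil,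
    IsEmpty.forall_iff, implies_true, and_true, mul_one, pow_one]
  refine ⟨R.u2, ?_, ?_, ?_, ?_⟩
  · rw [← mul_inv_eq_one.2 R.uy]; simp only [yy]; group
  · rw [← R.g1u]; simp only [ga]; congr 1; group
  · rw [← R.uz]; simp only [zz, ga, pow_two]; group
  · rw [← mul_inv_eq_one.2 R.ua]; simp only [zz, ga, pow_succ, pow_zero, one_mul, _root_.mul_inv_rev, inv_inv, mul_assoc, inv_one, mul_one]

theorem rel_p {k : ℕ} (h : (u * uu f t u) ^ k = 1) : H15.Rels [([6, 3, 4, 2, 6, 3, 4, 2], k)] (gg s f t u) := by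
  obtain ⟨l0, l1, l2, l3, l4, l5, l6, l7⟩ := ls s f t u
  simp only [H15.Rels, List.forall_mem_cons, evalW_cons, evalW_nil, l2, l3, l4, l6, List.not_mem_nil,
    IsEmpty.forall_iff, implies_true, and_true, mul_one]
  rw [← h]; simp only [uu, hh, mul_assoc]

theorem collapse {M : Type*} [Group M] [Finite M] {mul : ℕ → ℕ → ℕ} {one : ℕ} {wf : ℕ → Bool} {S : Sem M mul one wf}
    {T : Tr} {n nn : ℕ} {g0 : ℕ → M} {dom dom' nodes : List ℕ} {R : List (List ℕ × ℕ)} {kc : List (ℕ × ℕ)}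
    (C : Cert.{u} S T n g0 dom dom' nodes nn R kc) (U : UP.{u} g0 dom R)
    (hg : closure (g0 '' {i | i ∈ dom}) = ⊤) (hk : (kc.map Prod.snd).sum = 1) {g : ℕ → G} (hR : H15.Rels R g) :
    mdl g dom' ≤ mdl g dom := by
  obtain ⟨ψ, hψ⟩ := U G g hR
  obtain ⟨h1, h2⟩ := (C G g ψ hR hψ).2.cosets
  have e : ψ.range = mdl g dom := by
    rw [MonoidHom.range_eq_map, ← hg, MonoidHom.map_closure, Set.image_image]
    exact congrArg _ (Set.image_congr fun i hi => hψ i hi)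
  intro x hx
  rw [hk, Set.ncard_le_one h1] at h2
  have := QuotientGroup.eq.1 (h2 _ ⟨1, one_mem _, rfl⟩ _ ⟨x, hx, rfl⟩)
  rwa [inv_one, one_mul, e] at this

theorem Rel.of_le (R : Rel s f t u) (h : mdl (gg s f t u) [0, 1, 2, 3] ≤ mdl (gg s f t u) HJc.dom3) :
    zz s f * s = 1 := by
  have l : mdl (gg s f t u) HJc.dom3 ≤ centralizer {zz s f} := by
    refine (closure_le _).2 ?_
    rintro _ ⟨i, hi, rfl⟩
    simp only [HJc.dom3, List.mem_cons, List.not_mem_nil, or_false, Set.mem_setOf_eq] at hi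
    rw [SetLike.mem_coe, mem_centralizer_singleton_iff]
    rcases hi with rfl | rfl | rfl
    exacts [R.zs.symm, R.zf.symm, R.zt.symm]
  have c : u * zz s f = zz s f * u := mem_centralizer_singleton_iff.1 (l (h (mem_mdl _ (i := 3) (by simp))))
  rw [← R.uz, c, mul_assoc (zz s f) u, ← pow_two, R.u2, mul_one]

/-- the field with four elements -/
abbrev F4 : Type := GaloisField 2 2

noncomputable instance : Fintype F4 := Fintype.ofFinite _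

theorem card_F4 : Fintype.card F4 = 4 := by rw [← Nat.card_eq_fintype_card, GaloisField.card 2 2 (by decide)]; rfl

/-- a primitive cube root of unity -/
noncomputable def om : F4 := (J3.exists_omega card_F4).choose

theorem om_spec : om ^ 2 + om + 1 = 0 := (J3.exists_omega card_F4).choose_spec

/-- the coding of vectors -/
noncomputable abbrev V4 := J3.VV J3.e9 (J3.two_eq card_F4) om_spec

theorem h4 : V4.mat J3.one = 1 := J3.hh _ _ _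

theorem U3' (R : List (List ℕ × ℕ)) : UP.{u} (mgen (HJc.g V4 h4) HJc.dom3) HJc.dom3 (HJc.R3 ++ R) :=
  (HJc.U3 V4 h4).univ.weaken fun _ _ _ h => h.left

theorem Rel.col (R : Rel s f t u) (h : (u * uu f t u) ^ 3 = 1 ∨ (u * uu f t u) ^ 4 = 1 ∨
    ((u * uu f t u) ^ 5 = 1 ∧ (s * u * uu f t u) ^ 4 = yy f t)) : zz s f * s = 1 := by
  have := HJc.fin3 V4 h4
  refine R.of_le ?_
  rcases h with h | h | ⟨h, h'⟩
  · refine collapse (HJca.C3 V4 h4) (U3' _) (closure_mgen _ _) (by decide) ?_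
    rw [R3_eq, Na]; exact (R.toRH.rels u).append (R.rels.append (rel_p h))
  · refine collapse (HJcb.C3 V4 h4) (U3' _) (closure_mgen _ _) (by decide) ?_
    rw [R3_eq, Nb]; exact (R.toRH.rels u).append (R.rels.append (rel_p h))
  · refine collapse (HJcc.C3 V4 h4) (U3' _) (closure_mgen _ _) (by decide) ?_
    rw [R3_eq, Nc]; refine (R.toRH.rels u).append (R.rels.append ((rel_p h).append (R' := [_]) ?_))
    obtain ⟨l0, l1, l2, l3, l4, l5, l6, l7⟩ := ls s f t u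
    simp only [H15.Rels, List.forall_mem_cons, evalW_cons, evalW_nil, l0, l2, l3, l4, l5, l6, List.not_mem_nil,
      IsEmpty.forall_iff, implies_true, and_true, mul_one, pow_one]
    rw [← mul_inv_eq_one.2 h']; simp only [uu, hh, yy, pow_succ]; group

theorem mdl_bg {M : Type*} [Group M] {mul : ℕ → ℕ → ℕ} {one : ℕ} {wf : ℕ → Bool} (S : Sem M mul one wf) (lc : List ℕ) :
    mdl (S.gen lc) [0, 2, 4, 6] ≤ mdl (S.bg lc) [0, 1, 2, 3] := by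
  refine closure_mono ?_
  rintro _ ⟨i, hi, rfl⟩
  simp only [List.mem_cons, List.not_mem_nil, or_false, Set.mem_setOf_eq] at hi
  rcases hi with rfl | rfl | rfl | rfl
  exacts [⟨0, by simp, rfl⟩, ⟨1, by simp, rfl⟩, ⟨2, by simp, rfl⟩, ⟨3, by simp, rfl⟩]

theorem Rel.three (R : Rel s f t u) (h : (u * uu f t u) ^ 5 = 1) (h' : (s * u * uu f t u) ^ 4 = 1) :
    ∃ ψ : Spor.threeJ3 F4 om →* G, s ∈ ψ.range ∧ f ∈ ψ.range ∧ t ∈ ψ.range := by
  have := HJc.fin3 V4 h4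
  have L := J3.L5 V4 h4
  have o := Sem.ok_of_slp _ L.ok HJm3.es_so
  have U := (U3'.{u} _).lift (HJce.C3 V4 h4) (top_le_iff.1 ((L.top_of_run o HJm3.pr_ok).ge.trans (mdl_bg _ _)))
    (Sem.rels _ o HJm3.es_bc (allL_iff.1 HJm3.es_r)) (by rw [HJc.card3, J3.card5]; decide)
  rw [J3.three_eq (J3.two_eq card_F4) om_spec]
  obtain ⟨ψ, hψ⟩ := U G (gg s f t u) (by
    rw [R3_eq, Ne]; refine (R.toRH.rels u).append (R.rels.append ((rel_p h).append (R' := [_]) ?_))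
    obtain ⟨l0, l1, l2, l3, l4, l5, l6, l7⟩ := ls s f t u
    simp only [H15.Rels, List.forall_mem_cons, evalW_cons, evalW_nil, l0, l2, l3, l4, l5, l6, List.not_mem_nil,
      IsEmpty.forall_iff, implies_true, and_true, mul_one, pow_one]
    rw [← h']; simp only [uu, hh, mul_assoc])
  exact ⟨ψ, ⟨_, hψ 0 (by simp)⟩, ⟨_, hψ 1 (by simp)⟩, ⟨_, hψ 2 (by simp)⟩⟩

theorem Rel.two (R : Rel s f t u) (h : (u * uu f t u) ^ 5 = 1) (h' : (s * u * uu f t u) ^ 4 = yy f t ^ 2) :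
    ∃ ψ : Spor.J2 →* G, s ∈ ψ.range ∧ f ∈ ψ.range ∧ t ∈ ψ.range ∧ ∃ m ∈ ψ.range, ∃ x ∈ ψ.range,
      m ^ 3 = 1 ∧ m * t = t * m ∧ m * (yy f t * t * (yy f t)⁻¹) = yy f t * t * (yy f t)⁻¹ * m ∧
      m * zz s f * m⁻¹ = s ∧ m * s * m⁻¹ = s * zz s f ∧
      x ^ 5 = 1 ∧ x * t = t * x ∧ x * (yy f t * t * (yy f t)⁻¹) = yy f t * t * (yy f t)⁻¹ * x ∧ (x * zz s f) ^ 3 = 1 := by
  have := HJc.fin3 V4 h4
  have I : SInj J2.SM := J2.sinj.sub _
  have L := J2.L6 J2.VV J2.hh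
  have hz := zs_ok L.ok (zs := J2.zs) (z := [0]) (o := 2) (by decide +kernel)
  have o := Sem.ok_of_slp _ L.ok HJm2.es_so
  obtain ⟨h0, hg⟩ := canon_ok hz J2.inj' I J2.cone_eq o HJm2.es_c
  have top : mdl ((Sem.canon hz J2.inj' I J2.cone_eq).gen (mapR Prod.fst HJm2.es)) [0, 2, 4, 6] = ⊤ := by
    have := congrArg (map J2.pi) (L.top_of_run o HJm2.pr_ok)
    rw [map_top_of_surjective _ J2.pi_surj] at this
    rw [funext hg, ← this]
    exact ((MonoidHom.map_closure _ _).trans (congrArg _ (Set.image_image _ _ _))).symm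
  have U := (U3'.{u} _).lift (HJcd.C3 V4 h4) (top_le_iff.1 (top.ge.trans (mdl_bg _ _)))
    (Sem.rels _ h0 HJm2.es_bc (allL_iff.1 HJm2.es_r)) (by rw [HJc.card3, J2.card_J2]; decide)
  obtain ⟨ψ, hψ⟩ := U G (gg s f t u) (by
    rw [R3_eq, Nd]; refine (R.toRH.rels u).append (R.rels.append ((rel_p h).append (R' := [_]) ?_))
    obtain ⟨l0, l1, l2, l3, l4, l5, l6, l7⟩ := ls s f t u
    simp only [H15.Rels, List.forall_mem_cons, evalW_cons, evalW_nil, l0, l2, l3, l4, l5, l6, List.not_mem_nil,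
      IsEmpty.forall_iff, implies_true, and_true, mul_one, pow_one]
    rw [← mul_inv_eq_one.2 h']; simp only [uu, hh, yy, pow_succ]; group)
  have E := (Sem.rels _ h0 HJm2.es_bc (allL_iff.1 HJm2.es_e)).map ψ
  obtain ⟨g, e⟩ : ∃ g, g = fun i => ψ ((Sem.canon hz J2.inj' I J2.cone_eq).bg (mapR Prod.fst HJm2.es) i) := ⟨_, rfl⟩
  have m : ∀ i, g i ∈ ψ.range := fun i => e ▸ ⟨_, rfl⟩
  have a0 : g 0 = s := e ▸ hψ 0 (by simp)
  have a1 : g 1 = f := e ▸ hψ 1 (by simp)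
  have a2 : g 2 = t := e ▸ hψ 2 (by simp)
  rw [← e] at E
  have l : sg g 0 = g 0 ∧ sg g 1 = (g 0)⁻¹ ∧ sg g 2 = g 1 ∧ sg g 3 = (g 1)⁻¹ ∧ sg g 4 = g 2 ∧ sg g 5 = (g 2)⁻¹ ∧
      sg g 8 = g 4 ∧ sg g 9 = (g 4)⁻¹ ∧ sg g 10 = g 5 ∧ sg g 11 = (g 5)⁻¹ :=
    ⟨rfl, rfl, rfl, rfl, rfl, rfl, rfl, rfl, rfl, rfl⟩
  obtain ⟨l0, l1, l2, l3, l4, l5, l8, l9, l10, l11⟩ := l
  simp only [H15.Rels, HJm2.E, List.forall_mem_cons, evalW_cons, evalW_nil, l0, l1, l2, l3, l4, l5, l8, l9, l10, l11,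
    List.not_mem_nil, IsEmpty.forall_iff, implies_true, and_true, mul_one, pow_one, a0, a1, a2] at E
  obtain ⟨e1, e2, e3, e4, e5, e6, e7, e8, e9⟩ := E
  refine ⟨ψ, a0 ▸ m 0, a1 ▸ m 1, a2 ▸ m 2, g 4, m 4, g 5, m 5, e1, ?_, ?_, ?_, ?_, e6, ?_, ?_, ?_⟩
  · rw [← mul_inv_eq_one, ← e2]; group
  · rw [← mul_inv_eq_one, ← e3]; simp only [yy, pow_succ, pow_zero, one_mul, _root_.mul_inv_rev, inv_inv, mul_assoc, inv_one, mul_one]
  · rw [← mul_inv_eq_one, ← e4]; simp only [zz, ga, pow_two]; group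
  · rw [← mul_inv_eq_one, ← e5]; simp only [zz, ga, pow_two]; group
  · rw [← mul_inv_eq_one, ← e7]; group
  · rw [← mul_inv_eq_one, ← e8]; simp only [yy, pow_succ, pow_zero, one_mul, _root_.mul_inv_rev, inv_inv, mul_assoc, inv_one, mul_one]
  · rw [← e9]; simp only [zz, ga]; congr 1; simp only [pow_two]; group

end L.HJ
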