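import Cfsg.Agent.L.HJ6

/-! Recognition of the second Janko group: more relations (namespace L.HJ). `Rel.two'`. -/

set_option autoImplicit false

namespace L.HJ
open H13 H15 Cfsg Subgroup

universe u

variable {G : Type u} [Group G] {s f t u : G}

/-- two more relators -/
def E2 : List (List ℕ × ℕ) := [([8, 4, 2, 2, 4, 3, 9, 2, 5, 3, 3, 5], 1), ([10, 4, 2, 2, 4, 3, 11, 2, 5, 3, 3, 5], 1)]

theorem es_e2 : allL (relC (mulC J2.mul J2.zs) J2.cone (mapR Prod.fst HJm2.es) (2 * 6)) E2 = true := by decide +kernel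

theorem Rel.two' (R : Rel s f t u) (h : (u * uu f t u) ^ 5 = 1) (h' : (s * u * uu f t u) ^ 4 = yy f t ^ 2) :
    ∃ ψ : Spor.J2 →* G, s ∈ ψ.range ∧ f ∈ ψ.range ∧ t ∈ ψ.range ∧ ∃ m ∈ ψ.range, ∃ x ∈ ψ.range,
      m ^ 3 = 1 ∧ m * t = t * m ∧ m * (yy f t * t * (yy f t)⁻¹) = yy f t * t * (yy f t)⁻¹ * m ∧
      m * zz s f * m⁻¹ = s ∧ m * s * m⁻¹ = s * zz s f ∧
      x ^ 5 = 1 ∧ x * t = t * x ∧ x * (yy f t * t * (yy f t)⁻¹) = yy f t * t * (yy f t)⁻¹ * x ∧ (x * zz s f) ^ 3 = 1 ∧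
      m * yy f t = yy f t * m ∧ x * yy f t = yy f t * x := by
  have := HJc.fin3 V4 h4
  have I : SInj J2.SM := J2.sinj.sub _
  have L := J2.L6 J2.VV J2.hh
  have hz := zs_ok L.ok (zs := J2.zs) (z := [0]) (o := 2) (by decide +kernel)
  have o := Sem.ok_of_slp _ L.ok HJm2.es_so
  obtain ⟨h0, hg⟩ := canon_ok hz J2.inj' I J2.cone_eq o HJm2.es_c
  have top : mdl ((Sem.canon hz J2.inj' I J2.cone_eq).gen (mapR Prod.fst HJm2.es)) [0, 2, 4, 6] = ⊤ := by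
    have := congrArg (map J2.pi) (L.top_of_run o HJm2.pr_ok)
    rw [map_top_of_surjective _ J2.pi_surj] at this
    rw [funext hg, ← this]
    exact ((MonoidHom.map_closure _ _).trans (congrArg _ (Set.image_image _ _ _))).symm
  have U := (U3'.{u} _).lift (HJcd.C3 V4 h4) (top_le_iff.1 (top.ge.trans (mdl_bg _ _)))
    (Sem.rels _ h0 HJm2.es_bc (allL_iff.1 HJm2.es_r)) (by rw [HJc.card3, J2.card_J2]; decide)
  obtain ⟨ψ, hψ⟩ := U G (gg s f t u) (by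
    rw [R3_eq, Nd]; refine (R.toRH.rels u).append (R.rels.append ((rel_p h).append (R' := [_]) ?_))
    obtain ⟨l0, l1, l2, l3, l4, l5, l6, l7⟩ := ls s f t u
    simp only [H15.Rels, List.forall_mem_cons, evalW_cons, evalW_nil, l0, l2, l3, l4, l5, l6, List.not_mem_nil,
      IsEmpty.forall_iff, implies_true, and_true, mul_one, pow_one]
    rw [← mul_inv_eq_one.2 h']; simp only [uu, hh, yy, pow_succ]; group)
  have E := (Sem.rels _ h0 HJm2.es_bc (allL_iff.1 HJm2.es_e)).map ψ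
  have E' := (Sem.rels _ h0 HJm2.es_bc (allL_iff.1 es_e2)).map ψ
  obtain ⟨g, e⟩ : ∃ g, g = fun i => ψ ((Sem.canon hz J2.inj' I J2.cone_eq).bg (mapR Prod.fst HJm2.es) i) := ⟨_, rfl⟩
  have m : ∀ i, g i ∈ ψ.range := fun i => e ▸ ⟨_, rfl⟩
  have a0 : g 0 = s := e ▸ hψ 0 (by simp)
  have a1 : g 1 = f := e ▸ hψ 1 (by simp)
  have a2 : g 2 = t := e ▸ hψ 2 (by simp)
  rw [← e] at E E'
  have l : sg g 0 = g 0 ∧ sg g 1 = (g 0)⁻¹ ∧ sg g 2 = g 1 ∧ sg g 3 = (g 1)⁻¹ ∧ sg g 4 = g 2 ∧ sg g 5 = (g 2)⁻¹ ∧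
      sg g 8 = g 4 ∧ sg g 9 = (g 4)⁻¹ ∧ sg g 10 = g 5 ∧ sg g 11 = (g 5)⁻¹ :=
    ⟨rfl, rfl, rfl, rfl, rfl, rfl, rfl, rfl, rfl, rfl⟩
  obtain ⟨l0, l1, l2, l3, l4, l5, l8, l9, l10, l11⟩ := l
  simp only [H15.Rels, HJm2.E, E2, List.forall_mem_cons, evalW_cons, evalW_nil, l0, l1, l2, l3, l4, l5, l8, l9, l10, l11,
    List.not_mem_nil, IsEmpty.forall_iff, implies_true, and_true, mul_one, pow_one, a0, a1, a2] at E E'
  obtain ⟨e1, e2, e3, e4, e5, e6, e7, e8, e9⟩ := E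
  refine ⟨ψ, a0 ▸ m 0, a1 ▸ m 1, a2 ▸ m 2, g 4, m 4, g 5, m 5, e1, ?_, ?_, ?_, ?_, e6, ?_, ?_, ?_, ?_, ?_⟩
  · rw [← mul_inv_eq_one, ← e2]; group
  · rw [← mul_inv_eq_one, ← e3]; simp only [yy, pow_succ, pow_zero, one_mul, _root_.mul_inv_rev, inv_inv, mul_assoc, inv_one, mul_one]
  · rw [← mul_inv_eq_one, ← e4]; simp only [zz, ga, pow_two]; group
  · rw [← mul_inv_eq_one, ← e5]; simp only [zz, ga, pow_two]; group
  · rw [← mul_inv_eq_one, ← e7]; group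
  · rw [← mul_inv_eq_one, ← e8]; simp only [yy, pow_succ, pow_zero, one_mul, _root_.mul_inv_rev, inv_inv, mul_assoc, inv_one, mul_one]
  · rw [← e9]; simp only [zz, ga]; congr 1; simp only [pow_two]; group
  · rw [← mul_inv_eq_one, ← E'.1]; simp only [yy, pow_succ, pow_zero, one_mul, _root_.mul_inv_rev, inv_inv, mul_assoc, inv_one, mul_one]
  · rw [← mul_inv_eq_one, ← E'.2]; simp only [yy, pow_succ, pow_zero, one_mul, _root_.mul_inv_rev, inv_inv, mul_assoc, inv_one, mul_one]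

end L.HJ
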