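import Cfsg.Agent.S3277
import Cfsg.Agent.S0075
import Cfsg.Agent.H26.Core

/-!
Recognition of the second Janko group: the centraliser of a non-central involution (namespace L.HJ).
`four`, `card_four`, `cent_five`.
-/

set_option autoImplicit false

namespace L.HJ

open Cfsg Subgroup
open scoped commutatorElement

variable {X : Type*} [Group X] {z s m x : X}

/-- the four-group -/
def four (z s : X) (z2 : z * z = 1) (s2 : s * s = 1) (sz : s * z = z * s) : Subgroup X where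
  carrier := {a | a = 1 ∨ a = z ∨ a = s ∨ a = s * z}
  one_mem' := .inl rfl
  mul_mem' := by
    have a : ∀ y, z * (z * y) = y := fun y => by rw [← mul_assoc, z2, one_mul]
    have b : ∀ y, s * (s * y) = y := fun y => by rw [← mul_assoc, s2, one_mul]
    have c : ∀ y, z * (s * y) = s * (z * y) := fun y => by rw [← mul_assoc, ← sz, mul_assoc]
    rintro _ _ (rfl | rfl | rfl | rfl) (rfl | rfl | rfl | rfl) <;> simp [mul_assoc, a, b, c, z2, s2, ← sz]
  inv_mem' := by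
    have a : z⁻¹ = z := inv_eq_of_mul_eq_one_right z2
    have b : s⁻¹ = s := inv_eq_of_mul_eq_one_right s2
    rintro _ (rfl | rfl | rfl | rfl) <;> simp [a, b, sz]

theorem card_four (z2 : z * z = 1) (s2 : s * s = 1) (sz : s * z = z * s) (z1 : z ≠ 1) (s1 : s ≠ 1) (ne : s ≠ z) :
    Nat.card (four z s z2 s2 sz) = 4 := by
  have e : (four z s z2 s2 sz : Set X) = {1, z, s, s * z} := rfl
  have a : s * z ≠ 1 := fun h => ne (mul_right_cancel (h.trans z2.symm))
  change (four z s z2 s2 sz : Set X).ncard = 4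
  rw [e, Set.ncard_insert_of_notMem (by simp [z1.symm, s1.symm, a.symm]),
    Set.ncard_insert_of_notMem (by simp [ne.symm, s1]), Set.ncard_pair (by simp [z1])]

theorem cent_five [Finite X] (z1 : z ≠ 1) (sz : s * z = z * s) (ne : s ≠ z) (ha : ∀ a, a * z = z * a → a * a = 1)
    (hb : ∀ a, a * z = z * a → IsConj z a → a = z ∨ a = s ∨ a = s * z)
    (hc : ∀ a, a * z = z * a → ∃ v w, (v = 1 ∨ v = z ∨ v = s ∨ v = s * z) ∧ m * w = w * m ∧ a = v * w)
    (m3 : m ^ 3 = 1) (mz : m * z * m⁻¹ = s) (ms : m * s * m⁻¹ = s * z) (x5 : x ^ 5 = 1) (xz : (x * z) ^ 3 = 1) :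
    Nonempty (pResidual 2 X ≃* alternatingGroup (Fin 5)) ∧
      (∀ a ∈ pResidual 2 X, a * z = z * a → a = 1 ∨ a = z ∨ a = s ∨ a = s * z) ∧
      (∀ K : Subgroup X, z ∈ K → m ∈ K → x ∈ K → pResidual 2 X ≤ K) ∧ centralizer {z} ⊔ pResidual 2 X = ⊤ := by
  have : Fact (Nat.Prime 2) := ⟨Nat.prime_two⟩
  have : Fact (Nat.Prime 3) := ⟨Nat.prime_three⟩
  have : Fact (Nat.Prime 5) := ⟨Nat.prime_five⟩
  have z2 := ha z rfl
  have s2 := ha s sz
  have s1 : s ≠ 1 := fun e => z1 (by simpa [e] using mz)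
  have oz : orderOf z = 2 := orderOf_eq_prime (by rw [pow_two, z2]) z1
  have om : orderOf m = 3 := orderOf_eq_prime m3 fun e => ne (by simpa [e] using mz.symm)
  have x1 : x ≠ 1 := fun e => z1 (by rwa [e, one_mul, pow_succ, pow_two, z2, one_mul] at xz)
  have ox : orderOf x = 5 := orderOf_eq_prime x5 x1
  have msz : m * (s * z) * m⁻¹ = z := by rw [← conj_mul, ms, mz, mul_assoc, ← sz, ← mul_assoc, s2, one_mul]
  obtain ⟨T, hT⟩ : ∃ T, T = centralizer ({z} : Set X) := ⟨_, rfl⟩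
  have mT : ∀ {a}, a ∈ T ↔ a * z = z * a := by intro a; rw [hT, mem_centralizer_singleton_iff]
  obtain ⟨V, hV⟩ : ∃ V, V = four z s z2 s2 sz := ⟨_, rfl⟩
  have mV : ∀ {a}, a ∈ V ↔ a = 1 ∨ a = z ∨ a = s ∨ a = s * z := by intro a; rw [hV]; rfl
  have VT : V ≤ T := fun a h => mT.2 (by 
    rcases mV.1 h with rfl | rfl | rfl | rfl
    exacts [by simp, rfl, sz, by rw [← mul_assoc, sz]])
  have iT : ∀ {a}, a ∈ T → a⁻¹ = a := fun h => inv_eq_of_mul_eq_one_right (ha _ (mT.1 h))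
  have ab : ∀ {a b}, a ∈ T → b ∈ T → a * b = b * a := fun a b => by
    rw [← iT (mul_mem a b), _root_.mul_inv_rev, iT a, iT b]
  have cV : ∀ (k : ℕ) {v}, v ∈ V → m ^ k * v * (m ^ k)⁻¹ ∈ V := fun k v h => by
    induction k with
    | zero => simpa using h
    | succ k ih =>
      rw [show m ^ (k + 1) * v * (m ^ (k + 1))⁻¹ = m * (m ^ k * v * (m ^ k)⁻¹) * m⁻¹ by rw [pow_succ']; group]
      rcases mV.1 ih with e | e | e | e <;> rw [e, mV]
      exacts [.inl (by simp), .inr (.inr (.inl mz)), .inr (.inr (.inr ms)), .inr (.inl msz)]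
  have hN : ∀ n ∈ normalizer (T : Set X), ∃ k : ℕ, ∃ a ∈ T, n = m ^ k * a := fun n hn => by
    have k : ∃ k : ℕ, n * z * n⁻¹ = m ^ k * z * (m ^ k)⁻¹ := by
      rcases hb _ (mT.1 ((mem_normalizer_iff.1 hn z).1 (mT.2 rfl))) (isConj_iff.2 ⟨n, rfl⟩) with e | e | e
      · exact ⟨0, by simpa using e⟩
      · exact ⟨1, by rw [e, pow_one, mz]⟩
      · exact ⟨2, by rw [e, ← ms, ← mz, pow_two]; group⟩
    obtain ⟨k, e⟩ := k
    refine ⟨k, (m ^ k)⁻¹ * n, mT.2 ?_, by group⟩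
    calc _ = (m ^ k)⁻¹ * (n * z * n⁻¹) * n := by group
      _ = _ := by rw [e]; group
  have pT : IsPGroup 2 T := H26.isPGroup_iff_mem.2 fun a h => ⟨1, by rw [pow_one, pow_two, ha a (mT.1 h)]⟩
  have syl : H26.IsSyl 2 T ⊤ := H26.isSyl_of_normalizer ⟨le_inf le_top le_normalizer, pT, fun P hP l1 l2 =>
    le_antisymm (fun n hn => by
      obtain ⟨k, a, h, rfl⟩ := hN n (l2 hn).2
      obtain ⟨j, e⟩ := H26.isPGroup_iff_mem.1 hP _ ((mul_mem_cancel_right (l1 h)).1 hn)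
      have : m ^ k = 1 := by
        rw [← pow_one (m ^ k), ← (Nat.Coprime.pow_left j (by decide : Nat.Coprime 2 3)).gcd_eq_one, pow_gcd_eq_one]
        exact ⟨e, by rw [← pow_mul, mul_comm, pow_mul, m3, one_pow]⟩
      rwa [this, one_mul]) l1⟩
  obtain ⟨S, hS⟩ := syl.exists_sylow_top
  have nL := H26.pResidual_normal (p := 2) (G := X)
  have mL : m ∈ pResidual 2 X := subset_closure (show Nat.Coprime _ _ by rw [om]; decide)
  have xL : x ∈ pResidual 2 X := subset_closure (show Nat.Coprime _ _ by rw [ox]; decide)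
  have ez : z = m * (s * m⁻¹ * s⁻¹) := by
    calc z = s * z * s⁻¹ := by rw [sz]; group
      _ = _ := by rw [← ms]; group
  have zL : z ∈ pResidual 2 X := ez ▸ mul_mem mL (nL.conj_mem _ (inv_mem mL) s)
  have gen : ∀ {K : Subgroup X}, z ∈ K → s ∈ K → V ≤ K := fun a b v h => by
    rcases mV.1 h with rfl | rfl | rfl | rfl
    exacts [one_mem _, a, b, mul_mem b a]
  have VL : V ≤ pResidual 2 X := gen zL (mz ▸ nL.conj_mem _ zL m)
  have TL : T ⊓ pResidual 2 X ≤ V := by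
    have := Agent.S0075.result S ⟨⟨fun a b => Subtype.ext (ab (hS ▸ a.2) (hS ▸ b.2))⟩⟩
    rw [show (S : Set X) = (T : Set X) from congrArg SetLike.coe hS, hS] at this
    rw [this, commutator_le]
    intro a h n hn
    obtain ⟨k, b, h', rfl⟩ := hN n hn
    obtain ⟨v, w, hv, c, rfl⟩ := hc a (mT.1 h)
    have c' : w * m ^ k = m ^ k * w := ((show Commute m w from c).pow_left k).eq.symm
    have : ⁅v * w, m ^ k * b⁆ = v * (m ^ k * v⁻¹ * (m ^ k)⁻¹) := by
      calc _ = v * (w * m ^ k) * (b * (v * w)⁻¹) * b⁻¹ * (m ^ k)⁻¹ := by rw [commutatorElement_def]; group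
        _ = _ := by rw [c', ab h' (inv_mem h)]; group
    rw [this]; exact mul_mem (mV.2 hv) (cV k (inv_mem (mV.2 hv)))
  have cL : centralizer {(⟨z, zL⟩ : pResidual 2 X)} = V.subgroupOf _ := by
    ext a
    rw [mem_centralizer_singleton_iff, mem_subgroupOf, Subtype.ext_iff]
    exact ⟨fun h => TL ⟨mT.2 h, a.2⟩, fun h => mT.1 (VT h)⟩
  have c4 : Nat.card V = 4 := hV ▸ card_four z2 s2 sz z1 s1 ne
  have sL := VL (mV.2 (.inr (.inr (.inl rfl))))
  have iso : Nonempty (pResidual 2 X ≃* alternatingGroup (Fin 5)) := by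
    refine Agent.S3277.result (⟨z, zL⟩ : pResidual 2 X) (by rw [← orderOf_coe, oz]) (by rw [cL, H26.card_subgroupOf VL, c4])
      (fun c h => Subtype.ext (by rw [cL] at h; exact (pow_two _).trans (ha _ (mT.1 (VT h))))) ?_ fun E nE hE => ?_
    · rintro ⟨P, N, nN, hP⟩
      obtain ⟨j, hj⟩ := IsPGroup.iff_card.1 P.2
      have a : (⟨m, mL⟩ : pResidual 2 X) ∈ N := by
        have b := N.pow_index_mem (⟨m, mL⟩ : pResidual 2 X)
        rw [hP.symm.index_eq_card, hj] at b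
        refine zpowers_le.2 b (mem_zpowers_pow_iff.2 ?_)
        rw [← orderOf_coe, om]; exact Nat.Coprime.pow_left j (by decide)
      have b : (⟨z, zL⟩ : pResidual 2 X) ∈ N := by
        have := mul_mem a (nN.conj_mem _ (inv_mem a) ⟨s, sL⟩)
        rwa [show (⟨m, mL⟩ : pResidual 2 X) * (⟨s, sL⟩ * (⟨m, mL⟩)⁻¹ * (⟨s, sL⟩)⁻¹) = ⟨z, zL⟩ from
          Subtype.ext ez.symm] at this
      have := orderOf_dvd_natCard _ b
      rw [← orderOf_coe, oz, ← hP.index_eq_card] at this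
      exact P.not_dvd_index this
    · by_contra! hc'
      have hE2 : ∀ a ∈ E, a * a = 1 := fun a h => (pow_two a).symm.trans (hE.2 a h)
      have hEc : ∀ a ∈ E, ∀ b ∈ E, a * b = b * a := fun a h b h' =>
        congrArg Subtype.val (hE.1.1.1 (⟨a, h⟩ : E) ⟨b, h'⟩)
      obtain ⟨Z, hZ⟩ : ∃ Z, Z = (⟨z, zL⟩ : pResidual 2 X) := ⟨_, rfl⟩
      have Z2 : Z * Z = 1 := hZ ▸ Subtype.ext z2
      obtain ⟨c, c1, c2, c3⟩ : ∃ c ∈ E, c ≠ 1 ∧ c * Z = Z * c := by
        obtain ⟨⟨c, c1⟩, c2⟩ := (ne_bot_iff_exists_ne_one (H := E)).1 (by rintro rfl; simp at hc')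
        by_cases k : c * Z = Z * c
        · exact ⟨c, c1, fun e => c2 (Subtype.ext e), k⟩
        have d := nE.conj_mem _ c1 Z
        have i : Z⁻¹ = Z := inv_eq_of_mul_eq_one_right Z2
        refine ⟨c * (Z * c * Z⁻¹), mul_mem c1 d, fun e => k ?_, ?_⟩
        · exact (mul_inv_eq_iff_eq_mul.1 (mul_left_cancel (e.trans (hE2 c c1).symm))).symm
        · conv_rhs => rw [hEc _ c1 _ d, ← mul_assoc, ← mul_assoc, ← mul_assoc, Z2, i]
          simp only [mul_assoc, inv_mul_cancel, mul_one, one_mul]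
      have zE : Z ∈ E := by
        have k : ∀ {a b : pResidual 2 X}, a ∈ E → m * a * m⁻¹ = b → b ∈ E := fun {a b} h e =>
          (Subtype.ext e : (⟨m, mL⟩ : pResidual 2 X) * a * (⟨m, mL⟩)⁻¹ = b) ▸ nE.conj_mem _ h _
        rcases mV.1 (TL ⟨mT.2 (by rw [hZ] at c3; exact congrArg Subtype.val c3), c.2⟩) with e | e | e | e
        · exact (c2 (Subtype.ext e)).elim
        · exact (Subtype.ext (by rw [hZ, e]) : c = Z) ▸ c1
        · exact k (k (b := ⟨s * z, mul_mem sL zL⟩) c1 (by rw [e, ms])) (by rw [hZ]; exact msz)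
        · exact k c1 (by rw [e, hZ]; exact msz)
      obtain ⟨Y, hY⟩ : ∃ Y, Y = (⟨x, xL⟩ : pResidual 2 X) := ⟨_, rfl⟩
      have y3 : Y ^ 3 ∈ E := by
        have e : (Y * Z) ^ 3 = 1 := by rw [hY, hZ]; exact Subtype.ext xz
        rw [← QuotientGroup.eq_one_iff] at zE ⊢
        have := congrArg (QuotientGroup.mk (s := E)) e
        rwa [QuotientGroup.mk_pow, QuotientGroup.mk_mul, zE, mul_one, QuotientGroup.mk_one] at this
      have : x ^ 3 * x ^ 3 = 1 := by have := congrArg Subtype.val (hE2 _ y3); rwa [hY] at this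
      rw [← pow_add, show 3 + 3 = 5 + 1 from rfl, pow_succ, x5, one_mul] at this
      exact x1 this
  obtain ⟨iso⟩ := iso
  have c60 : Nat.card (pResidual 2 X) = 60 := by
    rw [Nat.card_congr iso.toEquiv, nat_card_alternatingGroup]; simp [Nat.factorial]
  refine ⟨⟨iso⟩, fun a h c => mV.1 (TL ⟨mT.2 c, h⟩), fun K a b c => ?_, by
    rw [← hT, ← H26.pResidualOf_top]; exact syl.sup_pResidualOf⟩
  have d4 := card_dvd_of_le (le_inf (gen a (mz ▸ mul_mem (mul_mem b a) (inv_mem b))) VL)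
  have d3 := orderOf_dvd_natCard _ (show m ∈ K ⊓ pResidual 2 X from ⟨b, mL⟩)
  have d5 := orderOf_dvd_natCard _ (show x ∈ K ⊓ pResidual 2 X from ⟨c, xL⟩)
  rw [c4] at d4; rw [om] at d3; rw [ox] at d5
  refine inf_eq_right.1 (eq_of_le_of_card_ge inf_le_right (c60 ▸ Nat.le_of_dvd Nat.card_pos ?_))
  omega

end L.HJ
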