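import Cfsg.Agent.L.HJ6b
import Cfsg.Agent.L.HJ7
import Cfsg.Agent.L.HJ8
import Cfsg.Agent.H17.BCor
import Cfsg.Agent.S2135
import Cfsg.Agent.S0223

/-!
Recognition of the second and third Janko groups: the main theorem (namespace L.HJ).
`Two`, `Sm.not_conj`, `Sm.cent_t`, `Sm.main`, `Base.main`.
-/

set_option autoImplicit false

namespace L.HJ

open Cfsg BG H03 H04 Subgroup

variable {G : Type*} [Group G] [Finite G] {Q : Subgroup G} {e : ℕ → G} {m x : G}

/-- two elements of the centraliser of a non-central involution -/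
structure Two (e : ℕ → G) (m x : G) : Prop where
  m3 : m ^ 3 = 1
  mt : m * e 288 = e 288 * m
  mt' : m * e 960 = e 960 * m
  mz : m * e 1 * m⁻¹ = e 2
  ms : m * e 2 * m⁻¹ = e 2 * e 1
  x5 : x ^ 5 = 1
  xt : x * e 288 = e 288 * x
  xt' : x * e 960 = e 960 * x
  xz : (x * e 1) ^ 3 = 1
  my : m * e 256 = e 256 * m
  xy : x * e 256 = e 256 * x

namespace Sm

variable (h : Sm Q e)
include h

theorem not_conj (T : Two e m x) : ¬ IsConj (e 1) (e 288) := fun c => by
  obtain ⟨g, hg⟩ := isConj_iff.1 c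
  have k : ∀ y, y * e 288 = e 288 * y → g⁻¹ * y * g ∈ C_[e 1] := fun y hy => mem_cent1.2 (by
    calc _ = g⁻¹ * (y * (g * e 1 * g⁻¹)) * g := by group
      _ = _ := by rw [hg, hy, ← hg]; group)
  have a : e 960 * e 960 = 1 := by rw [h.mul, h.eq1]; decide +kernel
  rcases h.five (k x T.xt) (k (e 960) (by rw [h.mul, h.mul, h.eq]; decide +kernel))
    (by rw [← inv_inv g, inv_inv g⁻¹, conj_pow, T.x5]; simp)
    (by calc _ = g⁻¹ * (e 960 * e 960) * g := by group
          _ = 1 := by rw [a]; group)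
    (by calc _ = g⁻¹ * (x * e 960) * g := by group
          _ = _ := by rw [T.xt']; group) with r | r | r
  · have := T.xz
    rw [show x = 1 from conj_eq_one_iff.1 (by rwa [inv_inv]), one_mul, h.pw, h.eq1] at this
    revert this; decide +kernel
  · have : e 960 = 1 := conj_eq_one_iff.1 (by rwa [inv_inv])
    rw [h.eq1] at this; omega
  · have : e 960 = e 288 := by rw [← hg, ← r]; group
    rw [h.eq] at this; omega

theorem zt : e 1 ∈ C_[e 288] := mem_cent1.2 (h.memH' 288).symm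

theorem st : e 2 ∈ C_[e 288] := mem_cent1.2 (by rw [h.mul, h.mul, h.eq]; decide +kernel)

theorem cent_t (T : Two e m x) : Nonempty (pResidual 2 C_[e 288] ≃* alternatingGroup (Fin 5)) ∧
    (∀ a ∈ pResidual 2 C_[e 288], a.1 * e 1 = e 1 * a → a.1 = 1 ∨ a = e 1 ∨ a = e 2 ∨ a = e 2 * e 1) ∧
    (∀ K : Subgroup G, e 1 ∈ K → m ∈ K → x ∈ K → ∀ a ∈ pResidual 2 C_[e 288], a.1 ∈ K) ∧
    centralizer {(⟨e 1, h.zt⟩ : C_[e 288])} ⊔ pResidual 2 C_[e 288] = ⊤ := by
  have e3 : e 3 = e 2 * e 1 := by rw [h.mul, h.eq]; decide +kernel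
  obtain ⟨a, b, c, d⟩ := cent_five (X := C_[e 288]) (z := ⟨e 1, h.zt⟩) (s := ⟨e 2, h.st⟩) (m := ⟨m, mem_cent1.2 T.mt⟩)
    (x := ⟨x, mem_cent1.2 T.xt⟩) (fun r => h.base.z1 (congrArg Subtype.val r)) (Subtype.ext (h.memH' 2))
    (fun r => by have := (h.eq 2 1).1 (congrArg Subtype.val r); omega)
    (fun a r => Subtype.ext (h.memA (congrArg Subtype.val r) (mem_cent1.1 a.2)).1)
    (fun a r c => by
      have c' : IsConj (e 1) a.1 := (Subgroup.subtype _).map_isConj c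
      simp only [Subtype.ext_iff, coe_mul, ← e3]
      rcases (h.memA (congrArg Subtype.val r) (mem_cent1.1 a.2)).2.1 with r | r | r | r | r
      · exact (h.base.z1 (isConj_one_left.1 (r ▸ c'))).elim
      exacts [.inl r, .inr (.inl r), .inr (.inr r), (h.not_conj T (c'.trans r.symm)).elim])
    (fun a r => by
      obtain ⟨v, w, hv, hw, r⟩ := (h.memA (congrArg Subtype.val r) (mem_cent1.1 a.2)).2.2
      have v1 : v ∈ C_[e 288] := by
        rcases hv with rfl | rfl | rfl | rfl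
        exacts [one_mem _, h.zt, h.st, e3 ▸ mul_mem h.st h.zt]
      refine ⟨⟨v, v1⟩, ⟨w, (mul_mem_cancel_left v1).1 (r ▸ a.2)⟩, by simpa only [Subtype.ext_iff, coe_mul, coe_one, ← e3] using hv,
        Subtype.ext ?_, Subtype.ext r⟩
      change m * w = w * m
      rcases hw with rfl | rfl | rfl | rfl
      · simp
      · exact T.mt
      · exact T.mt'
      · rw [show e 1728 = e 288 * e 960 by rw [h.mul, h.eq]; decide +kernel, ← mul_assoc, T.mt, mul_assoc, T.mt', mul_assoc])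
    (Subtype.ext T.m3) (Subtype.ext T.mz) (Subtype.ext T.ms) (Subtype.ext T.x5) (Subtype.ext T.xz)
  exact ⟨a, fun y r s => by simpa only [Subtype.ext_iff, coe_mul, coe_one] using b y r (Subtype.ext s),
    fun K r s t y hy => c (K.subgroupOf _) r s t hy, d⟩

theorem cent_le (T : Two e m x) {K : Subgroup G} (hK : C_[e 1] ⊓ C_[e 288] ≤ K) (hm : m ∈ K) (hx : x ∈ K) :
    C_[e 288] ≤ K := fun y hy => by
  obtain ⟨-, -, c, d⟩ := h.cent_t T
  have : (⊤ : Subgroup C_[e 288]) ≤ K.subgroupOf _ := d ▸ sup_le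
    (fun a ha => hK ⟨mem_cent1.2 (congrArg Subtype.val (mem_centralizer_singleton_iff.1 ha)), a.2⟩)
    fun a ha => c K (hK ⟨mem_cent1_self _, h.zt⟩) hm hx a ha
  exact this (mem_top (⟨y, hy⟩ : C_[e 288]))

theorem top_of_two (T : Two e m x) {K : Subgroup G} (hK : C_[e 1] ≤ K) (hm : m ∈ K) (hx : x ∈ K) : K = ⊤ := by
  have ct := h.cent_le T (inf_le_left.trans hK) hm hx
  have t2 : e 288 * e 288 = 1 := by rw [h.mul, h.eq1]; decide +kernel
  have cl : ∀ {w}, w ∈ K → w * w = 1 → w ≠ 1 → ∃ g ∈ K, g * w * g⁻¹ = e 1 ∨ g * w * g⁻¹ = e 288 := fun a b c => by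
    obtain ⟨g, hg, r | r | r⟩ := h.classes hK a b c
    · exact ⟨g, hg, .inl r⟩
    · refine ⟨m⁻¹ * g, mul_mem (inv_mem hm) hg, .inl ?_⟩
      rw [_root_.mul_inv_rev, mul_assoc m⁻¹, mul_assoc m⁻¹, ← mul_assoc _ g⁻¹, r, ← T.mz]; group
    · exact ⟨g, hg, .inr r⟩
  have ce : ∀ {w y}, w ∈ K → w * w = 1 → w ≠ 1 → y * w = w * y → y ∈ K := fun {w y} a b c d => by
    obtain ⟨g, hg, r⟩ := cl a b c
    have : g * y * g⁻¹ ∈ C_[g * w * g⁻¹] := mem_cent1.2 (by rw [conj_mul, conj_mul, d])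
    have : g * y * g⁻¹ ∈ K := by
      rcases r with r | r <;> rw [r] at this
      exacts [hK this, ct this]
    exact (mul_mem_cancel_left hg).1 ((mul_mem_cancel_right (inv_mem hg)).1 this)
  rw [eq_top_iff]
  intro g _
  have a2 : g * e 1 * g⁻¹ * (g * e 1 * g⁻¹) = 1 := by rw [conj_mul, h.z2]; simp
  have cz : IsConj (e 1) (g * e 1 * g⁻¹) := isConj_iff.2 ⟨g, rfl⟩
  have ev := H08.even_orderOf_mul_of_not_isConj a2 t2 fun c => h.not_conj T (cz.trans c)
  have o := H08.half_pow_invol ev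
  have aK : g * e 1 * g⁻¹ ∈ K := ce (ct (mem_cent1.2 (H08.commute_half_pow_right a2 t2 ev).eq)) (H08.mul_self_of_orderOf o)
    (fun r => by simp [r] at o) (H08.commute_half_pow_left a2 t2 ev).eq.symm
  obtain ⟨k, hk, r | r⟩ := cl aK a2 (by simpa using h.base.z1)
  · refine (mul_mem_cancel_left hk).1 (hK (mem_cent1.2 ?_))
    calc _ = k * (g * e 1 * g⁻¹) * k⁻¹ * (k * g) := by group
      _ = _ := by rw [r]
  · exact (h.not_conj T (cz.trans (isConj_iff.2 ⟨k, r⟩))).elim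

theorem inj {S : Type*} [Group S] [IsSimpleGroup S] {ψ : S →* G} (r : e 2 ∈ ψ.range) : Function.Injective ψ := by
  rcases (inferInstance : ψ.ker.Normal).eq_bot_or_eq_top with k | k
  · exact (MonoidHom.ker_eq_bot_iff _).1 k
  · obtain ⟨a, r⟩ := r
    have := (h.eq1 2).1 (r ▸ k.ge (mem_top a))
    omega

theorem of_three {ψ : Spor.threeJ3 F4 om →* G} (h1 : e 2 ∈ ψ.range) (h2 : e 416 ∈ ψ.range) (h3 : e 288 ∈ ψ.range) :
    Nonempty (G ≃* Spor.J3 F4 om) := by
  obtain ⟨c3, -, -, si⟩ := H15.J3.main (H15.J3.two_eq card_F4) om_spec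
  have hK := h.le_of h1 h2 h3
  have ck : center _ ≤ ψ.ker := fun c hc => by
    have a : ψ c ∈ C_(Q) := mem_centralizer_iff.2 fun q hq => by
      obtain ⟨y, rfl⟩ := hK (aes_le h.base.es.aes hq)
      rw [← map_mul, ← map_mul, mem_center_iff.1 hc]
    rcases two_cases h.base.ord (h.base.es.cent a) with r | r
    · exact r
    · have : c ^ 3 = 1 := by
        have := congrArg Subtype.val (pow_card_eq_one' (x := (⟨c, hc⟩ : center _)))
        rwa [c3] at this
      have := congrArg ψ this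
      rw [map_pow, r, map_one, h.pw, h.eq1] at this
      exact absurd this (by decide +kernel)
  let φ : Spor.J3 F4 om →* G := QuotientGroup.lift _ ψ ck
  have eq : φ.range = ψ.range := le_antisymm (by
    rintro _ ⟨a, rfl⟩
    obtain ⟨a, rfl⟩ := QuotientGroup.mk_surjective a
    exact ⟨a, rfl⟩) (by rintro _ ⟨a, rfl⟩; exact ⟨a, rfl⟩)
  rw [← eq] at hK h1
  have i := h.inj h1
  have one := (Agent.S2135.result card_F4 om om_spec).1
  have cj : ∀ t ∈ φ.range, ∀ s ∈ φ.range, orderOf t = 2 → orderOf s = 2 → ∃ k ∈ φ.range, k * t * k⁻¹ = s := by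
    rintro _ ⟨a, rfl⟩ _ ⟨b, rfl⟩ oa ob
    rw [orderOf_injective _ i] at oa ob
    obtain ⟨c, r⟩ := isConj_iff.1 (one a b oa ob)
    exact ⟨φ c, ⟨c, rfl⟩, by rw [← r]; simp⟩
  have zK := hK (mem_cent1_self _)
  refine ⟨(MulEquiv.ofBijective φ ⟨i, MonoidHom.range_eq_top.1 (by_contra fun ne => ?_)⟩).symm⟩
  have se := (Agent.S0223.result _ ne (even_iff_two_dvd.2 (h.base.ord.symm.dvd.trans
    (Subgroup.orderOf_dvd_natCard _ zK)))).2
    ⟨fun t ht o y hy => by
      obtain ⟨k, hk, rfl⟩ := cj _ zK t ht h.base.ord o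
      have : k⁻¹ * y * k ∈ φ.range := hK (mem_cent1.2 (by
        calc _ = k⁻¹ * (y * (k * e 1 * k⁻¹)) * k := by group
          _ = _ := by rw [mem_cent1.1 hy]; group))
      exact (mul_mem_cancel_left (inv_mem hk)).1 ((mul_mem_cancel_right hk).1 this), fun t a s b c d _ => cj t a s b c d⟩
  have so := H17.BC.c2903 H25.BE.bender_core se ⟨e 1, e 2, h.base.z1, by rw [ne_eq, h.eq1]; omega, by rw [ne_eq, h.eq]; omega,
    h.z2, by rw [h.mul, h.eq1]; decide +kernel, (h.memH' 2).symm⟩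
  have : IsSimpleGroup φ.range := (MonoidHom.ofInjective i).symm.isSimpleGroup
  have := congrArg Subtype.val (IsSimpleGroup.comm_iff_isSolvable.2 so ⟨_, h1⟩ ⟨e 4, hK (mem_cent1.2 (h.memH' 4))⟩)
  simp only [coe_mul, h.mul, h.eq] at this
  exact absurd this (by decide +kernel)

theorem main (c : IsConj (e 1) (e 2)) :
    (Nonempty (G ≃* Spor.J2) ∧ ∃ m x, Two e m x) ∨ Nonempty (G ≃* Spor.J3 F4 om) := by
  obtain ⟨u, R⟩ := h.exists_u c
  have col : ¬ _ := fun k => absurd (R.col k) (by rw [h.zz, h.mul, h.eq1]; decide +kernel)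
  rcases h.long R with r | r | ⟨r, k, hk, r'⟩
  · exact (col (.inl r)).elim
  · exact (col (.inr (.inl r))).elim
  interval_cases k
  · obtain ⟨ψ, a, b, d⟩ := R.three r (r'.trans (pow_zero _))
    exact .inr (h.of_three a b d)
  · exact (col (.inr (.inr ⟨r, r'.trans (pow_one _)⟩))).elim
  · obtain ⟨ψ, a, b, d, m, hm, x, hx, r⟩ := R.two' r r'
    have := H15.J2.simple
    rw [h.zz, h.yy, show e 256 * e 288 * (e 256)⁻¹ = e 960 by rw [h.inv, h.mul, h.mul, h.eq]; decide +kernel] at r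
    obtain ⟨r1, r2, r3, r4, r5, r6, r7, r8, r9, r10, r11⟩ := r
    have T : Two e m x := ⟨r1, r2, r3, r4, r5, r6, r7, r8, r9, r10, r11⟩
    exact .inl ⟨⟨(MulEquiv.ofBijective ψ ⟨h.inj a,
      MonoidHom.range_eq_top.1 (h.top_of_two T (h.le_of a b d) hm hx)⟩).symm⟩, m, x, T⟩

end Sm

end L.HJ
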