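import Cfsg.Agent.H15.J3Aa

/-! Recognition of the second and third Janko groups: enumerations. Generators. -/

set_option maxRecDepth 100000
set_option Elab.async false

namespace L.HJc
open H13 H15
open H15.J3 (one app wfT mul wf h1 S)

noncomputable def bc : List ℕ :=
  [(nat_lit 0x1f17ab37d3680aec186d2ec989b1805c40f0c3439),
  (nat_lit 0x1f17ab37d3680aec186d2ec989b1805c40f0c3439),
  (nat_lit 0x29d069dd4289881cb0b1977aaf1daee2c113e4bec),
  (nat_lit 0x3b6020b1ee99f350ad1583cd87ceba46c32e15ab7),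
  (nat_lit 0x1a61280e6271482f172cedb3225072149888b2d86),
  (nat_lit 0x1a61280e6271482f172cedb3225072149888b2d86),
  (nat_lit 0x161388361c6076ae8b2da2a1bc21765b4696c7cb9),
  (nat_lit 0x161388361c6076ae8b2da2a1bc21765b4696c7cb9)]

theorem bcw : band (allL (wfT 18 9) bc) (Nat.beq bc.length (2 * 4)) = true := by decide +kernel

theorem bco : bcOk mul one bc 4 = true := by decide +kernel

section
universe u v
variable {R : Type v} {ι : Type} [CommRing R] [Fintype ι] [DecidableEq ι] (V : VCod R ι 9 18 app wfT) (h2 : V.mat one = 1)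

theorem h0 : ∀ c ∈ bc, (S V h2).ok c := V.ok_of_bc h1 h2 bcw bco

/-- the generators -/
noncomputable def g : ℕ → (Matrix ι ι R)ˣ := (S V h2).bg bc

end

def dom0 : List ℕ := []

noncomputable def us0 : List (List ℕ) :=
  []

noncomputable def lc0 : List ℕ :=
  [one,
  one,
  one,
  one,
  one,
  one,
  one,
  one]

noncomputable def R0 : List (List ℕ × ℕ) :=
  []

theorem lco0 : lcOk mul one bc lc0 dom0 (2 * 4) us0 8 = true := by decide +kernel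

theorem Rn0 : Nat.beq R0.length 0 = true := by decide +kernel

section
universe u v
variable {R : Type v} {ι : Type} [CommRing R] [Fintype ι] [DecidableEq ι] (V : VCod R ι 9 18 app wfT) (h2 : V.mat one = 1)

theorem L0 : Lc ((S V h2).sub (mdl (g V h2) dom0)) (mgen (g V h2) dom0) lc0 dom0 (2 * 4) us0 8 :=
  lc_of (S V h2) (h0 V h2) bco lco0

theorem rel0 : Rels R0 (g V h2) := fun _ h => nomatch h

theorem card0 : Nat.card (mdl (g V h2) dom0) = 1 := card_mdl_nil _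

theorem fin0 : Finite (mdl (g V h2) dom0) := Nat.finite_of_card_ne_zero (by rw [card0]; decide)

theorem U0 : UP.{0} (mgen (g V h2) dom0) dom0 R0 := up_nil _ _

end

noncomputable def N1 : List (List ℕ × ℕ) :=
  [([nat_lit 2, nat_lit 3], nat_lit 1),
  ([nat_lit 2], nat_lit 5)]

noncomputable def R1 : List (List ℕ × ℕ) :=
  R0 ++ N1

noncomputable def n0 : List Net :=
  [Net.nil, Net.nil, Net.nil, Net.nil, Net.nil, Net.nil, Net.nil, Net.nil]

def nodes0 : List ℕ := [2, 3]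

def sb0 : List (ℕ × ℕ × ℕ) := []

noncomputable def rs0 : List (ℕ × ℕ × List (ℕ × ℕ)) :=
  [(nat_lit 0, nat_lit 0, [(nat_lit 2, (nat_lit 0x100002000040000800010000200004000080001)), (nat_lit 1, (nat_lit 0x100002000040000800010000200004000080001))]),
  (nat_lit 1, nat_lit 0, [(nat_lit 1, (nat_lit 0x100002000040000800010000200004000080001)), (nat_lit 1, (nat_lit 0x100002000040000800010000200004000080001)), (nat_lit 1, (nat_lit 0x100002000040000800010000200004000080001)), (nat_lit 1, (nat_lit 0x100002000040000800010000200004000080001)), (nat_lit 1, (nat_lit 0x100002000040000800010000200004000080001))])]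

noncomputable def T0 : Tr :=
  (.nd (nat_lit 5) (.nd (nat_lit 2) (.nd (nat_lit 1) (.lf ⟨nat_lit 0, nat_lit 0, nat_lit 0, one, one, one, .triv⟩)
 (.lf ⟨nat_lit 0, nat_lit 0, nat_lit 0, one, one, one, .triv⟩))
 (.nd (nat_lit 3) (.lf ⟨nat_lit 0, nat_lit 0, nat_lit 0, one, one, one, .triv⟩)
 (.nd (nat_lit 4) (.lf ⟨nat_lit 1, nat_lit 2, nat_lit 0, one, one, one, (.wt (nat_lit 0) (nat_lit 0) one (.sp .nil) [] [])⟩)
 (.lf ⟨nat_lit 2, nat_lit 1, nat_lit 0, one, one, one, (.wt (nat_lit 0) (nat_lit 1) one (.sp .nil) [] [])⟩))))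
 (.nd (nat_lit 8) (.nd (nat_lit 6) (.lf ⟨nat_lit 1, nat_lit 1, nat_lit 5, one, one, one, (.df [])⟩)
 (.nd (nat_lit 7) (.lf ⟨nat_lit 2, nat_lit 5, nat_lit 1, one, one, one, (.wt (nat_lit 0) (nat_lit 1) one (.st (nat_lit 5) [] [] .nil) [] [])⟩)
 (.lf ⟨nat_lit 2, nat_lit 2, nat_lit 7, one, one, one, (.df [])⟩)))
 (.nd (nat_lit 9) (.lf ⟨nat_lit 1, nat_lit 7, nat_lit 2, one, one, one, (.wt (nat_lit 0) (nat_lit 0) one (.st (nat_lit 7) [] [] .nil) [] [])⟩)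
 (.nd (nat_lit 10) (.lf ⟨nat_lit 1, nat_lit 5, nat_lit 7, one, one, one, (.wt (nat_lit 1) (nat_lit 0) one (.st (nat_lit 8) [] [] (.st (nat_lit 3) [] [] (.sp (.st (nat_lit 5) [] [] .nil)))) [] [])⟩)
 (.lf ⟨nat_lit 2, nat_lit 7, nat_lit 5, one, one, one, (.wt (nat_lit 0) (nat_lit 1) one (.st (nat_lit 9) [] [] .nil) [] [])⟩)))))

noncomputable def q0_1 : List Net :=
  [Net.nil, Net.nil, Net.nil, Net.nil, Net.nil, Net.nil, Net.nil, Net.nil]

noncomputable def Qs0 : List (ℕ × ℕ × List Net) :=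
  [(nat_lit 1, nat_lit 3, q0_1), (nat_lit 1, nat_lit 3, q0_1)]

noncomputable def ls0 : List Ld :=
  [⟨[], [], [], (nat_lit 0)⟩,
  ⟨[], [], [], (nat_lit 0)⟩]

noncomputable def lk0 : List (List ℕ) :=
  [[], []]

noncomputable def d0_0 : Nd :=
  ⟨nat_lit 1, nat_lit 1, [], [],
  [⟨[], (nat_lit 0), [(nat_lit 5, nat_lit 0, [])]⟩,
  ⟨[], (nat_lit 0), [(nat_lit 4, nat_lit 0, [])]⟩]⟩

noncomputable def d0_1 : Nd :=
  ⟨nat_lit 2, nat_lit 1, [], [],
  [⟨[], (nat_lit 0), [(nat_lit 3, nat_lit 0, [])]⟩,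
  ⟨[], (nat_lit 0), [(nat_lit 7, nat_lit 0, [])]⟩]⟩

noncomputable def d0_2 : Nd :=
  ⟨nat_lit 5, nat_lit 1, [], [],
  [⟨[], (nat_lit 0), [(nat_lit 9, nat_lit 0, [])]⟩,
  ⟨[], (nat_lit 0), [(nat_lit 6, nat_lit 0, [])]⟩]⟩

noncomputable def d0_3 : Nd :=
  ⟨nat_lit 7, nat_lit 1, [], [],
  [⟨[], (nat_lit 0), [(nat_lit 8, nat_lit 0, [])]⟩,
  ⟨[], (nat_lit 0), [(nat_lit 10, nat_lit 0, [])]⟩]⟩

noncomputable def ds0 : List Nd :=
  [d0_0, d0_1, d0_2, d0_3]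

noncomputable def ks0 : List ℕ :=
  (unp (nat_lit 3) (nat_lit 0xf5104))

def kc0 : List (ℕ × ℕ) := [(0, 1), (1, 1), (2, 1), (5, 1), (7, 1)]

theorem Rn1 : Nat.beq R1.length 2 = true := by decide +kernel

theorem Nn1 : Nat.beq N1.length 2 = true := by decide +kernel

theorem A0_p : actP 3 1 n0 8 = true := by decide +kernel

theorem A0_l_0 : rng (actL 3 1 n0 dom0 (2 * 4) us0) (nat_lit 0) (nat_lit 8) = true := by decide +kernel

theorem hr0 : relsOk mul one lc0 dom0 nodes0 2 (2 * 4) R1 sb0 0 rs0 = true := by decide +kernel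

theorem hc0_0 : rng (chk mul one wf T0 lc0 (mapR (fun e => e.2.2) rs0) 2) (nat_lit 0) (nat_lit 11) = true := by decide +kernel

theorem AQ0_1_p : actP 3 1 q0_1 8 = true := by decide +kernel

theorem AQ0_1_l_0 : rng (actL 3 1 q0_1 dom0 (2 * 4) us0) (nat_lit 0) (nat_lit 8) = true := by decide +kernel

theorem la0 : ldA mul one T0 11 lc0 1 3 n0 ls0 2 = true := by decide +kernel

theorem lb0 : ldB 1 Qs0 ls0 2 = true := by decide +kernel

theorem na0_0 : rng (fun i => ndA mul one T0 11 lc0 1 3 n0 1 (nthD ⟨nat_lit 0, nat_lit 0, [], [], []⟩ ds0 i)) (nat_lit 0) (nat_lit 4) = true := by decide +kernel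

theorem nb0_0 : rng (fun i => ndB mul one T0 11 lc0 ks0 Qs0 2 (nthD ⟨nat_lit 0, nat_lit 0, [], [], []⟩ ds0 i)) (nat_lit 0) (nat_lit 4) = true := by decide +kernel

theorem dn0 : Nat.beq ds0.length 4 = true := by decide +kernel

theorem hk0 : ks0 = ds0.map Nd.k := by decide +kernel

theorem hkc0 : kc0 = (0, 1) :: ds0.map fun d => (d.k, d.c) := by decide +kernel

theorem lo0 : linkOk mul one T0 11 ks0 lk0 2 = true := by decide +kernel

theorem do0 : domOk dom0 [1] nodes0 2 R1 sb0 0 = true := by decide +kernel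

theorem A0_l : ∀ i < 8, (actL 3 1 n0 dom0 (2 * 4) us0) i = true :=
  (rng_add rng_zero A0_l_0)

theorem A0_r : ∀ i < 0, (fun i => relN 3 1 n0 (2 * 4) (nthD ([], nat_lit 0) R0 i)) i = true :=
  rng_zero

theorem hc0 : ∀ i < 11, (chk mul one wf T0 lc0 (mapR (fun e => e.2.2) rs0) 2) i = true :=
  (rng_add rng_zero hc0_0)

theorem AQ0_1_l : ∀ i < 8, (actL 3 1 q0_1 dom0 (2 * 4) us0) i = true :=
  (rng_add rng_zero AQ0_1_l_0)

theorem AQ0_1_r : ∀ i < 0, (fun i => relN 3 1 q0_1 (2 * 4) (nthD ([], nat_lit 0) R0 i)) i = true :=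
  rng_zero

theorem na0 : ∀ i < 4, (fun i => ndA mul one T0 11 lc0 1 3 n0 1 (nthD ⟨nat_lit 0, nat_lit 0, [], [], []⟩ ds0 i)) i = true :=
  (rng_add rng_zero na0_0)

theorem nb0 : ∀ i < 4, (fun i => ndB mul one T0 11 lc0 ks0 Qs0 2 (nthD ⟨nat_lit 0, nat_lit 0, [], [], []⟩ ds0 i)) i = true :=
  (rng_add rng_zero nb0_0)

section
universe u v
variable {R : Type v} {ι : Type} [CommRing R] [Fintype ι] [DecidableEq ι] (V : VCod R ι 9 18 app wfT) (h2 : V.mat one = 1)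

theorem A0 : Act.{0} (((S V h2).sub (mdl (g V h2) dom0)).gen lc0) 1 3 n0 :=
  act_of_up (L0 V h2) (U0 V h2) A0_p A0_l (by decide) (allR Rn0 A0_r)

theorem AQ0_1 : Act.{0} (((S V h2).sub (mdl (g V h2) dom0)).gen lc0) 1 3 q0_1 :=
  act_of_up (L0 V h2) (U0 V h2) AQ0_1_p AQ0_1_l (by decide) (allR Rn0 AQ0_1_r)

theorem C0 : Cert.{u} ((S V h2).sub (mdl (g V h2) dom0)) T0 11 (mgen (g V h2) dom0) dom0 [1] nodes0 2 (R0 ++ N1) kc0 :=
  have := fin0 V h2
  cert_of (L0 V h2) (card0 V h2).le (A0 V h2) (Qs := Qs0) (List.forall_mem_cons.2 ⟨AQ0_1 V h2, List.forall_mem_cons.2 ⟨AQ0_1 V h2, List.forall_mem_nil _⟩⟩) hr0 hc0 la0 lb0 hk0 (allR dn0 na0) (allR dn0 nb0) lo0 do0 hkc0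

end

def dom1 : List ℕ := [1]

noncomputable def us1 : List (List ℕ) :=
  []

noncomputable def lc1 : List ℕ :=
  [one,
  one,
  nthD one bc (nat_lit 2),
  nthD one bc (nat_lit 3),
  one,
  one,
  one,
  one]

noncomputable def v1_0 : VL :=
  ⟨(nat_lit 0x1e9f1), [[nat_lit 2]], nat_lit 1, [(nat_lit 3844)], nat_lit 3, nat_lit 5⟩

noncomputable def vl1 : List VL :=
  [v1_0]

theorem lco1 : lcOk mul one bc lc1 dom1 (2 * 4) us1 8 = true := by decide +kernel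

theorem rc1_0 : rng (fun i => relC mul one bc (2 * 4) (nthD ([], nat_lit 0) N1 i)) (nat_lit 0) (nat_lit 2) = true := by decide +kernel

theorem sm0 : Nat.beq ((kc0.map Prod.snd).sum * 1) 5 = true := by decide +kernel

theorem vc1 : vchainOk (app 18 1) (wfT 18 1) mul one lc1 [] vl1 = true := by decide +kernel

theorem vf1 : band (allL (fun i => memL i dom1) dom0) (VCod.fixD (app 18 1) (wfT 18 1) one bc dom0 vl1) = true := by decide +kernel

theorem vp1 : (vl1.map VL.d).prod * 1 = 5 := by decide +kernel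

theorem rd1 : allL (fun r => allL (fun l => memL (Nat.shiftRight l (nat_lit 1)) dom1) r.1) (R0 ++ N1) = true := by decide +kernel

theorem rc1 : ∀ i < 2, (fun i => relC mul one bc (2 * 4) (nthD ([], nat_lit 0) N1 i)) i = true :=
  (rng_add rng_zero rc1_0)

section
universe u v
variable {R : Type v} {ι : Type} [CommRing R] [Fintype ι] [DecidableEq ι] (V : VCod R ι 9 18 app wfT) (h2 : V.mat one = 1)

theorem L1 : Lc ((S V h2).sub (mdl (g V h2) dom1)) (mgen (g V h2) dom1) lc1 dom1 (2 * 4) us1 8 :=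
  lc_of (S V h2) (h0 V h2) bco lco1

theorem rel1 : Rels R1 (g V h2) := (rel0 V h2).append ((S V h2).rels (h0 V h2) bco (allR Nn1 rc1))

theorem le1 : Finite (mdl (g V h2) dom1) ∧ Nat.card (mdl (g V h2) dom1) ≤ 5 :=
  have := fin0 V h2
  step_le (C0 V h2) (U0 V h2) (rel1 V h2) (card0 V h2) sm0

theorem fin1 : Finite (mdl (g V h2) dom1) := (le1 V h2).1

theorem card1 : Nat.card (mdl (g V h2) dom1) = 5 := by
  have : Finite (mdl ((V.sem h1 h2).bg bc) dom1) := fin1 V h2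
  have h := V.le_card_mdl h1 h2 (h0 V h2) (L1 V h2).ok vc1 vf1
  exact le_antisymm (le1 V h2).2 (le_trans (le_of_eq (by rw [← vp1, ← card0 V h2]; rfl)) h)

theorem U1 : UP.{0} (mgen (g V h2) dom1) dom1 R1 :=
  have := fin0 V h2
  step_up (C0 V h2) (U0 V h2) (rel1 V h2) (card0 V h2) sm0 (card1 V h2) rd1

end

noncomputable def N2 : List (List ℕ × ℕ) :=
  [([nat_lit 4], nat_lit 2),
  ([nat_lit 2, nat_lit 4], nat_lit 3)]

noncomputable def R2 : List (List ℕ × ℕ) :=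
  R1 ++ N2

noncomputable def n1_2 : Net :=
  mkNet (nat_lit 4) (nat_lit 5) (nat_lit 0x508400)

noncomputable def n1 : List Net :=
  [Net.nil, Net.nil, n1_2, rv n1_2, Net.nil, Net.nil, Net.nil, Net.nil]

def nodes1 : List ℕ := [4]

def sb1 : List (ℕ × ℕ × ℕ) := [(5, 2, 0)]

noncomputable def rs1 : List (ℕ × ℕ × List (ℕ × ℕ)) :=
  [(nat_lit 2, nat_lit 0, [(nat_lit 1, (nat_lit 0x100002000040000800010000200004000080001)), (nat_lit 1, (nat_lit 0x100002000040000800010000200004000080001))]),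
  (nat_lit 3, nat_lit 0, [(nat_lit 1, (nat_lit 0x29d069dd4289881cb0b1977aaf1daee2c113e4bec)), (nat_lit 1, (nat_lit 0x29d069dd4289881cb0b1977aaf1daee2c113e4bec)), (nat_lit 1, (nat_lit 0x29d069dd4289881cb0b1977aaf1daee2c113e4bec))])]

noncomputable def T1 : Tr :=
  (.nd (nat_lit 7) (.nd (nat_lit 3) (.nd (nat_lit 1) (.lf ⟨nat_lit 0, nat_lit 0, nat_lit 0, one, one, one, .triv⟩)
 (.nd (nat_lit 2) (.lf ⟨nat_lit 0, nat_lit 0, nat_lit 0, one, one, one, .triv⟩)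
 (.lf ⟨nat_lit 1, nat_lit 1, nat_lit 0, one, one, one, (.wt (nat_lit 0) (nat_lit 0) one (.sp .nil) [] [])⟩)))
 (.nd (nat_lit 5) (.nd (nat_lit 4) (.lf ⟨nat_lit 1, nat_lit 1, nat_lit 1, (nat_lit 0x29d069dd4289881cb0b1977aaf1daee2c113e4bec), (nat_lit 0x3b6020b1ee99f350ad1583cd87ceba46c32e15ab7), (nat_lit 0x3b6020b1ee99f350ad1583cd87ceba46c32e15ab7), (.wt (nat_lit 1) (nat_lit 0) one (.st (nat_lit 2) [] [] (.sp .nil)) [] [])⟩)
 (.lf ⟨nat_lit 1, nat_lit 1, nat_lit 1, (nat_lit 0x3b6020b1ee99f350ad1583cd87ceba46c32e15ab7), (nat_lit 0x29d069dd4289881cb0b1977aaf1daee2c113e4bec), (nat_lit 0x29d069dd4289881cb0b1977aaf1daee2c113e4bec), (.wt (nat_lit 0) (nat_lit 0) (nat_lit 0x29d069dd4289881cb0b1977aaf1daee2c113e4bec) (.st (nat_lit 3) [] [] .nil) [] [])⟩))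
 (.nd (nat_lit 6) (.lf ⟨nat_lit 1, nat_lit 1, nat_lit 5, (nat_lit 0x2f40eb7bc33377922bf81674b33647761d05aae4d), one, one, (.df [nat_lit 3, nat_lit 3])⟩)
 (.lf ⟨nat_lit 1, nat_lit 5, nat_lit 1, one, (nat_lit 0x2f40eb7bc33377922bf81674b33647761d05aae4d), one, (.wt (nat_lit 0) (nat_lit 0) (nat_lit 0x2f40eb7bc33377922bf81674b33647761d05aae4d) (.st (nat_lit 5) [] [] .nil) [] [])⟩))))
 (.nd (nat_lit 11) (.nd (nat_lit 9) (.nd (nat_lit 8) (.lf ⟨nat_lit 1, nat_lit 1, nat_lit 5, (nat_lit 0x3eba12c3c3234cd354a978de13ad53d6c7be58abc), (nat_lit 0x3b6020b1ee99f350ad1583cd87ceba46c32e15ab7), (nat_lit 0x3b6020b1ee99f350ad1583cd87ceba46c32e15ab7), (.wt (nat_lit 1) (nat_lit 0) one (.st (nat_lit 6) [] [] (.st (nat_lit 4) [] [] .nil)) [] [])⟩)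
 (.lf ⟨nat_lit 1, nat_lit 5, nat_lit 1, (nat_lit 0x3b6020b1ee99f350ad1583cd87ceba46c32e15ab7), (nat_lit 0x3eba12c3c3234cd354a978de13ad53d6c7be58abc), (nat_lit 0x29d069dd4289881cb0b1977aaf1daee2c113e4bec), (.wt (nat_lit 0) (nat_lit 0) (nat_lit 0x3eba12c3c3234cd354a978de13ad53d6c7be58abc) (.st (nat_lit 7) [] [] .nil) [] [])⟩))
 (.nd (nat_lit 10) (.lf ⟨nat_lit 1, nat_lit 5, nat_lit 5, (nat_lit 0x29d069dd4289881cb0b1977aaf1daee2c113e4bec), (nat_lit 0x2f40eb7bc33377922bf81674b33647761d05aae4d), (nat_lit 0x3b6020b1ee99f350ad1583cd87ceba46c32e15ab7), (.wt (nat_lit 1) (nat_lit 0) (nat_lit 0x3b6020b1ee99f350ad1583cd87ceba46c32e15ab7) (.st (nat_lit 8) [] [] (.st (nat_lit 5) [] [] .nil)) [] [])⟩)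
 (.lf ⟨nat_lit 1, nat_lit 5, nat_lit 5, (nat_lit 0x2f40eb7bc33377922bf81674b33647761d05aae4d), (nat_lit 0x29d069dd4289881cb0b1977aaf1daee2c113e4bec), (nat_lit 0x29d069dd4289881cb0b1977aaf1daee2c113e4bec), (.wt (nat_lit 0) (nat_lit 0) (nat_lit 0x29d069dd4289881cb0b1977aaf1daee2c113e4bec) (.st (nat_lit 9) [] [] .nil) [] [])⟩)))
 (.nd (nat_lit 13) (.nd (nat_lit 12) (.lf ⟨nat_lit 1, nat_lit 5, nat_lit 11, (nat_lit 0x3eba12c3c3234cd354a978de13ad53d6c7be58abc), one, one, (.df [nat_lit 2, nat_lit 2])⟩)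
 (.lf ⟨nat_lit 1, nat_lit 11, nat_lit 5, one, (nat_lit 0x3eba12c3c3234cd354a978de13ad53d6c7be58abc), one, (.wt (nat_lit 0) (nat_lit 0) (nat_lit 0x3eba12c3c3234cd354a978de13ad53d6c7be58abc) (.st (nat_lit 11) [] [] .nil) [] [])⟩))
 (.nd (nat_lit 14) (.lf ⟨nat_lit 1, nat_lit 11, nat_lit 5, (nat_lit 0x29d069dd4289881cb0b1977aaf1daee2c113e4bec), (nat_lit 0x3eba12c3c3234cd354a978de13ad53d6c7be58abc), (nat_lit 0x3b6020b1ee99f350ad1583cd87ceba46c32e15ab7), (.wt (nat_lit 1) (nat_lit 2) (nat_lit 0x2f40eb7bc33377922bf81674b33647761d05aae4d) (.st (nat_lit 10) [] [] (.st (nat_lit 11) [] [] .nil)) [] [])⟩)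
 (.lf ⟨nat_lit 0, nat_lit 11, nat_lit 11, (nat_lit 0x29d069dd4289881cb0b1977aaf1daee2c113e4bec), one, (nat_lit 0x3b6020b1ee99f350ad1583cd87ceba46c32e15ab7), (.we (nat_lit 0) (nat_lit 0) (nat_lit 0x29d069dd4289881cb0b1977aaf1daee2c113e4bec) (.st (nat_lit 13) [] [] (.st (nat_lit 11) [] [] .nil)))⟩)))))

noncomputable def q1_1_2 : Net :=
  mkNet (nat_lit 4) (nat_lit 5) (nat_lit 0x408461)

noncomputable def q1_1 : List Net :=
  [Net.nil, Net.nil, q1_1_2, rv q1_1_2, Net.nil, Net.nil, Net.nil, Net.nil]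

noncomputable def Qs1 : List (ℕ × ℕ × List Net) :=
  [(nat_lit 5, nat_lit 4, q1_1)]

noncomputable def ls1 : List Ld :=
  [⟨[], [], [[nat_lit 3]], (nat_lit 0x32410)⟩]

noncomputable def lk1 : List (List ℕ) :=
  [[]]

noncomputable def d1_0 : Nd :=
  ⟨nat_lit 1, nat_lit 5, [], [],
  [⟨[], (nat_lit 0), [(nat_lit 2, nat_lit 0, []), (nat_lit 3, nat_lit 2, [nat_lit 2]), (nat_lit 4, nat_lit 1, [nat_lit 3]), (nat_lit 5, nat_lit 3, [nat_lit 3, nat_lit 3]), (nat_lit 7, nat_lit 4, [nat_lit 2, nat_lit 2])]⟩]⟩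

noncomputable def d1_1 : Nd :=
  ⟨nat_lit 5, nat_lit 5, [], [],
  [⟨[], (nat_lit 0), [(nat_lit 6, nat_lit 0, []), (nat_lit 8, nat_lit 1, [nat_lit 3]), (nat_lit 9, nat_lit 2, [nat_lit 2]), (nat_lit 10, nat_lit 3, [nat_lit 3, nat_lit 3]), (nat_lit 11, nat_lit 4, [nat_lit 2, nat_lit 2])]⟩]⟩

noncomputable def d1_2 : Nd :=
  ⟨nat_lit 11, nat_lit 1, [(nat_lit 14, [nat_lit 2])], [⟨nat_lit 0, [nat_lit 0], (nat_lit 0x12340), nat_lit 5⟩],
  [⟨[nat_lit 0], (nat_lit 0x23140), [(nat_lit 12, nat_lit 0, [])]⟩]⟩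

noncomputable def ds1 : List Nd :=
  [d1_0, d1_1, d1_2]

noncomputable def ks1 : List ℕ :=
  (unp (nat_lit 4) (nat_lit 0xb5103))

def kc1 : List (ℕ × ℕ) := [(0, 1), (1, 5), (5, 5), (11, 1)]

theorem Rn2 : Nat.beq R2.length 4 = true := by decide +kernel

theorem Nn2 : Nat.beq N2.length 2 = true := by decide +kernel

theorem A1_p : actP 4 5 n1 8 = true := by decide +kernel

theorem A1_l_0 : rng (actL 4 5 n1 dom1 (2 * 4) us1) (nat_lit 0) (nat_lit 8) = true := by decide +kernel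

theorem A1_r_0 : rng (fun i => relN 4 5 n1 (2 * 4) (nthD ([], nat_lit 0) R1 i)) (nat_lit 0) (nat_lit 2) = true := by decide +kernel

theorem hr1 : relsOk mul one lc1 dom1 nodes1 1 (2 * 4) R2 sb1 1 rs1 = true := by decide +kernel

theorem hc1_0 : rng (chk mul one wf T1 lc1 (mapR (fun e => e.2.2) rs1) 1) (nat_lit 0) (nat_lit 15) = true := by decide +kernel

theorem AQ1_1_p : actP 4 5 q1_1 8 = true := by decide +kernel

theorem AQ1_1_l_0 : rng (actL 4 5 q1_1 dom1 (2 * 4) us1) (nat_lit 0) (nat_lit 8) = true := by decide +kernel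

theorem AQ1_1_r_0 : rng (fun i => relN 4 5 q1_1 (2 * 4) (nthD ([], nat_lit 0) R1 i)) (nat_lit 0) (nat_lit 2) = true := by decide +kernel

theorem la1 : ldA mul one T1 15 lc1 5 4 n1 ls1 1 = true := by decide +kernel

theorem lb1 : ldB 5 Qs1 ls1 1 = true := by decide +kernel

theorem na1_0 : rng (fun i => ndA mul one T1 15 lc1 5 4 n1 5 (nthD ⟨nat_lit 0, nat_lit 0, [], [], []⟩ ds1 i)) (nat_lit 0) (nat_lit 3) = true := by decide +kernel

theorem nb1_0 : rng (fun i => ndB mul one T1 15 lc1 ks1 Qs1 1 (nthD ⟨nat_lit 0, nat_lit 0, [], [], []⟩ ds1 i)) (nat_lit 0) (nat_lit 3) = true := by decide +kernel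

theorem dn1 : Nat.beq ds1.length 3 = true := by decide +kernel

theorem hk1 : ks1 = ds1.map Nd.k := by decide +kernel

theorem hkc1 : kc1 = (0, 1) :: ds1.map fun d => (d.k, d.c) := by decide +kernel

theorem lo1 : linkOk mul one T1 15 ks1 lk1 1 = true := by decide +kernel

theorem do1 : domOk dom1 [1, 2] nodes1 1 R2 sb1 1 = true := by decide +kernel

theorem A1_l : ∀ i < 8, (actL 4 5 n1 dom1 (2 * 4) us1) i = true :=
  (rng_add rng_zero A1_l_0)

theorem A1_r : ∀ i < 2, (fun i => relN 4 5 n1 (2 * 4) (nthD ([], nat_lit 0) R1 i)) i = true :=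
  (rng_add rng_zero A1_r_0)

theorem hc1 : ∀ i < 15, (chk mul one wf T1 lc1 (mapR (fun e => e.2.2) rs1) 1) i = true :=
  (rng_add rng_zero hc1_0)

theorem AQ1_1_l : ∀ i < 8, (actL 4 5 q1_1 dom1 (2 * 4) us1) i = true :=
  (rng_add rng_zero AQ1_1_l_0)

theorem AQ1_1_r : ∀ i < 2, (fun i => relN 4 5 q1_1 (2 * 4) (nthD ([], nat_lit 0) R1 i)) i = true :=
  (rng_add rng_zero AQ1_1_r_0)

theorem na1 : ∀ i < 3, (fun i => ndA mul one T1 15 lc1 5 4 n1 5 (nthD ⟨nat_lit 0, nat_lit 0, [], [], []⟩ ds1 i)) i = true :=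
  (rng_add rng_zero na1_0)

theorem nb1 : ∀ i < 3, (fun i => ndB mul one T1 15 lc1 ks1 Qs1 1 (nthD ⟨nat_lit 0, nat_lit 0, [], [], []⟩ ds1 i)) i = true :=
  (rng_add rng_zero nb1_0)

section
universe u v
variable {R : Type v} {ι : Type} [CommRing R] [Fintype ι] [DecidableEq ι] (V : VCod R ι 9 18 app wfT) (h2 : V.mat one = 1)

theorem A1 : Act.{0} (((S V h2).sub (mdl (g V h2) dom1)).gen lc1) 5 4 n1 :=
  act_of_up (L1 V h2) (U1 V h2) A1_p A1_l (by decide) (allR Rn1 A1_r)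

theorem AQ1_1 : Act.{0} (((S V h2).sub (mdl (g V h2) dom1)).gen lc1) 5 4 q1_1 :=
  act_of_up (L1 V h2) (U1 V h2) AQ1_1_p AQ1_1_l (by decide) (allR Rn1 AQ1_1_r)

theorem C1 : Cert.{u} ((S V h2).sub (mdl (g V h2) dom1)) T1 15 (mgen (g V h2) dom1) dom1 [1, 2] nodes1 1 (R1 ++ N2) kc1 :=
  have := fin1 V h2
  cert_of (L1 V h2) (card1 V h2).le (A1 V h2) (Qs := Qs1) (List.forall_mem_cons.2 ⟨AQ1_1 V h2, List.forall_mem_nil _⟩) hr1 hc1 la1 lb1 hk1 (allR dn1 na1) (allR dn1 nb1) lo1 do1 hkc1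

end

def dom2 : List ℕ := [1, 2]

noncomputable def us2 : List (List ℕ) :=
  [(unp (nat_lit 3) (nat_lit 0x71204)), [nat_lit 4, nat_lit 8]]

noncomputable def lc2 : List ℕ :=
  [one,
  one,
  nthD one bc (nat_lit 2),
  nthD one bc (nat_lit 3),
  nthD one bc (nat_lit 4),
  nthD one bc (nat_lit 5),
  one,
  one,
  (nat_lit 0x1de8be73b1042ea23c49f17504bff259e9a244555),
  (nat_lit 0x1ee35ee62970ce0500d08bb760d5b6a032680657c)]

noncomputable def v2_0 : VL :=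
  ⟨(nat_lit 0x4f42), [[nat_lit 2], [nat_lit 4]], nat_lit 2, [(nat_lit 0x8256008201958020965600820082595802080209656008200859585570)], nat_lit 6, nat_lit 60⟩

noncomputable def vl2 : List VL :=
  [v2_0]

theorem lco2 : lcOk mul one bc lc2 dom2 (2 * 4) us2 10 = true := by decide +kernel

theorem rc2_0 : rng (fun i => relC mul one bc (2 * 4) (nthD ([], nat_lit 0) N2 i)) (nat_lit 0) (nat_lit 2) = true := by decide +kernel

theorem sm1 : Nat.beq ((kc1.map Prod.snd).sum * 5) 60 = true := by decide +kernel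

theorem vc2 : vchainOk (app 18 1) (wfT 18 1) mul one lc2 [] vl2 = true := by decide +kernel

theorem vf2 : band (allL (fun i => memL i dom2) dom0) (VCod.fixD (app 18 1) (wfT 18 1) one bc dom0 vl2) = true := by decide +kernel

theorem vp2 : (vl2.map VL.d).prod * 1 = 60 := by decide +kernel

theorem rd2 : allL (fun r => allL (fun l => memL (Nat.shiftRight l (nat_lit 1)) dom2) r.1) (R1 ++ N2) = true := by decide +kernel

theorem rc2 : ∀ i < 2, (fun i => relC mul one bc (2 * 4) (nthD ([], nat_lit 0) N2 i)) i = true :=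
  (rng_add rng_zero rc2_0)

section
universe u v
variable {R : Type v} {ι : Type} [CommRing R] [Fintype ι] [DecidableEq ι] (V : VCod R ι 9 18 app wfT) (h2 : V.mat one = 1)

theorem L2 : Lc ((S V h2).sub (mdl (g V h2) dom2)) (mgen (g V h2) dom2) lc2 dom2 (2 * 4) us2 10 :=
  lc_of (S V h2) (h0 V h2) bco lco2

theorem rel2 : Rels R2 (g V h2) := (rel1 V h2).append ((S V h2).rels (h0 V h2) bco (allR Nn2 rc2))

theorem le2 : Finite (mdl (g V h2) dom2) ∧ Nat.card (mdl (g V h2) dom2) ≤ 60 :=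
  have := fin1 V h2
  step_le (C1 V h2) (U1 V h2) (rel2 V h2) (card1 V h2) sm1

theorem fin2 : Finite (mdl (g V h2) dom2) := (le2 V h2).1

theorem card2 : Nat.card (mdl (g V h2) dom2) = 60 := by
  have : Finite (mdl ((V.sem h1 h2).bg bc) dom2) := fin2 V h2
  have h := V.le_card_mdl h1 h2 (h0 V h2) (L2 V h2).ok vc2 vf2
  exact le_antisymm (le2 V h2).2 (le_trans (le_of_eq (by rw [← vp2, ← card0 V h2]; rfl)) h)

theorem U2 : UP.{0} (mgen (g V h2) dom2) dom2 R2 :=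
  have := fin1 V h2
  step_up (C1 V h2) (U1 V h2) (rel2 V h2) (card1 V h2) sm1 (card2 V h2) rd2

end

noncomputable def N3 : List (List ℕ × ℕ) :=
  [([nat_lit 0], nat_lit 2),
  ([nat_lit 0, nat_lit 4], nat_lit 2),
  ((unp (nat_lit 2) (nat_lit 0xc8c808)), nat_lit 2),
  ((unp (nat_lit 2) (nat_lit 0xdd9dac8c812)), nat_lit 1),
  ((unp (nat_lit 3) (nat_lit 0x2965165461061012)), nat_lit 1),
  ((unp (nat_lit 2) (nat_lit 0x5d9d8c8c812)), nat_lit 1),
  ((unp (nat_lit 3) (nat_lit 0x1b0946140a)), nat_lit 1),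
  ((unp (nat_lit 3) (nat_lit 0x1b6c24946d849412)), nat_lit 1),
  ((unp (nat_lit 2) (nat_lit 0x3fcaafcabcac819)), nat_lit 1),
  ((unp (nat_lit 2) (nat_lit 0xc8c8f28f2814)), nat_lit 1)]

noncomputable def R3 : List (List ℕ × ℕ) :=
  R2 ++ N3

noncomputable def n2_2 : Net :=
  mkNet (nat_lit 4) (nat_lit 5) (nat_lit 0x508400)

noncomputable def n2_4 : Net :=
  mkNet (nat_lit 4) (nat_lit 5) (nat_lit 0x408464)

noncomputable def n2_8 : Net :=
  mkNet (nat_lit 4) (nat_lit 5) (nat_lit 0x108401)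

noncomputable def n2_9 : Net :=
  mkNet (nat_lit 4) (nat_lit 5) (nat_lit 0x408420)

noncomputable def n2 : List Net :=
  [Net.nil, Net.nil, n2_2, rv n2_2, n2_4, n2_4, Net.nil, Net.nil, n2_8, n2_9]

def nodes2 : List ℕ := [0]

def sb2 : List (ℕ × ℕ × ℕ) := [(1, 4, 0)]

noncomputable def rs2 : List (ℕ × ℕ × List (ℕ × ℕ)) :=
  [(nat_lit 4, nat_lit 0, [(nat_lit 1, (nat_lit 0x100002000040000800010000200004000080001)), (nat_lit 1, (nat_lit 0x100002000040000800010000200004000080001))]),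
  (nat_lit 5, nat_lit 3, [(nat_lit 1, (nat_lit 0x1a61280e6271482f172cedb3225072149888b2d86)), (nat_lit 1, (nat_lit 0x1a61280e6271482f172cedb3225072149888b2d86))]),
  (nat_lit 6, nat_lit 15, [(nat_lit 1, (nat_lit 0x29d069dd4289881cb0b1977aaf1daee2c113e4bec)), (nat_lit 1, (nat_lit 0x3b6020b1ee99f350ad1583cd87ceba46c32e15ab7)), (nat_lit 1, (nat_lit 0x29d069dd4289881cb0b1977aaf1daee2c113e4bec)), (nat_lit 1, (nat_lit 0x3b6020b1ee99f350ad1583cd87ceba46c32e15ab7)), (nat_lit 1, (nat_lit 0x29d069dd4289881cb0b1977aaf1daee2c113e4bec)), (nat_lit 1, (nat_lit 0x3b6020b1ee99f350ad1583cd87ceba46c32e15ab7)), (nat_lit 1, (nat_lit 0x29d069dd4289881cb0b1977aaf1daee2c113e4bec)), (nat_lit 1, (nat_lit 0x3b6020b1ee99f350ad1583cd87ceba46c32e15ab7))]),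
  (nat_lit 7, nat_lit 17, [(nat_lit 1, (nat_lit 0x3b6020b1ee99f350ad1583cd87ceba46c32e15ab7)), (nat_lit 1, (nat_lit 0x29d069dd4289881cb0b1977aaf1daee2c113e4bec)), (nat_lit 1, (nat_lit 0x3b6020b1ee99f350ad1583cd87ceba46c32e15ab7)), (nat_lit 1, (nat_lit 0x29d069dd4289881cb0b1977aaf1daee2c113e4bec)), (nat_lit 1, (nat_lit 0x29d069dd4289881cb0b1977aaf1daee2c113e4bec)), (nat_lit 1, (nat_lit 0x3b6020b1ee99f350ad1583cd87ceba46c32e15ab7)), (nat_lit 1, (nat_lit 0x29d069dd4289881cb0b1977aaf1daee2c113e4bec)), (nat_lit 1, (nat_lit 0x3b6020b1ee99f350ad1583cd87ceba46c32e15ab7))]),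
  (nat_lit 8, nat_lit 17, [(nat_lit 1, (nat_lit 0x3b6020b1ee99f350ad1583cd87ceba46c32e15ab7)), (nat_lit 1, (nat_lit 0x29d069dd4289881cb0b1977aaf1daee2c113e4bec)), (nat_lit 1, (nat_lit 0x3b6020b1ee99f350ad1583cd87ceba46c32e15ab7)), (nat_lit 1, (nat_lit 0x1ff2a83cf20d718d3de5bc1982cba772f232b29e5)), (nat_lit 1, (nat_lit 0x29d069dd4289881cb0b1977aaf1daee2c113e4bec)), (nat_lit 1, (nat_lit 0x3b6020b1ee99f350ad1583cd87ceba46c32e15ab7)), (nat_lit 1, (nat_lit 0x29d069dd4289881cb0b1977aaf1daee2c113e4bec)), (nat_lit 1, (nat_lit 0x1a61280e6271482f172cedb3225072149888b2d86))]),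
  (nat_lit 9, nat_lit 0, [(nat_lit 1, (nat_lit 0x100002000040000800010000200004000080001)), (nat_lit 1, (nat_lit 0x3b6020b1ee99f350ad1583cd87ceba46c32e15ab7)), (nat_lit 1, (nat_lit 0x29d069dd4289881cb0b1977aaf1daee2c113e4bec)), (nat_lit 1, (nat_lit 0x3b6020b1ee99f350ad1583cd87ceba46c32e15ab7)), (nat_lit 1, (nat_lit 0x29d069dd4289881cb0b1977aaf1daee2c113e4bec)), (nat_lit 1, (nat_lit 0x3b6020b1ee99f350ad1583cd87ceba46c32e15ab7)), (nat_lit 1, (nat_lit 0x29d069dd4289881cb0b1977aaf1daee2c113e4bec)), (nat_lit 1, (nat_lit 0x3b6020b1ee99f350ad1583cd87ceba46c32e15ab7)), (nat_lit 1, (nat_lit 0x29d069dd4289881cb0b1977aaf1daee2c113e4bec)), (nat_lit 1, (nat_lit 0x100002000040000800010000200004000080001))]),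
  (nat_lit 10, nat_lit 8, [(nat_lit 1, (nat_lit 0x2ce6c6e84b968e8b851402b61ea742ffaae0bdff2)), (nat_lit 1, (nat_lit 0x2cf6c6ea4b96ce8a821440760e7746c7b4efbdff3))]),
  (nat_lit 11, nat_lit 14, [(nat_lit 1, (nat_lit 0x1de8be73b1042ea23c49f17504bff259e9a244555)), (nat_lit 1, (nat_lit 0x14cbfe71b36d1386f940c33ca16b6169e9a2e2c29))]),
  (nat_lit 12, nat_lit 21, [(nat_lit 1, (nat_lit 0x29d069dd4289881cb0b1977aaf1daee2c113e4bec)), (nat_lit 1, (nat_lit 0x29d069dd4289881cb0b1977aaf1daee2c113e4bec)), (nat_lit 1, (nat_lit 0x29d069dd4289881cb0b1977aaf1daee2c113e4bec)), (nat_lit 1, (nat_lit 0x29d069dd4289881cb0b1977aaf1daee2c113e4bec)), (nat_lit 1, (nat_lit 0x29d069dd4289881cb0b1977aaf1daee2c113e4bec))]),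
  (nat_lit 13, nat_lit 19, [(nat_lit 1, (nat_lit 0x29d069dd4289881cb0b1977aaf1daee2c113e4bec)), (nat_lit 1, (nat_lit 0x3b6020b1ee99f350ad1583cd87ceba46c32e15ab7)), (nat_lit 1, (nat_lit 0x29d069dd4289881cb0b1977aaf1daee2c113e4bec)), (nat_lit 1, (nat_lit 0x2f40eb7bc33377922bf81674b33647761d05aae4d)), (nat_lit 1, (nat_lit 0x3eba12c3c3234cd354a978de13ad53d6c7be58abc)), (nat_lit 1, (nat_lit 0x2f40eb7bc33377922bf81674b33647761d05aae4d)), (nat_lit 1, (nat_lit 0x3eba12c3c3234cd354a978de13ad53d6c7be58abc)), (nat_lit 1, (nat_lit 0x3b6020b1ee99f350ad1583cd87ceba46c32e15ab7))])]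

noncomputable def T2 : Tr :=
  (.nd (nat_lit 16) (.nd (nat_lit 8) (.nd (nat_lit 4) (.nd (nat_lit 2) (.nd (nat_lit 1) (.lf ⟨nat_lit 0, nat_lit 0, nat_lit 0, one, one, one, .triv⟩)
 (.lf ⟨nat_lit 0, nat_lit 0, nat_lit 0, one, one, one, .triv⟩))
 (.nd (nat_lit 3) (.lf ⟨nat_lit 1, nat_lit 1, nat_lit 0, (nat_lit 0x1a61280e6271482f172cedb3225072149888b2d86), (nat_lit 0x1a61280e6271482f172cedb3225072149888b2d86), one, (.wt (nat_lit 1) (nat_lit 0) one (.sp .nil) [] [])⟩)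
 (.lf ⟨nat_lit 0, nat_lit 1, nat_lit 1, (nat_lit 0x1a61280e6271482f172cedb3225072149888b2d86), one, (nat_lit 0x1a61280e6271482f172cedb3225072149888b2d86), (.we (nat_lit 0) (nat_lit 1) (nat_lit 0x1a61280e6271482f172cedb3225072149888b2d86) (.st (nat_lit 2) [] [] (.sp .nil)))⟩)))
 (.nd (nat_lit 6) (.nd (nat_lit 5) (.lf ⟨nat_lit 1, nat_lit 1, nat_lit 0, (nat_lit 0x2ce6c6e84b968e8b851402b61ea742ffaae0bdff2), (nat_lit 0x2ce6c6e84b968e8b851402b61ea742ffaae0bdff2), one, (.wt (nat_lit 6) (nat_lit 0) one (.sp .nil) [] [])⟩)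
 (.lf ⟨nat_lit 0, nat_lit 1, nat_lit 1, (nat_lit 0x2ce6c6e84b968e8b851402b61ea742ffaae0bdff2), one, (nat_lit 0x2ce6c6e84b968e8b851402b61ea742ffaae0bdff2), (.we (nat_lit 0) (nat_lit 1) (nat_lit 0x2ce6c6e84b968e8b851402b61ea742ffaae0bdff2) (.st (nat_lit 4) [] [] (.sp .nil)))⟩))
 (.nd (nat_lit 7) (.lf ⟨nat_lit 0, nat_lit 1, nat_lit 1, (nat_lit 0x14cbfe71b36d1386f940c33ca16b6169e9a2e2c29), one, (nat_lit 0x14cbfe71b36d1386f940c33ca16b6169e9a2e2c29), (.prod [nat_lit 5, nat_lit 3])⟩)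
 (.lf ⟨nat_lit 0, nat_lit 1, nat_lit 1, (nat_lit 0x1a61280e6271482f172cedb3225072149888b2d86), one, (nat_lit 0x1a61280e6271482f172cedb3225072149888b2d86), (.inv (nat_lit 3))⟩))))
 (.nd (nat_lit 12) (.nd (nat_lit 10) (.nd (nat_lit 9) (.lf ⟨nat_lit 0, nat_lit 1, nat_lit 1, (nat_lit 0x10003ee42b1dcfa59538adc760f734d392f56083c), one, (nat_lit 0x10003ee42b1dcfa59538adc760f734d392f56083c), (.prod (unp (nat_lit 3) (nat_lit 0x1eb03)))⟩)
 (.lf ⟨nat_lit 0, nat_lit 1, nat_lit 1, (nat_lit 0x1ee35ee62970ce0500d08bb760d5b6a032680657c), one, (nat_lit 0x1ee35ee62970ce0500d08bb760d5b6a032680657c), (.prod [nat_lit 8, nat_lit 8])⟩))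
 (.nd (nat_lit 11) (.lf ⟨nat_lit 0, nat_lit 1, nat_lit 1, (nat_lit 0x10003ee42b1dcfa59538adc760f734d392f56083c), one, (nat_lit 0x10003ee42b1dcfa59538adc760f734d392f56083c), (.prod (unp (nat_lit 3) (nat_lit 0x1eb03)))⟩)
 (.lf ⟨nat_lit 0, nat_lit 1, nat_lit 1, (nat_lit 0x1ee35ee62970ce0500d08bb760d5b6a032680657c), one, (nat_lit 0x1ee35ee62970ce0500d08bb760d5b6a032680657c), (.prod [nat_lit 10, nat_lit 10])⟩)))
 (.nd (nat_lit 14) (.nd (nat_lit 13) (.lf ⟨nat_lit 1, nat_lit 1, nat_lit 0, one, one, one, (.wt (nat_lit 0) (nat_lit 0) one (.sp .nil) [] [])⟩)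
 (.lf ⟨nat_lit 1, nat_lit 1, nat_lit 13, (nat_lit 0x3b6020b1ee99f350ad1583cd87ceba46c32e15ab7), one, one, (.df [nat_lit 3])⟩))
 (.nd (nat_lit 15) (.lf ⟨nat_lit 0, nat_lit 13, nat_lit 13, (nat_lit 0xeaad67fd11c5b9223e2ddec3fe3fc4bea7a101af), one, (nat_lit 0x10003ee42b1dcfa59538adc760f734d392f56083c), (.cmp (nat_lit 13) (nat_lit 13) [nat_lit 8, nat_lit 3] [nat_lit 10])⟩)
 (.lf ⟨nat_lit 0, nat_lit 13, nat_lit 13, (nat_lit 0x7ca567dd30d58922be2dce626effc4f6e2a710ed), one, (nat_lit 0x1ee35ee62970ce0500d08bb760d5b6a032680657c), (.prod [nat_lit 14, nat_lit 14])⟩)))))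
 (.nd (nat_lit 24) (.nd (nat_lit 20) (.nd (nat_lit 18) (.nd (nat_lit 17) (.lf ⟨nat_lit 1, nat_lit 13, nat_lit 1, one, (nat_lit 0x3b6020b1ee99f350ad1583cd87ceba46c32e15ab7), one, (.wt (nat_lit 0) (nat_lit 0) (nat_lit 0x3b6020b1ee99f350ad1583cd87ceba46c32e15ab7) (.st (nat_lit 13) [] [] .nil) [] [])⟩)
 (.lf ⟨nat_lit 1, nat_lit 13, nat_lit 13, (nat_lit 0x26c572083b3f112f173bb516110018202dd86854c), (nat_lit 0x3b6020b1ee99f350ad1583cd87ceba46c32e15ab7), (nat_lit 0x3012536c62912aa5952065cf4ae035c119205a05c), (.wt (nat_lit 8) (nat_lit 2) one (.st (nat_lit 16) [] [] (.st (nat_lit 12) [] [] (.sp (.st (nat_lit 13) [nat_lit 9, nat_lit 3] [nat_lit 11, nat_lit 3] .nil)))) [] [])⟩))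
 (.nd (nat_lit 19) (.lf ⟨nat_lit 1, nat_lit 13, nat_lit 18, (nat_lit 0x29d069dd4289881cb0b1977aaf1daee2c113e4bec), one, one, (.df [nat_lit 2])⟩)
 (.lf ⟨nat_lit 0, nat_lit 18, nat_lit 18, (nat_lit 0x10003ee42b1dcfa59538adc760f734d392f56083c), one, (nat_lit 0x10003ee42b1dcfa59538adc760f734d392f56083c), (.cmp (nat_lit 18) (nat_lit 18) [nat_lit 9] [nat_lit 14])⟩)))
 (.nd (nat_lit 22) (.nd (nat_lit 21) (.lf ⟨nat_lit 1, nat_lit 18, nat_lit 13, one, (nat_lit 0x29d069dd4289881cb0b1977aaf1daee2c113e4bec), one, (.wt (nat_lit 0) (nat_lit 0) (nat_lit 0x29d069dd4289881cb0b1977aaf1daee2c113e4bec) (.st (nat_lit 18) [] [] .nil) [] [])⟩)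
 (.lf ⟨nat_lit 1, nat_lit 18, nat_lit 13, (nat_lit 0x26c572083b3f112f173bb516110018202dd86854c), (nat_lit 0x348589d6f10ba4d35c8956860e7663353e3050011), (nat_lit 0x6db32ed4d0c0f8b853560d4b337d595beafd656d), (.wt (nat_lit 2) (nat_lit 2) (nat_lit 0x1ff2a83cf20d718d3de5bc1982cba772f232b29e5) (.st (nat_lit 17) [nat_lit 8] [nat_lit 15] (.st (nat_lit 17) [nat_lit 9, nat_lit 6] [nat_lit 14] (.st (nat_lit 16) [nat_lit 9, nat_lit 6] [] (.st (nat_lit 13) [nat_lit 9] [nat_lit 3] (.st (nat_lit 17) [nat_lit 6] [nat_lit 15] (.st (nat_lit 17) [nat_lit 9, nat_lit 5] [] (.st (nat_lit 18) [nat_lit 8] [] .nil))))))) [nat_lit 8] [])⟩))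
 (.nd (nat_lit 23) (.lf ⟨nat_lit 0, nat_lit 18, nat_lit 18, (nat_lit 0x6db32ed4d0c0f8b853560d4b337d595beafd656d), one, (nat_lit 0x6db32ed4d0c0f8b853560d4b337d595beafd656d), (.we (nat_lit 0) (nat_lit 0) (nat_lit 0x26c572083b3f112f173bb516110018202dd86854c) (.st (nat_lit 21) [] [] (.st (nat_lit 18) [nat_lit 8, nat_lit 5] [] .nil)))⟩)
 (.lf ⟨nat_lit 1, nat_lit 18, nat_lit 23, (nat_lit 0x3b6020b1ee99f350ad1583cd87ceba46c32e15ab7), one, one, (.df [nat_lit 3])⟩))))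
 (.nd (nat_lit 28) (.nd (nat_lit 26) (.nd (nat_lit 25) (.lf ⟨nat_lit 0, nat_lit 23, nat_lit 23, (nat_lit 0xeaad67fd11c5b9223e2ddec3fe3fc4bea7a101af), one, (nat_lit 0x10003ee42b1dcfa59538adc760f734d392f56083c), (.cmp (nat_lit 23) (nat_lit 23) [nat_lit 8, nat_lit 3] [nat_lit 19])⟩)
 (.lf ⟨nat_lit 0, nat_lit 23, nat_lit 23, (nat_lit 0x7ca567dd30d58922be2dce626effc4f6e2a710ed), one, (nat_lit 0x1ee35ee62970ce0500d08bb760d5b6a032680657c), (.prod [nat_lit 24, nat_lit 24])⟩))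
 (.nd (nat_lit 27) (.lf ⟨nat_lit 0, nat_lit 23, nat_lit 23, (nat_lit 0x1929089bfa7d9629b95df3caaf1cb0a6788f77591), one, (nat_lit 0x6db32ed4d0c0f8b853560d4b337d595beafd656d), (.cmp (nat_lit 23) (nat_lit 23) [nat_lit 9, nat_lit 6] [nat_lit 22])⟩)
 (.lf ⟨nat_lit 0, nat_lit 23, nat_lit 23, (nat_lit 0xeaad67fd11c5b9223e2ddec3fe3fc4bea7a101af), one, (nat_lit 0x10003ee42b1dcfa59538adc760f734d392f56083c), (.inv (nat_lit 25))⟩)))
 (.nd (nat_lit 30) (.nd (nat_lit 29) (.lf ⟨nat_lit 0, nat_lit 23, nat_lit 23, (nat_lit 0x10003ee42b1dcfa59538adc760f734d392f56083c), one, (nat_lit 0x34958b4e8c3528d35490d2b4942ac5ae582409843), (.prod (unp (nat_lit 5) (nat_lit 0x6f5803)))⟩)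
 (.lf ⟨nat_lit 1, nat_lit 23, nat_lit 18, one, (nat_lit 0x3b6020b1ee99f350ad1583cd87ceba46c32e15ab7), one, (.wt (nat_lit 0) (nat_lit 0) (nat_lit 0x3b6020b1ee99f350ad1583cd87ceba46c32e15ab7) (.st (nat_lit 23) [] [] .nil) [] [])⟩))
 (.nd (nat_lit 31) (.lf ⟨nat_lit 1, nat_lit 23, nat_lit 18, (nat_lit 0x29d069dd4289881cb0b1977aaf1daee2c113e4bec), (nat_lit 0x18634bd57b7d476e7edd54379164c1a7eccba057e), (nat_lit 0x18634bd57b7d476e7edd54379164c1a7eccba057e), (.wt (nat_lit 2) (nat_lit 2) (nat_lit 0x14cbfe71b36d1386f940c33ca16b6169e9a2e2c29) (.st (nat_lit 20) [nat_lit 6] [] (.st (nat_lit 16) [nat_lit 9, nat_lit 3] [] (.st (nat_lit 12) [nat_lit 6] [] (.sp (.st (nat_lit 13) [] [] (.st (nat_lit 18) [] [] (.st (nat_lit 23) [] [] .nil))))))) [] [])⟩)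
 (.lf ⟨nat_lit 0, nat_lit 23, nat_lit 23, (nat_lit 0x62002894500068041b0102000200061001c30104), one, (nat_lit 0x96283e98b1d7743ded0cf5e13ade4a2be64f41da), (.we (nat_lit 0) (nat_lit 0) (nat_lit 0x29d069dd4289881cb0b1977aaf1daee2c113e4bec) (.st (nat_lit 30) [nat_lit 8] [nat_lit 25] (.st (nat_lit 23) [nat_lit 9, nat_lit 6] [] .nil)))⟩))))))

noncomputable def q2_1_2 : Net :=
  mkNet (nat_lit 4) (nat_lit 5) (nat_lit 0x408461)

noncomputable def q2_1_4 : Net :=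
  mkNet (nat_lit 4) (nat_lit 5) (nat_lit 0x8460)

noncomputable def q2_1_8 : Net :=
  mkNet (nat_lit 4) (nat_lit 5) (nat_lit 0x400040)

noncomputable def q2_1_9 : Net :=
  mkNet (nat_lit 4) (nat_lit 5) (nat_lit 0x408420)

noncomputable def q2_1 : List Net :=
  [Net.nil, Net.nil, q2_1_2, rv q2_1_2, q2_1_4, q2_1_4, Net.nil, Net.nil, q2_1_8, q2_1_9]

noncomputable def Qs2 : List (ℕ × ℕ × List Net) :=
  [(nat_lit 5, nat_lit 4, q2_1)]

noncomputable def ls2 : List Ld :=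
  [⟨[(nat_lit 8, [nat_lit 9, nat_lit 9]), (nat_lit 3, (unp (nat_lit 4) (nat_lit 0x99803)))], [⟨nat_lit 1, [nat_lit 0, nat_lit 1], (nat_lit 0x32107), nat_lit 4⟩, ⟨nat_lit 2, [nat_lit 0], (nat_lit 0x21077), nat_lit 3⟩], [[nat_lit 3]], (nat_lit 0x32410)⟩]

noncomputable def lk2 : List (List ℕ) :=
  [[]]

noncomputable def d2_0 : Nd :=
  ⟨nat_lit 1, nat_lit 5, [(nat_lit 10, [nat_lit 9, nat_lit 9]), (nat_lit 3, (unp (nat_lit 4) (nat_lit 0x99803)))], [⟨nat_lit 1, [nat_lit 0, nat_lit 1], (nat_lit 0x32107), nat_lit 4⟩, ⟨nat_lit 2, [nat_lit 0], (nat_lit 0x21077), nat_lit 3⟩],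
  [⟨[nat_lit 0, nat_lit 1], (nat_lit 0x21300), [(nat_lit 12, nat_lit 0, []), (nat_lit 13, nat_lit 1, [nat_lit 3])]⟩]⟩

noncomputable def d2_1 : Nd :=
  ⟨nat_lit 13, nat_lit 20, [(nat_lit 14, (unp (nat_lit 4) (nat_lit 0x9988405)))], [⟨nat_lit 1, [nat_lit 0], (nat_lit 0x72107), nat_lit 3⟩],
  [⟨[nat_lit 0], (nat_lit 0x10020), [(nat_lit 16, nat_lit 0, []), (nat_lit 17, nat_lit 3, [nat_lit 2, nat_lit 8]), (nat_lit 18, nat_lit 2, [nat_lit 2])]⟩]⟩

noncomputable def d2_2 : Nd :=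
  ⟨nat_lit 18, nat_lit 5, [(nat_lit 19, [nat_lit 9, nat_lit 9]), (nat_lit 22, (unp (nat_lit 4) (nat_lit 0x9882205)))], [⟨nat_lit 0, [nat_lit 0, nat_lit 1], (nat_lit 0x32170), nat_lit 4⟩, ⟨nat_lit 2, [nat_lit 0], (nat_lit 0x21077), nat_lit 3⟩],
  [⟨[nat_lit 0, nat_lit 1], (nat_lit 0x21300), [(nat_lit 20, nat_lit 0, []), (nat_lit 23, nat_lit 1, [nat_lit 3])]⟩]⟩

noncomputable def d2_3 : Nd :=
  ⟨nat_lit 23, nat_lit 1, [(nat_lit 28, [nat_lit 9, nat_lit 9]), (nat_lit 26, (unp (nat_lit 4) (nat_lit 0x98803))), (nat_lit 31, (unp (nat_lit 4) (nat_lit 0x988304)))], [⟨nat_lit 0, [nat_lit 0, nat_lit 2], (nat_lit 0x13240), nat_lit 5⟩, ⟨nat_lit 1, [nat_lit 0, nat_lit 1], (nat_lit 0x13207), nat_lit 4⟩, ⟨nat_lit 2, [nat_lit 0], (nat_lit 0x21077), nat_lit 3⟩],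
  [⟨[nat_lit 0, nat_lit 2], (nat_lit 0x32140), [(nat_lit 29, nat_lit 0, [])]⟩]⟩

noncomputable def ds2 : List Nd :=
  [d2_0, d2_1, d2_2, d2_3]

noncomputable def ks2 : List ℕ :=
  (unp (nat_lit 5) (nat_lit 0xbc9a104))

def kc2 : List (ℕ × ℕ) := [(0, 1), (1, 5), (13, 20), (18, 5), (23, 1)]

theorem Rn3 : Nat.beq R3.length 14 = true := by decide +kernel

theorem Nn3 : Nat.beq N3.length 10 = true := by decide +kernel

theorem A2_p : actP 4 5 n2 10 = true := by decide +kernel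

theorem A2_l_0 : rng (actL 4 5 n2 dom2 (2 * 4) us2) (nat_lit 0) (nat_lit 10) = true := by decide +kernel

theorem A2_r_0 : rng (fun i => relN 4 5 n2 (2 * 4) (nthD ([], nat_lit 0) R2 i)) (nat_lit 0) (nat_lit 4) = true := by decide +kernel

theorem hr2 : relsOk mul one lc2 dom2 nodes2 1 (2 * 4) R3 sb2 1 rs2 = true := by decide +kernel

theorem hc2_0 : rng (chk mul one wf T2 lc2 (mapR (fun e => e.2.2) rs2) 1) (nat_lit 0) (nat_lit 32) = true := by decide +kernel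

theorem AQ2_1_p : actP 4 5 q2_1 10 = true := by decide +kernel

theorem AQ2_1_l_0 : rng (actL 4 5 q2_1 dom2 (2 * 4) us2) (nat_lit 0) (nat_lit 10) = true := by decide +kernel

theorem AQ2_1_r_0 : rng (fun i => relN 4 5 q2_1 (2 * 4) (nthD ([], nat_lit 0) R2 i)) (nat_lit 0) (nat_lit 4) = true := by decide +kernel

theorem la2 : ldA mul one T2 32 lc2 5 4 n2 ls2 1 = true := by decide +kernel

theorem lb2 : ldB 60 Qs2 ls2 1 = true := by decide +kernel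

theorem na2_0 : rng (fun i => ndA mul one T2 32 lc2 5 4 n2 60 (nthD ⟨nat_lit 0, nat_lit 0, [], [], []⟩ ds2 i)) (nat_lit 0) (nat_lit 4) = true := by decide +kernel

theorem nb2_0 : rng (fun i => ndB mul one T2 32 lc2 ks2 Qs2 1 (nthD ⟨nat_lit 0, nat_lit 0, [], [], []⟩ ds2 i)) (nat_lit 0) (nat_lit 4) = true := by decide +kernel

theorem dn2 : Nat.beq ds2.length 4 = true := by decide +kernel

theorem hk2 : ks2 = ds2.map Nd.k := by decide +kernel

theorem hkc2 : kc2 = (0, 1) :: ds2.map fun d => (d.k, d.c) := by decide +kernel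

theorem lo2 : linkOk mul one T2 32 ks2 lk2 1 = true := by decide +kernel

theorem do2 : domOk dom2 [0, 1, 2] nodes2 1 R3 sb2 1 = true := by decide +kernel

theorem A2_l : ∀ i < 10, (actL 4 5 n2 dom2 (2 * 4) us2) i = true :=
  (rng_add rng_zero A2_l_0)

theorem A2_r : ∀ i < 4, (fun i => relN 4 5 n2 (2 * 4) (nthD ([], nat_lit 0) R2 i)) i = true :=
  (rng_add rng_zero A2_r_0)

theorem hc2 : ∀ i < 32, (chk mul one wf T2 lc2 (mapR (fun e => e.2.2) rs2) 1) i = true :=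
  (rng_add rng_zero hc2_0)

theorem AQ2_1_l : ∀ i < 10, (actL 4 5 q2_1 dom2 (2 * 4) us2) i = true :=
  (rng_add rng_zero AQ2_1_l_0)

theorem AQ2_1_r : ∀ i < 4, (fun i => relN 4 5 q2_1 (2 * 4) (nthD ([], nat_lit 0) R2 i)) i = true :=
  (rng_add rng_zero AQ2_1_r_0)

theorem na2 : ∀ i < 4, (fun i => ndA mul one T2 32 lc2 5 4 n2 60 (nthD ⟨nat_lit 0, nat_lit 0, [], [], []⟩ ds2 i)) i = true :=
  (rng_add rng_zero na2_0)

theorem nb2 : ∀ i < 4, (fun i => ndB mul one T2 32 lc2 ks2 Qs2 1 (nthD ⟨nat_lit 0, nat_lit 0, [], [], []⟩ ds2 i)) i = true :=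
  (rng_add rng_zero nb2_0)

section
universe u v
variable {R : Type v} {ι : Type} [CommRing R] [Fintype ι] [DecidableEq ι] (V : VCod R ι 9 18 app wfT) (h2 : V.mat one = 1)

theorem A2 : Act.{0} (((S V h2).sub (mdl (g V h2) dom2)).gen lc2) 5 4 n2 :=
  act_of_up (L2 V h2) (U2 V h2) A2_p A2_l (by decide) (allR Rn2 A2_r)

theorem AQ2_1 : Act.{0} (((S V h2).sub (mdl (g V h2) dom2)).gen lc2) 5 4 q2_1 :=
  act_of_up (L2 V h2) (U2 V h2) AQ2_1_p AQ2_1_l (by decide) (allR Rn2 AQ2_1_r)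

theorem C2 : Cert.{u} ((S V h2).sub (mdl (g V h2) dom2)) T2 32 (mgen (g V h2) dom2) dom2 [0, 1, 2] nodes2 1 (R2 ++ N3) kc2 :=
  have := fin2 V h2
  cert_of (L2 V h2) (card2 V h2).le (A2 V h2) (Qs := Qs2) (List.forall_mem_cons.2 ⟨AQ2_1 V h2, List.forall_mem_nil _⟩) hr2 hc2 la2 lb2 hk2 (allR dn2 na2) (allR dn2 nb2) lo2 do2 hkc2

end

def dom3 : List ℕ := [0, 1, 2]

noncomputable def us3 : List (List ℕ) :=
  [(unp (nat_lit 2) (nat_lit 0x71306)), [nat_lit 3, nat_lit 5], (unp (nat_lit 4) (nat_lit 0x994994907)), (unp (nat_lit 4) (nat_lit 0x94949906)), (unp (nat_lit 4) (nat_lit 0xbaabb05))]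

noncomputable def lc3 : List ℕ :=
  [nthD one bc (nat_lit 0),
  nthD one bc (nat_lit 1),
  nthD one bc (nat_lit 2),
  nthD one bc (nat_lit 3),
  nthD one bc (nat_lit 4),
  nthD one bc (nat_lit 5),
  one,
  one,
  (nat_lit 0x1fce42ed966b34fae64312a96f69e1eea7db1de4),
  (nat_lit 0x9859893007064a23c442082b2c65b6a30ddc2f3d),
  (nat_lit 0x2ce6c6e84b968e8b851402b61ea742ffaae0bdff2),
  (nat_lit 0x7ca567dd30d58922be2dce626effc4f6e2a710ed),
  (nat_lit 0x1ee35ee62970ce0500d08bb760d5b6a032680657c)]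

noncomputable def v3_0 : VL :=
  ⟨(nat_lit 0x1219e), [[nat_lit 0], [nat_lit 2], [nat_lit 4]], nat_lit 2, [(nat_lit 0xab00c2ac0caa18)], nat_lit 4, nat_lit 15⟩

noncomputable def v3_1 : VL :=
  ⟨(nat_lit 0x18b75), [(unp (nat_lit 4) (nat_lit 0x9bbc04)), (unp (nat_lit 4) (nat_lit 0x99acc05)), [nat_lit 0]], nat_lit 2, [(nat_lit 0x387803870e7800837808370e700e0c9e7000e00ec39e000de0c39c08279e0000e1e00e1c39e0020de020dc39c0383279c003803b0e780037830e70209e79f7)], nat_lit 7, nat_lit 128⟩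

noncomputable def vl3 : List VL :=
  [v3_0, v3_1]

theorem lco3 : lcOk mul one bc lc3 dom3 (2 * 4) us3 13 = true := by decide +kernel

theorem rc3_0 : rng (fun i => relC mul one bc (2 * 4) (nthD ([], nat_lit 0) N3 i)) (nat_lit 0) (nat_lit 10) = true := by decide +kernel

theorem sm2 : Nat.beq ((kc2.map Prod.snd).sum * 60) 1920 = true := by decide +kernel

theorem vc3 : vchainOk (app 18 1) (wfT 18 1) mul one lc3 [] vl3 = true := by decide +kernel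

theorem vf3 : band (allL (fun i => memL i dom3) dom0) (VCod.fixD (app 18 1) (wfT 18 1) one bc dom0 vl3) = true := by decide +kernel

theorem vp3 : (vl3.map VL.d).prod * 1 = 1920 := by decide +kernel

theorem rd3 : allL (fun r => allL (fun l => memL (Nat.shiftRight l (nat_lit 1)) dom3) r.1) (R2 ++ N3) = true := by decide +kernel

theorem rc3 : ∀ i < 10, (fun i => relC mul one bc (2 * 4) (nthD ([], nat_lit 0) N3 i)) i = true :=
  (rng_add rng_zero rc3_0)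

section
universe u v
variable {R : Type v} {ι : Type} [CommRing R] [Fintype ι] [DecidableEq ι] (V : VCod R ι 9 18 app wfT) (h2 : V.mat one = 1)

theorem L3 : Lc ((S V h2).sub (mdl (g V h2) dom3)) (mgen (g V h2) dom3) lc3 dom3 (2 * 4) us3 13 :=
  lc_of (S V h2) (h0 V h2) bco lco3

theorem rel3 : Rels R3 (g V h2) := (rel2 V h2).append ((S V h2).rels (h0 V h2) bco (allR Nn3 rc3))

theorem le3 : Finite (mdl (g V h2) dom3) ∧ Nat.card (mdl (g V h2) dom3) ≤ 1920 :=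
  have := fin2 V h2
  step_le (C2 V h2) (U2 V h2) (rel3 V h2) (card2 V h2) sm2

theorem fin3 : Finite (mdl (g V h2) dom3) := (le3 V h2).1

theorem card3 : Nat.card (mdl (g V h2) dom3) = 1920 := by
  have : Finite (mdl ((V.sem h1 h2).bg bc) dom3) := fin3 V h2
  have h := V.le_card_mdl h1 h2 (h0 V h2) (L3 V h2).ok vc3 vf3
  exact le_antisymm (le3 V h2).2 (le_trans (le_of_eq (by rw [← vp3, ← card0 V h2]; rfl)) h)

theorem U3 : UP.{0} (mgen (g V h2) dom3) dom3 R3 :=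
  have := fin2 V h2
  step_up (C2 V h2) (U2 V h2) (rel3 V h2) (card2 V h2) sm2 (card3 V h2) rd3

end

noncomputable def n3_0 : Net :=
  mkNet (nat_lit 7) (nat_lit 32) (nat_lit 0x50041500020002000d000800000500000000050000f500a0070002003022303050041505)

noncomputable def n3_2 : Net :=
  mkNet (nat_lit 7) (nat_lit 32) (nat_lit 0x511000030313100000a00000069000000007900007900e00d04060c2301203215010444)

noncomputable def n3_4 : Net :=
  mkNet (nat_lit 7) (nat_lit 32) (nat_lit 0x500114100001222000000200000c000000000c00000c00300a00010c0132111050044144)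

noncomputable def n3_8 : Net :=
  mkNet (nat_lit 7) (nat_lit 32) (nat_lit 0x50405114200021000a0f08000020000000006dc80009001b09010a093013001151514044)

noncomputable def n3_9 : Net :=
  mkNet (nat_lit 7) (nat_lit 32) (nat_lit 0x44014550200220000201020000420000000042980040008a0a0603022222002044410450)

noncomputable def n3_10 : Net :=
  mkNet (nat_lit 7) (nat_lit 32) (nat_lit 0x4445554031021300010b080000a400000000942000940048050b09043112300045545040)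

noncomputable def n3_11 : Net :=
  mkNet (nat_lit 7) (nat_lit 32) (nat_lit 0x4000001200100003080200008400000000a500008500600708020c1312101000000444)

noncomputable def n3_12 : Net :=
  mkNet (nat_lit 7) (nat_lit 32) (nat_lit 0x140451003001100000020200002c000000003c00002800e0080203003223321014404140)

noncomputable def n3 : List Net :=
  [n3_0, n3_0, n3_2, rv n3_2, n3_4, n3_4, Net.nil, Net.nil, n3_8, n3_9, n3_10, n3_11, n3_12]

theorem A3_p : actP 7 32 n3 13 = true := by decide +kernel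

theorem A3_l_0 : rng (actL 7 32 n3 dom3 (2 * 4) us3) (nat_lit 0) (nat_lit 13) = true := by decide +kernel

theorem A3_r_0 : rng (fun i => relN 7 32 n3 (2 * 4) (nthD ([], nat_lit 0) R3 i)) (nat_lit 0) (nat_lit 14) = true := by decide +kernel

theorem A3_l : ∀ i < 13, (actL 7 32 n3 dom3 (2 * 4) us3) i = true :=
  (rng_add rng_zero A3_l_0)

theorem A3_r : ∀ i < 14, (fun i => relN 7 32 n3 (2 * 4) (nthD ([], nat_lit 0) R3 i)) i = true :=
  (rng_add rng_zero A3_r_0)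

section
universe u v
variable {R : Type v} {ι : Type} [CommRing R] [Fintype ι] [DecidableEq ι] (V : VCod R ι 9 18 app wfT) (h2 : V.mat one = 1)

theorem A3 : Act.{0} (((S V h2).sub (mdl (g V h2) dom3)).gen lc3) 32 7 n3 :=
  act_of_up (L3 V h2) (U3 V h2) A3_p A3_l (by decide) (allR Rn3 A3_r)

end

end L.HJc
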