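import Cfsg.Agent.L.HJcAa

/-! Recognition of the second and third Janko groups: enumerations. Enumeration 3. -/

set_option maxRecDepth 100000
set_option Elab.async false

namespace L.HJcd
open H13 H15
open H15.J3 (one app wfT mul wf h1 S)
open L.HJc

noncomputable def N4 : List (List ℕ × ℕ) :=
  [([nat_lit 6], nat_lit 2),
  ((unp (nat_lit 3) (nat_lit 0xadd5dc4a60c)), nat_lit 1),
  ((unp (nat_lit 3) (nat_lit 0xcc204)), nat_lit 3),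
  ((unp (nat_lit 3) (nat_lit 0x330830860b)), nat_lit 1),
  ((unp (nat_lit 3) (nat_lit 0x594594d949b6525736126161f)), nat_lit 1),
  ((unp (nat_lit 3) (nat_lit 0x51e51e08)), nat_lit 5),
  ((unp (nat_lit 3) (nat_lit 0x2b7556ea51e51e0a3ca3c147947828f28f02e)), nat_lit 1)]

noncomputable def R4 : List (List ℕ × ℕ) :=
  R3 ++ N4

def nodes3 : List ℕ := [6]

def sb3 : List (ℕ × ℕ × ℕ) := [(7, 14, 0)]

noncomputable def rs3 : List (ℕ × ℕ × List (ℕ × ℕ)) :=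
  [(nat_lit 14, nat_lit 0, [(nat_lit 1, (nat_lit 0x100002000040000800010000200004000080001)), (nat_lit 1, (nat_lit 0x100002000040000800010000200004000080001))]),
  (nat_lit 15, nat_lit 7, [(nat_lit 1, (nat_lit 0x1ee35ee62970ce0500d08bb760d5b6a032680657c)), (nat_lit 1, (nat_lit 0x10003ee42b1dcfa59538adc760f734d392f56083c))]),
  (nat_lit 16, nat_lit 0, [(nat_lit 1, (nat_lit 0x100e0aba0d17c70444d02bf329fd10d7608f1b426)), (nat_lit 1, (nat_lit 0x100e0aba0d17c70444d02bf329fd10d7608f1b426)), (nat_lit 1, (nat_lit 0x100e0aba0d17c70444d02bf329fd10d7608f1b426))]),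
  (nat_lit 17, nat_lit 10, [(nat_lit 1, (nat_lit 0x105f889bf84ba5216a50d0702eacb68cdacb59cb4)), (nat_lit 1, (nat_lit 0x1f17ab37d3680aec186d2ec989b1805c40f0c3439))]),
  (nat_lit 18, nat_lit 10, [(nat_lit 1, (nat_lit 0x1687e1cdf7ad552f2ca2d77e4075b9279d7fdbf75)), (nat_lit 1, (nat_lit 0x1da703b34f00a0fd10b79be740d98950a80900c4f))]),
  (nat_lit 19, nat_lit 37, [(nat_lit 1, (nat_lit 0x1ff2a83cf20d718d3de5bc1982cba772f232b29e5)), (nat_lit 1, (nat_lit 0x1ff2a83cf20d718d3de5bc1982cba772f232b29e5)), (nat_lit 1, (nat_lit 0x1ff2a83cf20d718d3de5bc1982cba772f232b29e5)), (nat_lit 1, (nat_lit 0x1ff2a83cf20d718d3de5bc1982cba772f232b29e5)), (nat_lit 1, (nat_lit 0x1ff2a83cf20d718d3de5bc1982cba772f232b29e5)), (nat_lit 1, (nat_lit 0x1ff2a83cf20d718d3de5bc1982cba772f232b29e5)), (nat_lit 1, (nat_lit 0x1ff2a83cf20d718d3de5bc1982cba772f232b29e5)), (nat_lit 1, (nat_lit 0x1ff2a83cf20d718d3de5bc1982cba772f232b29e5)),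 (nat_lit 1, (nat_lit 0x1ff2a83cf20d718d3de5bc1982cba772f232b29e5)), (nat_lit 1, (nat_lit 0x1ff2a83cf20d718d3de5bc1982cba772f232b29e5))]),
  (nat_lit 20, nat_lit 33, [(nat_lit 1, (nat_lit 0x1ff2a83cf20d718d3de5bc1982cba772f232b29e5)), (nat_lit 1, (nat_lit 0x3aa136d7dd3464bfa00893d2d46909716236da798)), (nat_lit 1, (nat_lit 0x1ff2a83cf20d718d3de5bc1982cba772f232b29e5)), (nat_lit 1, (nat_lit 0x3aa136d7dd3464bfa00893d2d46909716236da798)), (nat_lit 1, (nat_lit 0x1ff2a83cf20d718d3de5bc1982cba772f232b29e5)), (nat_lit 1, (nat_lit 0x3aa136d7dd3464bfa00893d2d46909716236da798)), (nat_lit 1, (nat_lit 0x1ff2a83cf20d718d3de5bc1982cba772f232b29e5)), (nat_lit 1, (nat_lit 0x130bc244a96298a4776e84dfaad6373e42014665e))])]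

noncomputable def T3_0 : Tr :=
  (.nd (nat_lit 30) (.nd (nat_lit 15) (.nd (nat_lit 7) (.nd (nat_lit 3) (.nd (nat_lit 1) (.lf ⟨nat_lit 0, nat_lit 0, nat_lit 0, one, one, one, .triv⟩)
 (.nd (nat_lit 2) (.lf ⟨nat_lit 0, nat_lit 0, nat_lit 0, one, one, one, .triv⟩)
 (.lf ⟨nat_lit 1, nat_lit 1, nat_lit 0, (nat_lit 0x1ee35ee62970ce0500d08bb760d5b6a032680657c), (nat_lit 0x1ee35ee62970ce0500d08bb760d5b6a032680657c), one, (.wt (nat_lit 1) (nat_lit 0) one (.sp .nil) [] [])⟩)))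
 (.nd (nat_lit 5) (.nd (nat_lit 4) (.lf ⟨nat_lit 0, nat_lit 1, nat_lit 1, (nat_lit 0x1ee35ee62970ce0500d08bb760d5b6a032680657c), one, (nat_lit 0x1ee35ee62970ce0500d08bb760d5b6a032680657c), (.we (nat_lit 0) (nat_lit 1) (nat_lit 0x1ee35ee62970ce0500d08bb760d5b6a032680657c) (.st (nat_lit 2) [] [] (.sp .nil)))⟩)
 (.lf ⟨nat_lit 0, nat_lit 1, nat_lit 1, (nat_lit 0x10003ee42b1dcfa59538adc760f734d392f56083c), one, (nat_lit 0x10003ee42b1dcfa59538adc760f734d392f56083c), (.prod [nat_lit 3, nat_lit 3])⟩))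
 (.nd (nat_lit 6) (.lf ⟨nat_lit 1, nat_lit 1, nat_lit 0, (nat_lit 0x105f889bf84ba5216a50d0702eacb68cdacb59cb4), (nat_lit 0x1f17ab37d3680aec186d2ec989b1805c40f0c3439), one, (.wt (nat_lit 3) (nat_lit 0) one (.sp .nil) [] [])⟩)
 (.lf ⟨nat_lit 0, nat_lit 1, nat_lit 1, (nat_lit 0x105f889bf84ba5216a50d0702eacb68cdacb59cb4), one, (nat_lit 0x1f17ab37d3680aec186d2ec989b1805c40f0c3439), (.we (nat_lit 0) (nat_lit 1) (nat_lit 0x105f889bf84ba5216a50d0702eacb68cdacb59cb4) (.st (nat_lit 5) [] [] (.sp .nil)))⟩))))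
 (.nd (nat_lit 11) (.nd (nat_lit 9) (.nd (nat_lit 8) (.lf ⟨nat_lit 1, nat_lit 1, nat_lit 0, (nat_lit 0x1f17ab37d3680aec186d2ec989b1805c40f0c3439), (nat_lit 0x105f889bf84ba5216a50d0702eacb68cdacb59cb4), one, (.wt (nat_lit 3) (nat_lit 1) one (.sp .nil) [] [])⟩)
 (.lf ⟨nat_lit 0, nat_lit 1, nat_lit 1, (nat_lit 0x1f17ab37d3680aec186d2ec989b1805c40f0c3439), one, (nat_lit 0x105f889bf84ba5216a50d0702eacb68cdacb59cb4), (.we (nat_lit 0) (nat_lit 1) (nat_lit 0x1f17ab37d3680aec186d2ec989b1805c40f0c3439) (.st (nat_lit 7) [] [] (.sp .nil)))⟩))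
 (.nd (nat_lit 10) (.lf ⟨nat_lit 0, nat_lit 1, nat_lit 1, (nat_lit 0xf5823ae2b3588c8e3fdffba9e8d20b3ac39d7087), one, (nat_lit 0xf5823ae2b3588c8e3fdffba9e8d20b3ac39d7087), (.prod [nat_lit 6, nat_lit 8])⟩)
 (.lf ⟨nat_lit 1, nat_lit 1, nat_lit 0, (nat_lit 0x1687e1cdf7ad552f2ca2d77e4075b9279d7fdbf75), (nat_lit 0xe466be6b35c0bdc389652e9c4a72b8e508620181), one, (.wt (nat_lit 4) (nat_lit 0) one (.sp .nil) [] [])⟩)))
 (.nd (nat_lit 13) (.nd (nat_lit 12) (.lf ⟨nat_lit 0, nat_lit 1, nat_lit 1, (nat_lit 0x1687e1cdf7ad552f2ca2d77e4075b9279d7fdbf75), one, (nat_lit 0xe466be6b35c0bdc389652e9c4a72b8e508620181), (.we (nat_lit 0) (nat_lit 1) (nat_lit 0x1687e1cdf7ad552f2ca2d77e4075b9279d7fdbf75) (.st (nat_lit 10) [] [] (.sp .nil)))⟩)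
 (.lf ⟨nat_lit 0, nat_lit 1, nat_lit 1, (nat_lit 0xb48da6dbcdbbec10d7ee0c57c96eaaa39d15025e), one, (nat_lit 0x1da703b34f00a0fd10b79be740d98950a80900c4f), (.prod [nat_lit 6, nat_lit 11])⟩))
 (.nd (nat_lit 14) (.lf ⟨nat_lit 0, nat_lit 1, nat_lit 1, (nat_lit 0x8e63aa1b814fbf745cff8bb8ff826f7280ea5d49), one, (nat_lit 0x1f6f9326d7c60ac923c68395ac37828e7fccc4b30), (.prod [nat_lit 8, nat_lit 11])⟩)
 (.lf ⟨nat_lit 0, nat_lit 1, nat_lit 1, (nat_lit 0x15290101f374771cfdd3cf038aab631dbaa2e3869), one, (nat_lit 0xc8efb732b8cc6ed92274a9811f93637b14129ef5), (.prod [nat_lit 9, nat_lit 11])⟩)))))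
 (.nd (nat_lit 22) (.nd (nat_lit 18) (.nd (nat_lit 16) (.lf ⟨nat_lit 0, nat_lit 1, nat_lit 1, (nat_lit 0xfccab2fea80340cbf61cf35d0b59b9d4adc43e1e), one, (nat_lit 0x3139f9b77e839bb8eba1435077a9cdccbcdabb634), (.prod [nat_lit 11, nat_lit 3])⟩)
 (.nd (nat_lit 17) (.lf ⟨nat_lit 0, nat_lit 1, nat_lit 1, (nat_lit 0x11ad7be3ecca859b8ac250531975d2343651eeeae), one, (nat_lit 0x3e71d24eaa84a28abefeda0608e921ff2d1a2cc38), (.prod [nat_lit 12, nat_lit 3])⟩)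
 (.lf ⟨nat_lit 0, nat_lit 1, nat_lit 1, (nat_lit 0xc62408fa09b9db9ce3f3014103fa55227c46791c), one, (nat_lit 0x2e3e5a42c9d25a690203ba4d399c471e08f6a8a6e), (.prod [nat_lit 13, nat_lit 3])⟩)))
 (.nd (nat_lit 20) (.nd (nat_lit 19) (.lf ⟨nat_lit 0, nat_lit 1, nat_lit 1, (nat_lit 0x12039043a6092718f95caf72806334f068d2c67c0), one, (nat_lit 0x217671bb1d0d686d559c231b1f407326aaad33e0e), (.prod [nat_lit 14, nat_lit 3])⟩)
 (.lf ⟨nat_lit 0, nat_lit 1, nat_lit 1, (nat_lit 0x194b40ebc1c2572393c3184b90c0cd8cd7a39816b), one, (nat_lit 0x19ab81ed15df905f1eb711b3bad06435ec5c9b7b5), (.prod [nat_lit 15, nat_lit 3])⟩))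
 (.nd (nat_lit 21) (.lf ⟨nat_lit 0, nat_lit 1, nat_lit 1, (nat_lit 0x3f17a0ad3bbb80b968ec7fda65f8261fc0adc3055), one, (nat_lit 0x1c8ecb76742a88a610646281907901380d54096c9), (.prod [nat_lit 15, nat_lit 11])⟩)
 (.lf ⟨nat_lit 0, nat_lit 1, nat_lit 1, (nat_lit 0x1ae5ab878cfe0d5a87bcb09665e3d7a80f80becf0), one, (nat_lit 0x502c2413d84024c63c941eb41ee2ad885132c077), (.prod [nat_lit 16, nat_lit 3])⟩))))
 (.nd (nat_lit 26) (.nd (nat_lit 24) (.nd (nat_lit 23) (.lf ⟨nat_lit 0, nat_lit 1, nat_lit 1, (nat_lit 0x201003011008a45038026000580180440d0683219), one, (nat_lit 0x1e4650d63eda2b29a3b67b6b3cbfd4fddfd14f7b5), (.prod [nat_lit 16, nat_lit 11])⟩)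
 (.lf ⟨nat_lit 0, nat_lit 1, nat_lit 1, (nat_lit 0x8e63aa1b814fbf745cff8bb8ff826f7280ea5d49), one, (nat_lit 0x1f6f9326d7c60ac923c68395ac37828e7fccc4b30), (.prod [nat_lit 8, nat_lit 11])⟩))
 (.nd (nat_lit 25) (.lf ⟨nat_lit 0, nat_lit 1, nat_lit 1, (nat_lit 0xfccab2fea80340cbf61cf35d0b59b9d4adc43e1e), one, (nat_lit 0x3139f9b77e839bb8eba1435077a9cdccbcdabb634), (.prod [nat_lit 11, nat_lit 3])⟩)
 (.lf ⟨nat_lit 0, nat_lit 1, nat_lit 1, (nat_lit 0x194b40ebc1c2572393c3184b90c0cd8cd7a39816b), one, (nat_lit 0x19ab81ed15df905f1eb711b3bad06435ec5c9b7b5), (.prod [nat_lit 24, nat_lit 3])⟩)))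
 (.nd (nat_lit 28) (.nd (nat_lit 27) (.lf ⟨nat_lit 1, nat_lit 1, nat_lit 0, (nat_lit 0x1da703b34f00a0fd10b79be740d98950a80900c4f), (nat_lit 0xb48da6dbcdbbec10d7ee0c57c96eaaa39d15025e), one, (.wt (nat_lit 4) (nat_lit 1) one (.sp .nil) [] [])⟩)
 (.lf ⟨nat_lit 0, nat_lit 1, nat_lit 1, (nat_lit 0x1da703b34f00a0fd10b79be740d98950a80900c4f), one, (nat_lit 0xb48da6dbcdbbec10d7ee0c57c96eaaa39d15025e), (.we (nat_lit 0) (nat_lit 1) (nat_lit 0x1da703b34f00a0fd10b79be740d98950a80900c4f) (.st (nat_lit 26) [] [] (.sp .nil)))⟩))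
 (.nd (nat_lit 29) (.lf ⟨nat_lit 0, nat_lit 1, nat_lit 1, (nat_lit 0x88278b68c34ad18f165e3342438a0200295c67c1), one, (nat_lit 0x2166738bec75d24e7294e9d92d918764f49333e0f), (.inv (nat_lit 18))⟩)
 (.lf ⟨nat_lit 0, nat_lit 1, nat_lit 1, (nat_lit 0x1f481347ebe334a70b6b3939b8e207e5d4a51b440), one, (nat_lit 0x7ca567dd30d58922be2dce626effc4f6e2a710ed), (.prod [nat_lit 27, nat_lit 28])⟩))))))
 (.nd (nat_lit 45) (.nd (nat_lit 37) (.nd (nat_lit 33) (.nd (nat_lit 31) (.lf ⟨nat_lit 0, nat_lit 1, nat_lit 1, (nat_lit 0x1cb949980a7102eefd9cbcd339e6700f449bb75a6), one, (nat_lit 0xde880979a19e183f990488a2146d7c9dac5e4d69), (.prod [nat_lit 29, nat_lit 3])⟩)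
 (.nd (nat_lit 32) (.lf ⟨nat_lit 0, nat_lit 1, nat_lit 1, (nat_lit 0xd0230d63d7d0049f6d151f3340098dc903e84391), one, (nat_lit 0x2cf6c6ea4b96ce8a821440760e7746c7b4efbdff3), (.prod [nat_lit 30, nat_lit 3])⟩)
 (.lf ⟨nat_lit 0, nat_lit 1, nat_lit 1, (nat_lit 0x141fa1b56db8c2771d3150c96d54dd097535c483), one, (nat_lit 0x24c1b98ea97e97e74d7fc0f9b0fd1653697f935c), (.inv (nat_lit 25))⟩)))
 (.nd (nat_lit 35) (.nd (nat_lit 34) (.lf ⟨nat_lit 0, nat_lit 1, nat_lit 1, (nat_lit 0xeaad67fd11c5b9223e2ddec3fe3fc4bea7a101af), one, (nat_lit 0xfcaaa1b57e374e549ab383d9c6c504e96ef4bd6a), (.prod [nat_lit 27, nat_lit 32])⟩)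
 (.lf ⟨nat_lit 1, nat_lit 1, nat_lit 0, one, one, one, (.wt (nat_lit 0) (nat_lit 0) one (.sp .nil) [] [])⟩))
 (.nd (nat_lit 36) (.lf ⟨nat_lit 1, nat_lit 1, nat_lit 1, (nat_lit 0x100e0aba0d17c70444d02bf329fd10d7608f1b426), (nat_lit 0x100e0aba0d17c70444d02bf329fd10d7608f1b426), (nat_lit 0x100e0aba0d17c70444d02bf329fd10d7608f1b426), (.wt (nat_lit 2) (nat_lit 0) one (.st (nat_lit 34) [] [] (.sp .nil)) [] [])⟩)
 (.lf ⟨nat_lit 1, nat_lit 1, nat_lit 36, (nat_lit 0x3b6020b1ee99f350ad1583cd87ceba46c32e15ab7), one, one, (.df [nat_lit 3])⟩))))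
 (.nd (nat_lit 41) (.nd (nat_lit 39) (.nd (nat_lit 38) (.lf ⟨nat_lit 0, nat_lit 36, nat_lit 36, (nat_lit 0x1f481347ebe334a70b6b3939b8e207e5d4a51b440), one, (nat_lit 0x1ee35ee62970ce0500d08bb760d5b6a032680657c), (.cmp (nat_lit 36) (nat_lit 36) [nat_lit 3, nat_lit 30] [nat_lit 3])⟩)
 (.lf ⟨nat_lit 0, nat_lit 36, nat_lit 36, (nat_lit 0xfcaaa1b57e374e549ab383d9c6c504e96ef4bd6a), one, (nat_lit 0x10003ee42b1dcfa59538adc760f734d392f56083c), (.prod [nat_lit 37, nat_lit 37])⟩))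
 (.nd (nat_lit 40) (.lf ⟨nat_lit 0, nat_lit 36, nat_lit 36, (nat_lit 0x1f17ab37d3680aec186d2ec989b1805c40f0c3439), one, (nat_lit 0x1f17ab37d3680aec186d2ec989b1805c40f0c3439), (.cmp (nat_lit 36) (nat_lit 36) [nat_lit 8] [nat_lit 6])⟩)
 (.lf ⟨nat_lit 0, nat_lit 36, nat_lit 36, (nat_lit 0xe61e38bec712a461515696e1bcf96e38c0a60401), one, (nat_lit 0x10cd06264ca2eb42128e7499f84c57846e90ee5fd), (.prod [nat_lit 37, nat_lit 39])⟩)))
 (.nd (nat_lit 43) (.nd (nat_lit 42) (.lf ⟨nat_lit 0, nat_lit 36, nat_lit 36, (nat_lit 0x1e4f1e2831920e847b847a3b6d041108eb073913), one, (nat_lit 0x129cd119da7a00e970b7d2071ff55af8efdcbc85), (.prod [nat_lit 38, nat_lit 39])⟩)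
 (.lf ⟨nat_lit 0, nat_lit 36, nat_lit 36, (nat_lit 0x144f71aeb2b26463c2b6d4f30c0d3e252450edb2b), one, (nat_lit 0x1f6f9326d7c60ac923c68395ac37828e7fccc4b30), (.cmp (nat_lit 36) (nat_lit 36) (unp (nat_lit 5) (nat_lit 0x37a303)) [nat_lit 23])⟩))
 (.nd (nat_lit 44) (.lf ⟨nat_lit 0, nat_lit 36, nat_lit 36, (nat_lit 0x1f481347ebe334a70b6b3939b8e207e5d4a51b440), one, (nat_lit 0x1ee35ee62970ce0500d08bb760d5b6a032680657c), (.inv (nat_lit 38))⟩)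
 (.lf ⟨nat_lit 0, nat_lit 36, nat_lit 36, (nat_lit 0x2cf6c6ea4b96ce8a821440760e7746c7b4efbdff3), one, (nat_lit 0xbcc58b68eda6baf80b67a6638ac95f5dfd1cf7b4), (.prod (unp (nat_lit 6) (nat_lit 0x2baa503)))⟩)))))
 (.nd (nat_lit 53) (.nd (nat_lit 49) (.nd (nat_lit 47) (.nd (nat_lit 46) (.lf ⟨nat_lit 0, nat_lit 36, nat_lit 36, (nat_lit 0x2ce6c6e84b968e8b851402b61ea742ffaae0bdff2), one, (nat_lit 0x1e4650d63eda2b29a3b67b6b3cbfd4fddfd14f7b5), (.prod [nat_lit 44, nat_lit 44])⟩)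
 (.lf ⟨nat_lit 1, nat_lit 36, nat_lit 1, one, (nat_lit 0x3b6020b1ee99f350ad1583cd87ceba46c32e15ab7), one, (.wt (nat_lit 0) (nat_lit 0) (nat_lit 0x3b6020b1ee99f350ad1583cd87ceba46c32e15ab7) (.st (nat_lit 36) [] [] .nil) [] [])⟩))
 (.nd (nat_lit 48) (.lf ⟨nat_lit 1, nat_lit 36, nat_lit 36, (nat_lit 0x100e0aba0d17c70444d02bf329fd10d7608f1b426), (nat_lit 0x302b154fb7995a5b3b2550e2002a535d7e5d04566), (nat_lit 0x105f889bf84ba5216a50d0702eacb68cdacb59cb4), (.wt (nat_lit 2) (nat_lit 2) (nat_lit 0x9804a5765266ab55a26058f43224121f97935816) (.st (nat_lit 46) [nat_lit 3, nat_lit 19] [] (.st (nat_lit 36) [] [nat_lit 8] .nil)) [] [])⟩)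
 (.lf ⟨nat_lit 1, nat_lit 36, nat_lit 48, (nat_lit 0x3b6020b1ee99f350ad1583cd87ceba46c32e15ab7), one, one, (.df [nat_lit 3])⟩)))
 (.nd (nat_lit 51) (.nd (nat_lit 50) (.lf ⟨nat_lit 0, nat_lit 48, nat_lit 48, (nat_lit 0x27886d5f2d21155f20e72f284280a739b940580), one, (nat_lit 0x1c2dc834c117cc9be475051e9326443f773ad7902), (.cmp (nat_lit 48) (nat_lit 48) (unp (nat_lit 5) (nat_lit 0x5ba403)) [nat_lit 44, nat_lit 41])⟩)
 (.lf ⟨nat_lit 0, nat_lit 48, nat_lit 48, (nat_lit 0x1b83d2413c1dbc1557085fa50601b07e39b9f355c), one, (nat_lit 0x1785dad8c614509bec4539d29c7547e7773a6c15e), (.prod [nat_lit 49, nat_lit 49])⟩))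
 (.nd (nat_lit 52) (.lf ⟨nat_lit 1, nat_lit 48, nat_lit 36, one, (nat_lit 0x3b6020b1ee99f350ad1583cd87ceba46c32e15ab7), one, (.wt (nat_lit 0) (nat_lit 0) (nat_lit 0x3b6020b1ee99f350ad1583cd87ceba46c32e15ab7) (.st (nat_lit 48) [] [] .nil) [] [])⟩)
 (.lf ⟨nat_lit 1, nat_lit 48, nat_lit 48, (nat_lit 0x100e0aba0d17c70444d02bf329fd10d7608f1b426), (nat_lit 0x2a8906d58172ec9055249ba5115c9c037e3b941a0), (nat_lit 0xb2c9974ee81aebb0a3b69890767c7661bec1a0fb), (.wt (nat_lit 2) (nat_lit 2) (nat_lit 0x23aeeee429463e09abe74cacbff7a256f927f45f3) (.st (nat_lit 51) (unp (nat_lit 5) (nat_lit 0x23c403)) [] (.st (nat_lit 48) [nat_lit 31, nat_lit 11] [nat_lit 44, nat_lit 38] .nil)) [nat_lit 18] [])⟩))))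
 (.nd (nat_lit 57) (.nd (nat_lit 55) (.nd (nat_lit 54) (.lf ⟨nat_lit 1, nat_lit 48, nat_lit 53, (nat_lit 0x29d069dd4289881cb0b1977aaf1daee2c113e4bec), one, one, (.df [nat_lit 2])⟩)
 (.lf ⟨nat_lit 0, nat_lit 53, nat_lit 53, (nat_lit 0x2166738bec75d24e7294e9d92d918764f49333e0f), one, (nat_lit 0x1c2dc834c117cc9be475051e9326443f773ad7902), (.cmp (nat_lit 53) (nat_lit 53) [nat_lit 30, nat_lit 20] [nat_lit 49])⟩))
 (.nd (nat_lit 56) (.lf ⟨nat_lit 0, nat_lit 53, nat_lit 53, (nat_lit 0x217671bb1d0d686d559c231b1f407326aaad33e0e), one, (nat_lit 0x1785dad8c614509bec4539d29c7547e7773a6c15e), (.prod [nat_lit 54, nat_lit 54])⟩)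
 (.lf ⟨nat_lit 1, nat_lit 53, nat_lit 48, one, (nat_lit 0x29d069dd4289881cb0b1977aaf1daee2c113e4bec), one, (.wt (nat_lit 0) (nat_lit 0) (nat_lit 0x29d069dd4289881cb0b1977aaf1daee2c113e4bec) (.st (nat_lit 53) [] [] .nil) [] [])⟩)))
 (.nd (nat_lit 59) (.nd (nat_lit 58) (.lf ⟨nat_lit 1, nat_lit 53, nat_lit 48, (nat_lit 0x2ba2cea7bd829f6f53bc17c3f6c7dba59a18cc2c5), (nat_lit 0x3b20cbff29570f058e4097909a8e1dc145ccfc3b3), (nat_lit 0x86ad1ff6a33f145f4194337adc5138ad8c9bdcb7), (.wt (nat_lit 6) (nat_lit 2) (nat_lit 0x10e4101f00faf42cdfc15aeb1f6e6b0be4f5696c) (.st (nat_lit 51) (unp (nat_lit 5) (nat_lit 0x3fe303)) [] (.st (nat_lit 46) (unp (nat_lit 5) (nat_lit 0x53c303)) [] (.st (nat_lit 34) (unp (nat_lit 5) (nat_lit 0x4fa403)) [] (.sp (.st (nat_lit 36) [nat_lit 4, nat_lit 30] [nat_lit 8] (.st (nat_lit 48) (unp (nat_lit 5) (nat_lit 0x47e303)) [nat_lit 45, nat_lit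 38] (.st (nat_lit 53) (unp (nat_lit 5) (nat_lit 0x47a303)) [] .nil))))))) (unp (nat_lit 5) (nat_lit 0x2fa403)) [])⟩)
 (.lf ⟨nat_lit 0, nat_lit 53, nat_lit 53, (nat_lit 0x210b25961101b0803255fa684a400234871d01cf), one, (nat_lit 0x86ad1ff6a33f145f4194337adc5138ad8c9bdcb7), (.we (nat_lit 0) (nat_lit 0) (nat_lit 0x2ba2cea7bd829f6f53bc17c3f6c7dba59a18cc2c5) (.st (nat_lit 57) [] [] (.st (nat_lit 53) (unp (nat_lit 5) (nat_lit 0x1bc303)) [] .nil)))⟩))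
 (.nd (nat_lit 60) (.lf ⟨nat_lit 0, nat_lit 53, nat_lit 53, (nat_lit 0xe4ec14e9a160fc505e0b2c71efc21ecb4e09b4b3), one, (nat_lit 0x13ea0bc0d56ce86cc9fd377d87ce81f0a0dee6589), (.prod [nat_lit 54, nat_lit 58])⟩)
 (.lf ⟨nat_lit 0, nat_lit 53, nat_lit 53, (nat_lit 0xc5e71250a7eeeee29cd26a3a8a9d589a2afcb57c), one, (nat_lit 0x1038c8d1b85cc5293dd44986257891a6781760163), (.prod [nat_lit 55, nat_lit 58])⟩)))))))

noncomputable def T3_61 : Tr :=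
  (.nd (nat_lit 92) (.nd (nat_lit 76) (.nd (nat_lit 68) (.nd (nat_lit 64) (.nd (nat_lit 62) (.lf ⟨nat_lit 1, nat_lit 48, nat_lit 61, (nat_lit 0x2ba2cea7bd829f6f53bc17c3f6c7dba59a18cc2c5), one, one, (.df [nat_lit 2, nat_lit 0])⟩)
 (.nd (nat_lit 63) (.lf ⟨nat_lit 0, nat_lit 61, nat_lit 61, (nat_lit 0x2166738bec75d24e7294e9d92d918764f49333e0f), one, (nat_lit 0x1c2dc834c117cc9be475051e9326443f773ad7902), (.cmp (nat_lit 61) (nat_lit 61) [nat_lit 30, nat_lit 20] [nat_lit 49])⟩)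
 (.lf ⟨nat_lit 0, nat_lit 61, nat_lit 61, (nat_lit 0x217671bb1d0d686d559c231b1f407326aaad33e0e), one, (nat_lit 0x1785dad8c614509bec4539d29c7547e7773a6c15e), (.prod [nat_lit 62, nat_lit 62])⟩)))
 (.nd (nat_lit 66) (.nd (nat_lit 65) (.lf ⟨nat_lit 1, nat_lit 61, nat_lit 48, one, (nat_lit 0x2ba2cea7bd829f6f53bc17c3f6c7dba59a18cc2c5), one, (.wt (nat_lit 0) (nat_lit 0) (nat_lit 0x2ba2cea7bd829f6f53bc17c3f6c7dba59a18cc2c5) (.st (nat_lit 61) [] [] .nil) [] [])⟩)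
 (.lf ⟨nat_lit 1, nat_lit 61, nat_lit 53, (nat_lit 0x100e0aba0d17c70444d02bf329fd10d7608f1b426), (nat_lit 0x100e0aba0d17c70444d02bf329fd10d7608f1b426), one, (.wt (nat_lit 2) (nat_lit 2) one (.st (nat_lit 56) [] [] (.st (nat_lit 61) [] [] .nil)) [] [])⟩))
 (.nd (nat_lit 67) (.lf ⟨nat_lit 1, nat_lit 53, nat_lit 61, (nat_lit 0x100e0aba0d17c70444d02bf329fd10d7608f1b426), (nat_lit 0x100e0aba0d17c70444d02bf329fd10d7608f1b426), one, (.wt (nat_lit 0) (nat_lit 0) (nat_lit 0x100e0aba0d17c70444d02bf329fd10d7608f1b426) (.st (nat_lit 65) [] [] .nil) [] [])⟩)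
 (.lf ⟨nat_lit 1, nat_lit 61, nat_lit 48, (nat_lit 0x29d069dd4289881cb0b1977aaf1daee2c113e4bec), (nat_lit 0x3a8f130983cc10adf2063a60bf471c06bbc95b64e), (nat_lit 0x371021b1d6048299b2ca6b82df430b7d0cdf7524), (.wt (nat_lit 6) (nat_lit 2) (nat_lit 0x3ddf3b2fe9ff145ae8e902f678420fb736a88af5c) (.st (nat_lit 51) (unp (nat_lit 5) (nat_lit 0x5ba303)) [] (.st (nat_lit 47) (unp (nat_lit 5) (nat_lit 0x3fa303)) [] (.st (nat_lit 48) (unp (nat_lit 5) (nat_lit 0x43e303)) [nat_lit 44, nat_lit 38] (.st (nat_lit 53) (unp (nat_lit 5) (nat_lit 0x4fa303)) [] (.st (nat_lit 56) [nat_lit 3, nat_lit 12] [nat_lit 58] (.st (nat_lit 52) [nat_lit 3, nat_lit 14] [] (.st (nat_lit 61) (unp (nat_lit 5) (nat_lit 0x57a303)) [] .nil))))))) (unp (nat_lit 5) (nat_lit 0x53c403)) [])⟩))))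
 (.nd (nat_lit 72) (.nd (nat_lit 70) (.nd (nat_lit 69) (.lf ⟨nat_lit 0, nat_lit 61, nat_lit 61, (nat_lit 0x1ed8fb50bf2d96c3c7a8537414b6c49ffe02041bd), one, (nat_lit 0x371021b1d6048299b2ca6b82df430b7d0cdf7524), (.we (nat_lit 0) (nat_lit 0) (nat_lit 0x29d069dd4289881cb0b1977aaf1daee2c113e4bec) (.st (nat_lit 67) [] [] (.st (nat_lit 61) (unp (nat_lit 5) (nat_lit 0x23c303)) [] .nil)))⟩)
 (.lf ⟨nat_lit 0, nat_lit 61, nat_lit 61, (nat_lit 0x200a0b1ec06b20b36f414402ead52b870c2c9ce5), one, (nat_lit 0xac340fad603080d6db4e0951beb2437de645b04f), (.prod [nat_lit 62, nat_lit 68])⟩))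
 (.nd (nat_lit 71) (.lf ⟨nat_lit 0, nat_lit 61, nat_lit 61, (nat_lit 0x1cd859d3a253deebde548cf608ea6261d0fe4dd58), one, (nat_lit 0x20a500fcc609c24f6a87be1396c175c0ea997d36), (.prod [nat_lit 63, nat_lit 68])⟩)
 (.lf ⟨nat_lit 1, nat_lit 48, nat_lit 71, (nat_lit 0x3b6020b1ee99f350ad1583cd87ceba46c32e15ab7), one, one, (.df [nat_lit 3])⟩)))
 (.nd (nat_lit 74) (.nd (nat_lit 73) (.lf ⟨nat_lit 1, nat_lit 71, nat_lit 48, one, (nat_lit 0x3b6020b1ee99f350ad1583cd87ceba46c32e15ab7), one, (.wt (nat_lit 0) (nat_lit 0) (nat_lit 0x3b6020b1ee99f350ad1583cd87ceba46c32e15ab7) (.st (nat_lit 71) [] [] .nil) [] [])⟩)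
 (.lf ⟨nat_lit 1, nat_lit 48, nat_lit 73, (nat_lit 0x125910161e8d6fe6d72746c6acb95732f82b12d8b), one, one, (.df [nat_lit 2, nat_lit 8])⟩))
 (.nd (nat_lit 75) (.lf ⟨nat_lit 1, nat_lit 73, nat_lit 48, one, (nat_lit 0x125910161e8d6fe6d72746c6acb95732f82b12d8b), one, (.wt (nat_lit 0) (nat_lit 0) (nat_lit 0x125910161e8d6fe6d72746c6acb95732f82b12d8b) (.st (nat_lit 73) [] [] .nil) [] [])⟩)
 (.lf ⟨nat_lit 1, nat_lit 73, nat_lit 71, (nat_lit 0x100e0aba0d17c70444d02bf329fd10d7608f1b426), (nat_lit 0x1fcc4265e5f5e8c58e758190706d179ef60cc5dd7), one, (.wt (nat_lit 2) (nat_lit 2) (nat_lit 0xa2ea9a2d0d739cc971a9d423bd96b619a03ddbf2) (.st (nat_lit 72) [nat_lit 4, nat_lit 22] [] (.st (nat_lit 73) [] [] .nil)) [] [])⟩)))))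
 (.nd (nat_lit 84) (.nd (nat_lit 80) (.nd (nat_lit 78) (.nd (nat_lit 77) (.lf ⟨nat_lit 1, nat_lit 71, nat_lit 73, (nat_lit 0x100e0aba0d17c70444d02bf329fd10d7608f1b426), (nat_lit 0x3e9bb5a40ffe36717b19c821828fe8c2a374cf1a2), one, (.wt (nat_lit 0) (nat_lit 0) (nat_lit 0x100e0aba0d17c70444d02bf329fd10d7608f1b426) (.st (nat_lit 75) [] [] .nil) (unp (nat_lit 5) (nat_lit 0x3fe303)) [])⟩)
 (.lf ⟨nat_lit 1, nat_lit 53, nat_lit 77, (nat_lit 0x3b6020b1ee99f350ad1583cd87ceba46c32e15ab7), one, one, (.df [nat_lit 3])⟩))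
 (.nd (nat_lit 79) (.lf ⟨nat_lit 0, nat_lit 77, nat_lit 77, (nat_lit 0x176708afc7d76226519823ab768f79ea6a430c16), one, (nat_lit 0x86ad1ff6a33f145f4194337adc5138ad8c9bdcb7), (.cmp (nat_lit 77) (nat_lit 77) (unp (nat_lit 5) (nat_lit 0x27a303)) [nat_lit 58])⟩)
 (.lf ⟨nat_lit 1, nat_lit 77, nat_lit 53, one, (nat_lit 0x3b6020b1ee99f350ad1583cd87ceba46c32e15ab7), one, (.wt (nat_lit 0) (nat_lit 0) (nat_lit 0x3b6020b1ee99f350ad1583cd87ceba46c32e15ab7) (.st (nat_lit 77) [] [] .nil) [] [])⟩)))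
 (.nd (nat_lit 82) (.nd (nat_lit 81) (.lf ⟨nat_lit 1, nat_lit 53, nat_lit 80, (nat_lit 0xf6d11ea1f2003230c9ae98d7ebf7a100d6421009), one, one, (.df (unp (nat_lit 2) (nat_lit 0x2203)))⟩)
 (.lf ⟨nat_lit 1, nat_lit 80, nat_lit 53, one, (nat_lit 0xf6d11ea1f2003230c9ae98d7ebf7a100d6421009), one, (.wt (nat_lit 0) (nat_lit 0) (nat_lit 0xf6d11ea1f2003230c9ae98d7ebf7a100d6421009) (.st (nat_lit 80) [] [] .nil) [] [])⟩))
 (.nd (nat_lit 83) (.lf ⟨nat_lit 1, nat_lit 80, nat_lit 77, (nat_lit 0x100e0aba0d17c70444d02bf329fd10d7608f1b426), (nat_lit 0x7290265e57c5cadff2ce9cf2c7db2a3381f279b1), (nat_lit 0x1c2dc834c117cc9be475051e9326443f773ad7902), (.wt (nat_lit 2) (nat_lit 2) (nat_lit 0x2a0a9a2d15c2218952a404dbfae086843305090d) (.st (nat_lit 79) (unp (nat_lit 5) (nat_lit 0x57a403)) [] (.st (nat_lit 80) [] [nat_lit 55] .nil)) [] [])⟩)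
 (.lf ⟨nat_lit 1, nat_lit 61, nat_lit 83, (nat_lit 0x3b6020b1ee99f350ad1583cd87ceba46c32e15ab7), one, one, (.df [nat_lit 3])⟩))))
 (.nd (nat_lit 88) (.nd (nat_lit 86) (.nd (nat_lit 85) (.lf ⟨nat_lit 0, nat_lit 83, nat_lit 83, (nat_lit 0x1e09eba24b57d5e67670e7f33d4d71ef2cf14b425), one, (nat_lit 0x371021b1d6048299b2ca6b82df430b7d0cdf7524), (.cmp (nat_lit 83) (nat_lit 83) (unp (nat_lit 5) (nat_lit 0x4bc403)) [nat_lit 68])⟩)
 (.lf ⟨nat_lit 1, nat_lit 83, nat_lit 61, one, (nat_lit 0x3b6020b1ee99f350ad1583cd87ceba46c32e15ab7), one, (.wt (nat_lit 0) (nat_lit 0) (nat_lit 0x3b6020b1ee99f350ad1583cd87ceba46c32e15ab7) (.st (nat_lit 83) [] [] .nil) [] [])⟩))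
 (.nd (nat_lit 87) (.lf ⟨nat_lit 1, nat_lit 61, nat_lit 86, (nat_lit 0xf6d11ea1f2003230c9ae98d7ebf7a100d6421009), one, one, (.df (unp (nat_lit 2) (nat_lit 0x2203)))⟩)
 (.lf ⟨nat_lit 0, nat_lit 86, nat_lit 86, (nat_lit 0x1e71d8df0207a38ad2b5cb84a68c733ee8effccac), one, (nat_lit 0x20a500fcc609c24f6a87be1396c175c0ea997d36), (.cmp (nat_lit 86) (nat_lit 86) (unp (nat_lit 5) (nat_lit 0x1ba303)) [nat_lit 70])⟩)))
 (.nd (nat_lit 90) (.nd (nat_lit 89) (.lf ⟨nat_lit 1, nat_lit 86, nat_lit 83, (nat_lit 0x100e0aba0d17c70444d02bf329fd10d7608f1b426), (nat_lit 0x7290265e57c5cadff2ce9cf2c7db2a3381f279b1), (nat_lit 0x1c2dc834c117cc9be475051e9326443f773ad7902), (.wt (nat_lit 2) (nat_lit 2) (nat_lit 0x2a0a9a2d15c2218952a404dbfae086843305090d) (.st (nat_lit 85) (unp (nat_lit 5) (nat_lit 0x57a403)) [] (.st (nat_lit 86) [] [nat_lit 63] .nil)) [] [])⟩)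
 (.lf ⟨nat_lit 1, nat_lit 83, nat_lit 86, (nat_lit 0x100e0aba0d17c70444d02bf329fd10d7608f1b426), (nat_lit 0x1d9a2fbca274202ca5f359fb70f2deb66082d395e), (nat_lit 0x1785dad8c614509bec4539d29c7547e7773a6c15e), (.wt (nat_lit 0) (nat_lit 0) (nat_lit 0x100e0aba0d17c70444d02bf329fd10d7608f1b426) (.st (nat_lit 88) [] [] .nil) (unp (nat_lit 5) (nat_lit 0x5bc403)) [])⟩))
 (.nd (nat_lit 91) (.lf ⟨nat_lit 1, nat_lit 71, nat_lit 90, (nat_lit 0x3b6020b1ee99f350ad1583cd87ceba46c32e15ab7), one, one, (.df [nat_lit 3])⟩)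
 (.lf ⟨nat_lit 1, nat_lit 90, nat_lit 71, one, (nat_lit 0x3b6020b1ee99f350ad1583cd87ceba46c32e15ab7), one, (.wt (nat_lit 0) (nat_lit 0) (nat_lit 0x3b6020b1ee99f350ad1583cd87ceba46c32e15ab7) (.st (nat_lit 90) [] [] .nil) [] [])⟩))))))
 (.nd (nat_lit 107) (.nd (nat_lit 99) (.nd (nat_lit 95) (.nd (nat_lit 93) (.lf ⟨nat_lit 1, nat_lit 71, nat_lit 92, (nat_lit 0x29d069dd4289881cb0b1977aaf1daee2c113e4bec), one, one, (.df [nat_lit 2])⟩)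
 (.nd (nat_lit 94) (.lf ⟨nat_lit 1, nat_lit 92, nat_lit 71, one, (nat_lit 0x29d069dd4289881cb0b1977aaf1daee2c113e4bec), one, (.wt (nat_lit 0) (nat_lit 0) (nat_lit 0x29d069dd4289881cb0b1977aaf1daee2c113e4bec) (.st (nat_lit 92) [] [] .nil) [] [])⟩)
 (.lf ⟨nat_lit 1, nat_lit 92, nat_lit 71, (nat_lit 0x2ba2cea7bd829f6f53bc17c3f6c7dba59a18cc2c5), (nat_lit 0x1cb0d7507ab2a1ad6c9bec137e42c3c018d023d4d), (nat_lit 0x1297196ed42b6340dca88ed43a53b145041a1d13c), (.wt (nat_lit 6) (nat_lit 2) (nat_lit 0x10e4101f00faf42cdfc15aeb1f6e6b0be4f5696c) (.st (nat_lit 72) (unp (nat_lit 5) (nat_lit 0x3fe303)) [] (.st (nat_lit 51) (unp (nat_lit 5) (nat_lit 0x53c303)) [] (.st (nat_lit 46) (unp (nat_lit 5) (nat_lit 0x4fa403)) [] (.st (nat_lit 36) [nat_lit 31, nat_lit 19] [nat_lit 3, nat_lit 33] (.st (nat_lit 48) [nat_lit 3, nat_lit 13] [nat_lit 37] (.st (nat_lit 71) (unp (nat_lit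 5) (nat_lit 0x53a303)) [] (.st (nat_lit 92) (unp (nat_lit 5) (nat_lit 0x37a303)) [] .nil))))))) (unp (nat_lit 5) (nat_lit 0x3fa403)) [])⟩)))
 (.nd (nat_lit 97) (.nd (nat_lit 96) (.lf ⟨nat_lit 0, nat_lit 92, nat_lit 92, (nat_lit 0xe4ec14e9a160fc505e0b2c71efc21ecb4e09b4b3), one, (nat_lit 0x1297196ed42b6340dca88ed43a53b145041a1d13c), (.we (nat_lit 0) (nat_lit 0) (nat_lit 0x2ba2cea7bd829f6f53bc17c3f6c7dba59a18cc2c5) (.st (nat_lit 94) [] [] (.st (nat_lit 92) (unp (nat_lit 5) (nat_lit 0x5be303)) [] .nil)))⟩)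
 (.lf ⟨nat_lit 1, nat_lit 71, nat_lit 96, (nat_lit 0xf6d11ea1f2003230c9ae98d7ebf7a100d6421009), one, one, (.df (unp (nat_lit 2) (nat_lit 0x2203)))⟩))
 (.nd (nat_lit 98) (.lf ⟨nat_lit 1, nat_lit 71, nat_lit 97, (nat_lit 0x125910161e8d6fe6d72746c6acb95732f82b12d8b), one, one, (.df [nat_lit 2, nat_lit 8])⟩)
 (.lf ⟨nat_lit 1, nat_lit 97, nat_lit 71, one, (nat_lit 0x125910161e8d6fe6d72746c6acb95732f82b12d8b), one, (.wt (nat_lit 0) (nat_lit 0) (nat_lit 0x125910161e8d6fe6d72746c6acb95732f82b12d8b) (.st (nat_lit 97) [] [] .nil) [] [])⟩))))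
 (.nd (nat_lit 103) (.nd (nat_lit 101) (.nd (nat_lit 100) (.lf ⟨nat_lit 1, nat_lit 97, nat_lit 90, (nat_lit 0x100e0aba0d17c70444d02bf329fd10d7608f1b426), (nat_lit 0x1fcc4265e5f5e8c58e758190706d179ef60cc5dd7), one, (.wt (nat_lit 2) (nat_lit 2) (nat_lit 0xa2ea9a2d0d739cc971a9d423bd96b619a03ddbf2) (.st (nat_lit 91) [nat_lit 4, nat_lit 22] [] (.st (nat_lit 97) [] [] .nil)) [] [])⟩)
 (.lf ⟨nat_lit 1, nat_lit 90, nat_lit 97, (nat_lit 0x100e0aba0d17c70444d02bf329fd10d7608f1b426), (nat_lit 0x3e9bb5a40ffe36717b19c821828fe8c2a374cf1a2), one, (.wt (nat_lit 0) (nat_lit 0) (nat_lit 0x100e0aba0d17c70444d02bf329fd10d7608f1b426) (.st (nat_lit 99) [] [] .nil) (unp (nat_lit 5) (nat_lit 0x3fe303)) [])⟩))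
 (.nd (nat_lit 102) (.lf ⟨nat_lit 1, nat_lit 71, nat_lit 101, (nat_lit 0x1fce42ed966b34fae64312a96f69e1eea7db1de4), one, one, (.df [nat_lit 8])⟩)
 (.lf ⟨nat_lit 1, nat_lit 101, nat_lit 71, one, (nat_lit 0x1fce42ed966b34fae64312a96f69e1eea7db1de4), one, (.wt (nat_lit 0) (nat_lit 0) (nat_lit 0x1fce42ed966b34fae64312a96f69e1eea7db1de4) (.st (nat_lit 101) [] [] .nil) [] [])⟩)))
 (.nd (nat_lit 105) (.nd (nat_lit 104) (.lf ⟨nat_lit 1, nat_lit 71, nat_lit 103, (nat_lit 0x2ba2cea7bd829f6f53bc17c3f6c7dba59a18cc2c5), one, one, (.df [nat_lit 2, nat_lit 0])⟩)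
 (.lf ⟨nat_lit 1, nat_lit 103, nat_lit 71, one, (nat_lit 0x2ba2cea7bd829f6f53bc17c3f6c7dba59a18cc2c5), one, (.wt (nat_lit 0) (nat_lit 0) (nat_lit 0x2ba2cea7bd829f6f53bc17c3f6c7dba59a18cc2c5) (.st (nat_lit 103) [] [] .nil) [] [])⟩))
 (.nd (nat_lit 106) (.lf ⟨nat_lit 1, nat_lit 103, nat_lit 92, (nat_lit 0x100e0aba0d17c70444d02bf329fd10d7608f1b426), (nat_lit 0x100e0aba0d17c70444d02bf329fd10d7608f1b426), one, (.wt (nat_lit 2) (nat_lit 2) one (.st (nat_lit 93) [] [] (.st (nat_lit 103) [] [] .nil)) [] [])⟩)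
 (.lf ⟨nat_lit 1, nat_lit 92, nat_lit 103, (nat_lit 0x100e0aba0d17c70444d02bf329fd10d7608f1b426), (nat_lit 0x100e0aba0d17c70444d02bf329fd10d7608f1b426), one, (.wt (nat_lit 0) (nat_lit 0) (nat_lit 0x100e0aba0d17c70444d02bf329fd10d7608f1b426) (.st (nat_lit 105) [] [] .nil) [] [])⟩)))))
 (.nd (nat_lit 115) (.nd (nat_lit 111) (.nd (nat_lit 109) (.nd (nat_lit 108) (.lf ⟨nat_lit 1, nat_lit 103, nat_lit 92, (nat_lit 0x2ba2cea7bd829f6f53bc17c3f6c7dba59a18cc2c5), (nat_lit 0x135d35f73d915d80fd0c325129798879b428eeadb), (nat_lit 0x9804a5765266ab55a26058f43224121f97935816), (.wt (nat_lit 6) (nat_lit 2) (nat_lit 0x1f8320ad3aea785712667a8c81a544e65b1ce2c9f) (.st (nat_lit 93) [nat_lit 3, nat_lit 13] [] (.st (nat_lit 72) (unp (nat_lit 5) (nat_lit 0x53a303)) [] (.st (nat_lit 51) (unp (nat_lit 5) (nat_lit 0x47a303)) [] (.st (nat_lit 47) (unp (nat_lit 5) (nat_lit 0x2fa403))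 [] (.st (nat_lit 48) (unp (nat_lit 5) (nat_lit 0x1be403)) [nat_lit 40] (.st (nat_lit 71) (unp (nat_lit 5) (nat_lit 0x4fe303)) [nat_lit 50] (.st (nat_lit 103) (unp (nat_lit 5) (nat_lit 0x37a303)) [] .nil))))))) (unp (nat_lit 5) (nat_lit 0x3fa403)) [])⟩)
 (.lf ⟨nat_lit 0, nat_lit 103, nat_lit 103, (nat_lit 0x1cd859d3a253deebde548cf608ea6261d0fe4dd58), one, (nat_lit 0x400f33bb13c64ca5ecd24b2a7a1d72a627c529a7), (.we (nat_lit 0) (nat_lit 0) (nat_lit 0x2ba2cea7bd829f6f53bc17c3f6c7dba59a18cc2c5) (.st (nat_lit 107) [] [] (.st (nat_lit 106) (unp (nat_lit 5) (nat_lit 0x5bc303)) [nat_lit 95] .nil)))⟩))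
 (.nd (nat_lit 110) (.lf ⟨nat_lit 1, nat_lit 73, nat_lit 109, (nat_lit 0xf6d11ea1f2003230c9ae98d7ebf7a100d6421009), one, one, (.df (unp (nat_lit 2) (nat_lit 0x2203)))⟩)
 (.lf ⟨nat_lit 1, nat_lit 109, nat_lit 73, one, (nat_lit 0xf6d11ea1f2003230c9ae98d7ebf7a100d6421009), one, (.wt (nat_lit 0) (nat_lit 0) (nat_lit 0xf6d11ea1f2003230c9ae98d7ebf7a100d6421009) (.st (nat_lit 109) [] [] .nil) [] [])⟩)))
 (.nd (nat_lit 113) (.nd (nat_lit 112) (.lf ⟨nat_lit 1, nat_lit 73, nat_lit 111, (nat_lit 0x1fce42ed966b34fae64312a96f69e1eea7db1de4), one, one, (.df [nat_lit 8])⟩)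
 (.lf ⟨nat_lit 1, nat_lit 111, nat_lit 73, one, (nat_lit 0x1fce42ed966b34fae64312a96f69e1eea7db1de4), one, (.wt (nat_lit 0) (nat_lit 0) (nat_lit 0x1fce42ed966b34fae64312a96f69e1eea7db1de4) (.st (nat_lit 111) [] [] .nil) [] [])⟩))
 (.nd (nat_lit 114) (.lf ⟨nat_lit 1, nat_lit 73, nat_lit 113, (nat_lit 0x9a472e71a6030c6693ace0c7e5978349d74b3855), one, one, (.df [nat_lit 8, nat_lit 0])⟩)
 (.lf ⟨nat_lit 1, nat_lit 113, nat_lit 73, one, (nat_lit 0x9a472e71a6030c6693ace0c7e5978349d74b3855), one, (.wt (nat_lit 0) (nat_lit 0) (nat_lit 0x9a472e71a6030c6693ace0c7e5978349d74b3855) (.st (nat_lit 113) [] [] .nil) [] [])⟩))))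
 (.nd (nat_lit 119) (.nd (nat_lit 117) (.nd (nat_lit 116) (.lf ⟨nat_lit 1, nat_lit 113, nat_lit 111, (nat_lit 0x100e0aba0d17c70444d02bf329fd10d7608f1b426), (nat_lit 0x1b94dc9a9f5dafe6001e2ccbef9b1bb06e7ad4c94), one, (.wt (nat_lit 2) (nat_lit 2) (nat_lit 0x1be19238427c315eec4e063d6ba4a62fe4d8a67fd) (.st (nat_lit 112) [nat_lit 4, nat_lit 16] [] (.st (nat_lit 113) [] [] .nil)) [] [])⟩)
 (.lf ⟨nat_lit 1, nat_lit 111, nat_lit 113, (nat_lit 0x100e0aba0d17c70444d02bf329fd10d7608f1b426), (nat_lit 0x1b94dc9a9f5dafe6001e2ccbef9b1bb06e7ad4c94), one, (.wt (nat_lit 0) (nat_lit 0) (nat_lit 0x100e0aba0d17c70444d02bf329fd10d7608f1b426) (.st (nat_lit 115) [] [] .nil) (unp (nat_lit 5) (nat_lit 0x37e403)) [])⟩))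
 (.nd (nat_lit 118) (.lf ⟨nat_lit 1, nat_lit 77, nat_lit 117, (nat_lit 0xf6d11ea1f2003230c9ae98d7ebf7a100d6421009), one, one, (.df (unp (nat_lit 2) (nat_lit 0x2203)))⟩)
 (.lf ⟨nat_lit 1, nat_lit 117, nat_lit 77, one, (nat_lit 0xf6d11ea1f2003230c9ae98d7ebf7a100d6421009), one, (.wt (nat_lit 0) (nat_lit 0) (nat_lit 0xf6d11ea1f2003230c9ae98d7ebf7a100d6421009) (.st (nat_lit 117) [] [] .nil) [] [])⟩)))
 (.nd (nat_lit 121) (.nd (nat_lit 120) (.lf ⟨nat_lit 1, nat_lit 117, nat_lit 90, (nat_lit 0x1fce42ed966b34fae64312a96f69e1eea7db1de4), (nat_lit 0x1be466463c02e9d74a4842901280a1156cf698dee), (nat_lit 0x1f6f9326d7c60ac923c68395ac37828e7fccc4b30), (.wt (nat_lit 6) (nat_lit 3) (nat_lit 0x3c6d1cdf43d874bde01eb181764d780260f0c80e) (.st (nat_lit 91) (unp (nat_lit 5) (nat_lit 0x4be303)) [] (.st (nat_lit 72) (unp (nat_lit 5) (nat_lit 0x4fa303)) [] (.st (nat_lit 51)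 (unp (nat_lit 5) (nat_lit 0x4fa403)) [] (.st (nat_lit 48) (unp (nat_lit 5) (nat_lit 0x57a303)) [nat_lit 38] (.st (nat_lit 53) (unp (nat_lit 5) (nat_lit 0x53c403)) [] (.st (nat_lit 77) [nat_lit 4, nat_lit 31] [nat_lit 54] (.st (nat_lit 117) [nat_lit 31, nat_lit 14] [] .nil))))))) (unp (nat_lit 5) (nat_lit 0x57c303)) [])⟩)
 (.lf ⟨nat_lit 1, nat_lit 90, nat_lit 117, (nat_lit 0x2ba2cea7bd829f6f53bc17c3f6c7dba59a18cc2c5), (nat_lit 0x2952f494050d83ff7deb394384791d1fdd6275878), (nat_lit 0xc8efb732b8cc6ed92274a9811f93637b14129ef5), (.wt (nat_lit 0) (nat_lit 0) (nat_lit 0x1fce42ed966b34fae64312a96f69e1eea7db1de4) (.st (nat_lit 119) [] [] .nil) [nat_lit 3, nat_lit 22] [])⟩))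
 (.nd (nat_lit 122) (.lf ⟨nat_lit 1, nat_lit 77, nat_lit 121, (nat_lit 0x125910161e8d6fe6d72746c6acb95732f82b12d8b), one, one, (.df [nat_lit 2, nat_lit 8])⟩)
 (.lf ⟨nat_lit 1, nat_lit 121, nat_lit 77, one, (nat_lit 0x125910161e8d6fe6d72746c6acb95732f82b12d8b), one, (.wt (nat_lit 0) (nat_lit 0) (nat_lit 0x125910161e8d6fe6d72746c6acb95732f82b12d8b) (.st (nat_lit 121) [] [] .nil) [] [])⟩)))))))

noncomputable def T3_123 : Tr :=
  (.nd (nat_lit 153) (.nd (nat_lit 138) (.nd (nat_lit 130) (.nd (nat_lit 126) (.nd (nat_lit 124) (.lf ⟨nat_lit 1, nat_lit 80, nat_lit 123, (nat_lit 0x3b6020b1ee99f350ad1583cd87ceba46c32e15ab7), one, one, (.df [nat_lit 3])⟩)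
 (.nd (nat_lit 125) (.lf ⟨nat_lit 1, nat_lit 123, nat_lit 80, one, (nat_lit 0x3b6020b1ee99f350ad1583cd87ceba46c32e15ab7), one, (.wt (nat_lit 0) (nat_lit 0) (nat_lit 0x3b6020b1ee99f350ad1583cd87ceba46c32e15ab7) (.st (nat_lit 123) [] [] .nil) [] [])⟩)
 (.lf ⟨nat_lit 1, nat_lit 80, nat_lit 125, (nat_lit 0x125910161e8d6fe6d72746c6acb95732f82b12d8b), one, one, (.df [nat_lit 2, nat_lit 8])⟩)))
 (.nd (nat_lit 128) (.nd (nat_lit 127) (.lf ⟨nat_lit 1, nat_lit 125, nat_lit 80, one, (nat_lit 0x125910161e8d6fe6d72746c6acb95732f82b12d8b), one, (.wt (nat_lit 0) (nat_lit 0) (nat_lit 0x125910161e8d6fe6d72746c6acb95732f82b12d8b) (.st (nat_lit 125) [] [] .nil) [] [])⟩)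
 (.lf ⟨nat_lit 1, nat_lit 83, nat_lit 127, (nat_lit 0x125910161e8d6fe6d72746c6acb95732f82b12d8b), one, one, (.df [nat_lit 2, nat_lit 8])⟩))
 (.nd (nat_lit 129) (.lf ⟨nat_lit 1, nat_lit 127, nat_lit 83, one, (nat_lit 0x125910161e8d6fe6d72746c6acb95732f82b12d8b), one, (.wt (nat_lit 0) (nat_lit 0) (nat_lit 0x125910161e8d6fe6d72746c6acb95732f82b12d8b) (.st (nat_lit 127) [] [] .nil) [] [])⟩)
 (.lf ⟨nat_lit 1, nat_lit 127, nat_lit 101, (nat_lit 0x3b6020b1ee99f350ad1583cd87ceba46c32e15ab7), (nat_lit 0x2f3f71741ae678e080ab417cadf91f163e5ab8cd5), (nat_lit 0x251847ffc1a597daa233038aaf35ee44972a56658), (.wt (nat_lit 6) (nat_lit 2) (nat_lit 0x1a056076eb8876c45ca57dc9ea432ffa8ca214e99) (.st (nat_lit 102) (unp (nat_lit 5) (nat_lit 0x4ba403)) [] (.st (nat_lit 72) [nat_lit 3, nat_lit 31] [] (.st (nat_lit 51) [nat_lit 29, nat_lit 17] [] (.st (nat_lit 48) (unp (nat_lit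 5) (nat_lit 0x23e303)) [nat_lit 45, nat_lit 38] (.st (nat_lit 61) [nat_lit 29, nat_lit 17] [] (.st (nat_lit 83) [nat_lit 4, nat_lit 31] [nat_lit 63] (.st (nat_lit 127) [nat_lit 3, nat_lit 14] [nat_lit 84] .nil))))))) (unp (nat_lit 5) (nat_lit 0x4fe303)) [])⟩))))
 (.nd (nat_lit 134) (.nd (nat_lit 132) (.nd (nat_lit 131) (.lf ⟨nat_lit 1, nat_lit 101, nat_lit 127, (nat_lit 0x125910161e8d6fe6d72746c6acb95732f82b12d8b), (nat_lit 0x278e8c7107676ddb3a578e22c35f0b94ebd4c17a5), (nat_lit 0x274f27ac7d9841d3cd5fa2cc96a55de263a1d5ae7), (.wt (nat_lit 0) (nat_lit 0) (nat_lit 0x3b6020b1ee99f350ad1583cd87ceba46c32e15ab7) (.st (nat_lit 129) [] [] .nil) [nat_lit 29] [])⟩)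
 (.lf ⟨nat_lit 1, nat_lit 86, nat_lit 131, (nat_lit 0x3b6020b1ee99f350ad1583cd87ceba46c32e15ab7), one, one, (.df [nat_lit 3])⟩))
 (.nd (nat_lit 133) (.lf ⟨nat_lit 1, nat_lit 131, nat_lit 97, (nat_lit 0xf6d11ea1f2003230c9ae98d7ebf7a100d6421009), (nat_lit 0xd2d4793b8dc89d07d6e227b82cc2e94ae10253a8), (nat_lit 0x200d102c9eb32a3f0e7902b3f06d5e6f5d023808c), (.wt (nat_lit 5) (nat_lit 2) (nat_lit 0x3297108fa1c2c366063a7d672d521706ed744252a) (.st (nat_lit 98) (unp (nat_lit 5) (nat_lit 0x53a303)) [] (.st (nat_lit 72) (unp (nat_lit 5) (nat_lit 0x4ba303)) [] (.st (nat_lit 52) (unp (nat_lit 5) (nat_lit 0x37a403)) [] (.st (nat_lit 71) [nat_lit 30, nat_lit 21] [nat_lit 50] (.st (nat_lit 101) [nat_lit 4, nat_lit 12] [] (.st (nat_lit 130) [nat_lit 3, nat_lit 21] [] (.st (nat_lit 128) (unp (nat_lit 5) (nat_lit 0x3fa303)) [] (.st (nat_lit 89) (unp (nat_lit 5) (nat_lit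 0x3ba403)) [] (.st (nat_lit 131) (unp (nat_lit 5) (nat_lit 0x1ba403)) [] .nil))))))))) [nat_lit 31, nat_lit 21] [])⟩)
 (.lf ⟨nat_lit 1, nat_lit 90, nat_lit 133, (nat_lit 0x3b6020b1ee99f350ad1583cd87ceba46c32e15ab7), one, one, (.df [nat_lit 3])⟩)))
 (.nd (nat_lit 136) (.nd (nat_lit 135) (.lf ⟨nat_lit 1, nat_lit 133, nat_lit 90, one, (nat_lit 0x3b6020b1ee99f350ad1583cd87ceba46c32e15ab7), one, (.wt (nat_lit 0) (nat_lit 0) (nat_lit 0x3b6020b1ee99f350ad1583cd87ceba46c32e15ab7) (.st (nat_lit 133) [] [] .nil) [] [])⟩)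
 (.lf ⟨nat_lit 1, nat_lit 133, nat_lit 90, (nat_lit 0x2ba2cea7bd829f6f53bc17c3f6c7dba59a18cc2c5), (nat_lit 0x28c19976252a965e6162370e927108ec8873445bb), (nat_lit 0x20a500fcc609c24f6a87be1396c175c0ea997d36), (.wt (nat_lit 6) (nat_lit 2) (nat_lit 0x1068021735a812cd94a2938fabc00e5708bb7b2cc) (.st (nat_lit 91) (unp (nat_lit 5) (nat_lit 0x3fa303)) [] (.st (nat_lit 72) (unp (nat_lit 5) (nat_lit 0x2fa403)) [] (.st (nat_lit 61) (unp (nat_lit 5) (nat_lit 0x27a303)) [] (.st (nat_lit 64) (unp (nat_lit 5) (nat_lit 0x23e403)) [nat_lit 68] (.st (nat_lit 71) [nat_lit 4, nat_lit 18] [nat_lit 49] (.st (nat_lit 90) [nat_lit 3, nat_lit 15] [] (.st (nat_lit 133) (unp (nat_lit 5) (nat_lit 0x37e303)) [] .nil))))))) (unp (nat_lit 5) (nat_lit 0x37a303)) [])⟩))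
 (.nd (nat_lit 137) (.lf ⟨nat_lit 0, nat_lit 133, nat_lit 133, (nat_lit 0xfb4c3514b7623efe86cffbf3bfa72307c08ef90e), one, (nat_lit 0x20a500fcc609c24f6a87be1396c175c0ea997d36), (.we (nat_lit 0) (nat_lit 0) (nat_lit 0x2ba2cea7bd829f6f53bc17c3f6c7dba59a18cc2c5) (.st (nat_lit 135) [] [] (.st (nat_lit 133) [nat_lit 3, nat_lit 30] [] .nil)))⟩)
 (.lf ⟨nat_lit 1, nat_lit 90, nat_lit 137, (nat_lit 0x29d069dd4289881cb0b1977aaf1daee2c113e4bec), one, one, (.df [nat_lit 2])⟩)))))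
 (.nd (nat_lit 145) (.nd (nat_lit 141) (.nd (nat_lit 139) (.lf ⟨nat_lit 1, nat_lit 137, nat_lit 109, (nat_lit 0x2ba2cea7bd829f6f53bc17c3f6c7dba59a18cc2c5), (nat_lit 0x1384b4effe27a81df3b030a9aa588c63478f8f863), (nat_lit 0x129cd119da7a00e970b7d2071ff55af8efdcbc85), (.wt (nat_lit 5) (nat_lit 2) (nat_lit 0x14a9b96ed7486a2eda3904237e423a5e6e74930c2) (.st (nat_lit 110) [nat_lit 29, nat_lit 22] [] (.st (nat_lit 74) (unp (nat_lit 5) (nat_lit 0x33c303)) [] (.st (nat_lit 52) [nat_lit 3, nat_lit 9] [] (.st (nat_lit 61) [nat_lit 29, nat_lit 16] [] (.st (nat_lit 86) (unp (nat_lit 5) (nat_lit 0x1ba303)) [nat_lit 62] (.st (nat_lit 131) [nat_lit 4, nat_lit 30] [nat_lit 87] (.st (nat_lit 132) [nat_lit 31, nat_lit 18] [] (.st (nat_lit 99) [nat_lit 3, nat_lit 16] [] (.st (nat_lit 137) (unp (nat_lit 5) (nat_lit 0x3ba303)) [] .nil))))))))) (unp (nat_lit 5) (nat_lit 0x47a403))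 [])⟩)
 (.nd (nat_lit 140) (.lf ⟨nat_lit 1, nat_lit 90, nat_lit 139, (nat_lit 0x125910161e8d6fe6d72746c6acb95732f82b12d8b), one, one, (.df [nat_lit 2, nat_lit 8])⟩)
 (.lf ⟨nat_lit 1, nat_lit 139, nat_lit 90, one, (nat_lit 0x125910161e8d6fe6d72746c6acb95732f82b12d8b), one, (.wt (nat_lit 0) (nat_lit 0) (nat_lit 0x125910161e8d6fe6d72746c6acb95732f82b12d8b) (.st (nat_lit 139) [] [] .nil) [] [])⟩)))
 (.nd (nat_lit 143) (.nd (nat_lit 142) (.lf ⟨nat_lit 1, nat_lit 139, nat_lit 133, (nat_lit 0x100e0aba0d17c70444d02bf329fd10d7608f1b426), (nat_lit 0x1fcc4265e5f5e8c58e758190706d179ef60cc5dd7), one, (.wt (nat_lit 2) (nat_lit 2) (nat_lit 0xa2ea9a2d0d739cc971a9d423bd96b619a03ddbf2) (.st (nat_lit 134) [nat_lit 4, nat_lit 22] [] (.st (nat_lit 139) [] [] .nil)) [] [])⟩)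
 (.lf ⟨nat_lit 1, nat_lit 133, nat_lit 139, (nat_lit 0x100e0aba0d17c70444d02bf329fd10d7608f1b426), (nat_lit 0x3e9bb5a40ffe36717b19c821828fe8c2a374cf1a2), one, (.wt (nat_lit 0) (nat_lit 0) (nat_lit 0x100e0aba0d17c70444d02bf329fd10d7608f1b426) (.st (nat_lit 141) [] [] .nil) (unp (nat_lit 5) (nat_lit 0x3fe303)) [])⟩))
 (.nd (nat_lit 144) (.lf ⟨nat_lit 1, nat_lit 139, nat_lit 123, (nat_lit 0x29d069dd4289881cb0b1977aaf1daee2c113e4bec), (nat_lit 0x19cebc1c48c12ac69b7a0a9292e438d8984151ce3), (nat_lit 0x74fe6b5db56fe18d587e771ef5faa1dee933f78e), (.wt (nat_lit 6) (nat_lit 3) (nat_lit 0x2872bd6a2e60bac58e2c3d88ec2998c5f4b10c8d) (.st (nat_lit 124) (unp (nat_lit 5) (nat_lit 0x4bc303)) [] (.st (nat_lit 81) [] [] (.st (nat_lit 66) (unp (nat_lit 5) (nat_lit 0x2fc303)) [nat_lit 60] (.st (nat_lit 64) (unp (nat_lit 5) (nat_lit 0x1bc403)) [nat_lit 68] (.st (nat_lit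 71) [nat_lit 4, nat_lit 21] [nat_lit 49] (.st (nat_lit 90) [nat_lit 3, nat_lit 19] [] (.st (nat_lit 139) (unp (nat_lit 5) (nat_lit 0x3be303)) [] .nil))))))) (unp (nat_lit 5) (nat_lit 0x2fa303)) [])⟩)
 (.lf ⟨nat_lit 1, nat_lit 90, nat_lit 144, (nat_lit 0x1fce42ed966b34fae64312a96f69e1eea7db1de4), one, one, (.df [nat_lit 8])⟩))))
 (.nd (nat_lit 149) (.nd (nat_lit 147) (.nd (nat_lit 146) (.lf ⟨nat_lit 1, nat_lit 90, nat_lit 145, (nat_lit 0x9a472e71a6030c6693ace0c7e5978349d74b3855), one, one, (.df [nat_lit 8, nat_lit 0])⟩)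
 (.lf ⟨nat_lit 1, nat_lit 92, nat_lit 146, (nat_lit 0x3b6020b1ee99f350ad1583cd87ceba46c32e15ab7), one, one, (.df [nat_lit 3])⟩))
 (.nd (nat_lit 148) (.lf ⟨nat_lit 1, nat_lit 146, nat_lit 92, one, (nat_lit 0x3b6020b1ee99f350ad1583cd87ceba46c32e15ab7), one, (.wt (nat_lit 0) (nat_lit 0) (nat_lit 0x3b6020b1ee99f350ad1583cd87ceba46c32e15ab7) (.st (nat_lit 146) [] [] .nil) [] [])⟩)
 (.lf ⟨nat_lit 1, nat_lit 96, nat_lit 148, (nat_lit 0x9a472e71a6030c6693ace0c7e5978349d74b3855), one, one, (.df [nat_lit 8, nat_lit 0])⟩)))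
 (.nd (nat_lit 151) (.nd (nat_lit 150) (.lf ⟨nat_lit 1, nat_lit 97, nat_lit 149, (nat_lit 0xf6d11ea1f2003230c9ae98d7ebf7a100d6421009), one, one, (.df (unp (nat_lit 2) (nat_lit 0x2203)))⟩)
 (.lf ⟨nat_lit 1, nat_lit 97, nat_lit 150, (nat_lit 0x125910161e8d6fe6d72746c6acb95732f82b12d8b), one, one, (.df [nat_lit 2, nat_lit 8])⟩))
 (.nd (nat_lit 152) (.lf ⟨nat_lit 1, nat_lit 150, nat_lit 113, (nat_lit 0x2ba2cea7bd829f6f53bc17c3f6c7dba59a18cc2c5), (nat_lit 0x208447c8b5acf30404b578dc49888c4b371a1848e), (nat_lit 0x20a500fcc609c24f6a87be1396c175c0ea997d36), (.wt (nat_lit 6) (nat_lit 2) (nat_lit 0x32c6b7675abdd4fda8ec8a90d5c6b67f47f2ef99) (.st (nat_lit 114) (unp (nat_lit 5) (nat_lit 0x4fc403)) [] (.st (nat_lit 75) (unp (nat_lit 5) (nat_lit 0x23a303)) [] (.st (nat_lit 90) [nat_lit 3, nat_lit 18] [] (.st (nat_lit 133) (unp (nat_lit 5) (nat_lit 0x3fe303)) [] (.st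 (nat_lit 134) (unp (nat_lit 5) (nat_lit 0x4be303)) [nat_lit 136] (.st (nat_lit 100) (unp (nat_lit 5) (nat_lit 0x4fa303)) [] (.st (nat_lit 150) (unp (nat_lit 5) (nat_lit 0x37e303)) [] .nil))))))) (unp (nat_lit 5) (nat_lit 0x37a303)) [])⟩)
 (.lf ⟨nat_lit 1, nat_lit 97, nat_lit 152, (nat_lit 0x9a472e71a6030c6693ace0c7e5978349d74b3855), one, one, (.df [nat_lit 8, nat_lit 0])⟩))))))
 (.nd (nat_lit 168) (.nd (nat_lit 160) (.nd (nat_lit 156) (.nd (nat_lit 154) (.lf ⟨nat_lit 1, nat_lit 101, nat_lit 153, (nat_lit 0x2ba2cea7bd829f6f53bc17c3f6c7dba59a18cc2c5), one, one, (.df [nat_lit 2, nat_lit 0])⟩)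
 (.nd (nat_lit 155) (.lf ⟨nat_lit 1, nat_lit 109, nat_lit 154, (nat_lit 0x125910161e8d6fe6d72746c6acb95732f82b12d8b), one, one, (.df [nat_lit 2, nat_lit 8])⟩)
 (.lf ⟨nat_lit 1, nat_lit 154, nat_lit 109, one, (nat_lit 0x125910161e8d6fe6d72746c6acb95732f82b12d8b), one, (.wt (nat_lit 0) (nat_lit 0) (nat_lit 0x125910161e8d6fe6d72746c6acb95732f82b12d8b) (.st (nat_lit 154) [] [] .nil) [] [])⟩)))
 (.nd (nat_lit 158) (.nd (nat_lit 157) (.lf ⟨nat_lit 1, nat_lit 111, nat_lit 156, (nat_lit 0x9a472e71a6030c6693ace0c7e5978349d74b3855), one, one, (.df [nat_lit 8, nat_lit 0])⟩)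
 (.lf ⟨nat_lit 1, nat_lit 156, nat_lit 111, one, (nat_lit 0x9a472e71a6030c6693ace0c7e5978349d74b3855), one, (.wt (nat_lit 0) (nat_lit 0) (nat_lit 0x9a472e71a6030c6693ace0c7e5978349d74b3855) (.st (nat_lit 156) [] [] .nil) [] [])⟩))
 (.nd (nat_lit 159) (.lf ⟨nat_lit 1, nat_lit 156, nat_lit 111, (nat_lit 0x1fce42ed966b34fae64312a96f69e1eea7db1de4), (nat_lit 0x187e6a62ff2aac0ff9cc4f9521c1d30a98a5acdd6), (nat_lit 0x20a500fcc609c24f6a87be1396c175c0ea997d36), (.wt (nat_lit 6) (nat_lit 2) (nat_lit 0xcf6c238431296858381ed13a54f36fddaf7bedeb) (.st (nat_lit 112) (unp (nat_lit 5) (nat_lit 0x4bc403)) [] (.st (nat_lit 74) (unp (nat_lit 5) (nat_lit 0x4fc403)) [] (.st (nat_lit 61) (unp (nat_lit 5) (nat_lit 0x23a303)) [] (.st (nat_lit 64) [nat_lit 4, nat_lit 31] [nat_lit 68] (.st (nat_lit 73) [nat_lit 30, nat_lit 9] [nat_lit 49] (.st (nat_lit 111) [nat_lit 31, nat_lit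 9] [] (.st (nat_lit 156) [nat_lit 29, nat_lit 9] [] .nil))))))) [nat_lit 29, nat_lit 9] [])⟩)
 (.lf ⟨nat_lit 0, nat_lit 156, nat_lit 156, (nat_lit 0xd31a0ab1235dc864e19dacb8819606e2857f118b), one, (nat_lit 0x20a500fcc609c24f6a87be1396c175c0ea997d36), (.we (nat_lit 0) (nat_lit 0) (nat_lit 0x1fce42ed966b34fae64312a96f69e1eea7db1de4) (.st (nat_lit 158) [] [] (.st (nat_lit 156) (unp (nat_lit 5) (nat_lit 0x3fa403)) [] .nil)))⟩))))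
 (.nd (nat_lit 164) (.nd (nat_lit 162) (.nd (nat_lit 161) (.lf ⟨nat_lit 1, nat_lit 113, nat_lit 160, (nat_lit 0x9a472e71a6030c6693ace0c7e5978349d74b3855), one, one, (.df [nat_lit 8, nat_lit 0])⟩)
 (.lf ⟨nat_lit 1, nat_lit 160, nat_lit 150, (nat_lit 0x100e0aba0d17c70444d02bf329fd10d7608f1b426), (nat_lit 0x62002894500068041b0102000200061001c30104), (nat_lit 0x20a500fcc609c24f6a87be1396c175c0ea997d36), (.wt (nat_lit 2) (nat_lit 2) (nat_lit 0x3b253af63b3bbc54a2feb0b329fcb2f2011af79e0) (.st (nat_lit 151) [nat_lit 30, nat_lit 12] [] (.st (nat_lit 160) [] [] .nil)) [] [])⟩))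
 (.nd (nat_lit 163) (.lf ⟨nat_lit 1, nat_lit 150, nat_lit 160, (nat_lit 0x29d069dd4289881cb0b1977aaf1daee2c113e4bec), (nat_lit 0x24289ef07356fc9193c376ad1f779f805067acaac), (nat_lit 0x20a500fcc609c24f6a87be1396c175c0ea997d36), (.wt (nat_lit 0) (nat_lit 0) (nat_lit 0x100e0aba0d17c70444d02bf329fd10d7608f1b426) (.st (nat_lit 161) [] [] .nil) [nat_lit 4, nat_lit 31] [])⟩)
 (.lf ⟨nat_lit 1, nat_lit 160, nat_lit 125, (nat_lit 0x1fce42ed966b34fae64312a96f69e1eea7db1de4), (nat_lit 0x3fc2fd94e4a294ca5fd8e69f390f8f1574cc34993), (nat_lit 0x74fe6b5db56fe18d587e771ef5faa1dee933f78e), (.wt (nat_lit 5) (nat_lit 2) (nat_lit 0x82886d5ea4d2cd2749e3e155e73a5591936e427) (.st (nat_lit 126) (unp (nat_lit 5) (nat_lit 0x37c303)) [] (.st (nat_lit 81) [nat_lit 3, nat_lit 9] [] (.st (nat_lit 56) (unp (nat_lit 5) (nat_lit 0x37c403)) [nat_lit 58] (.st (nat_lit 73) [nat_lit 31,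 nat_lit 8] [nat_lit 49] (.st (nat_lit 111) [nat_lit 30, nat_lit 6] [] (.st (nat_lit 156) [nat_lit 31, nat_lit 9] [] (.st (nat_lit 157) (unp (nat_lit 5) (nat_lit 0x2fc403)) [nat_lit 159] (.st (nat_lit 116) (unp (nat_lit 5) (nat_lit 0x23e303)) [] (.st (nat_lit 160) [nat_lit 29, nat_lit 8] [] .nil))))))))) [nat_lit 29, nat_lit 6] [])⟩)))
 (.nd (nat_lit 166) (.nd (nat_lit 165) (.lf ⟨nat_lit 1, nat_lit 117, nat_lit 164, (nat_lit 0x3b6020b1ee99f350ad1583cd87ceba46c32e15ab7), one, one, (.df [nat_lit 3])⟩)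
 (.lf ⟨nat_lit 1, nat_lit 164, nat_lit 146, (nat_lit 0x9a472e71a6030c6693ace0c7e5978349d74b3855), (nat_lit 0x70c395c028efee21b49127639cb326e96e4047c6), (nat_lit 0x86ad1ff6a33f145f4194337adc5138ad8c9bdcb7), (.wt (nat_lit 6) (nat_lit 3) (nat_lit 0x2d8929701647e2080f939d0b51a1552e66886100) (.st (nat_lit 147) (unp (nat_lit 5) (nat_lit 0x5be303)) [] (.st (nat_lit 93) [nat_lit 4] [] (.st (nat_lit 72) [nat_lit 4, nat_lit 31] [] (.st (nat_lit 53) [nat_lit 17] [] (.st (nat_lit 77) [nat_lit 30, nat_lit 17] [] (.st (nat_lit 117) [nat_lit 3, nat_lit 22] [nat_lit 78] (.st (nat_lit 164) [nat_lit 30, nat_lit 11] [] .nil))))))) [nat_lit 22] [])⟩))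
 (.nd (nat_lit 167) (.lf ⟨nat_lit 1, nat_lit 121, nat_lit 166, (nat_lit 0x125910161e8d6fe6d72746c6acb95732f82b12d8b), one, one, (.df [nat_lit 2, nat_lit 8])⟩)
 (.lf ⟨nat_lit 1, nat_lit 166, nat_lit 121, one, (nat_lit 0x125910161e8d6fe6d72746c6acb95732f82b12d8b), one, (.wt (nat_lit 0) (nat_lit 0) (nat_lit 0x125910161e8d6fe6d72746c6acb95732f82b12d8b) (.st (nat_lit 166) [] [] .nil) [] [])⟩)))))
 (.nd (nat_lit 176) (.nd (nat_lit 172) (.nd (nat_lit 170) (.nd (nat_lit 169) (.lf ⟨nat_lit 1, nat_lit 166, nat_lit 139, (nat_lit 0x2ba2cea7bd829f6f53bc17c3f6c7dba59a18cc2c5), (nat_lit 0x7c6d347fc5702ce47f8ab456fa28694059a6c44d), (nat_lit 0x13ea0bc0d56ce86cc9fd377d87ce81f0a0dee6589), (.wt (nat_lit 5) (nat_lit 2) (nat_lit 0x22d89be3ef86a4c11d067b5b8452751fc623497fe) (.st (nat_lit 140) (unp (nat_lit 5) (nat_lit 0x57e303)) [] (.st (nat_lit 100) (unp (nat_lit 5) (nat_lit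 0x4ba303)) [] (.st (nat_lit 150) (unp (nat_lit 5) (nat_lit 0x4fe303)) [] (.st (nat_lit 162) (unp (nat_lit 5) (nat_lit 0x47a303)) [] (.st (nat_lit 163) [nat_lit 30] [] (.st (nat_lit 126) (unp (nat_lit 5) (nat_lit 0x4fc303)) [] (.st (nat_lit 82) [nat_lit 4, nat_lit 6] [] (.st (nat_lit 121) [nat_lit 3, nat_lit 19] [] (.st (nat_lit 166) (unp (nat_lit 5) (nat_lit 0x3be303)) [] .nil))))))))) (unp (nat_lit 5) (nat_lit 0x2fa303)) [])⟩)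
 (.lf ⟨nat_lit 1, nat_lit 139, nat_lit 166, (nat_lit 0x2ba2cea7bd829f6f53bc17c3f6c7dba59a18cc2c5), (nat_lit 0x7dcd174186f28e3e3e974bcb3afd44cfed1ce549), (nat_lit 0x13ea0bc0d56ce86cc9fd377d87ce81f0a0dee6589), (.wt (nat_lit 0) (nat_lit 0) (nat_lit 0x2ba2cea7bd829f6f53bc17c3f6c7dba59a18cc2c5) (.st (nat_lit 168) [] [] .nil) (unp (nat_lit 5) (nat_lit 0x37c303)) [])⟩))
 (.nd (nat_lit 171) (.lf ⟨nat_lit 1, nat_lit 123, nat_lit 170, (nat_lit 0x9a472e71a6030c6693ace0c7e5978349d74b3855), one, one, (.df [nat_lit 8, nat_lit 0])⟩)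
 (.lf ⟨nat_lit 1, nat_lit 170, nat_lit 154, (nat_lit 0x3b6020b1ee99f350ad1583cd87ceba46c32e15ab7), (nat_lit 0x16010d02800200051000444886001c0a221322120), (nat_lit 0x1c2dc834c117cc9be475051e9326443f773ad7902), (.wt (nat_lit 6) (nat_lit 2) (nat_lit 0xd043ebfb6cd6655f7bd44ba3e801e77ba42b7c43) (.st (nat_lit 155) (unp (nat_lit 5) (nat_lit 0x1bc303)) [] (.st (nat_lit 110) [nat_lit 29, nat_lit 21] [] (.st (nat_lit 74) (unp (nat_lit 5) (nat_lit 0x33e403)) [] (.st (nat_lit 53) [nat_lit 18] [] (.st (nat_lit 80) [nat_lit 18] [nat_lit 55] (.st (nat_lit 123) [nat_lit 30, nat_lit 15] [] (.st (nat_lit 170) [nat_lit 4, nat_lit 14] [] .nil))))))) [nat_lit 3, nat_lit 19] [])⟩)))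
 (.nd (nat_lit 174) (.nd (nat_lit 173) (.lf ⟨nat_lit 1, nat_lit 133, nat_lit 172, (nat_lit 0x3b6020b1ee99f350ad1583cd87ceba46c32e15ab7), one, one, (.df [nat_lit 3])⟩)
 (.lf ⟨nat_lit 0, nat_lit 172, nat_lit 172, (nat_lit 0x1e71d8df0207a38ad2b5cb84a68c733ee8effccac), one, (nat_lit 0x20a500fcc609c24f6a87be1396c175c0ea997d36), (.cmp (nat_lit 172) (nat_lit 172) (unp (nat_lit 5) (nat_lit 0x1ba303)) [nat_lit 136])⟩))
 (.nd (nat_lit 175) (.lf ⟨nat_lit 1, nat_lit 172, nat_lit 133, one, (nat_lit 0x3b6020b1ee99f350ad1583cd87ceba46c32e15ab7), one, (.wt (nat_lit 0) (nat_lit 0) (nat_lit 0x3b6020b1ee99f350ad1583cd87ceba46c32e15ab7) (.st (nat_lit 172) [] [] .nil) [] [])⟩)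
 (.lf ⟨nat_lit 1, nat_lit 172, nat_lit 133, (nat_lit 0x2ba2cea7bd829f6f53bc17c3f6c7dba59a18cc2c5), (nat_lit 0x28c19976252a965e6162370e927108ec8873445bb), (nat_lit 0x400f33bb13c64ca5ecd24b2a7a1d72a627c529a7), (.wt (nat_lit 6) (nat_lit 2) (nat_lit 0x1068021735a812cd94a2938fabc00e5708bb7b2cc) (.st (nat_lit 134) (unp (nat_lit 5) (nat_lit 0x3fa303)) [] (.st (nat_lit 91) (unp (nat_lit 5) (nat_lit 0x2fa403)) [] (.st (nat_lit 103) (unp (nat_lit 5) (nat_lit 0x27a303)) [] (.st (nat_lit 104) [nat_lit 30, nat_lit 15] [nat_lit 108] (.st (nat_lit 90) [nat_lit 4, nat_lit 18] [] (.st (nat_lit 133) [nat_lit 3, nat_lit 15] [] (.st (nat_lit 172) (unp (nat_lit 5) (nat_lit 0x37e303)) [] .nil))))))) (unp (nat_lit 5) (nat_lit 0x37a303)) [])⟩))))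
 (.nd (nat_lit 180) (.nd (nat_lit 178) (.nd (nat_lit 177) (.lf ⟨nat_lit 0, nat_lit 172, nat_lit 172, (nat_lit 0xfb4c3514b7623efe86cffbf3bfa72307c08ef90e), one, (nat_lit 0x400f33bb13c64ca5ecd24b2a7a1d72a627c529a7), (.we (nat_lit 0) (nat_lit 0) (nat_lit 0x2ba2cea7bd829f6f53bc17c3f6c7dba59a18cc2c5) (.st (nat_lit 175) [] [] (.st (nat_lit 172) [nat_lit 3, nat_lit 30] [] .nil)))⟩)
 (.lf ⟨nat_lit 0, nat_lit 172, nat_lit 172, (nat_lit 0x2a79ad8913a86b07bb51318f0e9ad5d8c5440ac8f), one, (nat_lit 0x35d7323dd4f9982aa2e240eedafba4e658439f805), (.prod [nat_lit 173, nat_lit 176])⟩))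
 (.nd (nat_lit 179) (.lf ⟨nat_lit 0, nat_lit 172, nat_lit 172, (nat_lit 0xfe10060a26325a960ade6fcac3b33c598c22bd0b), one, (nat_lit 0x19ba4ababf39a505ff984efb1f4386305e83f5d7d), (.prod [nat_lit 177, nat_lit 173])⟩)
 (.lf ⟨nat_lit 0, nat_lit 172, nat_lit 172, (nat_lit 0x149a2146048c6a00d92a1225aa522fe81d82dc018), one, (nat_lit 0xe60165beaf8472a018d5a466db4bb9f3c94d796), (.prod [nat_lit 178, nat_lit 176])⟩)))
 (.nd (nat_lit 182) (.nd (nat_lit 181) (.lf ⟨nat_lit 0, nat_lit 172, nat_lit 172, (nat_lit 0x29a084a14a235c5bfc3c17413169964234505cac), one, (nat_lit 0x8c991f14ce7e353ca4805d44877fd35a9f2acfe1), (.inv (nat_lit 179))⟩)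
 (.lf ⟨nat_lit 0, nat_lit 172, nat_lit 172, (nat_lit 0x1ff2a83cf20d718d3de5bc1982cba772f232b29e5), one, (nat_lit 0x98b2154ca236c43dec85ffc3fe2557b5e428d05c), (.prod (unp (nat_lit 8) (nat_lit 0xb4adb303)))⟩))
 (.nd (nat_lit 183) (.lf ⟨nat_lit 0, nat_lit 133, nat_lit 133, (nat_lit 0x25460b3945b9124bbb03dd309618175c028cf0ae), one, (nat_lit 0xa8b2e7196c78218099a844af4bb54b3272a703c), (.cmp (nat_lit 174) (nat_lit 174) (unp (nat_lit 5) (nat_lit 0x27e403)) [nat_lit 181, nat_lit 177])⟩)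
 (.lf ⟨nat_lit 0, nat_lit 133, nat_lit 133, (nat_lit 0x106c616daa42b605c48ee1a1724510f01e5c5599e), one, (nat_lit 0x1687e1cdf7ad552f2ca2d77e4075b9279d7fdbf75), (.prod [nat_lit 136, nat_lit 182])⟩)))))))

noncomputable def T3_184 : Tr :=
  (.nd (nat_lit 215) (.nd (nat_lit 199) (.nd (nat_lit 191) (.nd (nat_lit 187) (.nd (nat_lit 185) (.lf ⟨nat_lit 0, nat_lit 133, nat_lit 133, (nat_lit 0x25460b3945b9124bbb03dd309618175c028cf0ae), one, (nat_lit 0xa8b2e7196c78218099a844af4bb54b3272a703c), (.inv (nat_lit 182))⟩)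
 (.nd (nat_lit 186) (.lf ⟨nat_lit 0, nat_lit 133, nat_lit 133, (nat_lit 0x6dba3dd8d3229c39f784fd626ee551ada0e5c01b), one, (nat_lit 0x8be938d6b421a6b7314c7e01fca67031eb839ccb), (.prod (unp (nat_lit 8) (nat_lit 0xb888b603)))⟩)
 (.lf ⟨nat_lit 0, nat_lit 139, nat_lit 90, (nat_lit 0x1d1d4dbbf358b98dff6e960d2e124ec4b3157217f), one, (nat_lit 0x105f889bf84ba5216a50d0702eacb68cdacb59cb4), (.cmp (nat_lit 142) (nat_lit 134) [] [nat_lit 185, nat_lit 136])⟩)))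
 (.nd (nat_lit 189) (.nd (nat_lit 188) (.lf ⟨nat_lit 0, nat_lit 123, nat_lit 144, (nat_lit 0x25460b3945b9124bbb03dd309618175c028cf0ae), one, (nat_lit 0x255fd1146a57536f380704c77dff4d3e55ffada51), (.cmp (nat_lit 143) (nat_lit 144) [nat_lit 30, nat_lit 13] [nat_lit 186])⟩)
 (.lf ⟨nat_lit 0, nat_lit 166, nat_lit 145, (nat_lit 0x1af8537252192d3a5661f36513d6879bb34b7a428), one, (nat_lit 0x14de7b7bc17360ec0fcd6db7b30714aaceaa1a5ea), (.cmp (nat_lit 169) (nat_lit 145) [nat_lit 3, nat_lit 21] [nat_lit 186])⟩))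
 (.nd (nat_lit 190) (.lf ⟨nat_lit 1, nat_lit 145, nat_lit 121, (nat_lit 0x29d069dd4289881cb0b1977aaf1daee2c113e4bec), (nat_lit 0x1cef8279014106fa59c67570ea8ec2d789f35e01), (nat_lit 0x14de7b7bc17360ec0fcd6db7b30714aaceaa1a5ea), (.ren (nat_lit 167) (unp (nat_lit 5) (nat_lit 0x3bc403)) [nat_lit 188] [])⟩)
 (.lf ⟨nat_lit 0, nat_lit 133, nat_lit 133, (nat_lit 0x38961e28011c1a6798dea2110436c970fca45585), one, (nat_lit 0x27886d5f2d21155f20e72f284280a739b940580), (.we (nat_lit 6) (nat_lit 1) (nat_lit 0x255d5a787edf6a66a9f675d6ed013202dc9012d1f) (.st (nat_lit 172) [nat_lit 3, nat_lit 11] [] (.st (nat_lit 174) (unp (nat_lit 5) (nat_lit 0x53c303)) [nat_lit 181] (.st (nat_lit 134) (unp (nat_lit 5) (nat_lit 0x4fa403)) [nat_lit 185, nat_lit 136] (.st (nat_lit 120) (unp (nat_lit 5) (nat_lit 0x27c303)) [] (.st (nat_lit 118) (unp (nat_lit 5) (nat_lit 0x23e303)) []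 (.st (nat_lit 117) [nat_lit 30, nat_lit 12] [nat_lit 78] (.st (nat_lit 119) [nat_lit 4, nat_lit 21] [] (.st (nat_lit 133) [nat_lit 4, nat_lit 18] [] .nil)))))))))⟩))))
 (.nd (nat_lit 195) (.nd (nat_lit 193) (.nd (nat_lit 192) (.lf ⟨nat_lit 0, nat_lit 133, nat_lit 133, (nat_lit 0x148a3002a254cc2b0e593e2a21465b6e44a3c2f3c), one, (nat_lit 0xf5da142e563d5f958e4d2728120b7db709248eb0), (.prod (unp (nat_lit 8) (nat_lit 0xb8beb603)))⟩)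
 (.lf ⟨nat_lit 0, nat_lit 133, nat_lit 133, (nat_lit 0x1ee35ee62970ce0500d08bb760d5b6a032680657c), one, (nat_lit 0x22b802fc2d80c11a0834f2b44877672b4a25e15d4), (.prod [nat_lit 185, nat_lit 191])⟩))
 (.nd (nat_lit 194) (.lf ⟨nat_lit 0, nat_lit 90, nat_lit 90, (nat_lit 0x348589d6f10ba4d35c8956860e7663353e3050011), one, (nat_lit 0x22b802fc2d80c11a0834f2b44877672b4a25e15d4), (.cmp (nat_lit 134) (nat_lit 134) [nat_lit 4] [nat_lit 192])⟩)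
 (.lf ⟨nat_lit 0, nat_lit 90, nat_lit 90, (nat_lit 0x34958b4e8c3528d35490d2b4942ac5ae582409843), one, (nat_lit 0x22a802f47580811a0034dad4485765b94a80f3942), (.prod [nat_lit 193, nat_lit 193])⟩)))
 (.nd (nat_lit 197) (.nd (nat_lit 196) (.lf ⟨nat_lit 0, nat_lit 117, nat_lit 97, (nat_lit 0x282d72eb5f219fef47ab95f164c11f27c9cad8201), one, (nat_lit 0x21713768e228aadac1c20e25785dde2a02181a806), (.cmp (nat_lit 120) (nat_lit 100) (unp (nat_lit 5) (nat_lit 0x43c303)) [nat_lit 193])⟩)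
 (.lf ⟨nat_lit 0, nat_lit 137, nat_lit 71, (nat_lit 0xe6ebc08329c78c923dec030bdca5b8edd3eb730c), one, (nat_lit 0x22b802fc2d80c11a0834f2b44877672b4a25e15d4), (.cmp (nat_lit 137) (nat_lit 91) [nat_lit 29] [nat_lit 193])⟩))
 (.nd (nat_lit 198) (.lf ⟨nat_lit 0, nat_lit 90, nat_lit 90, (nat_lit 0x4847027c460504e8bf0c8af9fc76c930fcac2455), one, (nat_lit 0x342afaf9185addce0e9966d7e620715b2054ecc57), (.cmp (nat_lit 134) (nat_lit 134) (unp (nat_lit 5) (nat_lit 0x3fa403)) [nat_lit 191, nat_lit 183])⟩)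
 (.lf ⟨nat_lit 0, nat_lit 90, nat_lit 90, (nat_lit 0x330d6b9dea732063c2889337b503723b34c85c3de), one, (nat_lit 0x3892a976af9c076795bb18b01282d22ef6fa6a344), (.prod [nat_lit 197, nat_lit 193])⟩)))))
 (.nd (nat_lit 207) (.nd (nat_lit 203) (.nd (nat_lit 201) (.nd (nat_lit 200) (.lf ⟨nat_lit 0, nat_lit 90, nat_lit 90, (nat_lit 0x38961e28011c1a6798dea2110436c970fca45585), one, (nat_lit 0x343af9c1c1364ca69f558cb7e601d33848cdba087), (.prod [nat_lit 197, nat_lit 197])⟩)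
 (.lf ⟨nat_lit 0, nat_lit 90, nat_lit 90, (nat_lit 0x37891bba2f8b234b5db2326e4b8920645d1647fd8), one, (nat_lit 0xc91373debc44ce21b70b71346fea1e39d8b54112), (.prod [nat_lit 198, nat_lit 193])⟩))
 (.nd (nat_lit 202) (.lf ⟨nat_lit 0, nat_lit 90, nat_lit 90, (nat_lit 0x8e9a1934b8e90ba85cc22011ac9110e0af8035db), one, (nat_lit 0x1a2aae5714d71892b3589c545af609be53f167d4e), (.prod [nat_lit 199, nat_lit 193])⟩)
 (.lf ⟨nat_lit 0, nat_lit 90, nat_lit 90, (nat_lit 0x188c06108607021cfc584d1290f7e5ca053255e92), one, (nat_lit 0x2e39332488cf55342c1fd9970eaaf4871b3ccf3c8), (.prod [nat_lit 201, nat_lit 193])⟩)))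
 (.nd (nat_lit 205) (.nd (nat_lit 204) (.lf ⟨nat_lit 0, nat_lit 97, nat_lit 71, (nat_lit 0x21bb1f1cccffeb5d077bc2f11246e7af93f0b41a5), one, (nat_lit 0xcb6ba8d20e96df74447266c6ebd5621f9eb78f4c), (.cmp (nat_lit 100) (nat_lit 91) [nat_lit 29, nat_lit 11] [nat_lit 194, nat_lit 200])⟩)
 (.lf ⟨nat_lit 0, nat_lit 144, nat_lit 71, (nat_lit 0x2b3d2e854787e4cbf01b4be35ffb18af2a24601be), one, (nat_lit 0x3892a976af9c076795bb18b01282d22ef6fa6a344), (.cmp (nat_lit 144) (nat_lit 91) (unp (nat_lit 5) (nat_lit 0x27e303)) [nat_lit 198])⟩))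
 (.nd (nat_lit 206) (.lf ⟨nat_lit 0, nat_lit 145, nat_lit 71, (nat_lit 0x96e7af3dcdb4b7b255e40e496343426d7dc38117), one, (nat_lit 0x2e39332488cf55342c1fd9970eaaf4871b3ccf3c8), (.cmp (nat_lit 145) (nat_lit 91) (unp (nat_lit 5) (nat_lit 0x37c303)) [nat_lit 202])⟩)
 (.lf ⟨nat_lit 0, nat_lit 77, nat_lit 152, (nat_lit 0x3cffa5c4e3298fd0f9dc3ab90575159a5ce6e6e57), one, (nat_lit 0x21713768e228aadac1c20e25785dde2a02181a806), (.cmp (nat_lit 118) (nat_lit 152) [nat_lit 4, nat_lit 8] [nat_lit 195])⟩))))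
 (.nd (nat_lit 211) (.nd (nat_lit 209) (.nd (nat_lit 208) (.lf ⟨nat_lit 0, nat_lit 164, nat_lit 149, (nat_lit 0x1b83d2413c1dbc1557085fa50601b07e39b9f355c), one, (nat_lit 0x21713768e228aadac1c20e25785dde2a02181a806), (.cmp (nat_lit 164) (nat_lit 149) [nat_lit 31, nat_lit 11] [nat_lit 195])⟩)
 (.lf ⟨nat_lit 0, nat_lit 109, nat_lit 101, (nat_lit 0x21186d22aa5c742d2832af4a161a29870280b26f), one, (nat_lit 0x1ef995f73fded988e9c24457292948832aa284d71), (.cmp (nat_lit 138) (nat_lit 101) [nat_lit 3, nat_lit 14] [nat_lit 196])⟩))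
 (.nd (nat_lit 210) (.lf ⟨nat_lit 0, nat_lit 71, nat_lit 97, (nat_lit 0x15aca1250934aa98857321744d01a08f2c23d5fa8), one, (nat_lit 0xcb6ba8d20e96df74447266c6ebd5621f9eb78f4c), (.cmp (nat_lit 98) (nat_lit 97) (unp (nat_lit 5) (nat_lit 0x43a403)) [nat_lit 203])⟩)
 (.lf ⟨nat_lit 0, nat_lit 149, nat_lit 48, (nat_lit 0xe6ebc08329c78c923dec030bdca5b8edd3eb730c), one, (nat_lit 0xcb6ba8d20e96df74447266c6ebd5621f9eb78f4c), (.cmp (nat_lit 149) (nat_lit 72) [nat_lit 29] [nat_lit 203])⟩)))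
 (.nd (nat_lit 213) (.nd (nat_lit 212) (.lf ⟨nat_lit 0, nat_lit 150, nat_lit 101, (nat_lit 0x182d3974edd5645163fb11bcb95e90b4ae1f4beda), one, (nat_lit 0xcb6ba8d20e96df74447266c6ebd5621f9eb78f4c), (.cmp (nat_lit 150) (nat_lit 101) [nat_lit 31, nat_lit 12] [nat_lit 203])⟩)
 (.lf ⟨nat_lit 0, nat_lit 152, nat_lit 92, (nat_lit 0x2166738bec75d24e7294e9d92d918764f49333e0f), one, (nat_lit 0xcb6ba8d20e96df74447266c6ebd5621f9eb78f4c), (.cmp (nat_lit 152) (nat_lit 92) [nat_lit 30, nat_lit 20] [nat_lit 203])⟩))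
 (.nd (nat_lit 214) (.lf ⟨nat_lit 0, nat_lit 123, nat_lit 71, (nat_lit 0x3c6864559a18f39d87786bfde7c3fa4a8ccdcebb4), one, (nat_lit 0x1b075b732b55be689119b9c75cafc9310d58e1237), (.prod [nat_lit 187, nat_lit 204])⟩)
 (.lf ⟨nat_lit 0, nat_lit 170, nat_lit 92, (nat_lit 0x1c2bc3588e3249de837483a9230144dc438517d9a), one, (nat_lit 0x1b075b732b55be689119b9c75cafc9310d58e1237), (.cmp (nat_lit 170) (nat_lit 92) [nat_lit 3, nat_lit 31] [nat_lit 213])⟩))))))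
 (.nd (nat_lit 230) (.nd (nat_lit 222) (.nd (nat_lit 218) (.nd (nat_lit 216) (.lf ⟨nat_lit 0, nat_lit 121, nat_lit 96, (nat_lit 0x10baa93db1a4d4e40073e84860c1643317db0a90f), one, (nat_lit 0x113a82ffd2fa1cfc14b0dde44999e309948c436c6), (.cmp (nat_lit 189) (nat_lit 96) (unp (nat_lit 5) (nat_lit 0x3bc303)) [nat_lit 205])⟩)
 (.nd (nat_lit 217) (.lf ⟨nat_lit 1, nat_lit 149, nat_lit 146, (nat_lit 0x3eba12c3c3234cd354a978de13ad53d6c7be58abc), (nat_lit 0xc1c1e60aa9593e6fb364f36042b9f7fe8dfed49f), (nat_lit 0x8820caa8b38aa12a345815118b603096fa68c2db), (.ren (nat_lit 165) [nat_lit 4, nat_lit 13] [nat_lit 207] [])⟩)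
 (.lf ⟨nat_lit 0, nat_lit 154, nat_lit 153, (nat_lit 0x19ab81ed15df905f1eb711b3bad06435ec5c9b7b5), one, (nat_lit 0x1ef995f73fded988e9c24457292948832aa284d71), (.cmp (nat_lit 154) (nat_lit 153) (unp (nat_lit 5) (nat_lit 0x4ba303)) [nat_lit 208])⟩)))
 (.nd (nat_lit 220) (.nd (nat_lit 219) (.lf ⟨nat_lit 0, nat_lit 71, nat_lit 71, (nat_lit 0x10823171465745717b203558a0ed002871fa51c81), one, (nat_lit 0x342afaf9185addce0e9966d7e620715b2054ecc57), (.prod [nat_lit 209, nat_lit 203])⟩)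
 (.lf ⟨nat_lit 0, nat_lit 71, nat_lit 71, (nat_lit 0xb02a93c1044d071730109060bbf13f971faca589), one, (nat_lit 0x343af9c1c1364ca69f558cb7e601d33848cdba087), (.prod [nat_lit 218, nat_lit 218])⟩))
 (.nd (nat_lit 221) (.lf ⟨nat_lit 0, nat_lit 96, nat_lit 48, (nat_lit 0x5971714955ee9304d2deb51e4ae922f5701011f7), one, (nat_lit 0x343af9c1c1364ca69f558cb7e601d33848cdba087), (.cmp (nat_lit 96) (nat_lit 72) [nat_lit 3, nat_lit 15] [nat_lit 219])⟩)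
 (.lf ⟨nat_lit 0, nat_lit 101, nat_lit 73, (nat_lit 0x3b823b89ac49366f855cda3cb328711a17b14f136), one, (nat_lit 0x342afaf9185addce0e9966d7e620715b2054ecc57), (.cmp (nat_lit 101) (nat_lit 76) (unp (nat_lit 5) (nat_lit 0x27e303)) [nat_lit 218])⟩))))
 (.nd (nat_lit 226) (.nd (nat_lit 224) (.nd (nat_lit 223) (.lf ⟨nat_lit 0, nat_lit 146, nat_lit 53, (nat_lit 0x2fa58d94ed23c124f6a2339eaac0ff945cf5b75ed), one, (nat_lit 0x15fabbba2c9a97acba30bd91702f9c2889ae0012e), (.cmp (nat_lit 216) (nat_lit 53) [nat_lit 22] [nat_lit 210])⟩)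
 (.lf ⟨nat_lit 0, nat_lit 113, nat_lit 153, (nat_lit 0x2c6166924c797ee6764d858d7d4cbf5261e6cbfa1), one, (nat_lit 0x3190d1447ddd775bc51e952aa4d3f257cdc354bc3), (.cmp (nat_lit 151) (nat_lit 153) (unp (nat_lit 5) (nat_lit 0x47a403)) [nat_lit 211])⟩))
 (.nd (nat_lit 225) (.lf ⟨nat_lit 0, nat_lit 77, nat_lit 92, (nat_lit 0x2fa58d94ed23c124f6a2339eaac0ff945cf5b75ed), one, (nat_lit 0x32230c33ca34aca6092cea01ec2c24ca8835d1a3b), (.prod [nat_lit 206, nat_lit 212])⟩)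
 (.lf ⟨nat_lit 0, nat_lit 92, nat_lit 77, (nat_lit 0x3336e65a92584fc3c7bbe6193a5a190b4289efdaf), one, (nat_lit 0x3e5fac0d5c60b60c7a69ccd3489172db6a16e3312), (.inv (nat_lit 224))⟩)))
 (.nd (nat_lit 228) (.nd (nat_lit 227) (.lf ⟨nat_lit 0, nat_lit 146, nat_lit 53, (nat_lit 0x1b81f08b848e798eb36f44c6849a77f7b32753668), one, (nat_lit 0x3e5fac0d5c60b60c7a69ccd3489172db6a16e3312), (.cmp (nat_lit 146) (nat_lit 79) [nat_lit 30, nat_lit 19] [nat_lit 225])⟩)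
 (.lf ⟨nat_lit 0, nat_lit 170, nat_lit 77, (nat_lit 0x3f95822386b969c69b7f817c77e48ede6455ae727), one, (nat_lit 0x2b0cd6990199fba8e2f32e7935cced2eab07cd834), (.prod [nat_lit 214, nat_lit 225])⟩))
 (.nd (nat_lit 229) (.lf ⟨nat_lit 0, nat_lit 154, nat_lit 121, (nat_lit 0x342afaf9185addce0e9966d7e620715b2054ecc57), one, (nat_lit 0xa63e1e527b834abc27f218528b005409f0fce756), (.cmp (nat_lit 171) (nat_lit 121) [nat_lit 4, nat_lit 17] [nat_lit 227])⟩)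
 (.lf ⟨nat_lit 0, nat_lit 77, nat_lit 148, (nat_lit 0x25e859467605943bd5d39601451f278dfb823de73), one, (nat_lit 0x113a82ffd2fa1cfc14b0dde44999e309948c436c6), (.cmp (nat_lit 122) (nat_lit 148) [nat_lit 4, nat_lit 11] [nat_lit 215])⟩)))))
 (.nd (nat_lit 238) (.nd (nat_lit 234) (.nd (nat_lit 232) (.nd (nat_lit 231) (.lf ⟨nat_lit 0, nat_lit 148, nat_lit 61, (nat_lit 0x10003ee42b1dcfa59538adc760f734d392f56083c), one, (nat_lit 0x343af9c1c1364ca69f558cb7e601d33848cdba087), (.cmp (nat_lit 148) (nat_lit 61) [nat_lit 3] [nat_lit 220])⟩)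
 (.lf ⟨nat_lit 0, nat_lit 153, nat_lit 113, (nat_lit 0x18a9bbe6b3781e6660e4477edc0d29e5650047336), one, (nat_lit 0x342afaf9185addce0e9966d7e620715b2054ecc57), (.cmp (nat_lit 153) (nat_lit 113) (unp (nat_lit 5) (nat_lit 0x37e403)) [nat_lit 221])⟩))
 (.nd (nat_lit 233) (.lf ⟨nat_lit 0, nat_lit 92, nat_lit 77, (nat_lit 0x6c3a84ebeb5af0b36f7afb9a91ac45c2bd6dcb03), one, (nat_lit 0x15fabbba2c9a97acba30bd91702f9c2889ae0012e), (.cmp (nat_lit 147) (nat_lit 77) (unp (nat_lit 5) (nat_lit 0x2fc303)) [nat_lit 222])⟩)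
 (.lf ⟨nat_lit 0, nat_lit 53, nat_lit 146, (nat_lit 0x3336e65a92584fc3c7bbe6193a5a190b4289efdaf), one, (nat_lit 0x16da78a399c8d4c42bd44f0b634fb99dc711fe42a), (.inv (nat_lit 222))⟩)))
 (.nd (nat_lit 236) (.nd (nat_lit 235) (.lf ⟨nat_lit 0, nat_lit 53, nat_lit 53, (nat_lit 0x2171b03a80f0776e051913af0b0010fb8a1fa3866), one, (nat_lit 0x2ac6c16a370ae70bc4a9f88315be00509d54c0057), (.prod [nat_lit 233, nat_lit 226])⟩)
 (.lf ⟨nat_lit 0, nat_lit 53, nat_lit 53, (nat_lit 0xe4ec14e9a160fc505e0b2c71efc21ecb4e09b4b3), one, (nat_lit 0x13ea0bc0d56ce86cc9fd377d87ce81f0a0dee6589), (.inv (nat_lit 59))⟩))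
 (.nd (nat_lit 237) (.lf ⟨nat_lit 0, nat_lit 53, nat_lit 53, (nat_lit 0x2ce6c6e84b968e8b851402b61ea742ffaae0bdff2), one, (nat_lit 0x1d40d86292bb6d4c1d889ccf4ac2c1004aa4cd89d), (.prod [nat_lit 234, nat_lit 235])⟩)
 (.lf ⟨nat_lit 0, nat_lit 153, nat_lit 154, (nat_lit 0x24c1b98ea97e97e74d7fc0f9b0fd1653697f935c), one, (nat_lit 0xc1c1e60aa9593e6fb364f36042b9f7fe8dfed49f), (.inv (nat_lit 217))⟩))))
 (.nd (nat_lit 242) (.nd (nat_lit 240) (.nd (nat_lit 239) (.lf ⟨nat_lit 0, nat_lit 113, nat_lit 48, (nat_lit 0x400f33bb13c64ca5ecd24b2a7a1d72a627c529a7), one, (nat_lit 0x30a62e6947b269831516d1c7b5023ff4dd466cc06), (.prod (unp (nat_lit 8) (nat_lit 0xdcd7e4eddf05)))⟩)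
 (.lf ⟨nat_lit 0, nat_lit 77, nat_lit 61, (nat_lit 0x11d79d3082e0a3db24424f7bdd4755633ff68f460), one, (nat_lit 0x9636f3df99b6d8e2ba3437668ae253a927c46123), (.prod [nat_lit 229, nat_lit 230])⟩))
 (.nd (nat_lit 241) (.lf ⟨nat_lit 0, nat_lit 61, nat_lit 77, (nat_lit 0x1d9e2d2758975477ce8f7418783745b2dffa41576), one, (nat_lit 0x16c71643ab910a41df06ba3bc651d51aca0a79193), (.inv (nat_lit 239))⟩)
 (.lf ⟨nat_lit 0, nat_lit 48, nat_lit 113, (nat_lit 0x400f33bb13c64ca5ecd24b2a7a1d72a627c529a7), one, (nat_lit 0x3cff9ed77993250dd7cbce8632537b881fcfb8906), (.inv (nat_lit 238))⟩)))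
 (.nd (nat_lit 244) (.nd (nat_lit 243) (.lf ⟨nat_lit 0, nat_lit 48, nat_lit 48, (nat_lit 0x1e8d3b017b7a5ee3fe294a3292e6c7a41efb8cd7e), one, (nat_lit 0x16d520f1143372008403558243017d182d1faca0), (.prod (unp (nat_lit 8) (nat_lit 0xeee7dff104)))⟩)
 (.lf ⟨nat_lit 0, nat_lit 61, nat_lit 61, (nat_lit 0x21dec207e861104cd500e4efb00b90968d614b8e2), one, (nat_lit 0x27886d5f2d21155f20e72f284280a739b940580), (.prod (unp (nat_lit 8) (nat_lit 0xefe8e0f004)))⟩))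
 (.nd (nat_lit 245) (.lf ⟨nat_lit 0, nat_lit 61, nat_lit 61, (nat_lit 0x200a0b1ec06b20b36f414402ead52b870c2c9ce5), one, (nat_lit 0xac340fad603080d6db4e0951beb2437de645b04f), (.inv (nat_lit 69))⟩)
 (.lf ⟨nat_lit 0, nat_lit 61, nat_lit 61, (nat_lit 0x148a3002a254cc2b0e593e2a21465b6e44a3c2f3c), one, (nat_lit 0x2210b378714e040dbce0d7e38479a80c10f8065e8), (.prod (unp (nat_lit 8) (nat_lit 0xf4f33f03)))⟩)))))))

noncomputable def T3 : Tr :=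
  (.nd (nat_lit 123) (.nd (nat_lit 61) T3_0
 T3_61)
 (.nd (nat_lit 184) T3_123
 T3_184))

noncomputable def q3_1_0 : Net :=
  mkNet (nat_lit 5) (nat_lit 10) (nat_lit 0x10000010040f00010)

noncomputable def q3_1_2 : Net :=
  mkNet (nat_lit 5) (nat_lit 10) (nat_lit 0x1440800300c0500801)

noncomputable def q3_1_4 : Net :=
  mkNet (nat_lit 5) (nat_lit 10) (nat_lit 0x10040f00044)

noncomputable def q3_1_8 : Net :=
  mkNet (nat_lit 5) (nat_lit 10) (nat_lit 0x110040010040f0cc54)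

noncomputable def q3_1_9 : Net :=
  mkNet (nat_lit 5) (nat_lit 10) (nat_lit 0x110040010040504410)

noncomputable def q3_1_10 : Net :=
  mkNet (nat_lit 5) (nat_lit 10) (nat_lit 0x40c0000000608804)

noncomputable def q3_1_11 : Net :=
  mkNet (nat_lit 5) (nat_lit 10) (nat_lit 0x4084010040200404)

noncomputable def q3_1_12 : Net :=
  mkNet (nat_lit 5) (nat_lit 10) (nat_lit 0x10044010040800454)

noncomputable def q3_1 : List Net :=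
  [q3_1_0, q3_1_0, q3_1_2, rv q3_1_2, q3_1_4, q3_1_4, Net.nil, Net.nil, q3_1_8, q3_1_9, q3_1_10, q3_1_11, q3_1_12]

noncomputable def Qs3 : List (ℕ × ℕ × List Net) :=
  [(nat_lit 10, nat_lit 5, q3_1)]

noncomputable def ls3 : List Ld :=
  [⟨[(nat_lit 3, [nat_lit 12]), (nat_lit 29, [nat_lit 11]), (nat_lit 11, (unp (nat_lit 4) (nat_lit 0xb948305)))], [⟨nat_lit 0, [nat_lit 0, nat_lit 2], (nat_lit 0xe102bf0afdfbf7efdfbf080c0840afdfbf040c3057efc1bf7efc100), nat_lit 16⟩, ⟨nat_lit 2, [nat_lit 0, nat_lit 1], (nat_lit 0x7efdfbf7efdfbf7efdfbf7efdfbf7efc1bf7efdfbf02fdf827e01fbf), nat_lit 4⟩, ⟨nat_lit 4, [nat_lit 0], (nat_lit 0x7efdfbf7efdfbf7efdfbf7efdfbf7efc0bf7efdfbf04fdf807efdfbf), nat_lit 3⟩], [[nat_lit 1], [nat_lit 3]], (nat_lit 0xc31944221020)⟩]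

noncomputable def lk3 : List (List ℕ) :=
  [[]]

noncomputable def d3_0 : Nd :=
  ⟨nat_lit 1, nat_lit 10, [(nat_lit 3, [nat_lit 12]), (nat_lit 33, (unp (nat_lit 4) (nat_lit 0xcca03))), (nat_lit 11, (unp (nat_lit 4) (nat_lit 0xa998005)))], [⟨nat_lit 0, [nat_lit 0, nat_lit 2], (nat_lit 0x40c2bf06fdfbf7efdfbf0a1020208fdfbf0a042867efc1bf7efc380), nat_lit 16⟩, ⟨nat_lit 2, [nat_lit 0, nat_lit 1], (nat_lit 0x7efdfbf7efdfbf7efdfbf7efdfbf7efc13f7efdfbf04fdf817e01fbf), nat_lit 4⟩, ⟨nat_lit 4, [nat_lit 0], (nat_lit 0x7efdfbf7efdfbf7efdfbf7efdfbf7efc0bf7efdfbf04fdf807efdfbf), nat_lit 3⟩],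
  [⟨(unp (nat_lit 2) (nat_lit 0x2403)), (nat_lit 0x210c2118800), [(nat_lit 34, nat_lit 0, []), (nat_lit 35, nat_lit 9, (unp (nat_lit 2) (nat_lit 0x3203))), (nat_lit 36, nat_lit 1, [nat_lit 3])]⟩]⟩

noncomputable def d3_1 : Nd :=
  ⟨nat_lit 36, nat_lit 80, [(nat_lit 44, [nat_lit 10, nat_lit 10]), (nat_lit 37, (unp (nat_lit 4) (nat_lit 0xc9483006)))], [⟨nat_lit 0, [nat_lit 0, nat_lit 1], (nat_lit 0x7e0dfbf06fdfbf7efdfbf7e0813f7efdfbf7efdf847efc0bf7efc180), nat_lit 8⟩, ⟨nat_lit 2, [nat_lit 0], (nat_lit 0x7efdfbf7efdfbf7efdfbf7efdfbf7efc13f7efdfbf02fdfbf7e01fbf), nat_lit 3⟩],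
  [⟨[nat_lit 0, nat_lit 1], (nat_lit 0x10888320800), [(nat_lit 46, nat_lit 0, []), (nat_lit 47, nat_lit 9, (unp (nat_lit 2) (nat_lit 0x3203))), (nat_lit 48, nat_lit 1, [nat_lit 3])]⟩]⟩

noncomputable def d3_2 : Nd :=
  ⟨nat_lit 48, nat_lit 160, [(nat_lit 49, (unp (nat_lit 4) (nat_lit 0xccaa948308))), (nat_lit 242, (unp (nat_lit 4) (nat_lit 0xaa994028209)))], [⟨nat_lit 0, [nat_lit 0, nat_lit 1], (nat_lit 0x8fdfbf02fc0bf7e0df837e09fbf7efc23f04fc1bf7e09fbf06fdf80), nat_lit 12⟩],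
  [⟨[nat_lit 0, nat_lit 1], (nat_lit 0x21804118020), [(nat_lit 51, nat_lit 0, []), (nat_lit 52, nat_lit 9, (unp (nat_lit 2) (nat_lit 0x3203))), (nat_lit 53, nat_lit 2, [nat_lit 2]), (nat_lit 61, nat_lit 6, [nat_lit 2, nat_lit 0])]⟩]⟩

noncomputable def d3_3 : Nd :=
  ⟨nat_lit 53, nat_lit 32, [(nat_lit 236, [nat_lit 10]), (nat_lit 58, (unp (nat_lit 4) (nat_lit 0xc9822006)))], [⟨nat_lit 0, [nat_lit 0, nat_lit 1], (nat_lit 0x1615f837efc1010afc2030c15fbf7e204067e203bf12fc23f0e29f80), nat_lit 20⟩, ⟨nat_lit 2, [nat_lit 0], (nat_lit 0x7efdfbf7efdfbf7efdfbf7efdfbf7efc0bf7efdfbf04fdfbf7e01fbf), nat_lit 3⟩],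
  [⟨[nat_lit 0, nat_lit 1], (nat_lit 0x31046310460), [(nat_lit 56, nat_lit 0, []), (nat_lit 66, nat_lit 9, (unp (nat_lit 2) (nat_lit 0x3203)))]⟩]⟩

noncomputable def d3_4 : Nd :=
  ⟨nat_lit 61, nat_lit 32, [(nat_lit 245, [nat_lit 9, nat_lit 9]), (nat_lit 62, (unp (nat_lit 4) (nat_lit 0xb99480207)))], [⟨nat_lit 0, [nat_lit 0, nat_lit 1], (nat_lit 0xefc2bf7e101bf08fdf847e182830afc2837e041047efc30604fc200), nat_lit 20⟩, ⟨nat_lit 1, [nat_lit 0], (nat_lit 0x7efdfbf7efdfbf7efdfbf7efdfbf7efc0bf7efdfbf7efdf827efc03f), nat_lit 3⟩],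
  [⟨[nat_lit 0, nat_lit 1], (nat_lit 0x22044320460), [(nat_lit 64, nat_lit 0, []), (nat_lit 65, nat_lit 9, (unp (nat_lit 2) (nat_lit 0x3203)))]⟩]⟩

noncomputable def ds3 : List Nd :=
  [d3_0, d3_1, d3_2, d3_3, d3_4]

noncomputable def ks3 : List ℕ :=
  (unp (nat_lit 6) (nat_lit 0x3dd7090105))

def kc3 : List (ℕ × ℕ) := [(0, 1), (1, 10), (36, 80), (48, 160), (53, 32), (61, 32)]

theorem Rn4 : Nat.beq R4.length 21 = true := by decide +kernel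

theorem Nn4 : Nat.beq N4.length 7 = true := by decide +kernel

theorem hr3 : relsOk mul one lc3 dom3 nodes3 1 (2 * 4) R4 sb3 1 rs3 = true := by decide +kernel

theorem hc3_0 : rng (chk mul one wf T3 lc3 (mapR (fun e => e.2.2) rs3) 1) (nat_lit 0) (nat_lit 246) = true := by decide +kernel

theorem AQ3_1_p : actP 5 10 q3_1 13 = true := by decide +kernel

theorem AQ3_1_l_0 : rng (actL 5 10 q3_1 dom3 (2 * 4) us3) (nat_lit 0) (nat_lit 13) = true := by decide +kernel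

theorem AQ3_1_r_0 : rng (fun i => relN 5 10 q3_1 (2 * 4) (nthD ([], nat_lit 0) R3 i)) (nat_lit 0) (nat_lit 14) = true := by decide +kernel

theorem la3 : ldA mul one T3 246 lc3 32 7 n3 ls3 1 = true := by decide +kernel

theorem lb3 : ldB 1920 Qs3 ls3 1 = true := by decide +kernel

theorem na3_0 : rng (fun i => ndA mul one T3 246 lc3 32 7 n3 1920 (nthD ⟨nat_lit 0, nat_lit 0, [], [], []⟩ ds3 i)) (nat_lit 0) (nat_lit 5) = true := by decide +kernel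

theorem nb3_0 : rng (fun i => ndB mul one T3 246 lc3 ks3 Qs3 1 (nthD ⟨nat_lit 0, nat_lit 0, [], [], []⟩ ds3 i)) (nat_lit 0) (nat_lit 5) = true := by decide +kernel

theorem dn3 : Nat.beq ds3.length 5 = true := by decide +kernel

theorem hk3 : ks3 = ds3.map Nd.k := by decide +kernel

theorem hkc3 : kc3 = (0, 1) :: ds3.map fun d => (d.k, d.c) := by decide +kernel

theorem lo3 : linkOk mul one T3 246 ks3 lk3 1 = true := by decide +kernel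

theorem do3 : domOk dom3 [0, 1, 2, 3] nodes3 1 R4 sb3 1 = true := by decide +kernel

theorem hc3 : ∀ i < 246, (chk mul one wf T3 lc3 (mapR (fun e => e.2.2) rs3) 1) i = true :=
  (rng_add rng_zero hc3_0)

theorem AQ3_1_l : ∀ i < 13, (actL 5 10 q3_1 dom3 (2 * 4) us3) i = true :=
  (rng_add rng_zero AQ3_1_l_0)

theorem AQ3_1_r : ∀ i < 14, (fun i => relN 5 10 q3_1 (2 * 4) (nthD ([], nat_lit 0) R3 i)) i = true :=
  (rng_add rng_zero AQ3_1_r_0)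

theorem na3 : ∀ i < 5, (fun i => ndA mul one T3 246 lc3 32 7 n3 1920 (nthD ⟨nat_lit 0, nat_lit 0, [], [], []⟩ ds3 i)) i = true :=
  (rng_add rng_zero na3_0)

theorem nb3 : ∀ i < 5, (fun i => ndB mul one T3 246 lc3 ks3 Qs3 1 (nthD ⟨nat_lit 0, nat_lit 0, [], [], []⟩ ds3 i)) i = true :=
  (rng_add rng_zero nb3_0)

section
universe u v
variable {R : Type v} {ι : Type} [CommRing R] [Fintype ι] [DecidableEq ι] (V : VCod R ι 9 18 app wfT) (h2 : V.mat one = 1)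

theorem AQ3_1 : Act.{0} (((S V h2).sub (mdl (g V h2) dom3)).gen lc3) 10 5 q3_1 :=
  act_of_up (L3 V h2) (U3 V h2) AQ3_1_p AQ3_1_l (by decide) (allR Rn3 AQ3_1_r)

theorem C3 : Cert.{u} ((S V h2).sub (mdl (g V h2) dom3)) T3 246 (mgen (g V h2) dom3) dom3 [0, 1, 2, 3] nodes3 1 (R3 ++ N4) kc3 :=
  have := fin3 V h2
  cert_of (L3 V h2) (card3 V h2).le (A3 V h2) (Qs := Qs3) (List.forall_mem_cons.2 ⟨AQ3_1 V h2, List.forall_mem_nil _⟩) hr3 hc3 la3 lb3 hk3 (allR dn3 na3) (allR dn3 nb3) lo3 do3 hkc3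

end

end L.HJcd
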