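import Cfsg.Agent.L.HJcAa

/-! Recognition of the second and third Janko groups: enumerations. Enumeration 3. -/

set_option maxRecDepth 100000
set_option Elab.async false

namespace L.HJce
open H13 H15
open H15.J3 (one app wfT mul wf h1 S)
open L.HJc

noncomputable def N4 : List (List ℕ × ℕ) :=
  [([nat_lit 6], nat_lit 2),
  ((unp (nat_lit 3) (nat_lit 0xadd5dc4a60c)), nat_lit 1),
  ((unp (nat_lit 3) (nat_lit 0xcc204)), nat_lit 3),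
  ((unp (nat_lit 3) (nat_lit 0x330830860b)), nat_lit 1),
  ((unp (nat_lit 3) (nat_lit 0x594594d949b6525736126161f)), nat_lit 1),
  ((unp (nat_lit 3) (nat_lit 0x51e51e08)), nat_lit 5),
  ((unp (nat_lit 3) (nat_lit 0x28f28f009)), nat_lit 4)]

noncomputable def R4 : List (List ℕ × ℕ) :=
  R3 ++ N4

def nodes3 : List ℕ := [6]

def sb3 : List (ℕ × ℕ × ℕ) := [(7, 14, 0)]

noncomputable def rs3 : List (ℕ × ℕ × List (ℕ × ℕ)) :=
  [(nat_lit 14, nat_lit 0, [(nat_lit 1, (nat_lit 0x100002000040000800010000200004000080001)), (nat_lit 1, (nat_lit 0x100002000040000800010000200004000080001))]),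
  (nat_lit 15, nat_lit 7, [(nat_lit 1, (nat_lit 0x1ee35ee62970ce0500d08bb760d5b6a032680657c)), (nat_lit 1, (nat_lit 0x10003ee42b1dcfa59538adc760f734d392f56083c))]),
  (nat_lit 16, nat_lit 0, [(nat_lit 1, (nat_lit 0x100e0aba0d17c70444d02bf329fd10d7608f1b426)), (nat_lit 1, (nat_lit 0x100e0aba0d17c70444d02bf329fd10d7608f1b426)), (nat_lit 1, (nat_lit 0x100e0aba0d17c70444d02bf329fd10d7608f1b426))]),
  (nat_lit 17, nat_lit 10, [(nat_lit 1, (nat_lit 0x105f889bf84ba5216a50d0702eacb68cdacb59cb4)), (nat_lit 1, (nat_lit 0x1f17ab37d3680aec186d2ec989b1805c40f0c3439))]),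
  (nat_lit 18, nat_lit 10, [(nat_lit 1, (nat_lit 0x1687e1cdf7ad552f2ca2d77e4075b9279d7fdbf75)), (nat_lit 1, (nat_lit 0x1da703b34f00a0fd10b79be740d98950a80900c4f))]),
  (nat_lit 19, nat_lit 37, [(nat_lit 1, (nat_lit 0x1ff2a83cf20d718d3de5bc1982cba772f232b29e5)), (nat_lit 1, (nat_lit 0x1ff2a83cf20d718d3de5bc1982cba772f232b29e5)), (nat_lit 1, (nat_lit 0x1ff2a83cf20d718d3de5bc1982cba772f232b29e5)), (nat_lit 1, (nat_lit 0x1ff2a83cf20d718d3de5bc1982cba772f232b29e5)), (nat_lit 1, (nat_lit 0x1ff2a83cf20d718d3de5bc1982cba772f232b29e5)), (nat_lit 1, (nat_lit 0x1ff2a83cf20d718d3de5bc1982cba772f232b29e5)), (nat_lit 1, (nat_lit 0x1ff2a83cf20d718d3de5bc1982cba772f232b29e5)), (nat_lit 1, (nat_lit 0x1ff2a83cf20d718d3de5bc1982cba772f232b29e5)), (nat_lit 1, (nat_lit 0x1ff2a83cf20d718d3de5bc1982cba772f232b29e5)), (nat_lit 1, (nat_lit 0x1ff2a83cf20d718d3de5bc1982cba772f232b29e5))]),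
  (nat_lit 20, nat_lit 33, [(nat_lit 1, (nat_lit 0x1ff2a83cf20d718d3de5bc1982cba772f232b29e5)), (nat_lit 1, (nat_lit 0x3aa136d7dd3464bfa00893d2d46909716236da798)), (nat_lit 1, (nat_lit 0x1ff2a83cf20d718d3de5bc1982cba772f232b29e5)), (nat_lit 1, (nat_lit 0x3aa136d7dd3464bfa00893d2d46909716236da798)), (nat_lit 1, (nat_lit 0x1ff2a83cf20d718d3de5bc1982cba772f232b29e5)), (nat_lit 1, (nat_lit 0x3aa136d7dd3464bfa00893d2d46909716236da798)), (nat_lit 1, (nat_lit 0x1ff2a83cf20d718d3de5bc1982cba772f232b29e5)), (nat_lit 1, (nat_lit 0x3aa136d7dd3464bfa00893d2d46909716236da798))])]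

noncomputable def T3_0 : Tr :=
  (.nd (nat_lit 17) (.nd (nat_lit 8) (.nd (nat_lit 4) (.nd (nat_lit 2) (.nd (nat_lit 1) (.lf ⟨nat_lit 0, nat_lit 0, nat_lit 0, one, one, one, .triv⟩)
 (.lf ⟨nat_lit 0, nat_lit 0, nat_lit 0, one, one, one, .triv⟩))
 (.nd (nat_lit 3) (.lf ⟨nat_lit 1, nat_lit 1, nat_lit 0, (nat_lit 0x1ee35ee62970ce0500d08bb760d5b6a032680657c), (nat_lit 0x1ee35ee62970ce0500d08bb760d5b6a032680657c), one, (.wt (nat_lit 1) (nat_lit 0) one (.sp .nil) [] [])⟩)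
 (.lf ⟨nat_lit 0, nat_lit 1, nat_lit 1, (nat_lit 0x1ee35ee62970ce0500d08bb760d5b6a032680657c), one, (nat_lit 0x1ee35ee62970ce0500d08bb760d5b6a032680657c), (.we (nat_lit 0) (nat_lit 1) (nat_lit 0x1ee35ee62970ce0500d08bb760d5b6a032680657c) (.st (nat_lit 2) [] [] (.sp .nil)))⟩)))
 (.nd (nat_lit 6) (.nd (nat_lit 5) (.lf ⟨nat_lit 0, nat_lit 1, nat_lit 1, (nat_lit 0x10003ee42b1dcfa59538adc760f734d392f56083c), one, (nat_lit 0x10003ee42b1dcfa59538adc760f734d392f56083c), (.prod [nat_lit 3, nat_lit 3])⟩)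
 (.lf ⟨nat_lit 1, nat_lit 1, nat_lit 0, (nat_lit 0x105f889bf84ba5216a50d0702eacb68cdacb59cb4), (nat_lit 0x1f17ab37d3680aec186d2ec989b1805c40f0c3439), one, (.wt (nat_lit 3) (nat_lit 0) one (.sp .nil) [] [])⟩))
 (.nd (nat_lit 7) (.lf ⟨nat_lit 0, nat_lit 1, nat_lit 1, (nat_lit 0x105f889bf84ba5216a50d0702eacb68cdacb59cb4), one, (nat_lit 0x1f17ab37d3680aec186d2ec989b1805c40f0c3439), (.we (nat_lit 0) (nat_lit 1) (nat_lit 0x105f889bf84ba5216a50d0702eacb68cdacb59cb4) (.st (nat_lit 5) [] [] (.sp .nil)))⟩)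
 (.lf ⟨nat_lit 1, nat_lit 1, nat_lit 0, (nat_lit 0x1f17ab37d3680aec186d2ec989b1805c40f0c3439), (nat_lit 0x105f889bf84ba5216a50d0702eacb68cdacb59cb4), one, (.wt (nat_lit 3) (nat_lit 1) one (.sp .nil) [] [])⟩))))
 (.nd (nat_lit 12) (.nd (nat_lit 10) (.nd (nat_lit 9) (.lf ⟨nat_lit 0, nat_lit 1, nat_lit 1, (nat_lit 0x1f17ab37d3680aec186d2ec989b1805c40f0c3439), one, (nat_lit 0x105f889bf84ba5216a50d0702eacb68cdacb59cb4), (.we (nat_lit 0) (nat_lit 1) (nat_lit 0x1f17ab37d3680aec186d2ec989b1805c40f0c3439) (.st (nat_lit 7) [] [] (.sp .nil)))⟩)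
 (.lf ⟨nat_lit 0, nat_lit 1, nat_lit 1, (nat_lit 0xf5823ae2b3588c8e3fdffba9e8d20b3ac39d7087), one, (nat_lit 0xf5823ae2b3588c8e3fdffba9e8d20b3ac39d7087), (.prod [nat_lit 6, nat_lit 8])⟩))
 (.nd (nat_lit 11) (.lf ⟨nat_lit 1, nat_lit 1, nat_lit 0, (nat_lit 0x1687e1cdf7ad552f2ca2d77e4075b9279d7fdbf75), (nat_lit 0xe466be6b35c0bdc389652e9c4a72b8e508620181), one, (.wt (nat_lit 4) (nat_lit 0) one (.sp .nil) [] [])⟩)
 (.lf ⟨nat_lit 0, nat_lit 1, nat_lit 1, (nat_lit 0x1687e1cdf7ad552f2ca2d77e4075b9279d7fdbf75), one, (nat_lit 0xe466be6b35c0bdc389652e9c4a72b8e508620181), (.we (nat_lit 0) (nat_lit 1) (nat_lit 0x1687e1cdf7ad552f2ca2d77e4075b9279d7fdbf75) (.st (nat_lit 10) [] [] (.sp .nil)))⟩)))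
 (.nd (nat_lit 14) (.nd (nat_lit 13) (.lf ⟨nat_lit 0, nat_lit 1, nat_lit 1, (nat_lit 0xb48da6dbcdbbec10d7ee0c57c96eaaa39d15025e), one, (nat_lit 0x1da703b34f00a0fd10b79be740d98950a80900c4f), (.prod [nat_lit 6, nat_lit 11])⟩)
 (.lf ⟨nat_lit 0, nat_lit 1, nat_lit 1, (nat_lit 0x8e63aa1b814fbf745cff8bb8ff826f7280ea5d49), one, (nat_lit 0x1f6f9326d7c60ac923c68395ac37828e7fccc4b30), (.prod [nat_lit 8, nat_lit 11])⟩))
 (.nd (nat_lit 15) (.lf ⟨nat_lit 0, nat_lit 1, nat_lit 1, (nat_lit 0x15290101f374771cfdd3cf038aab631dbaa2e3869), one, (nat_lit 0xc8efb732b8cc6ed92274a9811f93637b14129ef5), (.prod [nat_lit 9, nat_lit 11])⟩)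
 (.nd (nat_lit 16) (.lf ⟨nat_lit 0, nat_lit 1, nat_lit 1, (nat_lit 0xfccab2fea80340cbf61cf35d0b59b9d4adc43e1e), one, (nat_lit 0x3139f9b77e839bb8eba1435077a9cdccbcdabb634), (.prod [nat_lit 11, nat_lit 3])⟩)
 (.lf ⟨nat_lit 0, nat_lit 1, nat_lit 1, (nat_lit 0x11ad7be3ecca859b8ac250531975d2343651eeeae), one, (nat_lit 0x3e71d24eaa84a28abefeda0608e921ff2d1a2cc38), (.prod [nat_lit 12, nat_lit 3])⟩))))))
 (.nd (nat_lit 25) (.nd (nat_lit 21) (.nd (nat_lit 19) (.nd (nat_lit 18) (.lf ⟨nat_lit 0, nat_lit 1, nat_lit 1, (nat_lit 0xc62408fa09b9db9ce3f3014103fa55227c46791c), one, (nat_lit 0x2e3e5a42c9d25a690203ba4d399c471e08f6a8a6e), (.prod [nat_lit 13, nat_lit 3])⟩)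
 (.lf ⟨nat_lit 0, nat_lit 1, nat_lit 1, (nat_lit 0x12039043a6092718f95caf72806334f068d2c67c0), one, (nat_lit 0x217671bb1d0d686d559c231b1f407326aaad33e0e), (.prod [nat_lit 14, nat_lit 3])⟩))
 (.nd (nat_lit 20) (.lf ⟨nat_lit 0, nat_lit 1, nat_lit 1, (nat_lit 0x194b40ebc1c2572393c3184b90c0cd8cd7a39816b), one, (nat_lit 0x19ab81ed15df905f1eb711b3bad06435ec5c9b7b5), (.prod [nat_lit 15, nat_lit 3])⟩)
 (.lf ⟨nat_lit 0, nat_lit 1, nat_lit 1, (nat_lit 0x3f17a0ad3bbb80b968ec7fda65f8261fc0adc3055), one, (nat_lit 0x1c8ecb76742a88a610646281907901380d54096c9), (.prod [nat_lit 15, nat_lit 11])⟩)))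
 (.nd (nat_lit 23) (.nd (nat_lit 22) (.lf ⟨nat_lit 0, nat_lit 1, nat_lit 1, (nat_lit 0x1ae5ab878cfe0d5a87bcb09665e3d7a80f80becf0), one, (nat_lit 0x502c2413d84024c63c941eb41ee2ad885132c077), (.prod [nat_lit 16, nat_lit 3])⟩)
 (.lf ⟨nat_lit 0, nat_lit 1, nat_lit 1, (nat_lit 0x201003011008a45038026000580180440d0683219), one, (nat_lit 0x1e4650d63eda2b29a3b67b6b3cbfd4fddfd14f7b5), (.prod [nat_lit 16, nat_lit 11])⟩))
 (.nd (nat_lit 24) (.lf ⟨nat_lit 0, nat_lit 1, nat_lit 1, (nat_lit 0x8e63aa1b814fbf745cff8bb8ff826f7280ea5d49), one, (nat_lit 0x1f6f9326d7c60ac923c68395ac37828e7fccc4b30), (.prod [nat_lit 8, nat_lit 11])⟩)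
 (.lf ⟨nat_lit 0, nat_lit 1, nat_lit 1, (nat_lit 0xfccab2fea80340cbf61cf35d0b59b9d4adc43e1e), one, (nat_lit 0x3139f9b77e839bb8eba1435077a9cdccbcdabb634), (.prod [nat_lit 11, nat_lit 3])⟩))))
 (.nd (nat_lit 29) (.nd (nat_lit 27) (.nd (nat_lit 26) (.lf ⟨nat_lit 0, nat_lit 1, nat_lit 1, (nat_lit 0x194b40ebc1c2572393c3184b90c0cd8cd7a39816b), one, (nat_lit 0x19ab81ed15df905f1eb711b3bad06435ec5c9b7b5), (.prod [nat_lit 24, nat_lit 3])⟩)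
 (.lf ⟨nat_lit 1, nat_lit 1, nat_lit 0, (nat_lit 0x1da703b34f00a0fd10b79be740d98950a80900c4f), (nat_lit 0xb48da6dbcdbbec10d7ee0c57c96eaaa39d15025e), one, (.wt (nat_lit 4) (nat_lit 1) one (.sp .nil) [] [])⟩))
 (.nd (nat_lit 28) (.lf ⟨nat_lit 0, nat_lit 1, nat_lit 1, (nat_lit 0x1da703b34f00a0fd10b79be740d98950a80900c4f), one, (nat_lit 0xb48da6dbcdbbec10d7ee0c57c96eaaa39d15025e), (.we (nat_lit 0) (nat_lit 1) (nat_lit 0x1da703b34f00a0fd10b79be740d98950a80900c4f) (.st (nat_lit 26) [] [] (.sp .nil)))⟩)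
 (.lf ⟨nat_lit 0, nat_lit 1, nat_lit 1, (nat_lit 0x88278b68c34ad18f165e3342438a0200295c67c1), one, (nat_lit 0x2166738bec75d24e7294e9d92d918764f49333e0f), (.inv (nat_lit 18))⟩)))
 (.nd (nat_lit 31) (.nd (nat_lit 30) (.lf ⟨nat_lit 0, nat_lit 1, nat_lit 1, (nat_lit 0x1f481347ebe334a70b6b3939b8e207e5d4a51b440), one, (nat_lit 0x7ca567dd30d58922be2dce626effc4f6e2a710ed), (.prod [nat_lit 27, nat_lit 28])⟩)
 (.lf ⟨nat_lit 0, nat_lit 1, nat_lit 1, (nat_lit 0x1cb949980a7102eefd9cbcd339e6700f449bb75a6), one, (nat_lit 0xde880979a19e183f990488a2146d7c9dac5e4d69), (.prod [nat_lit 29, nat_lit 3])⟩))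
 (.nd (nat_lit 32) (.lf ⟨nat_lit 0, nat_lit 1, nat_lit 1, (nat_lit 0xd0230d63d7d0049f6d151f3340098dc903e84391), one, (nat_lit 0x2cf6c6ea4b96ce8a821440760e7746c7b4efbdff3), (.prod [nat_lit 30, nat_lit 3])⟩)
 (.nd (nat_lit 33) (.lf ⟨nat_lit 0, nat_lit 1, nat_lit 1, (nat_lit 0x141fa1b56db8c2771d3150c96d54dd097535c483), one, (nat_lit 0x24c1b98ea97e97e74d7fc0f9b0fd1653697f935c), (.inv (nat_lit 25))⟩)
 (.lf ⟨nat_lit 0, nat_lit 1, nat_lit 1, (nat_lit 0xeaad67fd11c5b9223e2ddec3fe3fc4bea7a101af), one, (nat_lit 0xfcaaa1b57e374e549ab383d9c6c504e96ef4bd6a), (.prod [nat_lit 27, nat_lit 32])⟩)))))))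

noncomputable def T3_34 : Tr :=
  (.nd (nat_lit 51) (.nd (nat_lit 42) (.nd (nat_lit 38) (.nd (nat_lit 36) (.nd (nat_lit 35) (.lf ⟨nat_lit 1, nat_lit 1, nat_lit 0, one, one, one, (.wt (nat_lit 0) (nat_lit 0) one (.sp .nil) [] [])⟩)
 (.lf ⟨nat_lit 1, nat_lit 1, nat_lit 1, (nat_lit 0x100e0aba0d17c70444d02bf329fd10d7608f1b426), (nat_lit 0x100e0aba0d17c70444d02bf329fd10d7608f1b426), (nat_lit 0x100e0aba0d17c70444d02bf329fd10d7608f1b426), (.wt (nat_lit 2) (nat_lit 0) one (.st (nat_lit 34) [] [] (.sp .nil)) [] [])⟩))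
 (.nd (nat_lit 37) (.lf ⟨nat_lit 1, nat_lit 1, nat_lit 36, (nat_lit 0x3b6020b1ee99f350ad1583cd87ceba46c32e15ab7), one, one, (.df [nat_lit 3])⟩)
 (.lf ⟨nat_lit 0, nat_lit 36, nat_lit 36, (nat_lit 0x1f481347ebe334a70b6b3939b8e207e5d4a51b440), one, (nat_lit 0x1ee35ee62970ce0500d08bb760d5b6a032680657c), (.cmp (nat_lit 36) (nat_lit 36) [nat_lit 3, nat_lit 30] [nat_lit 3])⟩)))
 (.nd (nat_lit 40) (.nd (nat_lit 39) (.lf ⟨nat_lit 0, nat_lit 36, nat_lit 36, (nat_lit 0xfcaaa1b57e374e549ab383d9c6c504e96ef4bd6a), one, (nat_lit 0x10003ee42b1dcfa59538adc760f734d392f56083c), (.prod [nat_lit 37, nat_lit 37])⟩)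
 (.lf ⟨nat_lit 0, nat_lit 36, nat_lit 36, (nat_lit 0x1f17ab37d3680aec186d2ec989b1805c40f0c3439), one, (nat_lit 0x1f17ab37d3680aec186d2ec989b1805c40f0c3439), (.cmp (nat_lit 36) (nat_lit 36) [nat_lit 8] [nat_lit 6])⟩))
 (.nd (nat_lit 41) (.lf ⟨nat_lit 0, nat_lit 36, nat_lit 36, (nat_lit 0xe61e38bec712a461515696e1bcf96e38c0a60401), one, (nat_lit 0x10cd06264ca2eb42128e7499f84c57846e90ee5fd), (.prod [nat_lit 37, nat_lit 39])⟩)
 (.lf ⟨nat_lit 0, nat_lit 36, nat_lit 36, (nat_lit 0x1e4f1e2831920e847b847a3b6d041108eb073913), one, (nat_lit 0x129cd119da7a00e970b7d2071ff55af8efdcbc85), (.prod [nat_lit 38, nat_lit 39])⟩))))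
 (.nd (nat_lit 46) (.nd (nat_lit 44) (.nd (nat_lit 43) (.lf ⟨nat_lit 0, nat_lit 36, nat_lit 36, (nat_lit 0x144f71aeb2b26463c2b6d4f30c0d3e252450edb2b), one, (nat_lit 0x1f6f9326d7c60ac923c68395ac37828e7fccc4b30), (.cmp (nat_lit 36) (nat_lit 36) (unp (nat_lit 5) (nat_lit 0x37a303)) [nat_lit 23])⟩)
 (.lf ⟨nat_lit 0, nat_lit 36, nat_lit 36, (nat_lit 0x1f481347ebe334a70b6b3939b8e207e5d4a51b440), one, (nat_lit 0x1ee35ee62970ce0500d08bb760d5b6a032680657c), (.inv (nat_lit 38))⟩))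
 (.nd (nat_lit 45) (.lf ⟨nat_lit 0, nat_lit 36, nat_lit 36, (nat_lit 0x2cf6c6ea4b96ce8a821440760e7746c7b4efbdff3), one, (nat_lit 0xbcc58b68eda6baf80b67a6638ac95f5dfd1cf7b4), (.prod (unp (nat_lit 6) (nat_lit 0x2baa503)))⟩)
 (.lf ⟨nat_lit 0, nat_lit 36, nat_lit 36, (nat_lit 0x2ce6c6e84b968e8b851402b61ea742ffaae0bdff2), one, (nat_lit 0x1e4650d63eda2b29a3b67b6b3cbfd4fddfd14f7b5), (.prod [nat_lit 44, nat_lit 44])⟩)))
 (.nd (nat_lit 48) (.nd (nat_lit 47) (.lf ⟨nat_lit 1, nat_lit 36, nat_lit 1, one, (nat_lit 0x3b6020b1ee99f350ad1583cd87ceba46c32e15ab7), one, (.wt (nat_lit 0) (nat_lit 0) (nat_lit 0x3b6020b1ee99f350ad1583cd87ceba46c32e15ab7) (.st (nat_lit 36) [] [] .nil) [] [])⟩)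
 (.lf ⟨nat_lit 1, nat_lit 36, nat_lit 36, (nat_lit 0x100e0aba0d17c70444d02bf329fd10d7608f1b426), (nat_lit 0x302b154fb7995a5b3b2550e2002a535d7e5d04566), (nat_lit 0x105f889bf84ba5216a50d0702eacb68cdacb59cb4), (.wt (nat_lit 2) (nat_lit 2) (nat_lit 0x9804a5765266ab55a26058f43224121f97935816) (.st (nat_lit 46) [nat_lit 3, nat_lit 19] [] (.st (nat_lit 36) [] [nat_lit 8] .nil)) [] [])⟩))
 (.nd (nat_lit 49) (.lf ⟨nat_lit 1, nat_lit 36, nat_lit 48, (nat_lit 0x3b6020b1ee99f350ad1583cd87ceba46c32e15ab7), one, one, (.df [nat_lit 3])⟩)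
 (.nd (nat_lit 50) (.lf ⟨nat_lit 0, nat_lit 48, nat_lit 48, (nat_lit 0x27886d5f2d21155f20e72f284280a739b940580), one, (nat_lit 0x1c2dc834c117cc9be475051e9326443f773ad7902), (.cmp (nat_lit 48) (nat_lit 48) (unp (nat_lit 5) (nat_lit 0x5ba403)) [nat_lit 44, nat_lit 41])⟩)
 (.lf ⟨nat_lit 0, nat_lit 48, nat_lit 48, (nat_lit 0x1b83d2413c1dbc1557085fa50601b07e39b9f355c), one, (nat_lit 0x1785dad8c614509bec4539d29c7547e7773a6c15e), (.prod [nat_lit 49, nat_lit 49])⟩))))))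
 (.nd (nat_lit 59) (.nd (nat_lit 55) (.nd (nat_lit 53) (.nd (nat_lit 52) (.lf ⟨nat_lit 1, nat_lit 48, nat_lit 36, one, (nat_lit 0x3b6020b1ee99f350ad1583cd87ceba46c32e15ab7), one, (.wt (nat_lit 0) (nat_lit 0) (nat_lit 0x3b6020b1ee99f350ad1583cd87ceba46c32e15ab7) (.st (nat_lit 48) [] [] .nil) [] [])⟩)
 (.lf ⟨nat_lit 1, nat_lit 48, nat_lit 48, (nat_lit 0x100e0aba0d17c70444d02bf329fd10d7608f1b426), (nat_lit 0x2a8906d58172ec9055249ba5115c9c037e3b941a0), (nat_lit 0xb2c9974ee81aebb0a3b69890767c7661bec1a0fb), (.wt (nat_lit 2) (nat_lit 2) (nat_lit 0x23aeeee429463e09abe74cacbff7a256f927f45f3) (.st (nat_lit 51) (unp (nat_lit 5) (nat_lit 0x23c403)) [] (.st (nat_lit 48) [nat_lit 31, nat_lit 11] [nat_lit 44, nat_lit 38] .nil)) [nat_lit 18] [])⟩))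
 (.nd (nat_lit 54) (.lf ⟨nat_lit 1, nat_lit 48, nat_lit 53, (nat_lit 0x29d069dd4289881cb0b1977aaf1daee2c113e4bec), one, one, (.df [nat_lit 2])⟩)
 (.lf ⟨nat_lit 0, nat_lit 53, nat_lit 53, (nat_lit 0x2166738bec75d24e7294e9d92d918764f49333e0f), one, (nat_lit 0x1c2dc834c117cc9be475051e9326443f773ad7902), (.cmp (nat_lit 53) (nat_lit 53) [nat_lit 30, nat_lit 20] [nat_lit 49])⟩)))
 (.nd (nat_lit 57) (.nd (nat_lit 56) (.lf ⟨nat_lit 0, nat_lit 53, nat_lit 53, (nat_lit 0x217671bb1d0d686d559c231b1f407326aaad33e0e), one, (nat_lit 0x1785dad8c614509bec4539d29c7547e7773a6c15e), (.prod [nat_lit 54, nat_lit 54])⟩)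
 (.lf ⟨nat_lit 1, nat_lit 53, nat_lit 48, one, (nat_lit 0x29d069dd4289881cb0b1977aaf1daee2c113e4bec), one, (.wt (nat_lit 0) (nat_lit 0) (nat_lit 0x29d069dd4289881cb0b1977aaf1daee2c113e4bec) (.st (nat_lit 53) [] [] .nil) [] [])⟩))
 (.nd (nat_lit 58) (.lf ⟨nat_lit 1, nat_lit 53, nat_lit 48, (nat_lit 0x2ba2cea7bd829f6f53bc17c3f6c7dba59a18cc2c5), (nat_lit 0x1c15ce4154e672a8e2d0c3910acbdddd5d1cefd22), (nat_lit 0x86ad1ff6a33f145f4194337adc5138ad8c9bdcb7), (.wt (nat_lit 6) (nat_lit 2) (nat_lit 0x10e4101f00faf42cdfc15aeb1f6e6b0be4f5696c) (.st (nat_lit 51) (unp (nat_lit 5) (nat_lit 0x3fe303)) [] (.st (nat_lit 46) (unp (nat_lit 5) (nat_lit 0x53c303)) [] (.st (nat_lit 34) (unp (nat_lit 5) (nat_lit 0x4fa403)) [] (.sp (.st (nat_lit 36) [nat_lit 4, nat_lit 30] [nat_lit 8] (.st (nat_lit 48) (unp (nat_lit 5) (nat_lit 0x47e303)) [nat_lit 45, nat_lit 38] (.st (nat_lit 53)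 (unp (nat_lit 5) (nat_lit 0x53c303)) [] .nil))))))) (unp (nat_lit 5) (nat_lit 0x4fa403)) [])⟩)
 (.lf ⟨nat_lit 0, nat_lit 53, nat_lit 53, (nat_lit 0xc5e71250a7eeeee29cd26a3a8a9d589a2afcb57c), one, (nat_lit 0x86ad1ff6a33f145f4194337adc5138ad8c9bdcb7), (.we (nat_lit 0) (nat_lit 0) (nat_lit 0x2ba2cea7bd829f6f53bc17c3f6c7dba59a18cc2c5) (.st (nat_lit 57) [] [] (.st (nat_lit 53) (unp (nat_lit 5) (nat_lit 0x37e303)) [] .nil)))⟩))))
 (.nd (nat_lit 63) (.nd (nat_lit 61) (.nd (nat_lit 60) (.lf ⟨nat_lit 0, nat_lit 53, nat_lit 53, (nat_lit 0x210b25961101b0803255fa684a400234871d01cf), one, (nat_lit 0x13ea0bc0d56ce86cc9fd377d87ce81f0a0dee6589), (.prod [nat_lit 54, nat_lit 58])⟩)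
 (.lf ⟨nat_lit 0, nat_lit 53, nat_lit 53, (nat_lit 0xe4ec14e9a160fc505e0b2c71efc21ecb4e09b4b3), one, (nat_lit 0x1038c8d1b85cc5293dd44986257891a6781760163), (.prod [nat_lit 55, nat_lit 58])⟩))
 (.nd (nat_lit 62) (.lf ⟨nat_lit 1, nat_lit 48, nat_lit 61, (nat_lit 0x2ba2cea7bd829f6f53bc17c3f6c7dba59a18cc2c5), one, one, (.df [nat_lit 2, nat_lit 0])⟩)
 (.lf ⟨nat_lit 0, nat_lit 61, nat_lit 61, (nat_lit 0x2166738bec75d24e7294e9d92d918764f49333e0f), one, (nat_lit 0x1c2dc834c117cc9be475051e9326443f773ad7902), (.cmp (nat_lit 61) (nat_lit 61) [nat_lit 30, nat_lit 20] [nat_lit 49])⟩)))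
 (.nd (nat_lit 65) (.nd (nat_lit 64) (.lf ⟨nat_lit 0, nat_lit 61, nat_lit 61, (nat_lit 0x217671bb1d0d686d559c231b1f407326aaad33e0e), one, (nat_lit 0x1785dad8c614509bec4539d29c7547e7773a6c15e), (.prod [nat_lit 62, nat_lit 62])⟩)
 (.lf ⟨nat_lit 1, nat_lit 61, nat_lit 48, one, (nat_lit 0x2ba2cea7bd829f6f53bc17c3f6c7dba59a18cc2c5), one, (.wt (nat_lit 0) (nat_lit 0) (nat_lit 0x2ba2cea7bd829f6f53bc17c3f6c7dba59a18cc2c5) (.st (nat_lit 61) [] [] .nil) [] [])⟩))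
 (.nd (nat_lit 66) (.lf ⟨nat_lit 1, nat_lit 61, nat_lit 53, (nat_lit 0x100e0aba0d17c70444d02bf329fd10d7608f1b426), (nat_lit 0x100e0aba0d17c70444d02bf329fd10d7608f1b426), one, (.wt (nat_lit 2) (nat_lit 2) one (.st (nat_lit 56) [] [] (.st (nat_lit 61) [] [] .nil)) [] [])⟩)
 (.nd (nat_lit 67) (.lf ⟨nat_lit 1, nat_lit 53, nat_lit 61, (nat_lit 0x100e0aba0d17c70444d02bf329fd10d7608f1b426), (nat_lit 0x100e0aba0d17c70444d02bf329fd10d7608f1b426), one, (.wt (nat_lit 0) (nat_lit 0) (nat_lit 0x100e0aba0d17c70444d02bf329fd10d7608f1b426) (.st (nat_lit 65) [] [] .nil) [] [])⟩)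
 (.lf ⟨nat_lit 1, nat_lit 61, nat_lit 48, (nat_lit 0x29d069dd4289881cb0b1977aaf1daee2c113e4bec), (nat_lit 0x1d74efaf27a0ae358f22adb6fef96f7de343cfe6), (nat_lit 0x371021b1d6048299b2ca6b82df430b7d0cdf7524), (.wt (nat_lit 6) (nat_lit 2) (nat_lit 0x18cdf0ebc12da51136c0ce9466fa370110a788864) (.st (nat_lit 51) (unp (nat_lit 5) (nat_lit 0x3be303)) [] (.st (nat_lit 47) (unp (nat_lit 5) (nat_lit 0x2fa303)) [] (.st (nat_lit 48) (unp (nat_lit 5) (nat_lit 0x57e303)) [nat_lit 44, nat_lit 38] (.st (nat_lit 53) (unp (nat_lit 5) (nat_lit 0x3fa303)) [] (.st (nat_lit 56) [nat_lit 3, nat_lit 21] [nat_lit 58] (.st (nat_lit 52) [nat_lit 3, nat_lit 18] [] (.st (nat_lit 61) (unp (nat_lit 5) (nat_lit 0x57a303)) [] .nil))))))) (unp (nat_lit 5) (nat_lit 0x53c403)) [])⟩)))))))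

noncomputable def T3_68 : Tr :=
  (.nd (nat_lit 85) (.nd (nat_lit 76) (.nd (nat_lit 72) (.nd (nat_lit 70) (.nd (nat_lit 69) (.lf ⟨nat_lit 0, nat_lit 61, nat_lit 61, (nat_lit 0x200a0b1ec06b20b36f414402ead52b870c2c9ce5), one, (nat_lit 0x371021b1d6048299b2ca6b82df430b7d0cdf7524), (.we (nat_lit 0) (nat_lit 0) (nat_lit 0x29d069dd4289881cb0b1977aaf1daee2c113e4bec) (.st (nat_lit 67) [] [] (.st (nat_lit 61) (unp (nat_lit 5) (nat_lit 0x4fc303)) [] .nil)))⟩)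
 (.lf ⟨nat_lit 0, nat_lit 61, nat_lit 61, (nat_lit 0x1cd859d3a253deebde548cf608ea6261d0fe4dd58), one, (nat_lit 0xac340fad603080d6db4e0951beb2437de645b04f), (.prod [nat_lit 62, nat_lit 68])⟩))
 (.nd (nat_lit 71) (.lf ⟨nat_lit 0, nat_lit 61, nat_lit 61, (nat_lit 0x1ed8fb50bf2d96c3c7a8537414b6c49ffe02041bd), one, (nat_lit 0x20a500fcc609c24f6a87be1396c175c0ea997d36), (.prod [nat_lit 63, nat_lit 68])⟩)
 (.lf ⟨nat_lit 1, nat_lit 53, nat_lit 71, (nat_lit 0x3b6020b1ee99f350ad1583cd87ceba46c32e15ab7), one, one, (.df [nat_lit 3])⟩)))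
 (.nd (nat_lit 74) (.nd (nat_lit 73) (.lf ⟨nat_lit 0, nat_lit 71, nat_lit 71, (nat_lit 0x176708afc7d76226519823ab768f79ea6a430c16), one, (nat_lit 0x13ea0bc0d56ce86cc9fd377d87ce81f0a0dee6589), (.cmp (nat_lit 71) (nat_lit 71) (unp (nat_lit 5) (nat_lit 0x27a303)) [nat_lit 59])⟩)
 (.lf ⟨nat_lit 1, nat_lit 71, nat_lit 53, one, (nat_lit 0x3b6020b1ee99f350ad1583cd87ceba46c32e15ab7), one, (.wt (nat_lit 0) (nat_lit 0) (nat_lit 0x3b6020b1ee99f350ad1583cd87ceba46c32e15ab7) (.st (nat_lit 71) [] [] .nil) [] [])⟩))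
 (.nd (nat_lit 75) (.lf ⟨nat_lit 1, nat_lit 53, nat_lit 74, (nat_lit 0xf6d11ea1f2003230c9ae98d7ebf7a100d6421009), one, one, (.df (unp (nat_lit 2) (nat_lit 0x2203)))⟩)
 (.lf ⟨nat_lit 0, nat_lit 74, nat_lit 74, (nat_lit 0xf20133bb32f31cbd46cd0482611f4667a3cfc082), one, (nat_lit 0x86ad1ff6a33f145f4194337adc5138ad8c9bdcb7), (.cmp (nat_lit 74) (nat_lit 74) (unp (nat_lit 5) (nat_lit 0x47c403)) [nat_lit 58])⟩))))
 (.nd (nat_lit 80) (.nd (nat_lit 78) (.nd (nat_lit 77) (.lf ⟨nat_lit 1, nat_lit 74, nat_lit 53, one, (nat_lit 0xf6d11ea1f2003230c9ae98d7ebf7a100d6421009), one, (.wt (nat_lit 0) (nat_lit 0) (nat_lit 0xf6d11ea1f2003230c9ae98d7ebf7a100d6421009) (.st (nat_lit 74) [] [] .nil) [] [])⟩)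
 (.lf ⟨nat_lit 1, nat_lit 74, nat_lit 71, (nat_lit 0x100e0aba0d17c70444d02bf329fd10d7608f1b426), (nat_lit 0x7290265e57c5cadff2ce9cf2c7db2a3381f279b1), (nat_lit 0x1c2dc834c117cc9be475051e9326443f773ad7902), (.wt (nat_lit 2) (nat_lit 2) (nat_lit 0x2a0a9a2d15c2218952a404dbfae086843305090d) (.st (nat_lit 73) (unp (nat_lit 5) (nat_lit 0x57a403)) [] (.st (nat_lit 74) [] [nat_lit 55] .nil)) [] [])⟩))
 (.nd (nat_lit 79) (.lf ⟨nat_lit 1, nat_lit 71, nat_lit 74, (nat_lit 0x100e0aba0d17c70444d02bf329fd10d7608f1b426), (nat_lit 0x1d9a2fbca274202ca5f359fb70f2deb66082d395e), (nat_lit 0x1785dad8c614509bec4539d29c7547e7773a6c15e), (.wt (nat_lit 0) (nat_lit 0) (nat_lit 0x100e0aba0d17c70444d02bf329fd10d7608f1b426) (.st (nat_lit 77) [] [] .nil) (unp (nat_lit 5) (nat_lit 0x5bc403)) [])⟩)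
 (.lf ⟨nat_lit 1, nat_lit 61, nat_lit 79, (nat_lit 0x3b6020b1ee99f350ad1583cd87ceba46c32e15ab7), one, one, (.df [nat_lit 3])⟩)))
 (.nd (nat_lit 82) (.nd (nat_lit 81) (.lf ⟨nat_lit 0, nat_lit 79, nat_lit 79, (nat_lit 0x1e09eba24b57d5e67670e7f33d4d71ef2cf14b425), one, (nat_lit 0x20a500fcc609c24f6a87be1396c175c0ea997d36), (.cmp (nat_lit 79) (nat_lit 79) (unp (nat_lit 5) (nat_lit 0x4bc403)) [nat_lit 70])⟩)
 (.lf ⟨nat_lit 1, nat_lit 79, nat_lit 61, one, (nat_lit 0x3b6020b1ee99f350ad1583cd87ceba46c32e15ab7), one, (.wt (nat_lit 0) (nat_lit 0) (nat_lit 0x3b6020b1ee99f350ad1583cd87ceba46c32e15ab7) (.st (nat_lit 79) [] [] .nil) [] [])⟩))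
 (.nd (nat_lit 83) (.lf ⟨nat_lit 1, nat_lit 61, nat_lit 82, (nat_lit 0xf6d11ea1f2003230c9ae98d7ebf7a100d6421009), one, one, (.df (unp (nat_lit 2) (nat_lit 0x2203)))⟩)
 (.nd (nat_lit 84) (.lf ⟨nat_lit 0, nat_lit 82, nat_lit 82, (nat_lit 0x1e71d8df0207a38ad2b5cb84a68c733ee8effccac), one, (nat_lit 0xac340fad603080d6db4e0951beb2437de645b04f), (.cmp (nat_lit 82) (nat_lit 82) (unp (nat_lit 5) (nat_lit 0x1ba303)) [nat_lit 69])⟩)
 (.lf ⟨nat_lit 1, nat_lit 82, nat_lit 61, one, (nat_lit 0xf6d11ea1f2003230c9ae98d7ebf7a100d6421009), one, (.wt (nat_lit 0) (nat_lit 0) (nat_lit 0xf6d11ea1f2003230c9ae98d7ebf7a100d6421009) (.st (nat_lit 82) [] [] .nil) [] [])⟩))))))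
 (.nd (nat_lit 93) (.nd (nat_lit 89) (.nd (nat_lit 87) (.nd (nat_lit 86) (.lf ⟨nat_lit 1, nat_lit 82, nat_lit 79, (nat_lit 0x100e0aba0d17c70444d02bf329fd10d7608f1b426), (nat_lit 0x7290265e57c5cadff2ce9cf2c7db2a3381f279b1), (nat_lit 0x1c2dc834c117cc9be475051e9326443f773ad7902), (.wt (nat_lit 2) (nat_lit 2) (nat_lit 0x2a0a9a2d15c2218952a404dbfae086843305090d) (.st (nat_lit 81) (unp (nat_lit 5) (nat_lit 0x57a403)) [] (.st (nat_lit 82) [] [nat_lit 63] .nil)) [] [])⟩)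
 (.lf ⟨nat_lit 1, nat_lit 79, nat_lit 82, (nat_lit 0x100e0aba0d17c70444d02bf329fd10d7608f1b426), (nat_lit 0x1d9a2fbca274202ca5f359fb70f2deb66082d395e), (nat_lit 0x1785dad8c614509bec4539d29c7547e7773a6c15e), (.wt (nat_lit 0) (nat_lit 0) (nat_lit 0x100e0aba0d17c70444d02bf329fd10d7608f1b426) (.st (nat_lit 85) [] [] .nil) (unp (nat_lit 5) (nat_lit 0x5bc403)) [])⟩))
 (.nd (nat_lit 88) (.lf ⟨nat_lit 1, nat_lit 48, nat_lit 87, (nat_lit 0x3b6020b1ee99f350ad1583cd87ceba46c32e15ab7), one, one, (.df [nat_lit 3])⟩)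
 (.lf ⟨nat_lit 1, nat_lit 87, nat_lit 48, one, (nat_lit 0x3b6020b1ee99f350ad1583cd87ceba46c32e15ab7), one, (.wt (nat_lit 0) (nat_lit 0) (nat_lit 0x3b6020b1ee99f350ad1583cd87ceba46c32e15ab7) (.st (nat_lit 87) [] [] .nil) [] [])⟩)))
 (.nd (nat_lit 91) (.nd (nat_lit 90) (.lf ⟨nat_lit 1, nat_lit 48, nat_lit 89, (nat_lit 0x125910161e8d6fe6d72746c6acb95732f82b12d8b), one, one, (.df [nat_lit 2, nat_lit 8])⟩)
 (.lf ⟨nat_lit 1, nat_lit 89, nat_lit 48, one, (nat_lit 0x125910161e8d6fe6d72746c6acb95732f82b12d8b), one, (.wt (nat_lit 0) (nat_lit 0) (nat_lit 0x125910161e8d6fe6d72746c6acb95732f82b12d8b) (.st (nat_lit 89) [] [] .nil) [] [])⟩))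
 (.nd (nat_lit 92) (.lf ⟨nat_lit 1, nat_lit 89, nat_lit 87, (nat_lit 0x100e0aba0d17c70444d02bf329fd10d7608f1b426), (nat_lit 0x1fcc4265e5f5e8c58e758190706d179ef60cc5dd7), one, (.wt (nat_lit 2) (nat_lit 2) (nat_lit 0xa2ea9a2d0d739cc971a9d423bd96b619a03ddbf2) (.st (nat_lit 88) [nat_lit 4, nat_lit 22] [] (.st (nat_lit 89) [] [] .nil)) [] [])⟩)
 (.lf ⟨nat_lit 1, nat_lit 87, nat_lit 89, (nat_lit 0x100e0aba0d17c70444d02bf329fd10d7608f1b426), (nat_lit 0x3e9bb5a40ffe36717b19c821828fe8c2a374cf1a2), one, (.wt (nat_lit 0) (nat_lit 0) (nat_lit 0x100e0aba0d17c70444d02bf329fd10d7608f1b426) (.st (nat_lit 91) [] [] .nil) (unp (nat_lit 5) (nat_lit 0x3fe303)) [])⟩))))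
 (.nd (nat_lit 97) (.nd (nat_lit 95) (.nd (nat_lit 94) (.lf ⟨nat_lit 1, nat_lit 71, nat_lit 93, (nat_lit 0x3b6020b1ee99f350ad1583cd87ceba46c32e15ab7), one, one, (.df [nat_lit 3])⟩)
 (.lf ⟨nat_lit 1, nat_lit 93, nat_lit 71, one, (nat_lit 0x3b6020b1ee99f350ad1583cd87ceba46c32e15ab7), one, (.wt (nat_lit 0) (nat_lit 0) (nat_lit 0x3b6020b1ee99f350ad1583cd87ceba46c32e15ab7) (.st (nat_lit 93) [] [] .nil) [] [])⟩))
 (.nd (nat_lit 96) (.lf ⟨nat_lit 1, nat_lit 71, nat_lit 95, (nat_lit 0xf6d11ea1f2003230c9ae98d7ebf7a100d6421009), one, one, (.df (unp (nat_lit 2) (nat_lit 0x2203)))⟩)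
 (.lf ⟨nat_lit 1, nat_lit 95, nat_lit 71, one, (nat_lit 0xf6d11ea1f2003230c9ae98d7ebf7a100d6421009), one, (.wt (nat_lit 0) (nat_lit 0) (nat_lit 0xf6d11ea1f2003230c9ae98d7ebf7a100d6421009) (.st (nat_lit 95) [] [] .nil) [] [])⟩)))
 (.nd (nat_lit 99) (.nd (nat_lit 98) (.lf ⟨nat_lit 1, nat_lit 71, nat_lit 97, (nat_lit 0x125910161e8d6fe6d72746c6acb95732f82b12d8b), one, one, (.df [nat_lit 2, nat_lit 8])⟩)
 (.lf ⟨nat_lit 1, nat_lit 97, nat_lit 71, one, (nat_lit 0x125910161e8d6fe6d72746c6acb95732f82b12d8b), one, (.wt (nat_lit 0) (nat_lit 0) (nat_lit 0x125910161e8d6fe6d72746c6acb95732f82b12d8b) (.st (nat_lit 97) [] [] .nil) [] [])⟩))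
 (.nd (nat_lit 100) (.lf ⟨nat_lit 1, nat_lit 97, nat_lit 93, (nat_lit 0x100e0aba0d17c70444d02bf329fd10d7608f1b426), (nat_lit 0x1fcc4265e5f5e8c58e758190706d179ef60cc5dd7), one, (.wt (nat_lit 2) (nat_lit 2) (nat_lit 0xa2ea9a2d0d739cc971a9d423bd96b619a03ddbf2) (.st (nat_lit 94) [nat_lit 4, nat_lit 22] [] (.st (nat_lit 97) [] [] .nil)) [] [])⟩)
 (.nd (nat_lit 101) (.lf ⟨nat_lit 1, nat_lit 93, nat_lit 97, (nat_lit 0x100e0aba0d17c70444d02bf329fd10d7608f1b426), (nat_lit 0x3e9bb5a40ffe36717b19c821828fe8c2a374cf1a2), one, (.wt (nat_lit 0) (nat_lit 0) (nat_lit 0x100e0aba0d17c70444d02bf329fd10d7608f1b426) (.st (nat_lit 99) [] [] .nil) (unp (nat_lit 5) (nat_lit 0x3fe303)) [])⟩)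
 (.lf ⟨nat_lit 1, nat_lit 71, nat_lit 101, (nat_lit 0x3eba12c3c3234cd354a978de13ad53d6c7be58abc), one, one, (.df [nat_lit 2, nat_lit 2])⟩)))))))

noncomputable def T3_102 : Tr :=
  (.nd (nat_lit 119) (.nd (nat_lit 110) (.nd (nat_lit 106) (.nd (nat_lit 104) (.nd (nat_lit 103) (.lf ⟨nat_lit 1, nat_lit 101, nat_lit 71, one, (nat_lit 0x3eba12c3c3234cd354a978de13ad53d6c7be58abc), one, (.wt (nat_lit 0) (nat_lit 0) (nat_lit 0x3eba12c3c3234cd354a978de13ad53d6c7be58abc) (.st (nat_lit 101) [] [] .nil) [] [])⟩)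
 (.lf ⟨nat_lit 1, nat_lit 101, nat_lit 95, (nat_lit 0x100e0aba0d17c70444d02bf329fd10d7608f1b426), (nat_lit 0x100e0aba0d17c70444d02bf329fd10d7608f1b426), one, (.wt (nat_lit 2) (nat_lit 2) one (.st (nat_lit 96) [] [] (.st (nat_lit 101) [] [] .nil)) [] [])⟩))
 (.nd (nat_lit 105) (.lf ⟨nat_lit 1, nat_lit 95, nat_lit 101, (nat_lit 0x100e0aba0d17c70444d02bf329fd10d7608f1b426), (nat_lit 0x100e0aba0d17c70444d02bf329fd10d7608f1b426), one, (.wt (nat_lit 0) (nat_lit 0) (nat_lit 0x100e0aba0d17c70444d02bf329fd10d7608f1b426) (.st (nat_lit 103) [] [] .nil) [] [])⟩)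
 (.lf ⟨nat_lit 1, nat_lit 74, nat_lit 105, (nat_lit 0x3b6020b1ee99f350ad1583cd87ceba46c32e15ab7), one, one, (.df [nat_lit 3])⟩)))
 (.nd (nat_lit 108) (.nd (nat_lit 107) (.lf ⟨nat_lit 1, nat_lit 105, nat_lit 74, one, (nat_lit 0x3b6020b1ee99f350ad1583cd87ceba46c32e15ab7), one, (.wt (nat_lit 0) (nat_lit 0) (nat_lit 0x3b6020b1ee99f350ad1583cd87ceba46c32e15ab7) (.st (nat_lit 105) [] [] .nil) [] [])⟩)
 (.lf ⟨nat_lit 1, nat_lit 74, nat_lit 107, (nat_lit 0x29d069dd4289881cb0b1977aaf1daee2c113e4bec), one, one, (.df [nat_lit 2])⟩))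
 (.nd (nat_lit 109) (.lf ⟨nat_lit 1, nat_lit 107, nat_lit 74, one, (nat_lit 0x29d069dd4289881cb0b1977aaf1daee2c113e4bec), one, (.wt (nat_lit 0) (nat_lit 0) (nat_lit 0x29d069dd4289881cb0b1977aaf1daee2c113e4bec) (.st (nat_lit 107) [] [] .nil) [] [])⟩)
 (.lf ⟨nat_lit 1, nat_lit 74, nat_lit 109, (nat_lit 0x125910161e8d6fe6d72746c6acb95732f82b12d8b), one, one, (.df [nat_lit 2, nat_lit 8])⟩))))
 (.nd (nat_lit 114) (.nd (nat_lit 112) (.nd (nat_lit 111) (.lf ⟨nat_lit 1, nat_lit 109, nat_lit 74, one, (nat_lit 0x125910161e8d6fe6d72746c6acb95732f82b12d8b), one, (.wt (nat_lit 0) (nat_lit 0) (nat_lit 0x125910161e8d6fe6d72746c6acb95732f82b12d8b) (.st (nat_lit 109) [] [] .nil) [] [])⟩)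
 (.lf ⟨nat_lit 1, nat_lit 109, nat_lit 105, (nat_lit 0x100e0aba0d17c70444d02bf329fd10d7608f1b426), (nat_lit 0x1fcc4265e5f5e8c58e758190706d179ef60cc5dd7), one, (.wt (nat_lit 2) (nat_lit 2) (nat_lit 0xa2ea9a2d0d739cc971a9d423bd96b619a03ddbf2) (.st (nat_lit 106) [nat_lit 4, nat_lit 22] [] (.st (nat_lit 109) [] [] .nil)) [] [])⟩))
 (.nd (nat_lit 113) (.lf ⟨nat_lit 1, nat_lit 105, nat_lit 109, (nat_lit 0x100e0aba0d17c70444d02bf329fd10d7608f1b426), (nat_lit 0x3e9bb5a40ffe36717b19c821828fe8c2a374cf1a2), one, (.wt (nat_lit 0) (nat_lit 0) (nat_lit 0x100e0aba0d17c70444d02bf329fd10d7608f1b426) (.st (nat_lit 111) [] [] .nil) (unp (nat_lit 5) (nat_lit 0x3fe303)) [])⟩)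
 (.lf ⟨nat_lit 1, nat_lit 74, nat_lit 113, (nat_lit 0x1fce42ed966b34fae64312a96f69e1eea7db1de4), one, one, (.df [nat_lit 8])⟩)))
 (.nd (nat_lit 116) (.nd (nat_lit 115) (.lf ⟨nat_lit 1, nat_lit 113, nat_lit 74, one, (nat_lit 0x1fce42ed966b34fae64312a96f69e1eea7db1de4), one, (.wt (nat_lit 0) (nat_lit 0) (nat_lit 0x1fce42ed966b34fae64312a96f69e1eea7db1de4) (.st (nat_lit 113) [] [] .nil) [] [])⟩)
 (.lf ⟨nat_lit 1, nat_lit 113, nat_lit 107, (nat_lit 0x100e0aba0d17c70444d02bf329fd10d7608f1b426), (nat_lit 0x113a82ffd2fa1cfc14b0dde44999e309948c436c6), (nat_lit 0x86ad1ff6a33f145f4194337adc5138ad8c9bdcb7), (.wt (nat_lit 2) (nat_lit 2) (nat_lit 0x110e73588db8a2863d1ce11fc75efd36e76f76150) (.st (nat_lit 108) [nat_lit 31, nat_lit 14] [] (.st (nat_lit 113) [] [nat_lit 75] .nil)) [] [])⟩))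
 (.nd (nat_lit 117) (.lf ⟨nat_lit 1, nat_lit 107, nat_lit 113, (nat_lit 0x100e0aba0d17c70444d02bf329fd10d7608f1b426), (nat_lit 0x137a3e5cff7eff5ab279c4b04df6d233c55ad341b), (nat_lit 0x86ad1ff6a33f145f4194337adc5138ad8c9bdcb7), (.wt (nat_lit 0) (nat_lit 0) (nat_lit 0x100e0aba0d17c70444d02bf329fd10d7608f1b426) (.st (nat_lit 115) [] [] .nil) [nat_lit 17] [])⟩)
 (.nd (nat_lit 118) (.lf ⟨nat_lit 1, nat_lit 79, nat_lit 117, (nat_lit 0x3b6020b1ee99f350ad1583cd87ceba46c32e15ab7), one, one, (.df [nat_lit 3])⟩)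
 (.lf ⟨nat_lit 1, nat_lit 117, nat_lit 79, one, (nat_lit 0x3b6020b1ee99f350ad1583cd87ceba46c32e15ab7), one, (.wt (nat_lit 0) (nat_lit 0) (nat_lit 0x3b6020b1ee99f350ad1583cd87ceba46c32e15ab7) (.st (nat_lit 117) [] [] .nil) [] [])⟩))))))
 (.nd (nat_lit 127) (.nd (nat_lit 123) (.nd (nat_lit 121) (.nd (nat_lit 120) (.lf ⟨nat_lit 1, nat_lit 79, nat_lit 119, (nat_lit 0x29d069dd4289881cb0b1977aaf1daee2c113e4bec), one, one, (.df [nat_lit 2])⟩)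
 (.lf ⟨nat_lit 1, nat_lit 119, nat_lit 79, one, (nat_lit 0x29d069dd4289881cb0b1977aaf1daee2c113e4bec), one, (.wt (nat_lit 0) (nat_lit 0) (nat_lit 0x29d069dd4289881cb0b1977aaf1daee2c113e4bec) (.st (nat_lit 119) [] [] .nil) [] [])⟩))
 (.nd (nat_lit 122) (.lf ⟨nat_lit 1, nat_lit 79, nat_lit 121, (nat_lit 0x125910161e8d6fe6d72746c6acb95732f82b12d8b), one, one, (.df [nat_lit 2, nat_lit 8])⟩)
 (.lf ⟨nat_lit 1, nat_lit 121, nat_lit 79, one, (nat_lit 0x125910161e8d6fe6d72746c6acb95732f82b12d8b), one, (.wt (nat_lit 0) (nat_lit 0) (nat_lit 0x125910161e8d6fe6d72746c6acb95732f82b12d8b) (.st (nat_lit 121) [] [] .nil) [] [])⟩)))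
 (.nd (nat_lit 125) (.nd (nat_lit 124) (.lf ⟨nat_lit 1, nat_lit 121, nat_lit 117, (nat_lit 0x100e0aba0d17c70444d02bf329fd10d7608f1b426), (nat_lit 0x1fcc4265e5f5e8c58e758190706d179ef60cc5dd7), one, (.wt (nat_lit 2) (nat_lit 2) (nat_lit 0xa2ea9a2d0d739cc971a9d423bd96b619a03ddbf2) (.st (nat_lit 118) [nat_lit 4, nat_lit 22] [] (.st (nat_lit 121) [] [] .nil)) [] [])⟩)
 (.lf ⟨nat_lit 1, nat_lit 117, nat_lit 121, (nat_lit 0x100e0aba0d17c70444d02bf329fd10d7608f1b426), (nat_lit 0x3e9bb5a40ffe36717b19c821828fe8c2a374cf1a2), one, (.wt (nat_lit 0) (nat_lit 0) (nat_lit 0x100e0aba0d17c70444d02bf329fd10d7608f1b426) (.st (nat_lit 123) [] [] .nil) (unp (nat_lit 5) (nat_lit 0x3fe303)) [])⟩))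
 (.nd (nat_lit 126) (.lf ⟨nat_lit 1, nat_lit 79, nat_lit 125, (nat_lit 0x1fce42ed966b34fae64312a96f69e1eea7db1de4), one, one, (.df [nat_lit 8])⟩)
 (.lf ⟨nat_lit 1, nat_lit 125, nat_lit 79, one, (nat_lit 0x1fce42ed966b34fae64312a96f69e1eea7db1de4), one, (.wt (nat_lit 0) (nat_lit 0) (nat_lit 0x1fce42ed966b34fae64312a96f69e1eea7db1de4) (.st (nat_lit 125) [] [] .nil) [] [])⟩))))
 (.nd (nat_lit 131) (.nd (nat_lit 129) (.nd (nat_lit 128) (.lf ⟨nat_lit 1, nat_lit 125, nat_lit 119, (nat_lit 0x100e0aba0d17c70444d02bf329fd10d7608f1b426), (nat_lit 0x3fbba17446400ee10b2f44b79f34938ff7bce870a), (nat_lit 0x20a500fcc609c24f6a87be1396c175c0ea997d36), (.wt (nat_lit 2) (nat_lit 2) (nat_lit 0x13c6ebc176ae1c7009837846b99116e574d4212b3) (.st (nat_lit 120) [nat_lit 31, nat_lit 13] [] (.st (nat_lit 125) [] [nat_lit 80] .nil)) [] [])⟩)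
 (.lf ⟨nat_lit 1, nat_lit 119, nat_lit 125, (nat_lit 0x100e0aba0d17c70444d02bf329fd10d7608f1b426), (nat_lit 0x1cacea1681d954f6c14a145150094b8ec510bf1a9), (nat_lit 0x20a500fcc609c24f6a87be1396c175c0ea997d36), (.wt (nat_lit 0) (nat_lit 0) (nat_lit 0x100e0aba0d17c70444d02bf329fd10d7608f1b426) (.st (nat_lit 127) [] [] .nil) [nat_lit 16] [])⟩))
 (.nd (nat_lit 130) (.lf ⟨nat_lit 1, nat_lit 82, nat_lit 129, (nat_lit 0x3b6020b1ee99f350ad1583cd87ceba46c32e15ab7), one, one, (.df [nat_lit 3])⟩)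
 (.lf ⟨nat_lit 1, nat_lit 129, nat_lit 82, one, (nat_lit 0x3b6020b1ee99f350ad1583cd87ceba46c32e15ab7), one, (.wt (nat_lit 0) (nat_lit 0) (nat_lit 0x3b6020b1ee99f350ad1583cd87ceba46c32e15ab7) (.st (nat_lit 129) [] [] .nil) [] [])⟩)))
 (.nd (nat_lit 133) (.nd (nat_lit 132) (.lf ⟨nat_lit 1, nat_lit 82, nat_lit 131, (nat_lit 0x29d069dd4289881cb0b1977aaf1daee2c113e4bec), one, one, (.df [nat_lit 2])⟩)
 (.lf ⟨nat_lit 1, nat_lit 131, nat_lit 82, one, (nat_lit 0x29d069dd4289881cb0b1977aaf1daee2c113e4bec), one, (.wt (nat_lit 0) (nat_lit 0) (nat_lit 0x29d069dd4289881cb0b1977aaf1daee2c113e4bec) (.st (nat_lit 131) [] [] .nil) [] [])⟩))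
 (.nd (nat_lit 134) (.lf ⟨nat_lit 1, nat_lit 82, nat_lit 133, (nat_lit 0xf6d11ea1f2003230c9ae98d7ebf7a100d6421009), one, one, (.df (unp (nat_lit 2) (nat_lit 0x2203)))⟩)
 (.nd (nat_lit 135) (.lf ⟨nat_lit 1, nat_lit 133, nat_lit 82, one, (nat_lit 0xf6d11ea1f2003230c9ae98d7ebf7a100d6421009), one, (.wt (nat_lit 0) (nat_lit 0) (nat_lit 0xf6d11ea1f2003230c9ae98d7ebf7a100d6421009) (.st (nat_lit 133) [] [] .nil) [] [])⟩)
 (.lf ⟨nat_lit 1, nat_lit 82, nat_lit 135, (nat_lit 0x1fce42ed966b34fae64312a96f69e1eea7db1de4), one, one, (.df [nat_lit 8])⟩)))))))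

noncomputable def T3_136 : Tr :=
  (.nd (nat_lit 153) (.nd (nat_lit 144) (.nd (nat_lit 140) (.nd (nat_lit 138) (.nd (nat_lit 137) (.lf ⟨nat_lit 1, nat_lit 135, nat_lit 82, one, (nat_lit 0x1fce42ed966b34fae64312a96f69e1eea7db1de4), one, (.wt (nat_lit 0) (nat_lit 0) (nat_lit 0x1fce42ed966b34fae64312a96f69e1eea7db1de4) (.st (nat_lit 135) [] [] .nil) [] [])⟩)
 (.lf ⟨nat_lit 1, nat_lit 135, nat_lit 133, (nat_lit 0x100e0aba0d17c70444d02bf329fd10d7608f1b426), (nat_lit 0x1ebea15c574ac620598f5463feaa6224b9e7fca95), (nat_lit 0xac340fad603080d6db4e0951beb2437de645b04f), (.wt (nat_lit 2) (nat_lit 2) (nat_lit 0x1ddf3a9b63322283151996aab71e7317d43dd89cb) (.st (nat_lit 134) (unp (nat_lit 5) (nat_lit 0x53e303)) [] (.st (nat_lit 135) [] [nat_lit 83] .nil)) [] [])⟩))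
 (.nd (nat_lit 139) (.lf ⟨nat_lit 1, nat_lit 87, nat_lit 138, (nat_lit 0x3b6020b1ee99f350ad1583cd87ceba46c32e15ab7), one, one, (.df [nat_lit 3])⟩)
 (.lf ⟨nat_lit 1, nat_lit 138, nat_lit 87, one, (nat_lit 0x3b6020b1ee99f350ad1583cd87ceba46c32e15ab7), one, (.wt (nat_lit 0) (nat_lit 0) (nat_lit 0x3b6020b1ee99f350ad1583cd87ceba46c32e15ab7) (.st (nat_lit 138) [] [] .nil) [] [])⟩)))
 (.nd (nat_lit 142) (.nd (nat_lit 141) (.lf ⟨nat_lit 1, nat_lit 138, nat_lit 95, (nat_lit 0x2ba2cea7bd829f6f53bc17c3f6c7dba59a18cc2c5), (nat_lit 0x123c6aababf04188ef72927abea58f22a953ec563), (nat_lit 0xc8efb732b8cc6ed92274a9811f93637b14129ef5), (.wt (nat_lit 6) (nat_lit 2) (nat_lit 0x3dcf3316c592684e1b7392143c0305fdbafc0a3c7) (.st (nat_lit 96) [nat_lit 31, nat_lit 17] [] (.st (nat_lit 73) (unp (nat_lit 5) (nat_lit 0x4bc303)) [] (.st (nat_lit 56) [] [] (.st (nat_lit 51) [nat_lit 4,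 nat_lit 30] [] (.st (nat_lit 48) (unp (nat_lit 5) (nat_lit 0x53e403)) [nat_lit 45] (.st (nat_lit 87) [nat_lit 3, nat_lit 19] [nat_lit 50] (.st (nat_lit 138) (unp (nat_lit 5) (nat_lit 0x37e303)) [] .nil))))))) (unp (nat_lit 5) (nat_lit 0x37a303)) [])⟩)
 (.lf ⟨nat_lit 1, nat_lit 95, nat_lit 138, (nat_lit 0x1fce42ed966b34fae64312a96f69e1eea7db1de4), (nat_lit 0x18f8f42fb0885d235bd86a3cf41eb159ef51a2910), (nat_lit 0x1f6f9326d7c60ac923c68395ac37828e7fccc4b30), (.wt (nat_lit 0) (nat_lit 0) (nat_lit 0x2ba2cea7bd829f6f53bc17c3f6c7dba59a18cc2c5) (.st (nat_lit 140) [] [] .nil) (unp (nat_lit 5) (nat_lit 0x33e303)) [])⟩))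
 (.nd (nat_lit 143) (.lf ⟨nat_lit 1, nat_lit 87, nat_lit 142, (nat_lit 0x29d069dd4289881cb0b1977aaf1daee2c113e4bec), one, one, (.df [nat_lit 2])⟩)
 (.lf ⟨nat_lit 1, nat_lit 142, nat_lit 87, one, (nat_lit 0x29d069dd4289881cb0b1977aaf1daee2c113e4bec), one, (.wt (nat_lit 0) (nat_lit 0) (nat_lit 0x29d069dd4289881cb0b1977aaf1daee2c113e4bec) (.st (nat_lit 142) [] [] .nil) [] [])⟩))))
 (.nd (nat_lit 148) (.nd (nat_lit 146) (.nd (nat_lit 145) (.lf ⟨nat_lit 1, nat_lit 142, nat_lit 87, (nat_lit 0x2ba2cea7bd829f6f53bc17c3f6c7dba59a18cc2c5), (nat_lit 0x3b20cbff29570f058e4097909a8e1dc145ccfc3b3), (nat_lit 0x1297196ed42b6340dca88ed43a53b145041a1d13c), (.wt (nat_lit 6) (nat_lit 2) (nat_lit 0xa4aeb4b8b83e1893cc1361e30f4bc23902bd55be) (.st (nat_lit 88) (unp (nat_lit 5) (nat_lit 0x2fe303)) [] (.st (nat_lit 51) (unp (nat_lit 5) (nat_lit 0x37a303)) [] (.st (nat_lit 46) (unp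 (nat_lit 5) (nat_lit 0x3fa403)) [] (.st (nat_lit 36) [nat_lit 31, nat_lit 11] [nat_lit 3, nat_lit 33] (.st (nat_lit 48) [nat_lit 4, nat_lit 20] [nat_lit 37] (.st (nat_lit 87) (unp (nat_lit 5) (nat_lit 0x37e303)) [] (.st (nat_lit 142) (unp (nat_lit 5) (nat_lit 0x37a303)) [] .nil))))))) (unp (nat_lit 5) (nat_lit 0x3fa403)) [])⟩)
 (.lf ⟨nat_lit 0, nat_lit 142, nat_lit 142, (nat_lit 0x210b25961101b0803255fa684a400234871d01cf), one, (nat_lit 0x1297196ed42b6340dca88ed43a53b145041a1d13c), (.we (nat_lit 0) (nat_lit 0) (nat_lit 0x2ba2cea7bd829f6f53bc17c3f6c7dba59a18cc2c5) (.st (nat_lit 144) [] [] (.st (nat_lit 142) (unp (nat_lit 5) (nat_lit 0x1bc303)) [] .nil)))⟩))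
 (.nd (nat_lit 147) (.lf ⟨nat_lit 1, nat_lit 142, nat_lit 146, (nat_lit 0x3b6020b1ee99f350ad1583cd87ceba46c32e15ab7), one, one, (.df [nat_lit 3])⟩)
 (.lf ⟨nat_lit 0, nat_lit 146, nat_lit 146, (nat_lit 0x176708afc7d76226519823ab768f79ea6a430c16), one, (nat_lit 0x1297196ed42b6340dca88ed43a53b145041a1d13c), (.cmp (nat_lit 146) (nat_lit 146) (unp (nat_lit 5) (nat_lit 0x27a303)) [nat_lit 145])⟩)))
 (.nd (nat_lit 150) (.nd (nat_lit 149) (.lf ⟨nat_lit 1, nat_lit 146, nat_lit 142, one, (nat_lit 0x3b6020b1ee99f350ad1583cd87ceba46c32e15ab7), one, (.wt (nat_lit 0) (nat_lit 0) (nat_lit 0x3b6020b1ee99f350ad1583cd87ceba46c32e15ab7) (.st (nat_lit 146) [] [] .nil) [] [])⟩)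
 (.lf ⟨nat_lit 1, nat_lit 142, nat_lit 149, (nat_lit 0x125910161e8d6fe6d72746c6acb95732f82b12d8b), one, one, (.df [nat_lit 2, nat_lit 8])⟩))
 (.nd (nat_lit 151) (.lf ⟨nat_lit 0, nat_lit 149, nat_lit 149, (nat_lit 0xde880979a19e183f990488a2146d7c9dac5e4d69), one, (nat_lit 0x1297196ed42b6340dca88ed43a53b145041a1d13c), (.cmp (nat_lit 149) (nat_lit 149) (unp (nat_lit 5) (nat_lit 0x43c403)) [nat_lit 145])⟩)
 (.nd (nat_lit 152) (.lf ⟨nat_lit 1, nat_lit 149, nat_lit 142, one, (nat_lit 0x125910161e8d6fe6d72746c6acb95732f82b12d8b), one, (.wt (nat_lit 0) (nat_lit 0) (nat_lit 0x125910161e8d6fe6d72746c6acb95732f82b12d8b) (.st (nat_lit 149) [] [] .nil) [] [])⟩)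
 (.lf ⟨nat_lit 1, nat_lit 149, nat_lit 146, (nat_lit 0x100e0aba0d17c70444d02bf329fd10d7608f1b426), (nat_lit 0x1fcc4265e5f5e8c58e758190706d179ef60cc5dd7), one, (.wt (nat_lit 2) (nat_lit 2) (nat_lit 0xa2ea9a2d0d739cc971a9d423bd96b619a03ddbf2) (.st (nat_lit 148) [nat_lit 4, nat_lit 22] [] (.st (nat_lit 149) [] [] .nil)) [] [])⟩))))))
 (.nd (nat_lit 161) (.nd (nat_lit 157) (.nd (nat_lit 155) (.nd (nat_lit 154) (.lf ⟨nat_lit 1, nat_lit 146, nat_lit 149, (nat_lit 0x100e0aba0d17c70444d02bf329fd10d7608f1b426), (nat_lit 0x3e9bb5a40ffe36717b19c821828fe8c2a374cf1a2), one, (.wt (nat_lit 0) (nat_lit 0) (nat_lit 0x100e0aba0d17c70444d02bf329fd10d7608f1b426) (.st (nat_lit 152) [] [] .nil) (unp (nat_lit 5) (nat_lit 0x3fe303)) [])⟩)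
 (.lf ⟨nat_lit 1, nat_lit 87, nat_lit 154, (nat_lit 0xf6d11ea1f2003230c9ae98d7ebf7a100d6421009), one, one, (.df (unp (nat_lit 2) (nat_lit 0x2203)))⟩))
 (.nd (nat_lit 156) (.lf ⟨nat_lit 1, nat_lit 154, nat_lit 87, one, (nat_lit 0xf6d11ea1f2003230c9ae98d7ebf7a100d6421009), one, (.wt (nat_lit 0) (nat_lit 0) (nat_lit 0xf6d11ea1f2003230c9ae98d7ebf7a100d6421009) (.st (nat_lit 154) [] [] .nil) [] [])⟩)
 (.lf ⟨nat_lit 1, nat_lit 87, nat_lit 156, (nat_lit 0x125910161e8d6fe6d72746c6acb95732f82b12d8b), one, one, (.df [nat_lit 2, nat_lit 8])⟩)))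
 (.nd (nat_lit 159) (.nd (nat_lit 158) (.lf ⟨nat_lit 1, nat_lit 156, nat_lit 87, one, (nat_lit 0x125910161e8d6fe6d72746c6acb95732f82b12d8b), one, (.wt (nat_lit 0) (nat_lit 0) (nat_lit 0x125910161e8d6fe6d72746c6acb95732f82b12d8b) (.st (nat_lit 156) [] [] .nil) [] [])⟩)
 (.lf ⟨nat_lit 1, nat_lit 156, nat_lit 138, (nat_lit 0x100e0aba0d17c70444d02bf329fd10d7608f1b426), (nat_lit 0x1fcc4265e5f5e8c58e758190706d179ef60cc5dd7), one, (.wt (nat_lit 2) (nat_lit 2) (nat_lit 0xa2ea9a2d0d739cc971a9d423bd96b619a03ddbf2) (.st (nat_lit 139) [nat_lit 4, nat_lit 22] [] (.st (nat_lit 156) [] [] .nil)) [] [])⟩))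
 (.nd (nat_lit 160) (.lf ⟨nat_lit 1, nat_lit 138, nat_lit 156, (nat_lit 0x100e0aba0d17c70444d02bf329fd10d7608f1b426), (nat_lit 0x3e9bb5a40ffe36717b19c821828fe8c2a374cf1a2), one, (.wt (nat_lit 0) (nat_lit 0) (nat_lit 0x100e0aba0d17c70444d02bf329fd10d7608f1b426) (.st (nat_lit 158) [] [] .nil) (unp (nat_lit 5) (nat_lit 0x3fe303)) [])⟩)
 (.lf ⟨nat_lit 1, nat_lit 156, nat_lit 129, (nat_lit 0x29d069dd4289881cb0b1977aaf1daee2c113e4bec), (nat_lit 0x14b80cb6ebca23a7c50c7bd43ecc2b912b8f0d0de), (nat_lit 0x39dc1ed204085ede698f77b53c219e9bacbfa96b6), (.wt (nat_lit 6) (nat_lit 3) (nat_lit 0x2d8929701647e2080f939d0b51a1552e66886100) (.st (nat_lit 130) (unp (nat_lit 5) (nat_lit 0x5be303)) [] (.st (nat_lit 84) [nat_lit 4] [] (.st (nat_lit 64) [nat_lit 9] [nat_lit 68] (.st (nat_lit 51) (unp (nat_lit 5) (nat_lit 0x27c403)) [] (.st (nat_lit 48) (unp (nat_lit 5) (nat_lit 0x4fc403))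 [nat_lit 45] (.st (nat_lit 87) [nat_lit 3, nat_lit 19] [nat_lit 50] (.st (nat_lit 156) (unp (nat_lit 5) (nat_lit 0x3be303)) [] .nil))))))) (unp (nat_lit 5) (nat_lit 0x2fa303)) [])⟩))))
 (.nd (nat_lit 165) (.nd (nat_lit 163) (.nd (nat_lit 162) (.lf ⟨nat_lit 1, nat_lit 129, nat_lit 156, (nat_lit 0xf6d11ea1f2003230c9ae98d7ebf7a100d6421009), (nat_lit 0xe4d72c162e3f44df47e6a0695a1d5a193892739b), (nat_lit 0x3469bd602f2ec51c02d64e5dbfa6d90fcefa83f8b), (.wt (nat_lit 0) (nat_lit 0) (nat_lit 0x29d069dd4289881cb0b1977aaf1daee2c113e4bec) (.st (nat_lit 160) [] [] .nil) [nat_lit 30, nat_lit 15] [])⟩)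
 (.lf ⟨nat_lit 1, nat_lit 87, nat_lit 162, (nat_lit 0x1fce42ed966b34fae64312a96f69e1eea7db1de4), one, one, (.df [nat_lit 8])⟩))
 (.nd (nat_lit 164) (.lf ⟨nat_lit 1, nat_lit 162, nat_lit 87, one, (nat_lit 0x1fce42ed966b34fae64312a96f69e1eea7db1de4), one, (.wt (nat_lit 0) (nat_lit 0) (nat_lit 0x1fce42ed966b34fae64312a96f69e1eea7db1de4) (.st (nat_lit 162) [] [] .nil) [] [])⟩)
 (.lf ⟨nat_lit 1, nat_lit 162, nat_lit 121, (nat_lit 0x125910161e8d6fe6d72746c6acb95732f82b12d8b), (nat_lit 0x1904babbbe2ddacb0753e40324eaf2a6f54ba5512), (nat_lit 0x30095b347a81b3f5e04a23924c5c4d75d086dc4c6), (.wt (nat_lit 5) (nat_lit 2) (nat_lit 0x200001211108205030026100582080840d0603218) (.st (nat_lit 122) (unp (nat_lit 5) (nat_lit 0x4fa303)) [] (.st (nat_lit 86) (unp (nat_lit 5) (nat_lit 0x5bc403)) [] (.st (nat_lit 129) (unp (nat_lit 5) (nat_lit 0x1bc403)) [] (.st (nat_lit 161) [nat_lit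 31, nat_lit 16] [] (.st (nat_lit 157) (unp (nat_lit 5) (nat_lit 0x53a303)) [] (.st (nat_lit 88) (unp (nat_lit 5) (nat_lit 0x4ba303)) [] (.st (nat_lit 52) (unp (nat_lit 5) (nat_lit 0x37a403)) [] (.st (nat_lit 87) [nat_lit 30, nat_lit 21] [nat_lit 50] (.st (nat_lit 162) [nat_lit 4, nat_lit 12] [] .nil))))))))) [nat_lit 3, nat_lit 21] [])⟩)))
 (.nd (nat_lit 167) (.nd (nat_lit 166) (.lf ⟨nat_lit 1, nat_lit 121, nat_lit 162, (nat_lit 0x3b6020b1ee99f350ad1583cd87ceba46c32e15ab7), (nat_lit 0x399f703194ef4b29f5dcb6afd32d39156b3a768a), (nat_lit 0x3c50e91909f2fc53bcc21ce142e90909529b87544), (.wt (nat_lit 0) (nat_lit 0) (nat_lit 0x125910161e8d6fe6d72746c6acb95732f82b12d8b) (.st (nat_lit 164) [] [] .nil) [nat_lit 4, nat_lit 22] [])⟩)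
 (.lf ⟨nat_lit 1, nat_lit 87, nat_lit 166, (nat_lit 0x2ba2cea7bd829f6f53bc17c3f6c7dba59a18cc2c5), one, one, (.df [nat_lit 2, nat_lit 0])⟩))
 (.nd (nat_lit 168) (.lf ⟨nat_lit 1, nat_lit 166, nat_lit 87, one, (nat_lit 0x2ba2cea7bd829f6f53bc17c3f6c7dba59a18cc2c5), one, (.wt (nat_lit 0) (nat_lit 0) (nat_lit 0x2ba2cea7bd829f6f53bc17c3f6c7dba59a18cc2c5) (.st (nat_lit 166) [] [] .nil) [] [])⟩)
 (.nd (nat_lit 169) (.lf ⟨nat_lit 1, nat_lit 166, nat_lit 142, (nat_lit 0x100e0aba0d17c70444d02bf329fd10d7608f1b426), (nat_lit 0x100e0aba0d17c70444d02bf329fd10d7608f1b426), one, (.wt (nat_lit 2) (nat_lit 2) one (.st (nat_lit 143) [] [] (.st (nat_lit 166) [] [] .nil)) [] [])⟩)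
 (.lf ⟨nat_lit 1, nat_lit 142, nat_lit 166, (nat_lit 0x100e0aba0d17c70444d02bf329fd10d7608f1b426), (nat_lit 0x100e0aba0d17c70444d02bf329fd10d7608f1b426), one, (.wt (nat_lit 0) (nat_lit 0) (nat_lit 0x100e0aba0d17c70444d02bf329fd10d7608f1b426) (.st (nat_lit 168) [] [] .nil) [] [])⟩)))))))

noncomputable def T3_170 : Tr :=
  (.nd (nat_lit 187) (.nd (nat_lit 178) (.nd (nat_lit 174) (.nd (nat_lit 172) (.nd (nat_lit 171) (.lf ⟨nat_lit 1, nat_lit 166, nat_lit 142, (nat_lit 0x2ba2cea7bd829f6f53bc17c3f6c7dba59a18cc2c5), (nat_lit 0x8e0a522e3c8eaa96082f709c4a62d685271e46e6), (nat_lit 0x9804a5765266ab55a26058f43224121f97935816), (.wt (nat_lit 6) (nat_lit 2) (nat_lit 0x144f71aeb2b26463c2b6d4f30c0d3e252450edb2b) (.st (nat_lit 143) [nat_lit 4, nat_lit 20] [] (.st (nat_lit 88) (unp (nat_lit 5) (nat_lit 0x37e303)) [] (.st (nat_lit 51) (unp (nat_lit 5) (nat_lit 0x37a303))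 [] (.st (nat_lit 47) (unp (nat_lit 5) (nat_lit 0x3fa403)) [] (.st (nat_lit 48) (unp (nat_lit 5) (nat_lit 0x1bc403)) [nat_lit 40] (.st (nat_lit 87) (unp (nat_lit 5) (nat_lit 0x2fe303)) [nat_lit 50] (.st (nat_lit 166) (unp (nat_lit 5) (nat_lit 0x37a303)) [] .nil))))))) (unp (nat_lit 5) (nat_lit 0x3fa403)) [])⟩)
 (.lf ⟨nat_lit 0, nat_lit 166, nat_lit 166, (nat_lit 0x1ed8fb50bf2d96c3c7a8537414b6c49ffe02041bd), one, (nat_lit 0x400f33bb13c64ca5ecd24b2a7a1d72a627c529a7), (.we (nat_lit 0) (nat_lit 0) (nat_lit 0x2ba2cea7bd829f6f53bc17c3f6c7dba59a18cc2c5) (.st (nat_lit 170) [] [] (.st (nat_lit 169) (unp (nat_lit 5) (nat_lit 0x37c303)) [nat_lit 145] .nil)))⟩))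
 (.nd (nat_lit 173) (.lf ⟨nat_lit 1, nat_lit 166, nat_lit 172, (nat_lit 0x3b6020b1ee99f350ad1583cd87ceba46c32e15ab7), one, one, (.df [nat_lit 3])⟩)
 (.lf ⟨nat_lit 1, nat_lit 172, nat_lit 166, one, (nat_lit 0x3b6020b1ee99f350ad1583cd87ceba46c32e15ab7), one, (.wt (nat_lit 0) (nat_lit 0) (nat_lit 0x3b6020b1ee99f350ad1583cd87ceba46c32e15ab7) (.st (nat_lit 172) [] [] .nil) [] [])⟩)))
 (.nd (nat_lit 176) (.nd (nat_lit 175) (.lf ⟨nat_lit 1, nat_lit 166, nat_lit 174, (nat_lit 0x125910161e8d6fe6d72746c6acb95732f82b12d8b), one, one, (.df [nat_lit 2, nat_lit 8])⟩)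
 (.lf ⟨nat_lit 1, nat_lit 174, nat_lit 166, one, (nat_lit 0x125910161e8d6fe6d72746c6acb95732f82b12d8b), one, (.wt (nat_lit 0) (nat_lit 0) (nat_lit 0x125910161e8d6fe6d72746c6acb95732f82b12d8b) (.st (nat_lit 174) [] [] .nil) [] [])⟩))
 (.nd (nat_lit 177) (.lf ⟨nat_lit 1, nat_lit 87, nat_lit 176, (nat_lit 0x3eba12c3c3234cd354a978de13ad53d6c7be58abc), one, one, (.df [nat_lit 2, nat_lit 2])⟩)
 (.lf ⟨nat_lit 1, nat_lit 176, nat_lit 87, one, (nat_lit 0x3eba12c3c3234cd354a978de13ad53d6c7be58abc), one, (.wt (nat_lit 0) (nat_lit 0) (nat_lit 0x3eba12c3c3234cd354a978de13ad53d6c7be58abc) (.st (nat_lit 176) [] [] .nil) [] [])⟩))))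
 (.nd (nat_lit 182) (.nd (nat_lit 180) (.nd (nat_lit 179) (.lf ⟨nat_lit 1, nat_lit 176, nat_lit 154, (nat_lit 0x100e0aba0d17c70444d02bf329fd10d7608f1b426), (nat_lit 0x100e0aba0d17c70444d02bf329fd10d7608f1b426), one, (.wt (nat_lit 2) (nat_lit 2) one (.st (nat_lit 155) [] [] (.st (nat_lit 176) [] [] .nil)) [] [])⟩)
 (.lf ⟨nat_lit 1, nat_lit 154, nat_lit 176, (nat_lit 0x100e0aba0d17c70444d02bf329fd10d7608f1b426), (nat_lit 0x100e0aba0d17c70444d02bf329fd10d7608f1b426), one, (.wt (nat_lit 0) (nat_lit 0) (nat_lit 0x100e0aba0d17c70444d02bf329fd10d7608f1b426) (.st (nat_lit 178) [] [] .nil) [] [])⟩))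
 (.nd (nat_lit 181) (.lf ⟨nat_lit 1, nat_lit 87, nat_lit 180, (nat_lit 0x9a472e71a6030c6693ace0c7e5978349d74b3855), one, one, (.df [nat_lit 8, nat_lit 0])⟩)
 (.lf ⟨nat_lit 1, nat_lit 180, nat_lit 87, one, (nat_lit 0x9a472e71a6030c6693ace0c7e5978349d74b3855), one, (.wt (nat_lit 0) (nat_lit 0) (nat_lit 0x9a472e71a6030c6693ace0c7e5978349d74b3855) (.st (nat_lit 180) [] [] .nil) [] [])⟩)))
 (.nd (nat_lit 184) (.nd (nat_lit 183) (.lf ⟨nat_lit 1, nat_lit 180, nat_lit 162, (nat_lit 0x100e0aba0d17c70444d02bf329fd10d7608f1b426), (nat_lit 0x1b94dc9a9f5dafe6001e2ccbef9b1bb06e7ad4c94), one, (.wt (nat_lit 2) (nat_lit 2) (nat_lit 0x1be19238427c315eec4e063d6ba4a62fe4d8a67fd) (.st (nat_lit 163) [nat_lit 4, nat_lit 16] [] (.st (nat_lit 180) [] [] .nil)) [] [])⟩)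
 (.lf ⟨nat_lit 1, nat_lit 162, nat_lit 180, (nat_lit 0x100e0aba0d17c70444d02bf329fd10d7608f1b426), (nat_lit 0x1b94dc9a9f5dafe6001e2ccbef9b1bb06e7ad4c94), one, (.wt (nat_lit 0) (nat_lit 0) (nat_lit 0x100e0aba0d17c70444d02bf329fd10d7608f1b426) (.st (nat_lit 182) [] [] .nil) (unp (nat_lit 5) (nat_lit 0x37e403)) [])⟩))
 (.nd (nat_lit 185) (.lf ⟨nat_lit 1, nat_lit 180, nat_lit 107, (nat_lit 0x3b6020b1ee99f350ad1583cd87ceba46c32e15ab7), (nat_lit 0x22b8eeed267104d7819c8396313143bbf84d4a312), (nat_lit 0x217671bb1d0d686d559c231b1f407326aaad33e0e), (.wt (nat_lit 6) (nat_lit 2) (nat_lit 0xb2c9974ee81aebb0a3b69890767c7661bec1a0fb) (.st (nat_lit 108) [nat_lit 3, nat_lit 22] [] (.st (nat_lit 76) [nat_lit 30, nat_lit 11] [] (.st (nat_lit 56) [nat_lit 22] [] (.st (nat_lit 51) [nat_lit 3, nat_lit 11] [] (.st (nat_lit 48) [nat_lit 31, nat_lit 8] [nat_lit 40] (.st (nat_lit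 87) [nat_lit 30, nat_lit 19] [nat_lit 49] (.st (nat_lit 180) [nat_lit 4, nat_lit 14] [] .nil))))))) [nat_lit 3, nat_lit 19] [])⟩)
 (.nd (nat_lit 186) (.lf ⟨nat_lit 1, nat_lit 107, nat_lit 180, (nat_lit 0x9a472e71a6030c6693ace0c7e5978349d74b3855), (nat_lit 0x1109587d8cf40d01d2cfb86fc04531bd7feacc93d), (nat_lit 0x2166738bec75d24e7294e9d92d918764f49333e0f), (.wt (nat_lit 0) (nat_lit 0) (nat_lit 0x3b6020b1ee99f350ad1583cd87ceba46c32e15ab7) (.st (nat_lit 184) [] [] .nil) (unp (nat_lit 5) (nat_lit 0x4bc303)) [])⟩)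
 (.lf ⟨nat_lit 1, nat_lit 89, nat_lit 186, (nat_lit 0x3b6020b1ee99f350ad1583cd87ceba46c32e15ab7), one, one, (.df [nat_lit 3])⟩))))))
 (.nd (nat_lit 195) (.nd (nat_lit 191) (.nd (nat_lit 189) (.nd (nat_lit 188) (.lf ⟨nat_lit 1, nat_lit 186, nat_lit 89, one, (nat_lit 0x3b6020b1ee99f350ad1583cd87ceba46c32e15ab7), one, (.wt (nat_lit 0) (nat_lit 0) (nat_lit 0x3b6020b1ee99f350ad1583cd87ceba46c32e15ab7) (.st (nat_lit 186) [] [] .nil) [] [])⟩)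
 (.lf ⟨nat_lit 1, nat_lit 186, nat_lit 117, (nat_lit 0x29d069dd4289881cb0b1977aaf1daee2c113e4bec), (nat_lit 0x36cba1562b6607d4293f38669998a67f1a7b2a678), (nat_lit 0x13e5008f2840a2274879a6482d53c56e956371fce), (.wt (nat_lit 5) (nat_lit 2) (nat_lit 0xac868df00f8a5864e2b0950120caa46e232fab64) (.st (nat_lit 118) (unp (nat_lit 5) (nat_lit 0x33a303)) [] (.st (nat_lit 81) (unp (nat_lit 5) (nat_lit 0x47a403)) [] (.st (nat_lit 65) (unp (nat_lit 5) (nat_lit 0x5ba403)) [nat_lit 68] (.st (nat_lit 71) (unp (nat_lit 5) (nat_lit 0x1bc403)) [nat_lit 54] (.st (nat_lit 95) [nat_lit 31, nat_lit 16] [] (.st (nat_lit 141) (unp (nat_lit 5) (nat_lit 0x43c303)) [] (.st (nat_lit 139) (unp (nat_lit 5) (nat_lit 0x3be303)) [] (.st (nat_lit 92) (unp (nat_lit 5) (nat_lit 0x2fa303)) [] (.st (nat_lit 186) (unp (nat_lit 5) (nat_lit 0x33e303)) [] .nil))))))))) (unp (nat_lit 5) (nat_lit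 0x2fa303)) [])⟩))
 (.nd (nat_lit 190) (.lf ⟨nat_lit 1, nat_lit 117, nat_lit 186, (nat_lit 0x125910161e8d6fe6d72746c6acb95732f82b12d8b), (nat_lit 0x3254006a2cc3b8b8ae0ca468e4a3085dabc3a943b), (nat_lit 0x3eb08af5869a9230cb008899ed2732693f8b33bb), (.wt (nat_lit 0) (nat_lit 0) (nat_lit 0x29d069dd4289881cb0b1977aaf1daee2c113e4bec) (.st (nat_lit 188) [] [] .nil) (unp (nat_lit 5) (nat_lit 0x47c303)) [])⟩)
 (.lf ⟨nat_lit 1, nat_lit 89, nat_lit 190, (nat_lit 0x29d069dd4289881cb0b1977aaf1daee2c113e4bec), one, one, (.df [nat_lit 2])⟩)))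
 (.nd (nat_lit 193) (.nd (nat_lit 192) (.lf ⟨nat_lit 1, nat_lit 190, nat_lit 89, one, (nat_lit 0x29d069dd4289881cb0b1977aaf1daee2c113e4bec), one, (.wt (nat_lit 0) (nat_lit 0) (nat_lit 0x29d069dd4289881cb0b1977aaf1daee2c113e4bec) (.st (nat_lit 190) [] [] .nil) [] [])⟩)
 (.lf ⟨nat_lit 1, nat_lit 190, nat_lit 89, (nat_lit 0x29d069dd4289881cb0b1977aaf1daee2c113e4bec), (nat_lit 0x238de87d8ddb69a1b3cffb7a4ccfc37ece2895109), (nat_lit 0x1a61280e6271482f172cedb3225072149888b2d86), (.wt (nat_lit 5) (nat_lit 2) (nat_lit 0x3dfb1a82990bcb4739461255aa514f168b8b238c6) (.st (nat_lit 91) [nat_lit 3, nat_lit 16] [] (.st (nat_lit 142) (unp (nat_lit 5) (nat_lit 0x3ba303)) [] (.st (nat_lit 143) [nat_lit 4, nat_lit 22] [nat_lit 145] (.st (nat_lit 88) (unp (nat_lit 5) (nat_lit 0x2fe303)) [] (.st (nat_lit 51) (unp (nat_lit 5) (nat_lit 0x37a303)) [] (.st (nat_lit 47) (unp (nat_lit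 5) (nat_lit 0x3fa403)) [] (.st (nat_lit 48) (unp (nat_lit 5) (nat_lit 0x27c403)) [nat_lit 37] (.st (nat_lit 89) (unp (nat_lit 5) (nat_lit 0x33e303)) [nat_lit 50] (.st (nat_lit 190) (unp (nat_lit 5) (nat_lit 0x2fa303)) [] .nil))))))))) (unp (nat_lit 5) (nat_lit 0x3fa403)) [])⟩))
 (.nd (nat_lit 194) (.lf ⟨nat_lit 0, nat_lit 190, nat_lit 190, (nat_lit 0x1f9a4a010b4159a6912095192d92721700a145c79), one, (nat_lit 0x1a61280e6271482f172cedb3225072149888b2d86), (.we (nat_lit 0) (nat_lit 0) (nat_lit 0x29d069dd4289881cb0b1977aaf1daee2c113e4bec) (.st (nat_lit 192) [] [] (.st (nat_lit 190) (unp (nat_lit 5) (nat_lit 0x27c303)) [] .nil)))⟩)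
 (.lf ⟨nat_lit 1, nat_lit 190, nat_lit 194, (nat_lit 0x3b6020b1ee99f350ad1583cd87ceba46c32e15ab7), one, one, (.df [nat_lit 3])⟩))))
 (.nd (nat_lit 199) (.nd (nat_lit 197) (.nd (nat_lit 196) (.lf ⟨nat_lit 1, nat_lit 194, nat_lit 190, one, (nat_lit 0x3b6020b1ee99f350ad1583cd87ceba46c32e15ab7), one, (.wt (nat_lit 0) (nat_lit 0) (nat_lit 0x3b6020b1ee99f350ad1583cd87ceba46c32e15ab7) (.st (nat_lit 194) [] [] .nil) [] [])⟩)
 (.lf ⟨nat_lit 1, nat_lit 190, nat_lit 196, (nat_lit 0x125910161e8d6fe6d72746c6acb95732f82b12d8b), one, one, (.df [nat_lit 2, nat_lit 8])⟩))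
 (.nd (nat_lit 198) (.lf ⟨nat_lit 0, nat_lit 196, nat_lit 196, (nat_lit 0x176708afc7d76226519823ab768f79ea6a430c16), one, (nat_lit 0x1a61280e6271482f172cedb3225072149888b2d86), (.cmp (nat_lit 196) (nat_lit 196) (unp (nat_lit 5) (nat_lit 0x27a303)) [nat_lit 193])⟩)
 (.lf ⟨nat_lit 1, nat_lit 196, nat_lit 190, one, (nat_lit 0x125910161e8d6fe6d72746c6acb95732f82b12d8b), one, (.wt (nat_lit 0) (nat_lit 0) (nat_lit 0x125910161e8d6fe6d72746c6acb95732f82b12d8b) (.st (nat_lit 196) [] [] .nil) [] [])⟩)))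
 (.nd (nat_lit 201) (.nd (nat_lit 200) (.lf ⟨nat_lit 1, nat_lit 196, nat_lit 194, (nat_lit 0x100e0aba0d17c70444d02bf329fd10d7608f1b426), (nat_lit 0x1fcc4265e5f5e8c58e758190706d179ef60cc5dd7), one, (.wt (nat_lit 2) (nat_lit 2) (nat_lit 0xa2ea9a2d0d739cc971a9d423bd96b619a03ddbf2) (.st (nat_lit 195) [nat_lit 4, nat_lit 22] [] (.st (nat_lit 196) [] [] .nil)) [] [])⟩)
 (.lf ⟨nat_lit 1, nat_lit 89, nat_lit 200, (nat_lit 0xf6d11ea1f2003230c9ae98d7ebf7a100d6421009), one, one, (.df (unp (nat_lit 2) (nat_lit 0x2203)))⟩))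
 (.nd (nat_lit 202) (.lf ⟨nat_lit 1, nat_lit 200, nat_lit 89, one, (nat_lit 0xf6d11ea1f2003230c9ae98d7ebf7a100d6421009), one, (.wt (nat_lit 0) (nat_lit 0) (nat_lit 0xf6d11ea1f2003230c9ae98d7ebf7a100d6421009) (.st (nat_lit 200) [] [] .nil) [] [])⟩)
 (.nd (nat_lit 203) (.lf ⟨nat_lit 1, nat_lit 89, nat_lit 202, (nat_lit 0x125910161e8d6fe6d72746c6acb95732f82b12d8b), one, one, (.df [nat_lit 2, nat_lit 8])⟩)
 (.lf ⟨nat_lit 1, nat_lit 202, nat_lit 89, one, (nat_lit 0x125910161e8d6fe6d72746c6acb95732f82b12d8b), one, (.wt (nat_lit 0) (nat_lit 0) (nat_lit 0x125910161e8d6fe6d72746c6acb95732f82b12d8b) (.st (nat_lit 202) [] [] .nil) [] [])⟩)))))))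

noncomputable def T3_204 : Tr :=
  (.nd (nat_lit 221) (.nd (nat_lit 212) (.nd (nat_lit 208) (.nd (nat_lit 206) (.nd (nat_lit 205) (.lf ⟨nat_lit 1, nat_lit 202, nat_lit 186, (nat_lit 0x100e0aba0d17c70444d02bf329fd10d7608f1b426), (nat_lit 0x1fcc4265e5f5e8c58e758190706d179ef60cc5dd7), one, (.wt (nat_lit 2) (nat_lit 2) (nat_lit 0xa2ea9a2d0d739cc971a9d423bd96b619a03ddbf2) (.st (nat_lit 187) [nat_lit 4, nat_lit 22] [] (.st (nat_lit 202) [] [] .nil)) [] [])⟩)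
 (.lf ⟨nat_lit 1, nat_lit 186, nat_lit 202, (nat_lit 0x100e0aba0d17c70444d02bf329fd10d7608f1b426), (nat_lit 0x3e9bb5a40ffe36717b19c821828fe8c2a374cf1a2), one, (.wt (nat_lit 0) (nat_lit 0) (nat_lit 0x100e0aba0d17c70444d02bf329fd10d7608f1b426) (.st (nat_lit 204) [] [] .nil) (unp (nat_lit 5) (nat_lit 0x3fe303)) [])⟩))
 (.nd (nat_lit 207) (.lf ⟨nat_lit 1, nat_lit 202, nat_lit 113, (nat_lit 0x2ba2cea7bd829f6f53bc17c3f6c7dba59a18cc2c5), (nat_lit 0x34969c980ad8a266ea099d1691c33d5e980b0844d), (nat_lit 0x375ae4d4a4ba5d8b6e052e1811faa47b9389fa1d2), (.wt (nat_lit 6) (nat_lit 2) (nat_lit 0x5e20ad8c5bdf74edec9a72f77b0ed584b569210a) (.st (nat_lit 114) (unp (nat_lit 5) (nat_lit 0x4fe403)) [] (.st (nat_lit 77) [nat_lit 31, nat_lit 16] [] (.st (nat_lit 95) [nat_lit 31, nat_lit 15] [nat_lit 72] (.st (nat_lit 141) (unp (nat_lit 5) (nat_lit 0x4bc303)) [] (.st (nat_lit 139)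 (unp (nat_lit 5) (nat_lit 0x3be303)) [] (.st (nat_lit 92) (unp (nat_lit 5) (nat_lit 0x2fa303)) [] (.st (nat_lit 202) (unp (nat_lit 5) (nat_lit 0x37e303)) [] .nil))))))) (unp (nat_lit 5) (nat_lit 0x37a303)) [])⟩)
 (.lf ⟨nat_lit 1, nat_lit 113, nat_lit 202, (nat_lit 0x3eba12c3c3234cd354a978de13ad53d6c7be58abc), (nat_lit 0x1e058f3c8cd6f3dc586b21635dbb705a46c796f82), (nat_lit 0x25e8ec0ac08a18892b3cb88e80f0c528d7284a484), (.wt (nat_lit 0) (nat_lit 0) (nat_lit 0x2ba2cea7bd829f6f53bc17c3f6c7dba59a18cc2c5) (.st (nat_lit 206) [] [] .nil) [nat_lit 29, nat_lit 13] [])⟩)))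
 (.nd (nat_lit 210) (.nd (nat_lit 209) (.lf ⟨nat_lit 1, nat_lit 89, nat_lit 208, (nat_lit 0x1fce42ed966b34fae64312a96f69e1eea7db1de4), one, one, (.df [nat_lit 8])⟩)
 (.lf ⟨nat_lit 1, nat_lit 208, nat_lit 89, one, (nat_lit 0x1fce42ed966b34fae64312a96f69e1eea7db1de4), one, (.wt (nat_lit 0) (nat_lit 0) (nat_lit 0x1fce42ed966b34fae64312a96f69e1eea7db1de4) (.st (nat_lit 208) [] [] .nil) [] [])⟩))
 (.nd (nat_lit 211) (.lf ⟨nat_lit 1, nat_lit 208, nat_lit 101, (nat_lit 0x3b6020b1ee99f350ad1583cd87ceba46c32e15ab7), (nat_lit 0x2f16b77d5055b68e91ba633a0064c1c75561e9070), (nat_lit 0x16036823174282cc23094c451dfbc0684da4ca2f0), (.wt (nat_lit 5) (nat_lit 2) (nat_lit 0x12039043a6092718f95caf72806334f068d2c67c0) (.st (nat_lit 102) [nat_lit 30, nat_lit 20] [] (.st (nat_lit 78) [nat_lit 30, nat_lit 9] [] (.st (nat_lit 113) (unp (nat_lit 5) (nat_lit 0x3fe403)) [nat_lit 75]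 (.st (nat_lit 207) [nat_lit 29, nat_lit 20] [] (.st (nat_lit 203) (unp (nat_lit 5) (nat_lit 0x5ba303)) [] (.st (nat_lit 90) (unp (nat_lit 5) (nat_lit 0x43a303)) [] (.st (nat_lit 52) (unp (nat_lit 5) (nat_lit 0x33a403)) [] (.st (nat_lit 89) [nat_lit 30, nat_lit 19] [nat_lit 50] (.st (nat_lit 208) [nat_lit 4, nat_lit 14] [] .nil))))))))) [nat_lit 3, nat_lit 19] [])⟩)
 (.lf ⟨nat_lit 1, nat_lit 101, nat_lit 208, (nat_lit 0x3b6020b1ee99f350ad1583cd87ceba46c32e15ab7), (nat_lit 0x2a3454762b4cc7103a7c5b69f50a416f08a8e8d7c), (nat_lit 0x1c8ecb76742a88a610646281907901380d54096c9), (.wt (nat_lit 0) (nat_lit 0) (nat_lit 0x3b6020b1ee99f350ad1583cd87ceba46c32e15ab7) (.st (nat_lit 210) [] [] .nil) (unp (nat_lit 5) (nat_lit 0x5ba303)) [])⟩))))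
 (.nd (nat_lit 216) (.nd (nat_lit 214) (.nd (nat_lit 213) (.lf ⟨nat_lit 1, nat_lit 89, nat_lit 212, (nat_lit 0x2ba2cea7bd829f6f53bc17c3f6c7dba59a18cc2c5), one, one, (.df [nat_lit 2, nat_lit 0])⟩)
 (.lf ⟨nat_lit 1, nat_lit 212, nat_lit 89, one, (nat_lit 0x2ba2cea7bd829f6f53bc17c3f6c7dba59a18cc2c5), one, (.wt (nat_lit 0) (nat_lit 0) (nat_lit 0x2ba2cea7bd829f6f53bc17c3f6c7dba59a18cc2c5) (.st (nat_lit 212) [] [] .nil) [] [])⟩))
 (.nd (nat_lit 215) (.lf ⟨nat_lit 1, nat_lit 212, nat_lit 190, (nat_lit 0x100e0aba0d17c70444d02bf329fd10d7608f1b426), (nat_lit 0x100e0aba0d17c70444d02bf329fd10d7608f1b426), one, (.wt (nat_lit 2) (nat_lit 2) one (.st (nat_lit 191) [] [] (.st (nat_lit 212) [] [] .nil)) [] [])⟩)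
 (.lf ⟨nat_lit 1, nat_lit 190, nat_lit 212, (nat_lit 0x100e0aba0d17c70444d02bf329fd10d7608f1b426), (nat_lit 0x100e0aba0d17c70444d02bf329fd10d7608f1b426), one, (.wt (nat_lit 0) (nat_lit 0) (nat_lit 0x100e0aba0d17c70444d02bf329fd10d7608f1b426) (.st (nat_lit 214) [] [] .nil) [] [])⟩)))
 (.nd (nat_lit 218) (.nd (nat_lit 217) (.lf ⟨nat_lit 1, nat_lit 212, nat_lit 89, (nat_lit 0x2ba2cea7bd829f6f53bc17c3f6c7dba59a18cc2c5), (nat_lit 0x2fa283b2946b1fc315c5b04242d931db784aadd61), (nat_lit 0xd90b162b66b58e6d08821ad01e7c167004d8e1fc), (.wt (nat_lit 5) (nat_lit 2) (nat_lit 0x104a2a30bf5aaee0fb38dcf6f1260cece9e6eaa01) (.st (nat_lit 91) [nat_lit 3, nat_lit 15] [] (.st (nat_lit 142) (unp (nat_lit 5) (nat_lit 0x33a303)) [] (.st (nat_lit 169) (unp (nat_lit 5) (nat_lit 0x3fe303)) [nat_lit 145] (.st (nat_lit 168) (unp (nat_lit 5) (nat_lit 0x47e303)) [nat_lit 171] (.st (nat_lit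 169) (unp (nat_lit 5) (nat_lit 0x43e303)) [nat_lit 145] (.st (nat_lit 168) (unp (nat_lit 5) (nat_lit 0x3fe303)) [nat_lit 171] (.st (nat_lit 143) [nat_lit 3, nat_lit 19] [nat_lit 145] (.st (nat_lit 92) [nat_lit 3, nat_lit 16] [] (.st (nat_lit 212) (unp (nat_lit 5) (nat_lit 0x3ba303)) [] .nil))))))))) (unp (nat_lit 5) (nat_lit 0x47a403)) [])⟩)
 (.lf ⟨nat_lit 0, nat_lit 212, nat_lit 212, (nat_lit 0xfb4c3514b7623efe86cffbf3bfa72307c08ef90e), one, (nat_lit 0xd90b162b66b58e6d08821ad01e7c167004d8e1fc), (.we (nat_lit 0) (nat_lit 0) (nat_lit 0x2ba2cea7bd829f6f53bc17c3f6c7dba59a18cc2c5) (.st (nat_lit 216) [] [] (.st (nat_lit 212) [nat_lit 3, nat_lit 30] [] .nil)))⟩))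
 (.nd (nat_lit 219) (.lf ⟨nat_lit 1, nat_lit 212, nat_lit 218, (nat_lit 0x3b6020b1ee99f350ad1583cd87ceba46c32e15ab7), one, one, (.df [nat_lit 3])⟩)
 (.nd (nat_lit 220) (.lf ⟨nat_lit 0, nat_lit 218, nat_lit 218, (nat_lit 0x1e71d8df0207a38ad2b5cb84a68c733ee8effccac), one, (nat_lit 0xd90b162b66b58e6d08821ad01e7c167004d8e1fc), (.cmp (nat_lit 218) (nat_lit 218) (unp (nat_lit 5) (nat_lit 0x1ba303)) [nat_lit 217])⟩)
 (.lf ⟨nat_lit 1, nat_lit 218, nat_lit 212, one, (nat_lit 0x3b6020b1ee99f350ad1583cd87ceba46c32e15ab7), one, (.wt (nat_lit 0) (nat_lit 0) (nat_lit 0x3b6020b1ee99f350ad1583cd87ceba46c32e15ab7) (.st (nat_lit 218) [] [] .nil) [] [])⟩))))))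
 (.nd (nat_lit 229) (.nd (nat_lit 225) (.nd (nat_lit 223) (.nd (nat_lit 222) (.lf ⟨nat_lit 1, nat_lit 212, nat_lit 221, (nat_lit 0x125910161e8d6fe6d72746c6acb95732f82b12d8b), one, one, (.df [nat_lit 2, nat_lit 8])⟩)
 (.lf ⟨nat_lit 1, nat_lit 221, nat_lit 212, one, (nat_lit 0x125910161e8d6fe6d72746c6acb95732f82b12d8b), one, (.wt (nat_lit 0) (nat_lit 0) (nat_lit 0x125910161e8d6fe6d72746c6acb95732f82b12d8b) (.st (nat_lit 221) [] [] .nil) [] [])⟩))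
 (.nd (nat_lit 224) (.lf ⟨nat_lit 1, nat_lit 221, nat_lit 218, (nat_lit 0x100e0aba0d17c70444d02bf329fd10d7608f1b426), (nat_lit 0x1fcc4265e5f5e8c58e758190706d179ef60cc5dd7), one, (.wt (nat_lit 2) (nat_lit 2) (nat_lit 0xa2ea9a2d0d739cc971a9d423bd96b619a03ddbf2) (.st (nat_lit 220) [nat_lit 4, nat_lit 22] [] (.st (nat_lit 221) [] [] .nil)) [] [])⟩)
 (.lf ⟨nat_lit 1, nat_lit 218, nat_lit 221, (nat_lit 0x100e0aba0d17c70444d02bf329fd10d7608f1b426), (nat_lit 0x3e9bb5a40ffe36717b19c821828fe8c2a374cf1a2), one, (.wt (nat_lit 0) (nat_lit 0) (nat_lit 0x100e0aba0d17c70444d02bf329fd10d7608f1b426) (.st (nat_lit 223) [] [] .nil) (unp (nat_lit 5) (nat_lit 0x3fe303)) [])⟩)))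
 (.nd (nat_lit 227) (.nd (nat_lit 226) (.lf ⟨nat_lit 1, nat_lit 89, nat_lit 225, (nat_lit 0x3eba12c3c3234cd354a978de13ad53d6c7be58abc), one, one, (.df [nat_lit 2, nat_lit 2])⟩)
 (.lf ⟨nat_lit 1, nat_lit 225, nat_lit 89, one, (nat_lit 0x3eba12c3c3234cd354a978de13ad53d6c7be58abc), one, (.wt (nat_lit 0) (nat_lit 0) (nat_lit 0x3eba12c3c3234cd354a978de13ad53d6c7be58abc) (.st (nat_lit 225) [] [] .nil) [] [])⟩))
 (.nd (nat_lit 228) (.lf ⟨nat_lit 1, nat_lit 225, nat_lit 200, (nat_lit 0x100e0aba0d17c70444d02bf329fd10d7608f1b426), (nat_lit 0x100e0aba0d17c70444d02bf329fd10d7608f1b426), one, (.wt (nat_lit 2) (nat_lit 2) one (.st (nat_lit 201) [] [] (.st (nat_lit 225) [] [] .nil)) [] [])⟩)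
 (.lf ⟨nat_lit 1, nat_lit 200, nat_lit 225, (nat_lit 0x100e0aba0d17c70444d02bf329fd10d7608f1b426), (nat_lit 0x100e0aba0d17c70444d02bf329fd10d7608f1b426), one, (.wt (nat_lit 0) (nat_lit 0) (nat_lit 0x100e0aba0d17c70444d02bf329fd10d7608f1b426) (.st (nat_lit 227) [] [] .nil) [] [])⟩))))
 (.nd (nat_lit 233) (.nd (nat_lit 231) (.nd (nat_lit 230) (.lf ⟨nat_lit 1, nat_lit 89, nat_lit 229, (nat_lit 0x9a472e71a6030c6693ace0c7e5978349d74b3855), one, one, (.df [nat_lit 8, nat_lit 0])⟩)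
 (.lf ⟨nat_lit 1, nat_lit 229, nat_lit 89, one, (nat_lit 0x9a472e71a6030c6693ace0c7e5978349d74b3855), one, (.wt (nat_lit 0) (nat_lit 0) (nat_lit 0x9a472e71a6030c6693ace0c7e5978349d74b3855) (.st (nat_lit 229) [] [] .nil) [] [])⟩))
 (.nd (nat_lit 232) (.lf ⟨nat_lit 1, nat_lit 229, nat_lit 208, (nat_lit 0x100e0aba0d17c70444d02bf329fd10d7608f1b426), (nat_lit 0x1b94dc9a9f5dafe6001e2ccbef9b1bb06e7ad4c94), one, (.wt (nat_lit 2) (nat_lit 2) (nat_lit 0x1be19238427c315eec4e063d6ba4a62fe4d8a67fd) (.st (nat_lit 209) [nat_lit 4, nat_lit 16] [] (.st (nat_lit 229) [] [] .nil)) [] [])⟩)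
 (.lf ⟨nat_lit 1, nat_lit 208, nat_lit 229, (nat_lit 0x100e0aba0d17c70444d02bf329fd10d7608f1b426), (nat_lit 0x1b94dc9a9f5dafe6001e2ccbef9b1bb06e7ad4c94), one, (.wt (nat_lit 0) (nat_lit 0) (nat_lit 0x100e0aba0d17c70444d02bf329fd10d7608f1b426) (.st (nat_lit 231) [] [] .nil) (unp (nat_lit 5) (nat_lit 0x37e403)) [])⟩)))
 (.nd (nat_lit 235) (.nd (nat_lit 234) (.lf ⟨nat_lit 1, nat_lit 229, nat_lit 131, (nat_lit 0x125910161e8d6fe6d72746c6acb95732f82b12d8b), (nat_lit 0x599dfcb80cf3784d5ebc9e2c968ae05d707b95bf), (nat_lit 0x217671bb1d0d686d559c231b1f407326aaad33e0e), (.wt (nat_lit 5) (nat_lit 2) (nat_lit 0xb2c9974ee81aebb0a3b69890767c7661bec1a0fb) (.st (nat_lit 132) [nat_lit 3, nat_lit 22] [] (.st (nat_lit 84) [nat_lit 30, nat_lit 11] [] (.st (nat_lit 65) (unp (nat_lit 5) (nat_lit 0x3fe403)) [] (.st (nat_lit 74) (unp (nat_lit 5) (nat_lit 0x23a303)) [] (.st (nat_lit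 107) [nat_lit 29, nat_lit 13] [] (.st (nat_lit 185) (unp (nat_lit 5) (nat_lit 0x5ba403)) [] (.st (nat_lit 181) (unp (nat_lit 5) (nat_lit 0x3fa403)) [] (.st (nat_lit 92) (unp (nat_lit 5) (nat_lit 0x2fc403)) [] (.st (nat_lit 229) [nat_lit 4, nat_lit 11] [] .nil))))))))) [nat_lit 4, nat_lit 22] [])⟩)
 (.lf ⟨nat_lit 1, nat_lit 131, nat_lit 229, (nat_lit 0x9a472e71a6030c6693ace0c7e5978349d74b3855), (nat_lit 0x1951c24075c0db0480f08e4771e2f95229819489b), (nat_lit 0x2166738bec75d24e7294e9d92d918764f49333e0f), (.wt (nat_lit 0) (nat_lit 0) (nat_lit 0x125910161e8d6fe6d72746c6acb95732f82b12d8b) (.st (nat_lit 233) [] [] .nil) (unp (nat_lit 5) (nat_lit 0x43c303)) [])⟩))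
 (.nd (nat_lit 236) (.lf ⟨nat_lit 1, nat_lit 93, nat_lit 235, (nat_lit 0x3b6020b1ee99f350ad1583cd87ceba46c32e15ab7), one, one, (.df [nat_lit 3])⟩)
 (.nd (nat_lit 237) (.lf ⟨nat_lit 1, nat_lit 235, nat_lit 93, (nat_lit 0x29d069dd4289881cb0b1977aaf1daee2c113e4bec), (nat_lit 0x254bcbf3dd604d22874eac7ee9045a1cf25294967), (nat_lit 0x8be938d6b421a6b7314c7e01fca67031eb839ccb), (.wt (nat_lit 6) (nat_lit 3) (nat_lit 0x4e6384a9a0e163e7b17919152c89181b5311f964) (.st (nat_lit 94) (unp (nat_lit 5) (nat_lit 0x37a303)) [] (.st (nat_lit 73) (unp (nat_lit 5) (nat_lit 0x3fa403)) [] (.st (nat_lit 66) (unp (nat_lit 5) (nat_lit 0x4bc303)) [nat_lit 60] (.st (nat_lit 65) [nat_lit 4, nat_lit 20] [nat_lit 68] (.st (nat_lit 71) (unp (nat_lit 5) (nat_lit 0x3be303)) [] (.st (nat_lit 93) [nat_lit 4, nat_lit 20] [nat_lit 72] (.st (nat_lit 235) (unp (nat_lit 5) (nat_lit 0x37e303)) []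 .nil))))))) (unp (nat_lit 5) (nat_lit 0x37a303)) [])⟩)
 (.lf ⟨nat_lit 0, nat_lit 235, nat_lit 235, (nat_lit 0x1370697624741962bca9b23ebc5d75b1e63de71e7), one, (nat_lit 0x8be938d6b421a6b7314c7e01fca67031eb839ccb), (.we (nat_lit 0) (nat_lit 0) (nat_lit 0x29d069dd4289881cb0b1977aaf1daee2c113e4bec) (.st (nat_lit 236) [] [] (.st (nat_lit 235) (unp (nat_lit 5) (nat_lit 0x3fc303)) [] .nil)))⟩)))))))

noncomputable def T3_238 : Tr :=
  (.nd (nat_lit 255) (.nd (nat_lit 246) (.nd (nat_lit 242) (.nd (nat_lit 240) (.nd (nat_lit 239) (.lf ⟨nat_lit 1, nat_lit 235, nat_lit 238, (nat_lit 0xf6d11ea1f2003230c9ae98d7ebf7a100d6421009), one, one, (.df (unp (nat_lit 2) (nat_lit 0x2203)))⟩)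
 (.lf ⟨nat_lit 0, nat_lit 238, nat_lit 238, (nat_lit 0x1e09eba24b57d5e67670e7f33d4d71ef2cf14b425), one, (nat_lit 0x8be938d6b421a6b7314c7e01fca67031eb839ccb), (.cmp (nat_lit 238) (nat_lit 238) (unp (nat_lit 5) (nat_lit 0x4bc403)) [nat_lit 237])⟩))
 (.nd (nat_lit 241) (.lf ⟨nat_lit 1, nat_lit 238, nat_lit 235, one, (nat_lit 0xf6d11ea1f2003230c9ae98d7ebf7a100d6421009), one, (.wt (nat_lit 0) (nat_lit 0) (nat_lit 0xf6d11ea1f2003230c9ae98d7ebf7a100d6421009) (.st (nat_lit 238) [] [] .nil) [] [])⟩)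
 (.lf ⟨nat_lit 1, nat_lit 235, nat_lit 241, (nat_lit 0x3eba12c3c3234cd354a978de13ad53d6c7be58abc), one, one, (.df [nat_lit 2, nat_lit 2])⟩)))
 (.nd (nat_lit 244) (.nd (nat_lit 243) (.lf ⟨nat_lit 0, nat_lit 241, nat_lit 241, (nat_lit 0x1139f84a980c7d0dbcc5b58db3b4b5943673b60d9), one, (nat_lit 0x8be938d6b421a6b7314c7e01fca67031eb839ccb), (.cmp (nat_lit 241) (nat_lit 241) (unp (nat_lit 5) (nat_lit 0x23a303)) [nat_lit 237])⟩)
 (.lf ⟨nat_lit 1, nat_lit 241, nat_lit 235, one, (nat_lit 0x3eba12c3c3234cd354a978de13ad53d6c7be58abc), one, (.wt (nat_lit 0) (nat_lit 0) (nat_lit 0x3eba12c3c3234cd354a978de13ad53d6c7be58abc) (.st (nat_lit 241) [] [] .nil) [] [])⟩))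
 (.nd (nat_lit 245) (.lf ⟨nat_lit 1, nat_lit 241, nat_lit 238, (nat_lit 0x100e0aba0d17c70444d02bf329fd10d7608f1b426), (nat_lit 0x100e0aba0d17c70444d02bf329fd10d7608f1b426), one, (.wt (nat_lit 2) (nat_lit 2) one (.st (nat_lit 240) [] [] (.st (nat_lit 241) [] [] .nil)) [] [])⟩)
 (.lf ⟨nat_lit 1, nat_lit 238, nat_lit 241, (nat_lit 0x100e0aba0d17c70444d02bf329fd10d7608f1b426), (nat_lit 0x100e0aba0d17c70444d02bf329fd10d7608f1b426), one, (.wt (nat_lit 0) (nat_lit 0) (nat_lit 0x100e0aba0d17c70444d02bf329fd10d7608f1b426) (.st (nat_lit 244) [] [] .nil) [] [])⟩))))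
 (.nd (nat_lit 250) (.nd (nat_lit 248) (.nd (nat_lit 247) (.lf ⟨nat_lit 1, nat_lit 93, nat_lit 246, (nat_lit 0x125910161e8d6fe6d72746c6acb95732f82b12d8b), one, one, (.df [nat_lit 2, nat_lit 8])⟩)
 (.lf ⟨nat_lit 1, nat_lit 246, nat_lit 93, one, (nat_lit 0x125910161e8d6fe6d72746c6acb95732f82b12d8b), one, (.wt (nat_lit 0) (nat_lit 0) (nat_lit 0x125910161e8d6fe6d72746c6acb95732f82b12d8b) (.st (nat_lit 246) [] [] .nil) [] [])⟩))
 (.nd (nat_lit 249) (.lf ⟨nat_lit 1, nat_lit 246, nat_lit 156, (nat_lit 0x2ba2cea7bd829f6f53bc17c3f6c7dba59a18cc2c5), (nat_lit 0x254bcbf3dd604d22874eac7ee9045a1cf25294967), (nat_lit 0x28a8b174305352efbc461ffbdb945b33f74809702), (.wt (nat_lit 6) (nat_lit 2) (nat_lit 0x4e6384a9a0e163e7b17919152c89181b5311f964) (.st (nat_lit 157) (unp (nat_lit 5) (nat_lit 0x37a303)) [] (.st (nat_lit 88) (unp (nat_lit 5) (nat_lit 0x43a403)) [] (.st (nat_lit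 61) (unp (nat_lit 5) (nat_lit 0x1be303)) [] (.st (nat_lit 65) [nat_lit 3, nat_lit 21] [nat_lit 68] (.st (nat_lit 71) (unp (nat_lit 5) (nat_lit 0x33e303)) [] (.st (nat_lit 93) [nat_lit 4, nat_lit 20] [nat_lit 72] (.st (nat_lit 246) (unp (nat_lit 5) (nat_lit 0x3be303)) [] .nil))))))) (unp (nat_lit 5) (nat_lit 0x2fa303)) [])⟩)
 (.lf ⟨nat_lit 1, nat_lit 156, nat_lit 246, (nat_lit 0x3b6020b1ee99f350ad1583cd87ceba46c32e15ab7), (nat_lit 0x25e6582790e76738066554f449993c8881e41e477), (nat_lit 0x255fd1146a57536f380704c77dff4d3e55ffada51), (.wt (nat_lit 0) (nat_lit 0) (nat_lit 0x2ba2cea7bd829f6f53bc17c3f6c7dba59a18cc2c5) (.st (nat_lit 248) [] [] .nil) (unp (nat_lit 5) (nat_lit 0x3fc303)) [])⟩)))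
 (.nd (nat_lit 252) (.nd (nat_lit 251) (.lf ⟨nat_lit 1, nat_lit 93, nat_lit 250, (nat_lit 0x2ba2cea7bd829f6f53bc17c3f6c7dba59a18cc2c5), one, one, (.df [nat_lit 2, nat_lit 0])⟩)
 (.lf ⟨nat_lit 1, nat_lit 250, nat_lit 93, one, (nat_lit 0x2ba2cea7bd829f6f53bc17c3f6c7dba59a18cc2c5), one, (.wt (nat_lit 0) (nat_lit 0) (nat_lit 0x2ba2cea7bd829f6f53bc17c3f6c7dba59a18cc2c5) (.st (nat_lit 250) [] [] .nil) [] [])⟩))
 (.nd (nat_lit 253) (.lf ⟨nat_lit 1, nat_lit 250, nat_lit 194, (nat_lit 0x29d069dd4289881cb0b1977aaf1daee2c113e4bec), (nat_lit 0x5744fe9deb97a2119ce448893b7f4974db890cf7), (nat_lit 0x1c2dc834c117cc9be475051e9326443f773ad7902), (.wt (nat_lit 6) (nat_lit 3) (nat_lit 0xeacd0f4a78275b7159bfa0b8702e19f82ee182bb) (.st (nat_lit 195) (unp (nat_lit 5) (nat_lit 0x3bc303)) [] (.st (nat_lit 191) [nat_lit 3] [] (.st (nat_lit 90) [nat_lit 4, nat_lit 29] [] (.st (nat_lit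 53) [nat_lit 29, nat_lit 22] [] (.st (nat_lit 71) [nat_lit 3, nat_lit 19] [nat_lit 55] (.st (nat_lit 93) (unp (nat_lit 5) (nat_lit 0x37e303)) [] (.st (nat_lit 250) (unp (nat_lit 5) (nat_lit 0x37a303)) [] .nil))))))) (unp (nat_lit 5) (nat_lit 0x3fa403)) [])⟩)
 (.nd (nat_lit 254) (.lf ⟨nat_lit 1, nat_lit 194, nat_lit 250, (nat_lit 0xf6d11ea1f2003230c9ae98d7ebf7a100d6421009), (nat_lit 0x266cd73a56711915c2974879b8e0cb59f322821f6), (nat_lit 0x1785dad8c614509bec4539d29c7547e7773a6c15e), (.wt (nat_lit 0) (nat_lit 0) (nat_lit 0x29d069dd4289881cb0b1977aaf1daee2c113e4bec) (.st (nat_lit 252) [] [] .nil) [nat_lit 29, nat_lit 21] [])⟩)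
 (.lf ⟨nat_lit 1, nat_lit 95, nat_lit 254, (nat_lit 0x3b6020b1ee99f350ad1583cd87ceba46c32e15ab7), one, one, (.df [nat_lit 3])⟩))))))
 (.nd (nat_lit 264) (.nd (nat_lit 259) (.nd (nat_lit 257) (.nd (nat_lit 256) (.lf ⟨nat_lit 1, nat_lit 254, nat_lit 95, one, (nat_lit 0x3b6020b1ee99f350ad1583cd87ceba46c32e15ab7), one, (.wt (nat_lit 0) (nat_lit 0) (nat_lit 0x3b6020b1ee99f350ad1583cd87ceba46c32e15ab7) (.st (nat_lit 254) [] [] .nil) [] [])⟩)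
 (.lf ⟨nat_lit 1, nat_lit 254, nat_lit 146, (nat_lit 0x9a472e71a6030c6693ace0c7e5978349d74b3855), (nat_lit 0x30a37c240240e214bbac0467b94450710bf48f0ce), (nat_lit 0x13ea0bc0d56ce86cc9fd377d87ce81f0a0dee6589), (.wt (nat_lit 6) (nat_lit 3) (nat_lit 0xeacd0f4a78275b7159bfa0b8702e19f82ee182bb) (.st (nat_lit 148) (unp (nat_lit 5) (nat_lit 0x3bc303)) [] (.st (nat_lit 143) [nat_lit 3] [] (.st (nat_lit 88) [nat_lit 4, nat_lit 29] [] (.st (nat_lit 53) [nat_lit 13] [] (.st (nat_lit 71) [nat_lit 31, nat_lit 20] [] (.st (nat_lit 95) [nat_lit 3, nat_lit 22] [nat_lit 72] (.st (nat_lit 254) [nat_lit 30, nat_lit 11] [] .nil))))))) [nat_lit 22] [])⟩))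
 (.nd (nat_lit 258) (.lf ⟨nat_lit 1, nat_lit 146, nat_lit 254, (nat_lit 0xf6d11ea1f2003230c9ae98d7ebf7a100d6421009), (nat_lit 0x183c84e1c77cbccabc3591d11a967e3c10a4c2404), (nat_lit 0x13ea0bc0d56ce86cc9fd377d87ce81f0a0dee6589), (.wt (nat_lit 0) (nat_lit 0) (nat_lit 0x9a472e71a6030c6693ace0c7e5978349d74b3855) (.st (nat_lit 256) [] [] .nil) (unp (nat_lit 5) (nat_lit 0x3bc403)) [])⟩)
 (.lf ⟨nat_lit 1, nat_lit 95, nat_lit 258, (nat_lit 0x29d069dd4289881cb0b1977aaf1daee2c113e4bec), one, one, (.df [nat_lit 2])⟩)))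
 (.nd (nat_lit 261) (.nd (nat_lit 260) (.lf ⟨nat_lit 1, nat_lit 258, nat_lit 95, one, (nat_lit 0x29d069dd4289881cb0b1977aaf1daee2c113e4bec), one, (.wt (nat_lit 0) (nat_lit 0) (nat_lit 0x29d069dd4289881cb0b1977aaf1daee2c113e4bec) (.st (nat_lit 258) [] [] .nil) [] [])⟩)
 (.lf ⟨nat_lit 1, nat_lit 95, nat_lit 260, (nat_lit 0xf6d11ea1f2003230c9ae98d7ebf7a100d6421009), one, one, (.df (unp (nat_lit 2) (nat_lit 0x2203)))⟩))
 (.nd (nat_lit 262) (.lf ⟨nat_lit 1, nat_lit 260, nat_lit 95, one, (nat_lit 0xf6d11ea1f2003230c9ae98d7ebf7a100d6421009), one, (.wt (nat_lit 0) (nat_lit 0) (nat_lit 0xf6d11ea1f2003230c9ae98d7ebf7a100d6421009) (.st (nat_lit 260) [] [] .nil) [] [])⟩)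
 (.nd (nat_lit 263) (.lf ⟨nat_lit 1, nat_lit 95, nat_lit 262, (nat_lit 0x125910161e8d6fe6d72746c6acb95732f82b12d8b), one, one, (.df [nat_lit 2, nat_lit 8])⟩)
 (.lf ⟨nat_lit 1, nat_lit 262, nat_lit 95, one, (nat_lit 0x125910161e8d6fe6d72746c6acb95732f82b12d8b), one, (.wt (nat_lit 0) (nat_lit 0) (nat_lit 0x125910161e8d6fe6d72746c6acb95732f82b12d8b) (.st (nat_lit 262) [] [] .nil) [] [])⟩)))))
 (.nd (nat_lit 268) (.nd (nat_lit 266) (.nd (nat_lit 265) (.lf ⟨nat_lit 1, nat_lit 262, nat_lit 254, (nat_lit 0x100e0aba0d17c70444d02bf329fd10d7608f1b426), (nat_lit 0x1fcc4265e5f5e8c58e758190706d179ef60cc5dd7), one, (.wt (nat_lit 2) (nat_lit 2) (nat_lit 0xa2ea9a2d0d739cc971a9d423bd96b619a03ddbf2) (.st (nat_lit 255) [nat_lit 4, nat_lit 22] [] (.st (nat_lit 262) [] [] .nil)) [] [])⟩)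
 (.lf ⟨nat_lit 1, nat_lit 254, nat_lit 262, (nat_lit 0x100e0aba0d17c70444d02bf329fd10d7608f1b426), (nat_lit 0x3e9bb5a40ffe36717b19c821828fe8c2a374cf1a2), one, (.wt (nat_lit 0) (nat_lit 0) (nat_lit 0x100e0aba0d17c70444d02bf329fd10d7608f1b426) (.st (nat_lit 264) [] [] .nil) (unp (nat_lit 5) (nat_lit 0x3fe303)) [])⟩))
 (.nd (nat_lit 267) (.lf ⟨nat_lit 1, nat_lit 95, nat_lit 266, (nat_lit 0x2ba2cea7bd829f6f53bc17c3f6c7dba59a18cc2c5), one, one, (.df [nat_lit 2, nat_lit 0])⟩)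
 (.lf ⟨nat_lit 1, nat_lit 266, nat_lit 95, one, (nat_lit 0x2ba2cea7bd829f6f53bc17c3f6c7dba59a18cc2c5), one, (.wt (nat_lit 0) (nat_lit 0) (nat_lit 0x2ba2cea7bd829f6f53bc17c3f6c7dba59a18cc2c5) (.st (nat_lit 266) [] [] .nil) [] [])⟩)))
 (.nd (nat_lit 270) (.nd (nat_lit 269) (.lf ⟨nat_lit 1, nat_lit 266, nat_lit 258, (nat_lit 0x100e0aba0d17c70444d02bf329fd10d7608f1b426), (nat_lit 0x100e0aba0d17c70444d02bf329fd10d7608f1b426), one, (.wt (nat_lit 2) (nat_lit 2) one (.st (nat_lit 259) [] [] (.st (nat_lit 266) [] [] .nil)) [] [])⟩)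
 (.lf ⟨nat_lit 1, nat_lit 258, nat_lit 266, (nat_lit 0x100e0aba0d17c70444d02bf329fd10d7608f1b426), (nat_lit 0x100e0aba0d17c70444d02bf329fd10d7608f1b426), one, (.wt (nat_lit 0) (nat_lit 0) (nat_lit 0x100e0aba0d17c70444d02bf329fd10d7608f1b426) (.st (nat_lit 268) [] [] .nil) [] [])⟩))
 (.nd (nat_lit 271) (.lf ⟨nat_lit 1, nat_lit 95, nat_lit 270, (nat_lit 0x3eba12c3c3234cd354a978de13ad53d6c7be58abc), one, one, (.df [nat_lit 2, nat_lit 2])⟩)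
 (.nd (nat_lit 272) (.lf ⟨nat_lit 1, nat_lit 270, nat_lit 260, (nat_lit 0x100e0aba0d17c70444d02bf329fd10d7608f1b426), (nat_lit 0x100e0aba0d17c70444d02bf329fd10d7608f1b426), one, (.wt (nat_lit 2) (nat_lit 2) one (.st (nat_lit 261) [] [] (.st (nat_lit 270) [] [] .nil)) [] [])⟩)
 (.lf ⟨nat_lit 1, nat_lit 260, nat_lit 270, (nat_lit 0x100e0aba0d17c70444d02bf329fd10d7608f1b426), (nat_lit 0x100e0aba0d17c70444d02bf329fd10d7608f1b426), one, (.wt (nat_lit 0) (nat_lit 0) (nat_lit 0x100e0aba0d17c70444d02bf329fd10d7608f1b426) (.st (nat_lit 271) [] [] .nil) [] [])⟩)))))))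

noncomputable def T3_273 : Tr :=
  (.nd (nat_lit 290) (.nd (nat_lit 281) (.nd (nat_lit 277) (.nd (nat_lit 275) (.nd (nat_lit 274) (.lf ⟨nat_lit 1, nat_lit 95, nat_lit 273, (nat_lit 0x9a472e71a6030c6693ace0c7e5978349d74b3855), one, one, (.df [nat_lit 8, nat_lit 0])⟩)
 (.lf ⟨nat_lit 1, nat_lit 273, nat_lit 95, one, (nat_lit 0x9a472e71a6030c6693ace0c7e5978349d74b3855), one, (.wt (nat_lit 0) (nat_lit 0) (nat_lit 0x9a472e71a6030c6693ace0c7e5978349d74b3855) (.st (nat_lit 273) [] [] .nil) [] [])⟩))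
 (.nd (nat_lit 276) (.lf ⟨nat_lit 1, nat_lit 273, nat_lit 138, (nat_lit 0x100e0aba0d17c70444d02bf329fd10d7608f1b426), (nat_lit 0x39109732ae6b829fcd02b9f11042dda295a177821), (nat_lit 0x1f6f9326d7c60ac923c68395ac37828e7fccc4b30), (.wt (nat_lit 2) (nat_lit 2) (nat_lit 0x1bb80001a1e004c05927abdb39db236332a100c86) (.st (nat_lit 140) (unp (nat_lit 5) (nat_lit 0x1ba403)) [] (.st (nat_lit 273) [] [] .nil)) [] [])⟩)
 (.lf ⟨nat_lit 1, nat_lit 138, nat_lit 273, (nat_lit 0x29d069dd4289881cb0b1977aaf1daee2c113e4bec), (nat_lit 0x3892a976af9c076795bb18b01282d22ef6fa6a344), (nat_lit 0xc8efb732b8cc6ed92274a9811f93637b14129ef5), (.wt (nat_lit 0) (nat_lit 0) (nat_lit 0x100e0aba0d17c70444d02bf329fd10d7608f1b426) (.st (nat_lit 275) [] [] .nil) [nat_lit 30, nat_lit 17] [])⟩)))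
 (.nd (nat_lit 279) (.nd (nat_lit 278) (.lf ⟨nat_lit 1, nat_lit 273, nat_lit 200, (nat_lit 0x2ba2cea7bd829f6f53bc17c3f6c7dba59a18cc2c5), (nat_lit 0x22b8eeed267104d7819c8396313143bbf84d4a312), (nat_lit 0xb2c9974ee81aebb0a3b69890767c7661bec1a0fb), (.wt (nat_lit 6) (nat_lit 3) (nat_lit 0x2ef10f4a4e394d5697f7e760f11b37f99991b80f) (.st (nat_lit 201) [nat_lit 31, nat_lit 12] [] (.st (nat_lit 90) (unp (nat_lit 5) (nat_lit 0x57c303)) [] (.st (nat_lit 52) [nat_lit 4, nat_lit 9] [] (.st (nat_lit 53) [nat_lit 29, nat_lit 14] [] (.st (nat_lit 71) (unp (nat_lit 5) (nat_lit 0x23a403)) [nat_lit 55] (.st (nat_lit 95) [nat_lit 29, nat_lit 22] [] (.st (nat_lit 273) (unp (nat_lit 5) (nat_lit 0x33c303)) [] .nil))))))) [nat_lit 3] [])⟩)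
 (.lf ⟨nat_lit 1, nat_lit 200, nat_lit 273, (nat_lit 0x9a472e71a6030c6693ace0c7e5978349d74b3855), (nat_lit 0x12dfba795933520e4eed49a79f374328cc1a599e6), (nat_lit 0x1f8320ad3aea785712667a8c81a544e65b1ce2c9f), (.wt (nat_lit 0) (nat_lit 0) (nat_lit 0x2ba2cea7bd829f6f53bc17c3f6c7dba59a18cc2c5) (.st (nat_lit 277) [] [] .nil) (unp (nat_lit 5) (nat_lit 0x4bc303)) [])⟩))
 (.nd (nat_lit 280) (.lf ⟨nat_lit 1, nat_lit 97, nat_lit 279, (nat_lit 0x3b6020b1ee99f350ad1583cd87ceba46c32e15ab7), one, one, (.df [nat_lit 3])⟩)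
 (.lf ⟨nat_lit 1, nat_lit 279, nat_lit 97, one, (nat_lit 0x3b6020b1ee99f350ad1583cd87ceba46c32e15ab7), one, (.wt (nat_lit 0) (nat_lit 0) (nat_lit 0x3b6020b1ee99f350ad1583cd87ceba46c32e15ab7) (.st (nat_lit 279) [] [] .nil) [] [])⟩))))
 (.nd (nat_lit 285) (.nd (nat_lit 283) (.nd (nat_lit 282) (.lf ⟨nat_lit 1, nat_lit 279, nat_lit 208, (nat_lit 0x2ba2cea7bd829f6f53bc17c3f6c7dba59a18cc2c5), (nat_lit 0x3e63e19d26924bbcf1d958fb53c9b77d8d201370f), (nat_lit 0x28a8b174305352efbc461ffbdb945b33f74809702), (.wt (nat_lit 6) (nat_lit 2) (nat_lit 0xe61e38bec712a461515696e1bcf96e38c0a60401) (.st (nat_lit 209) (unp (nat_lit 5) (nat_lit 0x2fc403)) [] (.st (nat_lit 91) (unp (nat_lit 5) (nat_lit 0x1be303)) [] (.st (nat_lit 156) [nat_lit 4, nat_lit 20] [] (.st (nat_lit 249) (unp (nat_lit 5) (nat_lit 0x37e303)) [] (.st (nat_lit 247) (unp (nat_lit 5) (nat_lit 0x33e303)) [] (.st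 (nat_lit 100) (unp (nat_lit 5) (nat_lit 0x3ba303)) [] (.st (nat_lit 279) (unp (nat_lit 5) (nat_lit 0x3be303)) [] .nil))))))) (unp (nat_lit 5) (nat_lit 0x2fa303)) [])⟩)
 (.lf ⟨nat_lit 1, nat_lit 208, nat_lit 279, (nat_lit 0x1fce42ed966b34fae64312a96f69e1eea7db1de4), (nat_lit 0x1bb80001a1e004c05927abdb39db236332a100c86), (nat_lit 0x255fd1146a57536f380704c77dff4d3e55ffada51), (.wt (nat_lit 0) (nat_lit 0) (nat_lit 0x2ba2cea7bd829f6f53bc17c3f6c7dba59a18cc2c5) (.st (nat_lit 281) [] [] .nil) [nat_lit 31, nat_lit 22] [])⟩))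
 (.nd (nat_lit 284) (.lf ⟨nat_lit 1, nat_lit 97, nat_lit 283, (nat_lit 0x29d069dd4289881cb0b1977aaf1daee2c113e4bec), one, one, (.df [nat_lit 2])⟩)
 (.lf ⟨nat_lit 1, nat_lit 283, nat_lit 97, one, (nat_lit 0x29d069dd4289881cb0b1977aaf1daee2c113e4bec), one, (.wt (nat_lit 0) (nat_lit 0) (nat_lit 0x29d069dd4289881cb0b1977aaf1daee2c113e4bec) (.st (nat_lit 283) [] [] .nil) [] [])⟩)))
 (.nd (nat_lit 287) (.nd (nat_lit 286) (.lf ⟨nat_lit 1, nat_lit 283, nat_lit 221, (nat_lit 0x29d069dd4289881cb0b1977aaf1daee2c113e4bec), (nat_lit 0x1998c43a21e90fca5fdbc1be3679836c9ff63052f), (nat_lit 0x1c2dc834c117cc9be475051e9326443f773ad7902), (.wt (nat_lit 6) (nat_lit 2) (nat_lit 0x82886d5ea4d2cd2749e3e155e73a5591936e427) (.st (nat_lit 222) (unp (nat_lit 5) (nat_lit 0x37c303)) [] (.st (nat_lit 213) [nat_lit 3, nat_lit 9] [] (.st (nat_lit 90) (unp (nat_lit 5) (nat_lit 0x27a403))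 [] (.st (nat_lit 53) [nat_lit 31, nat_lit 21] [] (.st (nat_lit 71) [nat_lit 3, nat_lit 19] [nat_lit 55] (.st (nat_lit 97) (unp (nat_lit 5) (nat_lit 0x3be303)) [] (.st (nat_lit 283) (unp (nat_lit 5) (nat_lit 0x2fa303)) [] .nil))))))) (unp (nat_lit 5) (nat_lit 0x3fa403)) [])⟩)
 (.lf ⟨nat_lit 1, nat_lit 221, nat_lit 283, (nat_lit 0x3eba12c3c3234cd354a978de13ad53d6c7be58abc), (nat_lit 0x25218e3d91c94a9bd86cce30c2b2a1c23c5788e0b), (nat_lit 0x1785dad8c614509bec4539d29c7547e7773a6c15e), (.wt (nat_lit 0) (nat_lit 0) (nat_lit 0x29d069dd4289881cb0b1977aaf1daee2c113e4bec) (.st (nat_lit 285) [] [] .nil) [nat_lit 3, nat_lit 9] [])⟩))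
 (.nd (nat_lit 288) (.lf ⟨nat_lit 1, nat_lit 97, nat_lit 287, (nat_lit 0xf6d11ea1f2003230c9ae98d7ebf7a100d6421009), one, one, (.df (unp (nat_lit 2) (nat_lit 0x2203)))⟩)
 (.nd (nat_lit 289) (.lf ⟨nat_lit 1, nat_lit 287, nat_lit 97, one, (nat_lit 0xf6d11ea1f2003230c9ae98d7ebf7a100d6421009), one, (.wt (nat_lit 0) (nat_lit 0) (nat_lit 0xf6d11ea1f2003230c9ae98d7ebf7a100d6421009) (.st (nat_lit 287) [] [] .nil) [] [])⟩)
 (.lf ⟨nat_lit 1, nat_lit 97, nat_lit 289, (nat_lit 0x125910161e8d6fe6d72746c6acb95732f82b12d8b), one, one, (.df [nat_lit 2, nat_lit 8])⟩))))))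
 (.nd (nat_lit 298) (.nd (nat_lit 294) (.nd (nat_lit 292) (.nd (nat_lit 291) (.lf ⟨nat_lit 1, nat_lit 289, nat_lit 279, (nat_lit 0x100e0aba0d17c70444d02bf329fd10d7608f1b426), (nat_lit 0x1fcc4265e5f5e8c58e758190706d179ef60cc5dd7), one, (.wt (nat_lit 2) (nat_lit 2) (nat_lit 0xa2ea9a2d0d739cc971a9d423bd96b619a03ddbf2) (.st (nat_lit 280) [nat_lit 4, nat_lit 22] [] (.st (nat_lit 289) [] [] .nil)) [] [])⟩)
 (.lf ⟨nat_lit 1, nat_lit 279, nat_lit 289, (nat_lit 0x100e0aba0d17c70444d02bf329fd10d7608f1b426), (nat_lit 0x3e9bb5a40ffe36717b19c821828fe8c2a374cf1a2), one, (.wt (nat_lit 0) (nat_lit 0) (nat_lit 0x100e0aba0d17c70444d02bf329fd10d7608f1b426) (.st (nat_lit 290) [] [] .nil) (unp (nat_lit 5) (nat_lit 0x3fe303)) [])⟩))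
 (.nd (nat_lit 293) (.lf ⟨nat_lit 1, nat_lit 289, nat_lit 105, (nat_lit 0x29d069dd4289881cb0b1977aaf1daee2c113e4bec), (nat_lit 0x1b9125bf35ad154cad8e3f239f3e7bfae56c97615), (nat_lit 0x19307ba4434fd96d3cd4a4e925ddb1c63057aa038), (.wt (nat_lit 5) (nat_lit 2) (nat_lit 0xd90b162b66b58e6d08821ad01e7c167004d8e1fc) (.st (nat_lit 106) (unp (nat_lit 5) (nat_lit 0x4fc303)) [] (.st (nat_lit 76) [nat_lit 4, nat_lit 8] [] (.st (nat_lit 56) [nat_lit 29, nat_lit 9] [nat_lit 58] (.st (nat_lit 87) [nat_lit 4, nat_lit 11] [] (.st (nat_lit 156) [nat_lit 4, nat_lit 22] [] (.st (nat_lit 249) (unp (nat_lit 5) (nat_lit 0x2fe303)) [] (.st (nat_lit 247) (unp (nat_lit 5) (nat_lit 0x33e303)) [] (.st (nat_lit 100) (unp (nat_lit 5) (nat_lit 0x3ba303)) [] (.st (nat_lit 289) (unp (nat_lit 5) (nat_lit 0x2fe303)) [] .nil))))))))) (unp (nat_lit 5) (nat_lit 0x37a303)) [])⟩)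
 (.lf ⟨nat_lit 1, nat_lit 105, nat_lit 289, (nat_lit 0x3eba12c3c3234cd354a978de13ad53d6c7be58abc), (nat_lit 0x33bb19f171ebe5e81c00b3ae30f4f2ac6d1cef7b6), (nat_lit 0x19307ba4434fd96d3cd4a4e925ddb1c63057aa038), (.wt (nat_lit 0) (nat_lit 0) (nat_lit 0x29d069dd4289881cb0b1977aaf1daee2c113e4bec) (.st (nat_lit 292) [] [] .nil) [nat_lit 3, nat_lit 14] [])⟩)))
 (.nd (nat_lit 296) (.nd (nat_lit 295) (.lf ⟨nat_lit 1, nat_lit 97, nat_lit 294, (nat_lit 0x1fce42ed966b34fae64312a96f69e1eea7db1de4), one, one, (.df [nat_lit 8])⟩)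
 (.lf ⟨nat_lit 1, nat_lit 294, nat_lit 97, one, (nat_lit 0x1fce42ed966b34fae64312a96f69e1eea7db1de4), one, (.wt (nat_lit 0) (nat_lit 0) (nat_lit 0x1fce42ed966b34fae64312a96f69e1eea7db1de4) (.st (nat_lit 294) [] [] .nil) [] [])⟩))
 (.nd (nat_lit 297) (.lf ⟨nat_lit 1, nat_lit 97, nat_lit 296, (nat_lit 0x2ba2cea7bd829f6f53bc17c3f6c7dba59a18cc2c5), one, one, (.df [nat_lit 2, nat_lit 0])⟩)
 (.lf ⟨nat_lit 1, nat_lit 296, nat_lit 97, one, (nat_lit 0x2ba2cea7bd829f6f53bc17c3f6c7dba59a18cc2c5), one, (.wt (nat_lit 0) (nat_lit 0) (nat_lit 0x2ba2cea7bd829f6f53bc17c3f6c7dba59a18cc2c5) (.st (nat_lit 296) [] [] .nil) [] [])⟩))))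
 (.nd (nat_lit 302) (.nd (nat_lit 300) (.nd (nat_lit 299) (.lf ⟨nat_lit 1, nat_lit 296, nat_lit 283, (nat_lit 0x100e0aba0d17c70444d02bf329fd10d7608f1b426), (nat_lit 0x100e0aba0d17c70444d02bf329fd10d7608f1b426), one, (.wt (nat_lit 2) (nat_lit 2) one (.st (nat_lit 284) [] [] (.st (nat_lit 296) [] [] .nil)) [] [])⟩)
 (.lf ⟨nat_lit 1, nat_lit 283, nat_lit 296, (nat_lit 0x100e0aba0d17c70444d02bf329fd10d7608f1b426), (nat_lit 0x100e0aba0d17c70444d02bf329fd10d7608f1b426), one, (.wt (nat_lit 0) (nat_lit 0) (nat_lit 0x100e0aba0d17c70444d02bf329fd10d7608f1b426) (.st (nat_lit 298) [] [] .nil) [] [])⟩))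
 (.nd (nat_lit 301) (.lf ⟨nat_lit 1, nat_lit 97, nat_lit 300, (nat_lit 0x3eba12c3c3234cd354a978de13ad53d6c7be58abc), one, one, (.df [nat_lit 2, nat_lit 2])⟩)
 (.lf ⟨nat_lit 1, nat_lit 300, nat_lit 287, (nat_lit 0x100e0aba0d17c70444d02bf329fd10d7608f1b426), (nat_lit 0x100e0aba0d17c70444d02bf329fd10d7608f1b426), one, (.wt (nat_lit 2) (nat_lit 2) one (.st (nat_lit 288) [] [] (.st (nat_lit 300) [] [] .nil)) [] [])⟩)))
 (.nd (nat_lit 304) (.nd (nat_lit 303) (.lf ⟨nat_lit 1, nat_lit 287, nat_lit 300, (nat_lit 0x100e0aba0d17c70444d02bf329fd10d7608f1b426), (nat_lit 0x100e0aba0d17c70444d02bf329fd10d7608f1b426), one, (.wt (nat_lit 0) (nat_lit 0) (nat_lit 0x100e0aba0d17c70444d02bf329fd10d7608f1b426) (.st (nat_lit 301) [] [] .nil) [] [])⟩)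
 (.lf ⟨nat_lit 1, nat_lit 97, nat_lit 303, (nat_lit 0x9a472e71a6030c6693ace0c7e5978349d74b3855), one, one, (.df [nat_lit 8, nat_lit 0])⟩))
 (.nd (nat_lit 305) (.lf ⟨nat_lit 1, nat_lit 303, nat_lit 294, (nat_lit 0x100e0aba0d17c70444d02bf329fd10d7608f1b426), (nat_lit 0x1b94dc9a9f5dafe6001e2ccbef9b1bb06e7ad4c94), one, (.wt (nat_lit 2) (nat_lit 2) (nat_lit 0x1be19238427c315eec4e063d6ba4a62fe4d8a67fd) (.st (nat_lit 295) [nat_lit 4, nat_lit 16] [] (.st (nat_lit 303) [] [] .nil)) [] [])⟩)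
 (.nd (nat_lit 306) (.lf ⟨nat_lit 1, nat_lit 294, nat_lit 303, (nat_lit 0x100e0aba0d17c70444d02bf329fd10d7608f1b426), (nat_lit 0x1b94dc9a9f5dafe6001e2ccbef9b1bb06e7ad4c94), one, (.wt (nat_lit 0) (nat_lit 0) (nat_lit 0x100e0aba0d17c70444d02bf329fd10d7608f1b426) (.st (nat_lit 304) [] [] .nil) (unp (nat_lit 5) (nat_lit 0x37e403)) [])⟩)
 (.lf ⟨nat_lit 1, nat_lit 101, nat_lit 306, (nat_lit 0x29d069dd4289881cb0b1977aaf1daee2c113e4bec), one, one, (.df [nat_lit 2])⟩)))))))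

noncomputable def T3_307 : Tr :=
  (.nd (nat_lit 324) (.nd (nat_lit 315) (.nd (nat_lit 311) (.nd (nat_lit 309) (.nd (nat_lit 308) (.lf ⟨nat_lit 1, nat_lit 101, nat_lit 307, (nat_lit 0x125910161e8d6fe6d72746c6acb95732f82b12d8b), one, one, (.df [nat_lit 2, nat_lit 8])⟩)
 (.lf ⟨nat_lit 1, nat_lit 307, nat_lit 101, one, (nat_lit 0x125910161e8d6fe6d72746c6acb95732f82b12d8b), one, (.wt (nat_lit 0) (nat_lit 0) (nat_lit 0x125910161e8d6fe6d72746c6acb95732f82b12d8b) (.st (nat_lit 307) [] [] .nil) [] [])⟩))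
 (.nd (nat_lit 310) (.lf ⟨nat_lit 1, nat_lit 307, nat_lit 208, (nat_lit 0x100e0aba0d17c70444d02bf329fd10d7608f1b426), (nat_lit 0x38ae35d2c310b557bbf041f852be800124c9a89ea), (nat_lit 0x1c8ecb76742a88a610646281907901380d54096c9), (.wt (nat_lit 2) (nat_lit 2) (nat_lit 0x32943e4154446cd4d327d1b9741bec2db5cb10677) (.st (nat_lit 210) [nat_lit 29, nat_lit 11] [] (.st (nat_lit 307) [] [] .nil)) [] [])⟩)
 (.lf ⟨nat_lit 1, nat_lit 208, nat_lit 307, (nat_lit 0x125910161e8d6fe6d72746c6acb95732f82b12d8b), (nat_lit 0x113a82ffd2fa1cfc14b0dde44999e309948c436c6), (nat_lit 0x16036823174282cc23094c451dfbc0684da4ca2f0), (.wt (nat_lit 0) (nat_lit 0) (nat_lit 0x100e0aba0d17c70444d02bf329fd10d7608f1b426) (.st (nat_lit 309) [] [] .nil) (unp (nat_lit 5) (nat_lit 0x47a403)) [])⟩)))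
 (.nd (nat_lit 313) (.nd (nat_lit 312) (.lf ⟨nat_lit 1, nat_lit 101, nat_lit 311, (nat_lit 0x1fce42ed966b34fae64312a96f69e1eea7db1de4), one, one, (.df [nat_lit 8])⟩)
 (.lf ⟨nat_lit 1, nat_lit 311, nat_lit 101, one, (nat_lit 0x1fce42ed966b34fae64312a96f69e1eea7db1de4), one, (.wt (nat_lit 0) (nat_lit 0) (nat_lit 0x1fce42ed966b34fae64312a96f69e1eea7db1de4) (.st (nat_lit 311) [] [] .nil) [] [])⟩))
 (.nd (nat_lit 314) (.lf ⟨nat_lit 1, nat_lit 101, nat_lit 313, (nat_lit 0x2ba2cea7bd829f6f53bc17c3f6c7dba59a18cc2c5), one, one, (.df [nat_lit 2, nat_lit 0])⟩)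
 (.lf ⟨nat_lit 1, nat_lit 101, nat_lit 314, (nat_lit 0x9a472e71a6030c6693ace0c7e5978349d74b3855), one, one, (.df [nat_lit 8, nat_lit 0])⟩))))
 (.nd (nat_lit 319) (.nd (nat_lit 317) (.nd (nat_lit 316) (.lf ⟨nat_lit 1, nat_lit 314, nat_lit 174, (nat_lit 0x2ba2cea7bd829f6f53bc17c3f6c7dba59a18cc2c5), (nat_lit 0x31312656e649770efddf59ef09d73ab8885c897d), (nat_lit 0x13ea0bc0d56ce86cc9fd377d87ce81f0a0dee6589), (.wt (nat_lit 6) (nat_lit 2) (nat_lit 0x1ddf3a9b63322283151996aab71e7317d43dd89cb) (.st (nat_lit 175) (unp (nat_lit 5) (nat_lit 0x53e303)) [] (.st (nat_lit 167) [nat_lit 4, nat_lit 9] [] (.st (nat_lit 88) (unp (nat_lit 5) (nat_lit 0x27e403)) [] (.st (nat_lit 53) [nat_lit 15] [] (.st (nat_lit 71) [nat_lit 30, nat_lit 17] [] (.st (nat_lit 101) [nat_lit 31, nat_lit 19] [nat_lit 72] (.st (nat_lit 314) (unp (nat_lit 5) (nat_lit 0x3bc303)) [] .nil))))))) [nat_lit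 3] [])⟩)
 (.lf ⟨nat_lit 1, nat_lit 174, nat_lit 314, (nat_lit 0x3eba12c3c3234cd354a978de13ad53d6c7be58abc), (nat_lit 0x1cc37b1f17668a00ce5bed1ffc0d6b2de8934532d), (nat_lit 0x13ea0bc0d56ce86cc9fd377d87ce81f0a0dee6589), (.wt (nat_lit 0) (nat_lit 0) (nat_lit 0x2ba2cea7bd829f6f53bc17c3f6c7dba59a18cc2c5) (.st (nat_lit 315) [] [] .nil) [nat_lit 12] [])⟩))
 (.nd (nat_lit 318) (.lf ⟨nat_lit 1, nat_lit 105, nat_lit 317, (nat_lit 0x3b6020b1ee99f350ad1583cd87ceba46c32e15ab7), one, one, (.df [nat_lit 3])⟩)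
 (.lf ⟨nat_lit 1, nat_lit 317, nat_lit 105, one, (nat_lit 0x3b6020b1ee99f350ad1583cd87ceba46c32e15ab7), one, (.wt (nat_lit 0) (nat_lit 0) (nat_lit 0x3b6020b1ee99f350ad1583cd87ceba46c32e15ab7) (.st (nat_lit 317) [] [] .nil) [] [])⟩)))
 (.nd (nat_lit 321) (.nd (nat_lit 320) (.lf ⟨nat_lit 1, nat_lit 105, nat_lit 319, (nat_lit 0x29d069dd4289881cb0b1977aaf1daee2c113e4bec), one, one, (.df [nat_lit 2])⟩)
 (.lf ⟨nat_lit 1, nat_lit 319, nat_lit 105, one, (nat_lit 0x29d069dd4289881cb0b1977aaf1daee2c113e4bec), one, (.wt (nat_lit 0) (nat_lit 0) (nat_lit 0x29d069dd4289881cb0b1977aaf1daee2c113e4bec) (.st (nat_lit 319) [] [] .nil) [] [])⟩))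
 (.nd (nat_lit 322) (.lf ⟨nat_lit 1, nat_lit 105, nat_lit 321, (nat_lit 0xf6d11ea1f2003230c9ae98d7ebf7a100d6421009), one, one, (.df (unp (nat_lit 2) (nat_lit 0x2203)))⟩)
 (.nd (nat_lit 323) (.lf ⟨nat_lit 1, nat_lit 321, nat_lit 105, one, (nat_lit 0xf6d11ea1f2003230c9ae98d7ebf7a100d6421009), one, (.wt (nat_lit 0) (nat_lit 0) (nat_lit 0xf6d11ea1f2003230c9ae98d7ebf7a100d6421009) (.st (nat_lit 321) [] [] .nil) [] [])⟩)
 (.lf ⟨nat_lit 1, nat_lit 321, nat_lit 289, (nat_lit 0x100e0aba0d17c70444d02bf329fd10d7608f1b426), (nat_lit 0x16e888d7d43141626d81d5d720de7b852c6220bd8), (nat_lit 0x19307ba4434fd96d3cd4a4e925ddb1c63057aa038), (.wt (nat_lit 2) (nat_lit 2) (nat_lit 0x33bb19f171ebe5e81c00b3ae30f4f2ac6d1cef7b6) (.st (nat_lit 292) [nat_lit 29, nat_lit 11] [] (.st (nat_lit 321) [] [] .nil)) [] [])⟩))))))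
 (.nd (nat_lit 332) (.nd (nat_lit 328) (.nd (nat_lit 326) (.nd (nat_lit 325) (.lf ⟨nat_lit 1, nat_lit 289, nat_lit 321, (nat_lit 0x2ba2cea7bd829f6f53bc17c3f6c7dba59a18cc2c5), (nat_lit 0x1186bb89ad1570002d96655fa4c4f1af5001eda5c), (nat_lit 0x19307ba4434fd96d3cd4a4e925ddb1c63057aa038), (.wt (nat_lit 0) (nat_lit 0) (nat_lit 0x100e0aba0d17c70444d02bf329fd10d7608f1b426) (.st (nat_lit 323) [] [] .nil) [nat_lit 29, nat_lit 11] [])⟩)
 (.lf ⟨nat_lit 1, nat_lit 321, nat_lit 138, (nat_lit 0x1fce42ed966b34fae64312a96f69e1eea7db1de4), (nat_lit 0x2fb0223e623ba177910ac71539ce1dabeb898809), (nat_lit 0x2bfe45a40e5ff3531601c60d0c96658e1fc23d13c), (.wt (nat_lit 5) (nat_lit 2) (nat_lit 0x1661201f66afd020087abe57834ace32c42190adf) (.st (nat_lit 139) (unp (nat_lit 5) (nat_lit 0x3ba303)) [] (.st (nat_lit 92) (unp (nat_lit 5) (nat_lit 0x47a403)) [] (.st (nat_lit 208) [nat_lit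 29, nat_lit 8] [] (.st (nat_lit 282) [nat_lit 29, nat_lit 6] [] (.st (nat_lit 280) (unp (nat_lit 5) (nat_lit 0x33e303)) [] (.st (nat_lit 98) (unp (nat_lit 5) (nat_lit 0x2fa303)) [] (.st (nat_lit 78) (unp (nat_lit 5) (nat_lit 0x4ba403)) [] (.st (nat_lit 105) (unp (nat_lit 5) (nat_lit 0x1be403)) [] (.st (nat_lit 321) [nat_lit 31, nat_lit 12] [] .nil))))))))) (unp (nat_lit 5) (nat_lit 0x57c303)) [])⟩))
 (.nd (nat_lit 327) (.lf ⟨nat_lit 1, nat_lit 138, nat_lit 321, (nat_lit 0x125910161e8d6fe6d72746c6acb95732f82b12d8b), (nat_lit 0xa63e1e527b834abc27f218528b005409f0fce756), (nat_lit 0x29a8254fb6027177edb0de7a9dd3e4ffbb6ca9582), (.wt (nat_lit 0) (nat_lit 0) (nat_lit 0x1fce42ed966b34fae64312a96f69e1eea7db1de4) (.st (nat_lit 325) [] [] .nil) [nat_lit 4, nat_lit 14] [])⟩)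
 (.lf ⟨nat_lit 1, nat_lit 105, nat_lit 327, (nat_lit 0x125910161e8d6fe6d72746c6acb95732f82b12d8b), one, one, (.df [nat_lit 2, nat_lit 8])⟩)))
 (.nd (nat_lit 330) (.nd (nat_lit 329) (.lf ⟨nat_lit 1, nat_lit 327, nat_lit 105, one, (nat_lit 0x125910161e8d6fe6d72746c6acb95732f82b12d8b), one, (.wt (nat_lit 0) (nat_lit 0) (nat_lit 0x125910161e8d6fe6d72746c6acb95732f82b12d8b) (.st (nat_lit 327) [] [] .nil) [] [])⟩)
 (.lf ⟨nat_lit 1, nat_lit 327, nat_lit 317, (nat_lit 0x100e0aba0d17c70444d02bf329fd10d7608f1b426), (nat_lit 0x1fcc4265e5f5e8c58e758190706d179ef60cc5dd7), one, (.wt (nat_lit 2) (nat_lit 2) (nat_lit 0xa2ea9a2d0d739cc971a9d423bd96b619a03ddbf2) (.st (nat_lit 318) [nat_lit 4, nat_lit 22] [] (.st (nat_lit 327) [] [] .nil)) [] [])⟩))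
 (.nd (nat_lit 331) (.lf ⟨nat_lit 1, nat_lit 105, nat_lit 330, (nat_lit 0x1fce42ed966b34fae64312a96f69e1eea7db1de4), one, one, (.df [nat_lit 8])⟩)
 (.lf ⟨nat_lit 1, nat_lit 330, nat_lit 172, (nat_lit 0x125910161e8d6fe6d72746c6acb95732f82b12d8b), (nat_lit 0x35ce6608bd5b8f864592ab1e0b26f073c13c435bb), (nat_lit 0x1c2dc834c117cc9be475051e9326443f773ad7902), (.wt (nat_lit 5) (nat_lit 2) (nat_lit 0x2872bd6a2e60bac58e2c3d88ec2998c5f4b10c8d) (.st (nat_lit 173) (unp (nat_lit 5) (nat_lit 0x4bc303)) [] (.st (nat_lit 168) [] [] (.st (nat_lit 146) (unp (nat_lit 5) (nat_lit 0x1bc403)) [] (.st (nat_lit 257) [nat_lit 31, nat_lit 16] [] (.st (nat_lit 255) (unp (nat_lit 5) (nat_lit 0x27c303)) [] (.st (nat_lit 96) [nat_lit 29, nat_lit 19] [] (.st (nat_lit 78) [nat_lit 4, nat_lit 17] [] (.st (nat_lit 105) [nat_lit 30, nat_lit 21] [nat_lit 75] (.st (nat_lit 330) [nat_lit 4,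 nat_lit 12] [] .nil))))))))) [nat_lit 3, nat_lit 21] [])⟩))))
 (.nd (nat_lit 336) (.nd (nat_lit 334) (.nd (nat_lit 333) (.lf ⟨nat_lit 1, nat_lit 172, nat_lit 330, (nat_lit 0xf6d11ea1f2003230c9ae98d7ebf7a100d6421009), (nat_lit 0x21dec207e861104cd500e4efb00b90968d614b8e2), (nat_lit 0x1785dad8c614509bec4539d29c7547e7773a6c15e), (.wt (nat_lit 0) (nat_lit 0) (nat_lit 0x125910161e8d6fe6d72746c6acb95732f82b12d8b) (.st (nat_lit 331) [] [] .nil) [nat_lit 19] [])⟩)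
 (.lf ⟨nat_lit 1, nat_lit 105, nat_lit 333, (nat_lit 0x2ba2cea7bd829f6f53bc17c3f6c7dba59a18cc2c5), one, one, (.df [nat_lit 2, nat_lit 0])⟩))
 (.nd (nat_lit 335) (.lf ⟨nat_lit 1, nat_lit 333, nat_lit 105, one, (nat_lit 0x2ba2cea7bd829f6f53bc17c3f6c7dba59a18cc2c5), one, (.wt (nat_lit 0) (nat_lit 0) (nat_lit 0x2ba2cea7bd829f6f53bc17c3f6c7dba59a18cc2c5) (.st (nat_lit 333) [] [] .nil) [] [])⟩)
 (.lf ⟨nat_lit 1, nat_lit 333, nat_lit 319, (nat_lit 0x100e0aba0d17c70444d02bf329fd10d7608f1b426), (nat_lit 0x100e0aba0d17c70444d02bf329fd10d7608f1b426), one, (.wt (nat_lit 2) (nat_lit 2) one (.st (nat_lit 320) [] [] (.st (nat_lit 333) [] [] .nil)) [] [])⟩)))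
 (.nd (nat_lit 338) (.nd (nat_lit 337) (.lf ⟨nat_lit 1, nat_lit 319, nat_lit 333, (nat_lit 0x100e0aba0d17c70444d02bf329fd10d7608f1b426), (nat_lit 0x100e0aba0d17c70444d02bf329fd10d7608f1b426), one, (.wt (nat_lit 0) (nat_lit 0) (nat_lit 0x100e0aba0d17c70444d02bf329fd10d7608f1b426) (.st (nat_lit 335) [] [] .nil) [] [])⟩)
 (.lf ⟨nat_lit 1, nat_lit 105, nat_lit 337, (nat_lit 0x9a472e71a6030c6693ace0c7e5978349d74b3855), one, one, (.df [nat_lit 8, nat_lit 0])⟩))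
 (.nd (nat_lit 339) (.lf ⟨nat_lit 1, nat_lit 107, nat_lit 338, (nat_lit 0x3b6020b1ee99f350ad1583cd87ceba46c32e15ab7), one, one, (.df [nat_lit 3])⟩)
 (.nd (nat_lit 340) (.lf ⟨nat_lit 1, nat_lit 338, nat_lit 107, one, (nat_lit 0x3b6020b1ee99f350ad1583cd87ceba46c32e15ab7), one, (.wt (nat_lit 0) (nat_lit 0) (nat_lit 0x3b6020b1ee99f350ad1583cd87ceba46c32e15ab7) (.st (nat_lit 338) [] [] .nil) [] [])⟩)
 (.lf ⟨nat_lit 1, nat_lit 107, nat_lit 340, (nat_lit 0xf6d11ea1f2003230c9ae98d7ebf7a100d6421009), one, one, (.df (unp (nat_lit 2) (nat_lit 0x2203)))⟩)))))))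

noncomputable def T3_341 : Tr :=
  (.nd (nat_lit 358) (.nd (nat_lit 349) (.nd (nat_lit 345) (.nd (nat_lit 343) (.nd (nat_lit 342) (.lf ⟨nat_lit 1, nat_lit 340, nat_lit 107, one, (nat_lit 0xf6d11ea1f2003230c9ae98d7ebf7a100d6421009), one, (.wt (nat_lit 0) (nat_lit 0) (nat_lit 0xf6d11ea1f2003230c9ae98d7ebf7a100d6421009) (.st (nat_lit 340) [] [] .nil) [] [])⟩)
 (.lf ⟨nat_lit 1, nat_lit 107, nat_lit 342, (nat_lit 0x1fce42ed966b34fae64312a96f69e1eea7db1de4), one, one, (.df [nat_lit 8])⟩))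
 (.nd (nat_lit 344) (.lf ⟨nat_lit 1, nat_lit 342, nat_lit 107, one, (nat_lit 0x1fce42ed966b34fae64312a96f69e1eea7db1de4), one, (.wt (nat_lit 0) (nat_lit 0) (nat_lit 0x1fce42ed966b34fae64312a96f69e1eea7db1de4) (.st (nat_lit 342) [] [] .nil) [] [])⟩)
 (.lf ⟨nat_lit 1, nat_lit 342, nat_lit 180, (nat_lit 0x100e0aba0d17c70444d02bf329fd10d7608f1b426), (nat_lit 0x3cda17b72c15f0b8006f574ccbe76dfb71be48eac), (nat_lit 0x2166738bec75d24e7294e9d92d918764f49333e0f), (.wt (nat_lit 2) (nat_lit 2) (nat_lit 0x884b1eb7664ac69a91c87a43563317a345f94120) (.st (nat_lit 184) [nat_lit 30, nat_lit 15] [] (.st (nat_lit 342) [] [] .nil)) [] [])⟩)))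
 (.nd (nat_lit 347) (.nd (nat_lit 346) (.lf ⟨nat_lit 1, nat_lit 342, nat_lit 176, (nat_lit 0x3eba12c3c3234cd354a978de13ad53d6c7be58abc), (nat_lit 0x268694d5c28dbb03f989730d61974304c2832b9d2), (nat_lit 0x1f17ab37d3680aec186d2ec989b1805c40f0c3439), (.wt (nat_lit 5) (nat_lit 2) (nat_lit 0x11ad7be3ecca859b8ac250531975d2343651eeeae) (.st (nat_lit 177) [nat_lit 30, nat_lit 22] [] (.st (nat_lit 92) [nat_lit 30, nat_lit 6] [] (.st (nat_lit 200) [nat_lit 31, nat_lit 13] [] (.st (nat_lit 278) (unp (nat_lit 5) (nat_lit 0x5be303)) [] (.st (nat_lit 274) (unp (nat_lit 5) (nat_lit 0x1ba403)) [] (.st (nat_lit 96) [nat_lit 31, nat_lit 21] [] (.st (nat_lit 78) [nat_lit 31] [] (.st (nat_lit 107) [nat_lit 29, nat_lit 21] [] (.st (nat_lit 342) (unp (nat_lit 5) (nat_lit 0x33e403)) [] .nil))))))))) [nat_lit 31, nat_lit 11] [])⟩)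
 (.lf ⟨nat_lit 1, nat_lit 176, nat_lit 342, (nat_lit 0x125910161e8d6fe6d72746c6acb95732f82b12d8b), (nat_lit 0x2a28bbfa36915cdf1fc2f3ea57b2de0755ec21b7d), (nat_lit 0x1f17ab37d3680aec186d2ec989b1805c40f0c3439), (.wt (nat_lit 0) (nat_lit 0) (nat_lit 0x3eba12c3c3234cd354a978de13ad53d6c7be58abc) (.st (nat_lit 345) [] [] .nil) [nat_lit 4, nat_lit 16] [])⟩))
 (.nd (nat_lit 348) (.lf ⟨nat_lit 1, nat_lit 107, nat_lit 347, (nat_lit 0x3eba12c3c3234cd354a978de13ad53d6c7be58abc), one, one, (.df [nat_lit 2, nat_lit 2])⟩)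
 (.lf ⟨nat_lit 1, nat_lit 347, nat_lit 340, (nat_lit 0x100e0aba0d17c70444d02bf329fd10d7608f1b426), (nat_lit 0x100e0aba0d17c70444d02bf329fd10d7608f1b426), one, (.wt (nat_lit 2) (nat_lit 2) one (.st (nat_lit 341) [] [] (.st (nat_lit 347) [] [] .nil)) [] [])⟩))))
 (.nd (nat_lit 353) (.nd (nat_lit 351) (.nd (nat_lit 350) (.lf ⟨nat_lit 1, nat_lit 340, nat_lit 347, (nat_lit 0x100e0aba0d17c70444d02bf329fd10d7608f1b426), (nat_lit 0x100e0aba0d17c70444d02bf329fd10d7608f1b426), one, (.wt (nat_lit 0) (nat_lit 0) (nat_lit 0x100e0aba0d17c70444d02bf329fd10d7608f1b426) (.st (nat_lit 348) [] [] .nil) [] [])⟩)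
 (.lf ⟨nat_lit 1, nat_lit 347, nat_lit 196, (nat_lit 0x3eba12c3c3234cd354a978de13ad53d6c7be58abc), (nat_lit 0x2211be69467244e69611a2d65a76444671240cc79), (nat_lit 0x13ea0bc0d56ce86cc9fd377d87ce81f0a0dee6589), (.wt (nat_lit 6) (nat_lit 2) (nat_lit 0x82886d5ea4d2cd2749e3e155e73a5591936e427) (.st (nat_lit 198) (unp (nat_lit 5) (nat_lit 0x37c303)) [] (.st (nat_lit 191) [nat_lit 3, nat_lit 9] [] (.st (nat_lit 90) (unp (nat_lit 5) (nat_lit 0x23a403)) [] (.st (nat_lit 53) [nat_lit 29, nat_lit 22] [] (.st (nat_lit 74) [nat_lit 29, nat_lit 22] [nat_lit 54] (.st (nat_lit 107) (unp (nat_lit 5) (nat_lit 0x47a403)) [nat_lit 75] (.st (nat_lit 347) (unp (nat_lit 5) (nat_lit 0x2fc403)) [] .nil))))))) (unp (nat_lit 5) (nat_lit 0x23e303)) [])⟩))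
 (.nd (nat_lit 352) (.lf ⟨nat_lit 1, nat_lit 196, nat_lit 347, (nat_lit 0x3eba12c3c3234cd354a978de13ad53d6c7be58abc), (nat_lit 0x46c29599da1b609ed201d8e783a9be88ab5c3a03), (nat_lit 0x13ea0bc0d56ce86cc9fd377d87ce81f0a0dee6589), (.wt (nat_lit 0) (nat_lit 0) (nat_lit 0x3eba12c3c3234cd354a978de13ad53d6c7be58abc) (.st (nat_lit 350) [] [] .nil) (unp (nat_lit 5) (nat_lit 0x4fe303)) [])⟩)
 (.lf ⟨nat_lit 1, nat_lit 109, nat_lit 352, (nat_lit 0x3b6020b1ee99f350ad1583cd87ceba46c32e15ab7), one, one, (.df [nat_lit 3])⟩)))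
 (.nd (nat_lit 355) (.nd (nat_lit 354) (.lf ⟨nat_lit 1, nat_lit 352, nat_lit 109, one, (nat_lit 0x3b6020b1ee99f350ad1583cd87ceba46c32e15ab7), one, (.wt (nat_lit 0) (nat_lit 0) (nat_lit 0x3b6020b1ee99f350ad1583cd87ceba46c32e15ab7) (.st (nat_lit 352) [] [] .nil) [] [])⟩)
 (.lf ⟨nat_lit 1, nat_lit 109, nat_lit 354, (nat_lit 0x29d069dd4289881cb0b1977aaf1daee2c113e4bec), one, one, (.df [nat_lit 2])⟩))
 (.nd (nat_lit 356) (.lf ⟨nat_lit 1, nat_lit 109, nat_lit 355, (nat_lit 0xf6d11ea1f2003230c9ae98d7ebf7a100d6421009), one, one, (.df (unp (nat_lit 2) (nat_lit 0x2203)))⟩)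
 (.nd (nat_lit 357) (.lf ⟨nat_lit 1, nat_lit 355, nat_lit 109, one, (nat_lit 0xf6d11ea1f2003230c9ae98d7ebf7a100d6421009), one, (.wt (nat_lit 0) (nat_lit 0) (nat_lit 0xf6d11ea1f2003230c9ae98d7ebf7a100d6421009) (.st (nat_lit 355) [] [] .nil) [] [])⟩)
 (.lf ⟨nat_lit 1, nat_lit 109, nat_lit 357, (nat_lit 0x125910161e8d6fe6d72746c6acb95732f82b12d8b), one, one, (.df [nat_lit 2, nat_lit 8])⟩))))))
 (.nd (nat_lit 366) (.nd (nat_lit 362) (.nd (nat_lit 360) (.nd (nat_lit 359) (.lf ⟨nat_lit 1, nat_lit 357, nat_lit 109, one, (nat_lit 0x125910161e8d6fe6d72746c6acb95732f82b12d8b), one, (.wt (nat_lit 0) (nat_lit 0) (nat_lit 0x125910161e8d6fe6d72746c6acb95732f82b12d8b) (.st (nat_lit 357) [] [] .nil) [] [])⟩)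
 (.lf ⟨nat_lit 1, nat_lit 357, nat_lit 352, (nat_lit 0x100e0aba0d17c70444d02bf329fd10d7608f1b426), (nat_lit 0x1fcc4265e5f5e8c58e758190706d179ef60cc5dd7), one, (.wt (nat_lit 2) (nat_lit 2) (nat_lit 0xa2ea9a2d0d739cc971a9d423bd96b619a03ddbf2) (.st (nat_lit 353) [nat_lit 4, nat_lit 22] [] (.st (nat_lit 357) [] [] .nil)) [] [])⟩))
 (.nd (nat_lit 361) (.lf ⟨nat_lit 1, nat_lit 352, nat_lit 357, (nat_lit 0x100e0aba0d17c70444d02bf329fd10d7608f1b426), (nat_lit 0x3e9bb5a40ffe36717b19c821828fe8c2a374cf1a2), one, (.wt (nat_lit 0) (nat_lit 0) (nat_lit 0x100e0aba0d17c70444d02bf329fd10d7608f1b426) (.st (nat_lit 359) [] [] .nil) (unp (nat_lit 5) (nat_lit 0x3fe303)) [])⟩)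
 (.lf ⟨nat_lit 1, nat_lit 109, nat_lit 361, (nat_lit 0x1fce42ed966b34fae64312a96f69e1eea7db1de4), one, one, (.df [nat_lit 8])⟩)))
 (.nd (nat_lit 364) (.nd (nat_lit 363) (.lf ⟨nat_lit 1, nat_lit 361, nat_lit 109, one, (nat_lit 0x1fce42ed966b34fae64312a96f69e1eea7db1de4), one, (.wt (nat_lit 0) (nat_lit 0) (nat_lit 0x1fce42ed966b34fae64312a96f69e1eea7db1de4) (.st (nat_lit 361) [] [] .nil) [] [])⟩)
 (.lf ⟨nat_lit 1, nat_lit 109, nat_lit 363, (nat_lit 0x2ba2cea7bd829f6f53bc17c3f6c7dba59a18cc2c5), one, one, (.df [nat_lit 2, nat_lit 0])⟩))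
 (.nd (nat_lit 365) (.lf ⟨nat_lit 1, nat_lit 109, nat_lit 364, (nat_lit 0x3eba12c3c3234cd354a978de13ad53d6c7be58abc), one, one, (.df [nat_lit 2, nat_lit 2])⟩)
 (.lf ⟨nat_lit 1, nat_lit 364, nat_lit 109, one, (nat_lit 0x3eba12c3c3234cd354a978de13ad53d6c7be58abc), one, (.wt (nat_lit 0) (nat_lit 0) (nat_lit 0x3eba12c3c3234cd354a978de13ad53d6c7be58abc) (.st (nat_lit 364) [] [] .nil) [] [])⟩))))
 (.nd (nat_lit 370) (.nd (nat_lit 368) (.nd (nat_lit 367) (.lf ⟨nat_lit 1, nat_lit 364, nat_lit 355, (nat_lit 0x100e0aba0d17c70444d02bf329fd10d7608f1b426), (nat_lit 0x100e0aba0d17c70444d02bf329fd10d7608f1b426), one, (.wt (nat_lit 2) (nat_lit 2) one (.st (nat_lit 356) [] [] (.st (nat_lit 364) [] [] .nil)) [] [])⟩)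
 (.lf ⟨nat_lit 1, nat_lit 364, nat_lit 229, (nat_lit 0x125910161e8d6fe6d72746c6acb95732f82b12d8b), (nat_lit 0x34cf09d1d12bc9249dd22e16695822eabfbb285bf), (nat_lit 0x2bfe45a40e5ff3531601c60d0c96658e1fc23d13c), (.wt (nat_lit 5) (nat_lit 2) (nat_lit 0x1f85201a39c9c4615e3f4e2531c62f0069ecc9039) (.st (nat_lit 230) (unp (nat_lit 5) (nat_lit 0x5be403)) [] (.st (nat_lit 90) (unp (nat_lit 5) (nat_lit 0x43c403)) [] (.st (nat_lit 53) (unp (nat_lit 5) (nat_lit 0x57c403)) [] (.st (nat_lit 71) (unp (nat_lit 5) (nat_lit 0x47e303)) [nat_lit 54] (.st (nat_lit 97) [nat_lit 3, nat_lit 16] [nat_lit 72] (.st (nat_lit 289) (unp (nat_lit 5) (nat_lit 0x43e303)) [] (.st (nat_lit 292) (unp (nat_lit 5) (nat_lit 0x4fa303)) [] (.st (nat_lit 112) [nat_lit 31, nat_lit 9] [] (.st (nat_lit 364) [nat_lit 12] [] .nil))))))))) [nat_lit 30, nat_lit 21] [])⟩))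
 (.nd (nat_lit 369) (.lf ⟨nat_lit 1, nat_lit 229, nat_lit 364, (nat_lit 0x9a472e71a6030c6693ace0c7e5978349d74b3855), (nat_lit 0x37b7a5b0db568d748f7ffef5be8209c85ac67b34d), (nat_lit 0x29a8254fb6027177edb0de7a9dd3e4ffbb6ca9582), (.wt (nat_lit 0) (nat_lit 0) (nat_lit 0x125910161e8d6fe6d72746c6acb95732f82b12d8b) (.st (nat_lit 367) [] [] .nil) (unp (nat_lit 5) (nat_lit 0x27c303)) [])⟩)
 (.lf ⟨nat_lit 1, nat_lit 109, nat_lit 369, (nat_lit 0x9a472e71a6030c6693ace0c7e5978349d74b3855), one, one, (.df [nat_lit 8, nat_lit 0])⟩)))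
 (.nd (nat_lit 372) (.nd (nat_lit 371) (.lf ⟨nat_lit 1, nat_lit 369, nat_lit 109, one, (nat_lit 0x9a472e71a6030c6693ace0c7e5978349d74b3855), one, (.wt (nat_lit 0) (nat_lit 0) (nat_lit 0x9a472e71a6030c6693ace0c7e5978349d74b3855) (.st (nat_lit 369) [] [] .nil) [] [])⟩)
 (.lf ⟨nat_lit 1, nat_lit 369, nat_lit 361, (nat_lit 0x100e0aba0d17c70444d02bf329fd10d7608f1b426), (nat_lit 0x1b94dc9a9f5dafe6001e2ccbef9b1bb06e7ad4c94), one, (.wt (nat_lit 2) (nat_lit 2) (nat_lit 0x1be19238427c315eec4e063d6ba4a62fe4d8a67fd) (.st (nat_lit 362) [nat_lit 4, nat_lit 16] [] (.st (nat_lit 369) [] [] .nil)) [] [])⟩))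
 (.nd (nat_lit 373) (.lf ⟨nat_lit 1, nat_lit 369, nat_lit 149, (nat_lit 0x125910161e8d6fe6d72746c6acb95732f82b12d8b), (nat_lit 0x1177e1851f8e2785eb7e0fcbf2ce3a2eac7fdf978), (nat_lit 0x1c2dc834c117cc9be475051e9326443f773ad7902), (.wt (nat_lit 6) (nat_lit 2) (nat_lit 0x13aedb433996f075ffd075485e2324037e63382da) (.st (nat_lit 151) (unp (nat_lit 5) (nat_lit 0x47c303)) [] (.st (nat_lit 143) [nat_lit 9] [] (.st (nat_lit 88) (unp (nat_lit 5) (nat_lit 0x23c403)) [] (.st (nat_lit 53) [nat_lit 3, nat_lit 20] [] (.st (nat_lit 74) [nat_lit 12] [nat_lit 55] (.st (nat_lit 109) [nat_lit 30, nat_lit 21] [] (.st (nat_lit 369) [nat_lit 4, nat_lit 12] [] .nil))))))) [nat_lit 3, nat_lit 21] [])⟩)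
 (.nd (nat_lit 374) (.lf ⟨nat_lit 1, nat_lit 149, nat_lit 369, (nat_lit 0x3eba12c3c3234cd354a978de13ad53d6c7be58abc), (nat_lit 0x3667da6afabca7792b89b3dc3b41fc9e6e766a425), (nat_lit 0x1785dad8c614509bec4539d29c7547e7773a6c15e), (.wt (nat_lit 0) (nat_lit 0) (nat_lit 0x125910161e8d6fe6d72746c6acb95732f82b12d8b) (.st (nat_lit 372) [] [] .nil) [nat_lit 31, nat_lit 17] [])⟩)
 (.lf ⟨nat_lit 1, nat_lit 113, nat_lit 374, (nat_lit 0x29d069dd4289881cb0b1977aaf1daee2c113e4bec), one, one, (.df [nat_lit 2])⟩)))))))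

noncomputable def T3_375 : Tr :=
  (.nd (nat_lit 392) (.nd (nat_lit 383) (.nd (nat_lit 379) (.nd (nat_lit 377) (.nd (nat_lit 376) (.lf ⟨nat_lit 1, nat_lit 374, nat_lit 113, one, (nat_lit 0x29d069dd4289881cb0b1977aaf1daee2c113e4bec), one, (.wt (nat_lit 0) (nat_lit 0) (nat_lit 0x29d069dd4289881cb0b1977aaf1daee2c113e4bec) (.st (nat_lit 374) [] [] .nil) [] [])⟩)
 (.lf ⟨nat_lit 1, nat_lit 374, nat_lit 218, (nat_lit 0x125910161e8d6fe6d72746c6acb95732f82b12d8b), (nat_lit 0xa0cf17e8a62676585a9f685be8137fd5ed7dfdb9), (nat_lit 0x1785dad8c614509bec4539d29c7547e7773a6c15e), (.wt (nat_lit 5) (nat_lit 2) (nat_lit 0x2d8929701647e2080f939d0b51a1552e66886100) (.st (nat_lit 220) (unp (nat_lit 5) (nat_lit 0x5be303)) [] (.st (nat_lit 214) [nat_lit 4] [] (.st (nat_lit 194) (unp (nat_lit 5) (nat_lit 0x1be403)) [] (.st (nat_lit 253) [nat_lit 31, nat_lit 12] [] (.st (nat_lit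 251) [nat_lit 3, nat_lit 17] [] (.st (nat_lit 94) (unp (nat_lit 5) (nat_lit 0x4be303)) [] (.st (nat_lit 78) (unp (nat_lit 5) (nat_lit 0x4fa303)) [] (.st (nat_lit 113) (unp (nat_lit 5) (nat_lit 0x3fc303)) [] (.st (nat_lit 374) [nat_lit 8] [] .nil))))))))) (unp (nat_lit 5) (nat_lit 0x1bc403)) [])⟩))
 (.nd (nat_lit 378) (.lf ⟨nat_lit 1, nat_lit 218, nat_lit 374, (nat_lit 0xf6d11ea1f2003230c9ae98d7ebf7a100d6421009), (nat_lit 0x1d076c6b726e62626da93dc3f06dcf9f77ce2b9bb), (nat_lit 0x1c2dc834c117cc9be475051e9326443f773ad7902), (.wt (nat_lit 0) (nat_lit 0) (nat_lit 0x125910161e8d6fe6d72746c6acb95732f82b12d8b) (.st (nat_lit 376) [] [] .nil) [nat_lit 4, nat_lit 14] [])⟩)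
 (.lf ⟨nat_lit 1, nat_lit 113, nat_lit 378, (nat_lit 0xf6d11ea1f2003230c9ae98d7ebf7a100d6421009), one, one, (.df (unp (nat_lit 2) (nat_lit 0x2203)))⟩)))
 (.nd (nat_lit 381) (.nd (nat_lit 380) (.lf ⟨nat_lit 1, nat_lit 378, nat_lit 225, (nat_lit 0x3b6020b1ee99f350ad1583cd87ceba46c32e15ab7), (nat_lit 0x2ba5f7966b0ad7adf20181421b803b8338f67974e), (nat_lit 0x314b337873f08af6a923215245f7856c376c4305d), (.wt (nat_lit 5) (nat_lit 2) (nat_lit 0x1687e1cdf7ad552f2ca2d77e4075b9279d7fdbf75) (.st (nat_lit 226) [nat_lit 29, nat_lit 16] [] (.st (nat_lit 90) (unp (nat_lit 5) (nat_lit 0x37c303)) [] (.st (nat_lit 51) [nat_lit 3, nat_lit 9] [] (.st (nat_lit 48) [nat_lit 31, nat_lit 9] [nat_lit 37] (.st (nat_lit 87) [nat_lit 31, nat_lit 20] [nat_lit 49] (.st (nat_lit 180) [nat_lit 4, nat_lit 14] [] (.st (nat_lit 184) [nat_lit 3, nat_lit 19] [] (.st (nat_lit 116) [nat_lit 31,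 nat_lit 15] [] (.st (nat_lit 378) [nat_lit 13] [] .nil))))))))) [nat_lit 31, nat_lit 20] [])⟩)
 (.lf ⟨nat_lit 1, nat_lit 225, nat_lit 378, (nat_lit 0x125910161e8d6fe6d72746c6acb95732f82b12d8b), (nat_lit 0x218fcaffe12ab45e1667e2c15fd2de2fb04182b68), (nat_lit 0x2e97ab2019dce371730a3cafdcd9441fc331961ab), (.wt (nat_lit 0) (nat_lit 0) (nat_lit 0x3b6020b1ee99f350ad1583cd87ceba46c32e15ab7) (.st (nat_lit 379) [] [] .nil) (unp (nat_lit 5) (nat_lit 0x3be403)) [])⟩))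
 (.nd (nat_lit 382) (.lf ⟨nat_lit 1, nat_lit 113, nat_lit 381, (nat_lit 0x125910161e8d6fe6d72746c6acb95732f82b12d8b), one, one, (.df [nat_lit 2, nat_lit 8])⟩)
 (.lf ⟨nat_lit 1, nat_lit 113, nat_lit 382, (nat_lit 0x1fce42ed966b34fae64312a96f69e1eea7db1de4), one, one, (.df [nat_lit 8])⟩))))
 (.nd (nat_lit 387) (.nd (nat_lit 385) (.nd (nat_lit 384) (.lf ⟨nat_lit 1, nat_lit 382, nat_lit 113, one, (nat_lit 0x1fce42ed966b34fae64312a96f69e1eea7db1de4), one, (.wt (nat_lit 0) (nat_lit 0) (nat_lit 0x1fce42ed966b34fae64312a96f69e1eea7db1de4) (.st (nat_lit 382) [] [] .nil) [] [])⟩)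
 (.lf ⟨nat_lit 1, nat_lit 113, nat_lit 384, (nat_lit 0x2ba2cea7bd829f6f53bc17c3f6c7dba59a18cc2c5), one, one, (.df [nat_lit 2, nat_lit 0])⟩))
 (.nd (nat_lit 386) (.lf ⟨nat_lit 1, nat_lit 384, nat_lit 113, one, (nat_lit 0x2ba2cea7bd829f6f53bc17c3f6c7dba59a18cc2c5), one, (.wt (nat_lit 0) (nat_lit 0) (nat_lit 0x2ba2cea7bd829f6f53bc17c3f6c7dba59a18cc2c5) (.st (nat_lit 384) [] [] .nil) [] [])⟩)
 (.lf ⟨nat_lit 1, nat_lit 384, nat_lit 374, (nat_lit 0x100e0aba0d17c70444d02bf329fd10d7608f1b426), (nat_lit 0x100e0aba0d17c70444d02bf329fd10d7608f1b426), one, (.wt (nat_lit 2) (nat_lit 2) one (.st (nat_lit 375) [] [] (.st (nat_lit 384) [] [] .nil)) [] [])⟩)))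
 (.nd (nat_lit 389) (.nd (nat_lit 388) (.lf ⟨nat_lit 1, nat_lit 374, nat_lit 384, (nat_lit 0x100e0aba0d17c70444d02bf329fd10d7608f1b426), (nat_lit 0x100e0aba0d17c70444d02bf329fd10d7608f1b426), one, (.wt (nat_lit 0) (nat_lit 0) (nat_lit 0x100e0aba0d17c70444d02bf329fd10d7608f1b426) (.st (nat_lit 386) [] [] .nil) [] [])⟩)
 (.lf ⟨nat_lit 1, nat_lit 113, nat_lit 388, (nat_lit 0x9a472e71a6030c6693ace0c7e5978349d74b3855), one, one, (.df [nat_lit 8, nat_lit 0])⟩))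
 (.nd (nat_lit 390) (.lf ⟨nat_lit 1, nat_lit 388, nat_lit 113, one, (nat_lit 0x9a472e71a6030c6693ace0c7e5978349d74b3855), one, (.wt (nat_lit 0) (nat_lit 0) (nat_lit 0x9a472e71a6030c6693ace0c7e5978349d74b3855) (.st (nat_lit 388) [] [] .nil) [] [])⟩)
 (.nd (nat_lit 391) (.lf ⟨nat_lit 1, nat_lit 388, nat_lit 382, (nat_lit 0x100e0aba0d17c70444d02bf329fd10d7608f1b426), (nat_lit 0x1b94dc9a9f5dafe6001e2ccbef9b1bb06e7ad4c94), one, (.wt (nat_lit 2) (nat_lit 2) (nat_lit 0x1be19238427c315eec4e063d6ba4a62fe4d8a67fd) (.st (nat_lit 383) [nat_lit 4, nat_lit 16] [] (.st (nat_lit 388) [] [] .nil)) [] [])⟩)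
 (.lf ⟨nat_lit 1, nat_lit 382, nat_lit 388, (nat_lit 0x100e0aba0d17c70444d02bf329fd10d7608f1b426), (nat_lit 0x1b94dc9a9f5dafe6001e2ccbef9b1bb06e7ad4c94), one, (.wt (nat_lit 0) (nat_lit 0) (nat_lit 0x100e0aba0d17c70444d02bf329fd10d7608f1b426) (.st (nat_lit 390) [] [] .nil) (unp (nat_lit 5) (nat_lit 0x37e403)) [])⟩))))))
 (.nd (nat_lit 401) (.nd (nat_lit 396) (.nd (nat_lit 394) (.nd (nat_lit 393) (.lf ⟨nat_lit 1, nat_lit 117, nat_lit 392, (nat_lit 0x3b6020b1ee99f350ad1583cd87ceba46c32e15ab7), one, one, (.df [nat_lit 3])⟩)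
 (.lf ⟨nat_lit 1, nat_lit 392, nat_lit 117, one, (nat_lit 0x3b6020b1ee99f350ad1583cd87ceba46c32e15ab7), one, (.wt (nat_lit 0) (nat_lit 0) (nat_lit 0x3b6020b1ee99f350ad1583cd87ceba46c32e15ab7) (.st (nat_lit 392) [] [] .nil) [] [])⟩))
 (.nd (nat_lit 395) (.lf ⟨nat_lit 1, nat_lit 392, nat_lit 186, (nat_lit 0x100e0aba0d17c70444d02bf329fd10d7608f1b426), (nat_lit 0x25545e29b48210db246cdb64002887c36281944c1), (nat_lit 0x3eb08af5869a9230cb008899ed2732693f8b33bb), (.wt (nat_lit 2) (nat_lit 2) (nat_lit 0x38bfa77d5262ee9fc37056eb8450152e3959668fc) (.st (nat_lit 188) [nat_lit 29, nat_lit 21] [] (.st (nat_lit 392) [] [] .nil)) [] [])⟩)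
 (.lf ⟨nat_lit 1, nat_lit 186, nat_lit 392, (nat_lit 0x2ba2cea7bd829f6f53bc17c3f6c7dba59a18cc2c5), (nat_lit 0x244e7da637df9389d3d4782a69c0c196b12099f44), (nat_lit 0x13e5008f2840a2274879a6482d53c56e956371fce), (.wt (nat_lit 0) (nat_lit 0) (nat_lit 0x100e0aba0d17c70444d02bf329fd10d7608f1b426) (.st (nat_lit 394) [] [] .nil) [nat_lit 30, nat_lit 22] [])⟩)))
 (.nd (nat_lit 398) (.nd (nat_lit 397) (.lf ⟨nat_lit 1, nat_lit 392, nat_lit 154, (nat_lit 0x29d069dd4289881cb0b1977aaf1daee2c113e4bec), (nat_lit 0x312f6cbbbb9bb76cb1957ae14771fa75c10b7b4cc), (nat_lit 0x51552b5dc57b163875f9b395f5aa8874c035a7d8), (.wt (nat_lit 6) (nat_lit 3) (nat_lit 0x32871b433bb65af1150c3acad72fdfbaa6beddfdb) (.st (nat_lit 155) [nat_lit 31, nat_lit 15] [] (.st (nat_lit 88) (unp (nat_lit 5) (nat_lit 0x4bc303)) [] (.st (nat_lit 52) [] [] (.st (nat_lit 61) [nat_lit 30, nat_lit 22] [] (.st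 (nat_lit 79) (unp (nat_lit 5) (nat_lit 0x23c403)) [nat_lit 63] (.st (nat_lit 117) [nat_lit 4, nat_lit 20] [nat_lit 80] (.st (nat_lit 392) (unp (nat_lit 5) (nat_lit 0x37e303)) [] .nil))))))) (unp (nat_lit 5) (nat_lit 0x37a303)) [])⟩)
 (.lf ⟨nat_lit 1, nat_lit 154, nat_lit 392, (nat_lit 0x1fce42ed966b34fae64312a96f69e1eea7db1de4), (nat_lit 0x918ac8087918ceb9401c06d399efc3c137d878c2), (nat_lit 0x19d5199b96b3cac6212f6ead5e5691a749d4d39f), (.wt (nat_lit 0) (nat_lit 0) (nat_lit 0x29d069dd4289881cb0b1977aaf1daee2c113e4bec) (.st (nat_lit 396) [] [] .nil) (unp (nat_lit 5) (nat_lit 0x37e303)) [])⟩))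
 (.nd (nat_lit 399) (.lf ⟨nat_lit 1, nat_lit 117, nat_lit 398, (nat_lit 0x29d069dd4289881cb0b1977aaf1daee2c113e4bec), one, one, (.df [nat_lit 2])⟩)
 (.nd (nat_lit 400) (.lf ⟨nat_lit 1, nat_lit 398, nat_lit 117, one, (nat_lit 0x29d069dd4289881cb0b1977aaf1daee2c113e4bec), one, (.wt (nat_lit 0) (nat_lit 0) (nat_lit 0x29d069dd4289881cb0b1977aaf1daee2c113e4bec) (.st (nat_lit 398) [] [] .nil) [] [])⟩)
 (.lf ⟨nat_lit 1, nat_lit 398, nat_lit 311, (nat_lit 0x29d069dd4289881cb0b1977aaf1daee2c113e4bec), (nat_lit 0x1ad4eaa3971ff2a4b9200cce09f92151a96275bfe), (nat_lit 0x1038c8d1b85cc5293dd44986257891a6781760163), (.wt (nat_lit 6) (nat_lit 3) (nat_lit 0x33e16d119f175b986b587a80c2b328205ab23d734) (.st (nat_lit 312) (unp (nat_lit 5) (nat_lit 0x27c403)) [] (.st (nat_lit 102) [nat_lit 31, nat_lit 15] [] (.st (nat_lit 73) (unp (nat_lit 5) (nat_lit 0x53a403)) [] (.st (nat_lit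 66) [nat_lit 4, nat_lit 14] [nat_lit 60] (.st (nat_lit 79) [nat_lit 3, nat_lit 21] [] (.st (nat_lit 117) (unp (nat_lit 5) (nat_lit 0x2fe303)) [] (.st (nat_lit 398) (unp (nat_lit 5) (nat_lit 0x37a303)) [] .nil))))))) (unp (nat_lit 5) (nat_lit 0x3fa403)) [])⟩)))))
 (.nd (nat_lit 405) (.nd (nat_lit 403) (.nd (nat_lit 402) (.lf ⟨nat_lit 1, nat_lit 311, nat_lit 398, (nat_lit 0x2ba2cea7bd829f6f53bc17c3f6c7dba59a18cc2c5), (nat_lit 0x16da78a399c8d4c42bd44f0b634fb99dc711fe42a), (nat_lit 0x1038c8d1b85cc5293dd44986257891a6781760163), (.wt (nat_lit 0) (nat_lit 0) (nat_lit 0x29d069dd4289881cb0b1977aaf1daee2c113e4bec) (.st (nat_lit 400) [] [] .nil) [nat_lit 16] [])⟩)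
 (.lf ⟨nat_lit 1, nat_lit 117, nat_lit 402, (nat_lit 0x1fce42ed966b34fae64312a96f69e1eea7db1de4), one, one, (.df [nat_lit 8])⟩))
 (.nd (nat_lit 404) (.lf ⟨nat_lit 1, nat_lit 402, nat_lit 117, one, (nat_lit 0x1fce42ed966b34fae64312a96f69e1eea7db1de4), one, (.wt (nat_lit 0) (nat_lit 0) (nat_lit 0x1fce42ed966b34fae64312a96f69e1eea7db1de4) (.st (nat_lit 402) [] [] .nil) [] [])⟩)
 (.lf ⟨nat_lit 1, nat_lit 117, nat_lit 404, (nat_lit 0x2ba2cea7bd829f6f53bc17c3f6c7dba59a18cc2c5), one, one, (.df [nat_lit 2, nat_lit 0])⟩)))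
 (.nd (nat_lit 407) (.nd (nat_lit 406) (.lf ⟨nat_lit 1, nat_lit 404, nat_lit 117, one, (nat_lit 0x2ba2cea7bd829f6f53bc17c3f6c7dba59a18cc2c5), one, (.wt (nat_lit 0) (nat_lit 0) (nat_lit 0x2ba2cea7bd829f6f53bc17c3f6c7dba59a18cc2c5) (.st (nat_lit 404) [] [] .nil) [] [])⟩)
 (.lf ⟨nat_lit 1, nat_lit 404, nat_lit 398, (nat_lit 0x100e0aba0d17c70444d02bf329fd10d7608f1b426), (nat_lit 0x100e0aba0d17c70444d02bf329fd10d7608f1b426), one, (.wt (nat_lit 2) (nat_lit 2) one (.st (nat_lit 399) [] [] (.st (nat_lit 404) [] [] .nil)) [] [])⟩))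
 (.nd (nat_lit 408) (.lf ⟨nat_lit 1, nat_lit 404, nat_lit 369, (nat_lit 0x2ba2cea7bd829f6f53bc17c3f6c7dba59a18cc2c5), (nat_lit 0x3ddcc7b8843990395c352ae5f309726d0793a13eb), one, (.wt (nat_lit 6) (nat_lit 2) (nat_lit 0x201003011008a45038026000580180440d0683219) (.st (nat_lit 370) (unp (nat_lit 5) (nat_lit 0x37a403)) [] (.st (nat_lit 110) (unp (nat_lit 5) (nat_lit 0x27a303)) [] (.st (nat_lit 76) [nat_lit 29, nat_lit 12] [] (.st (nat_lit 66) (unp (nat_lit 5) (nat_lit 0x57c403)) [nat_lit 55] (.st (nat_lit 79) [nat_lit 4, nat_lit 22] [nat_lit 62] (.st (nat_lit 117) (unp (nat_lit 5) (nat_lit 0x2fe303)) [] (.st (nat_lit 404) (unp (nat_lit 5) (nat_lit 0x37a303)) [] .nil))))))) (unp (nat_lit 5) (nat_lit 0x3fa403)) [])⟩)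
 (.nd (nat_lit 409) (.lf ⟨nat_lit 1, nat_lit 369, nat_lit 404, (nat_lit 0x3b6020b1ee99f350ad1583cd87ceba46c32e15ab7), (nat_lit 0x32fd4398c55f7dbb8ca77ee5f2fd2d284bc9b3590), one, (.wt (nat_lit 0) (nat_lit 0) (nat_lit 0x2ba2cea7bd829f6f53bc17c3f6c7dba59a18cc2c5) (.st (nat_lit 407) [] [] .nil) [nat_lit 4, nat_lit 9] [])⟩)
 (.lf ⟨nat_lit 1, nat_lit 404, nat_lit 149, (nat_lit 0x29d069dd4289881cb0b1977aaf1daee2c113e4bec), (nat_lit 0xb7eddfffba20a2fa26a55ac3b41fc2cf0cd2e01d), (nat_lit 0x1c2dc834c117cc9be475051e9326443f773ad7902), (.wt (nat_lit 6) (nat_lit 3) (nat_lit 0x1c2bc3588e3249de837483a9230144dc438517d9a) (.st (nat_lit 151) (unp (nat_lit 5) (nat_lit 0x33c303)) [] (.st (nat_lit 143) [nat_lit 3, nat_lit 6] [] (.st (nat_lit 88) (unp (nat_lit 5) (nat_lit 0x23a403)) [] (.st (nat_lit 61) [nat_lit 29, nat_lit 22] [] (.st (nat_lit 79) [nat_lit 3, nat_lit 19] [nat_lit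 63] (.st (nat_lit 117) (unp (nat_lit 5) (nat_lit 0x37e303)) [] (.st (nat_lit 404) (unp (nat_lit 5) (nat_lit 0x37a303)) [] .nil))))))) (unp (nat_lit 5) (nat_lit 0x3fa403)) [])⟩)))))))

noncomputable def T3_410 : Tr :=
  (.nd (nat_lit 427) (.nd (nat_lit 418) (.nd (nat_lit 414) (.nd (nat_lit 412) (.nd (nat_lit 411) (.lf ⟨nat_lit 1, nat_lit 149, nat_lit 404, (nat_lit 0xf6d11ea1f2003230c9ae98d7ebf7a100d6421009), (nat_lit 0x3cd25de8b0b2bb66a9f1835e1bcf6d7f0ffa2beff), (nat_lit 0x1785dad8c614509bec4539d29c7547e7773a6c15e), (.wt (nat_lit 0) (nat_lit 0) (nat_lit 0x29d069dd4289881cb0b1977aaf1daee2c113e4bec) (.st (nat_lit 409) [] [] .nil) [nat_lit 30, nat_lit 22] [])⟩)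
 (.lf ⟨nat_lit 1, nat_lit 117, nat_lit 411, (nat_lit 0x9a472e71a6030c6693ace0c7e5978349d74b3855), one, one, (.df [nat_lit 8, nat_lit 0])⟩))
 (.nd (nat_lit 413) (.lf ⟨nat_lit 1, nat_lit 411, nat_lit 117, one, (nat_lit 0x9a472e71a6030c6693ace0c7e5978349d74b3855), one, (.wt (nat_lit 0) (nat_lit 0) (nat_lit 0x9a472e71a6030c6693ace0c7e5978349d74b3855) (.st (nat_lit 411) [] [] .nil) [] [])⟩)
 (.lf ⟨nat_lit 1, nat_lit 411, nat_lit 402, (nat_lit 0x100e0aba0d17c70444d02bf329fd10d7608f1b426), (nat_lit 0x1b94dc9a9f5dafe6001e2ccbef9b1bb06e7ad4c94), one, (.wt (nat_lit 2) (nat_lit 2) (nat_lit 0x1be19238427c315eec4e063d6ba4a62fe4d8a67fd) (.st (nat_lit 403) [nat_lit 4, nat_lit 16] [] (.st (nat_lit 411) [] [] .nil)) [] [])⟩)))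
 (.nd (nat_lit 416) (.nd (nat_lit 415) (.lf ⟨nat_lit 1, nat_lit 402, nat_lit 411, (nat_lit 0x100e0aba0d17c70444d02bf329fd10d7608f1b426), (nat_lit 0x1b94dc9a9f5dafe6001e2ccbef9b1bb06e7ad4c94), one, (.wt (nat_lit 0) (nat_lit 0) (nat_lit 0x100e0aba0d17c70444d02bf329fd10d7608f1b426) (.st (nat_lit 413) [] [] .nil) (unp (nat_lit 5) (nat_lit 0x37e403)) [])⟩)
 (.lf ⟨nat_lit 1, nat_lit 119, nat_lit 415, (nat_lit 0x3b6020b1ee99f350ad1583cd87ceba46c32e15ab7), one, one, (.df [nat_lit 3])⟩))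
 (.nd (nat_lit 417) (.lf ⟨nat_lit 1, nat_lit 415, nat_lit 218, (nat_lit 0xf6d11ea1f2003230c9ae98d7ebf7a100d6421009), (nat_lit 0x25aa30ab127c9245f43a20041d9b8ad7641fb72ee), (nat_lit 0x20a500fcc609c24f6a87be1396c175c0ea997d36), (.wt (nat_lit 5) (nat_lit 2) (nat_lit 0x1d8eb1b7ee13bc459c32aad097b6e7ad2069ea2a2) (.st (nat_lit 224) [nat_lit 30, nat_lit 9] [] (.st (nat_lit 286) [nat_lit 16] [] (.st (nat_lit 284) [nat_lit 3, nat_lit 17] [] (.st (nat_lit 98) (unp (nat_lit 5) (nat_lit 0x47e303)) [] (.st (nat_lit 73) (unp (nat_lit 5) (nat_lit 0x5bc303)) [] (.st (nat_lit 66) [nat_lit 29, nat_lit 9] [nat_lit 55] (.st (nat_lit 79) [nat_lit 30, nat_lit 18] [nat_lit 63] (.st (nat_lit 119) [nat_lit 3] [nat_lit 80] (.st (nat_lit 415) [nat_lit 4, nat_lit 29] [] .nil))))))))) [nat_lit 29, nat_lit 22] [])⟩)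
 (.lf ⟨nat_lit 1, nat_lit 218, nat_lit 415, (nat_lit 0x3eba12c3c3234cd354a978de13ad53d6c7be58abc), (nat_lit 0x33b5d5d557b652823c947cacadfae8aff41b4a1b6), (nat_lit 0x20a500fcc609c24f6a87be1396c175c0ea997d36), (.wt (nat_lit 0) (nat_lit 0) (nat_lit 0xf6d11ea1f2003230c9ae98d7ebf7a100d6421009) (.st (nat_lit 416) [] [] .nil) (unp (nat_lit 5) (nat_lit 0x3bc303)) [])⟩))))
 (.nd (nat_lit 422) (.nd (nat_lit 420) (.nd (nat_lit 419) (.lf ⟨nat_lit 1, nat_lit 415, nat_lit 374, (nat_lit 0x3eba12c3c3234cd354a978de13ad53d6c7be58abc), (nat_lit 0x50633cb70b1494ba51cc5ade47b3426c6ed78920), (nat_lit 0xac340fad603080d6db4e0951beb2437de645b04f), (.wt (nat_lit 6) (nat_lit 3) (nat_lit 0x105f889bf84ba5216a50d0702eacb68cdacb59cb4) (.st (nat_lit 375) [nat_lit 8] [] (.st (nat_lit 114) [nat_lit 4, nat_lit 30] [] (.st (nat_lit 76) [nat_lit 31, nat_lit 17] [] (.st (nat_lit 66) [nat_lit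 18] [nat_lit 55] (.st (nat_lit 79) [nat_lit 30, nat_lit 16] [] (.st (nat_lit 119) [nat_lit 3] [nat_lit 80] (.st (nat_lit 415) [nat_lit 4, nat_lit 29] [] .nil))))))) [nat_lit 13] [])⟩)
 (.lf ⟨nat_lit 1, nat_lit 374, nat_lit 415, (nat_lit 0x3b6020b1ee99f350ad1583cd87ceba46c32e15ab7), (nat_lit 0x86ad1ff6a33f145f4194337adc5138ad8c9bdcb7), (nat_lit 0xac340fad603080d6db4e0951beb2437de645b04f), (.wt (nat_lit 0) (nat_lit 0) (nat_lit 0x3eba12c3c3234cd354a978de13ad53d6c7be58abc) (.st (nat_lit 418) [] [] .nil) [nat_lit 3, nat_lit 15] [])⟩))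
 (.nd (nat_lit 421) (.lf ⟨nat_lit 1, nat_lit 119, nat_lit 420, (nat_lit 0x29d069dd4289881cb0b1977aaf1daee2c113e4bec), one, one, (.df [nat_lit 2])⟩)
 (.lf ⟨nat_lit 1, nat_lit 420, nat_lit 180, (nat_lit 0xf6d11ea1f2003230c9ae98d7ebf7a100d6421009), (nat_lit 0x34103b2d4d4645ab240a4b754041cc082eac8904), (nat_lit 0x1038c8d1b85cc5293dd44986257891a6781760163), (.wt (nat_lit 6) (nat_lit 3) (nat_lit 0xd0230d63d7d0049f6d151f3340098dc903e84391) (.st (nat_lit 181) (unp (nat_lit 5) (nat_lit 0x57c403)) [] (.st (nat_lit 88) (unp (nat_lit 5) (nat_lit 0x43c403)) [] (.st (nat_lit 53) [nat_lit 3, nat_lit 30] [] (.st (nat_lit 66) [nat_lit 3, nat_lit 13] [nat_lit 60] (.st (nat_lit 79) (unp (nat_lit 5) (nat_lit 0x5ba303)) [] (.st (nat_lit 119) (unp (nat_lit 5) (nat_lit 0x3fa303)) [] (.st (nat_lit 420) (unp (nat_lit 5) (nat_lit 0x2fa403)) [] .nil))))))) (unp (nat_lit 5) (nat_lit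 0x27a303)) [])⟩)))
 (.nd (nat_lit 424) (.nd (nat_lit 423) (.lf ⟨nat_lit 1, nat_lit 180, nat_lit 420, (nat_lit 0x9a472e71a6030c6693ace0c7e5978349d74b3855), (nat_lit 0x2e3c39c0df281fdf3bd1857b0604c1453eb61e981), (nat_lit 0x1038c8d1b85cc5293dd44986257891a6781760163), (.wt (nat_lit 0) (nat_lit 0) (nat_lit 0xf6d11ea1f2003230c9ae98d7ebf7a100d6421009) (.st (nat_lit 421) [] [] .nil) [nat_lit 14] [])⟩)
 (.lf ⟨nat_lit 1, nat_lit 340, nat_lit 119, (nat_lit 0x1fce42ed966b34fae64312a96f69e1eea7db1de4), (nat_lit 0x3a24a59ca97ff04ca566f72ef09f2e559e1c53ece), (nat_lit 0x16ed2a2b2f82ab025019a2f440e93a70925bc5f80), (.wt (nat_lit 6) (nat_lit 2) (nat_lit 0x1f9a4a010b4159a6912095192d92721700a145c79) (.st (nat_lit 420) (unp (nat_lit 5) (nat_lit 0x37c403)) [] (.st (nat_lit 421) (unp (nat_lit 5) (nat_lit 0x3bc403)) [] (.st (nat_lit 184) [nat_lit 29, nat_lit 16] [] (.st (nat_lit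 347) (unp (nat_lit 5) (nat_lit 0x1be403)) [] (.st (nat_lit 350) [nat_lit 15] [] (.st (nat_lit 351) [nat_lit 3, nat_lit 21] [nat_lit 197] (.st (nat_lit 348) [nat_lit 29, nat_lit 6] [] .nil))))))) [nat_lit 4, nat_lit 13] [])⟩))
 (.nd (nat_lit 425) (.lf ⟨nat_lit 0, nat_lit 340, nat_lit 415, (nat_lit 0xb6640dad88c279bec6138a9ebbc678bb3ef898d7), one, (nat_lit 0x16ed2a2b2f82ab025019a2f440e93a70925bc5f80), (.we (nat_lit 0) (nat_lit 0) (nat_lit 0x1fce42ed966b34fae64312a96f69e1eea7db1de4) (.st (nat_lit 423) [] [] (.st (nat_lit 415) (unp (nat_lit 5) (nat_lit 0x33e403)) [] .nil)))⟩)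
 (.nd (nat_lit 426) (.lf ⟨nat_lit 0, nat_lit 415, nat_lit 340, (nat_lit 0x740c002fe864a17713590fcce1cd7a0f34e77dd3), one, (nat_lit 0x184e1ae275a17681d7608080eb1f6fa580b6fab07), (.inv (nat_lit 424))⟩)
 (.lf ⟨nat_lit 1, nat_lit 340, nat_lit 374, (nat_lit 0x3eba12c3c3234cd354a978de13ad53d6c7be58abc), (nat_lit 0x1278ff037d404a7ea956fdfae7b00fcb9d3ea718e), (nat_lit 0x16571c021329b7792bb0e52289a1a6e6b991d46ce), (.ren (nat_lit 418) (unp (nat_lit 5) (nat_lit 0x33a403)) [nat_lit 425] [])⟩))))))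
 (.nd (nat_lit 435) (.nd (nat_lit 431) (.nd (nat_lit 429) (.nd (nat_lit 428) (.lf ⟨nat_lit 1, nat_lit 218, nat_lit 340, (nat_lit 0x3eba12c3c3234cd354a978de13ad53d6c7be58abc), (nat_lit 0x3875a300843ec19b9c12f43dadd3ecb24740b6e83), (nat_lit 0x26266a795941f07c01b7e562c816dc34fff17e53a), (.ren (nat_lit 417) [] [] [nat_lit 425])⟩)
 (.lf ⟨nat_lit 1, nat_lit 374, nat_lit 340, (nat_lit 0x3b6020b1ee99f350ad1583cd87ceba46c32e15ab7), (nat_lit 0x280d2fabd643ea293de16788e40575893013aab66), (nat_lit 0x1a592fac405d319193edc3e000a4a0b79bd003f5d), (.ren (nat_lit 419) [] [] [nat_lit 425])⟩))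
 (.nd (nat_lit 430) (.lf ⟨nat_lit 1, nat_lit 119, nat_lit 340, (nat_lit 0x3b6020b1ee99f350ad1583cd87ceba46c32e15ab7), (nat_lit 0xb6640dad88c279bec6138a9ebbc678bb3ef898d7), (nat_lit 0x184e1ae275a17681d7608080eb1f6fa580b6fab07), (.ren (nat_lit 415) [] [] [nat_lit 425])⟩)
 (.lf ⟨nat_lit 1, nat_lit 338, nat_lit 107, (nat_lit 0x125910161e8d6fe6d72746c6acb95732f82b12d8b), (nat_lit 0x137eddc9bef6c41316f98d1509a0385137bb5c399), (nat_lit 0x135e171446b8665be08be2d2219b395507e6e9f2), (.wt (nat_lit 6) (nat_lit 7) (nat_lit 0x12e68209c6e5ab5de8f04f440ebd46b847138350) (.st (nat_lit 340) [nat_lit 29, nat_lit 6] [] (.st (nat_lit 423) [nat_lit 29, nat_lit 9] [] (.st (nat_lit 120) (unp (nat_lit 5) (nat_lit 0x4fa403)) [] (.st (nat_lit 119) [nat_lit 4, nat_lit 14] [nat_lit 80] (.st (nat_lit 429) [nat_lit 3, nat_lit 19] [] (.st (nat_lit 341) (unp (nat_lit 5) (nat_lit 0x53e403))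 [] (.st (nat_lit 338) [nat_lit 14] [] .nil))))))) [nat_lit 30, nat_lit 21] [])⟩)))
 (.nd (nat_lit 433) (.nd (nat_lit 432) (.lf ⟨nat_lit 0, nat_lit 338, nat_lit 338, (nat_lit 0x4ef4135787dfbee29cd1b2392c3c047e4cfe0564), one, (nat_lit 0x135e171446b8665be08be2d2219b395507e6e9f2), (.we (nat_lit 0) (nat_lit 0) (nat_lit 0x125910161e8d6fe6d72746c6acb95732f82b12d8b) (.st (nat_lit 430) [] [] (.st (nat_lit 338) (unp (nat_lit 5) (nat_lit 0x37a303)) [] .nil)))⟩)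
 (.lf ⟨nat_lit 1, nat_lit 374, nat_lit 369, (nat_lit 0x2ba2cea7bd829f6f53bc17c3f6c7dba59a18cc2c5), (nat_lit 0x2d2cd2c974016a631591d3ed8e815b03c688fd930), (nat_lit 0x222b62f474766792ab9c22e6170df19ff518ff61f), (.wt (nat_lit 6) (nat_lit 3) (nat_lit 0x2f4c7ae81f2ec7d0366509317f6e1258ab2ae0593) (.st (nat_lit 372) [nat_lit 3, nat_lit 9] [] (.st (nat_lit 151) (unp (nat_lit 5) (nat_lit 0x47e403)) [] (.st (nat_lit 143) (unp (nat_lit 5) (nat_lit 0x33a403)) [nat_lit 145] (.st (nat_lit 180) [nat_lit 14] [] (.st (nat_lit 184) [nat_lit 30, nat_lit 19] [] (.st (nat_lit 340) (unp (nat_lit 5) (nat_lit 0x23a403)) [] (.st (nat_lit 426) [nat_lit 13] [] .nil))))))) [nat_lit 31, nat_lit 21] [])⟩))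
 (.nd (nat_lit 434) (.lf ⟨nat_lit 1, nat_lit 369, nat_lit 374, (nat_lit 0x9a472e71a6030c6693ace0c7e5978349d74b3855), (nat_lit 0x32c483b691661d4cd52da841a9eb8fe46d38c3223), (nat_lit 0x247af0fccd3ed53bc178a40639c9415565ed2e3be), (.wt (nat_lit 0) (nat_lit 0) (nat_lit 0x2ba2cea7bd829f6f53bc17c3f6c7dba59a18cc2c5) (.st (nat_lit 432) [] [] .nil) [nat_lit 3, nat_lit 9] [])⟩)
 (.lf ⟨nat_lit 1, nat_lit 374, nat_lit 374, (nat_lit 0x1fce42ed966b34fae64312a96f69e1eea7db1de4), (nat_lit 0x1fce42ed966b34fae64312a96f69e1eea7db1de4), (nat_lit 0x101a9bb0cd78fd6acd5da0e2a421f08e4085c65d1), (.wt (nat_lit 6) (nat_lit 5) (nat_lit 0x1f6f9326d7c60ac923c68395ac37828e7fccc4b30) (.st (nat_lit 375) [nat_lit 13] [] (.st (nat_lit 115) (unp (nat_lit 5) (nat_lit 0x1bc403)) [] (.st (nat_lit 338) [nat_lit 3, nat_lit 18] [] (.st (nat_lit 339) (unp (nat_lit 5) (nat_lit 0x33a303)) [nat_lit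 431] (.st (nat_lit 108) (unp (nat_lit 5) (nat_lit 0x47a403)) [] (.st (nat_lit 113) (unp (nat_lit 5) (nat_lit 0x23e303)) [] (.st (nat_lit 374) [nat_lit 29, nat_lit 17] [] .nil))))))) (unp (nat_lit 5) (nat_lit 0x4be403)) [])⟩))))
 (.nd (nat_lit 439) (.nd (nat_lit 437) (.nd (nat_lit 436) (.lf ⟨nat_lit 1, nat_lit 382, nat_lit 113, (nat_lit 0x3eba12c3c3234cd354a978de13ad53d6c7be58abc), (nat_lit 0x2a4d7dd604ac745ae8d0e8da238e1803c442073bc), (nat_lit 0x210b25961101b0803255fa684a400234871d01cf), (.wt (nat_lit 6) (nat_lit 7) (nat_lit 0x98b2154ca236c43dec85ffc3fe2557b5e428d05c) (.st (nat_lit 374) [nat_lit 31] [] (.st (nat_lit 434) [nat_lit 30, nat_lit 6] [] (.st (nat_lit 432) (unp (nat_lit 5) (nat_lit 0x3bc303)) [] (.st (nat_lit 370) (unp (nat_lit 5) (nat_lit 0x3bc403)) [] (.st (nat_lit 110) (unp (nat_lit 5) (nat_lit 0x33c403)) [] (.st (nat_lit 113) [nat_lit 29,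 nat_lit 19] [nat_lit 75] (.st (nat_lit 382) (unp (nat_lit 5) (nat_lit 0x3be403)) [] .nil))))))) [nat_lit 31, nat_lit 11] [])⟩)
 (.lf ⟨nat_lit 0, nat_lit 382, nat_lit 382, (nat_lit 0x86ad1ff6a33f145f4194337adc5138ad8c9bdcb7), one, (nat_lit 0x210b25961101b0803255fa684a400234871d01cf), (.we (nat_lit 0) (nat_lit 0) (nat_lit 0x3eba12c3c3234cd354a978de13ad53d6c7be58abc) (.st (nat_lit 435) [] [] (.st (nat_lit 382) [nat_lit 3, nat_lit 15] [] .nil)))⟩))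
 (.nd (nat_lit 438) (.lf ⟨nat_lit 1, nat_lit 327, nat_lit 384, (nat_lit 0x125910161e8d6fe6d72746c6acb95732f82b12d8b), (nat_lit 0x341b406a2fcc5215b37b276cbba9ea09e3470fccc), (nat_lit 0x1cc71f152ef80a8ff937f59be28fe8f6f4c086e4f), (.wt (nat_lit 6) (nat_lit 7) (nat_lit 0x314d6f110b9829e4fab08f286313f2bfaff96efda) (.st (nat_lit 386) [nat_lit 29, nat_lit 15] [] (.st (nat_lit 434) (unp (nat_lit 5) (nat_lit 0x37c303)) [] (.st (nat_lit 428) (unp (nat_lit 5) (nat_lit 0x3fa303)) [] (.st (nat_lit 341) [nat_lit 31] [] (.st (nat_lit 108) [nat_lit 30, nat_lit 6] [] (.st (nat_lit 105) [nat_lit 4, nat_lit 19] [] (.st (nat_lit 327) [nat_lit 3, nat_lit 14] [] .nil))))))) (unp (nat_lit 5) (nat_lit 0x57e303)) [])⟩)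
 (.lf ⟨nat_lit 1, nat_lit 384, nat_lit 327, (nat_lit 0x3b6020b1ee99f350ad1583cd87ceba46c32e15ab7), (nat_lit 0x10696c0210301158a9554de8ad8c0ad055b39e511), (nat_lit 0x1fc4ccb6eb9c7befbccfb693d2aefb58d8df867aa), (.wt (nat_lit 0) (nat_lit 0) (nat_lit 0x125910161e8d6fe6d72746c6acb95732f82b12d8b) (.st (nat_lit 437) [] [] .nil) (unp (nat_lit 5) (nat_lit 0x1bc303)) [])⟩)))
 (.nd (nat_lit 441) (.nd (nat_lit 440) (.lf ⟨nat_lit 1, nat_lit 340, nat_lit 218, (nat_lit 0x29d069dd4289881cb0b1977aaf1daee2c113e4bec), (nat_lit 0x106c616daa42b605c48ee1a1724510f01e5c5599e), (nat_lit 0x36585cb249e9427393e6b4991324dc51e965d43f8), (.wt (nat_lit 6) (nat_lit 4) (nat_lit 0xc91373debc44ce21b70b71346fea1e39d8b54112) (.st (nat_lit 377) [nat_lit 4, nat_lit 22] [] (.st (nat_lit 434) (unp (nat_lit 5) (nat_lit 0x53a303)) [] (.st (nat_lit 376) (unp (nat_lit 5) (nat_lit 0x47a303)) [] (.st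 (nat_lit 377) [nat_lit 3, nat_lit 15] [nat_lit 219] (.st (nat_lit 434) (unp (nat_lit 5) (nat_lit 0x2fe303)) [] (.st (nat_lit 376) (unp (nat_lit 5) (nat_lit 0x37a303)) [] (.st (nat_lit 427) (unp (nat_lit 5) (nat_lit 0x43e303)) [nat_lit 219] .nil))))))) (unp (nat_lit 5) (nat_lit 0x3be303)) [])⟩)
 (.lf ⟨nat_lit 0, nat_lit 340, nat_lit 340, (nat_lit 0xc8441ea1e3419cb6e1d487692c344373eba10456), one, (nat_lit 0x1eec39f1727ee1e3eff9172691c3c747f6b6ecc00), (.we (nat_lit 0) (nat_lit 0) (nat_lit 0x29d069dd4289881cb0b1977aaf1daee2c113e4bec) (.st (nat_lit 439) [] [] (.st (nat_lit 427) [nat_lit 9] [nat_lit 219] .nil)))⟩))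
 (.nd (nat_lit 442) (.lf ⟨nat_lit 0, nat_lit 119, nat_lit 347, (nat_lit 0x3ffb5ce05d756adc585c520d27c9aa5f916a0bab9), one, (nat_lit 0x254eefbca39eba1986c856459afbd6c9613d4dee4), (.cmp (nat_lit 423) (nat_lit 349) (unp (nat_lit 5) (nat_lit 0x47e303)) [nat_lit 440])⟩)
 (.nd (nat_lit 443) (.lf ⟨nat_lit 0, nat_lit 347, nat_lit 119, (nat_lit 0x354d0fe3de2b79bd007ca68f0e9b1a09a967a0aa0), one, (nat_lit 0x3895467605afc0d69d950c2a2aa583daffa5ddacb), (.inv (nat_lit 441))⟩)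
 (.lf ⟨nat_lit 0, nat_lit 196, nat_lit 79, (nat_lit 0x1b933ec6195e125b16b335bc63aaa2f2dad2d4d02), one, (nat_lit 0x3ff0779bd8f86b216f6387ed27cabeb2f04add789), (.cmp (nat_lit 350) (nat_lit 120) (unp (nat_lit 5) (nat_lit 0x27a403)) [nat_lit 442])⟩)))))))

noncomputable def T3_444 : Tr :=
  (.nd (nat_lit 461) (.nd (nat_lit 452) (.nd (nat_lit 448) (.nd (nat_lit 446) (.nd (nat_lit 445) (.lf ⟨nat_lit 0, nat_lit 190, nat_lit 82, (nat_lit 0xe4348d331b84b50b2143244a8aa30de8c80f3cb0), one, (nat_lit 0x82801ce0b05af1a002aa0aaa2292e1500a722a94), (.cmp (nat_lit 198) (nat_lit 86) (unp (nat_lit 5) (nat_lit 0x2fc303)) [nat_lit 443])⟩)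
 (.lf ⟨nat_lit 0, nat_lit 194, nat_lit 61, (nat_lit 0x2f16b77d5055b68e91ba633a0064c1c75561e9070), one, (nat_lit 0x3ff0779bd8f86b216f6387ed27cabeb2f04add789), (.cmp (nat_lit 199) (nat_lit 81) [nat_lit 31, nat_lit 9] [nat_lit 443])⟩))
 (.nd (nat_lit 447) (.lf ⟨nat_lit 0, nat_lit 89, nat_lit 131, (nat_lit 0xa52ca9559088b1c47f670417d109ff14e2ffbcb9), one, (nat_lit 0x82801ce0b05af1a002aa0aaa2292e1500a722a94), (.cmp (nat_lit 191) (nat_lit 131) (unp (nat_lit 5) (nat_lit 0x47a403)) [nat_lit 444])⟩)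
 (.lf ⟨nat_lit 0, nat_lit 212, nat_lit 129, (nat_lit 0x73831ffd2f2c975c5947b58ed4e3457f0d53abfe), one, (nat_lit 0x1036c9cb59c7d1d38bfd0d1b02f1ed3f0f2a5a830), (.cmp (nat_lit 215) (nat_lit 129) [nat_lit 31, nat_lit 20] [nat_lit 444, nat_lit 83])⟩)))
 (.nd (nat_lit 450) (.nd (nat_lit 449) (.lf ⟨nat_lit 0, nat_lit 250, nat_lit 53, (nat_lit 0x2ba2cea7bd829f6f53bc17c3f6c7dba59a18cc2c5), one, (nat_lit 0x2afc2efed5b7b216a7124f6849b82dc103e3a925), (.cmp (nat_lit 253) (nat_lit 65) (unp (nat_lit 5) (nat_lit 0x4ba403)) [nat_lit 445, nat_lit 68])⟩)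
 (.lf ⟨nat_lit 0, nat_lit 131, nat_lit 89, (nat_lit 0x1232d298530b091c4ff671417d309ff5cedfc387b), one, (nat_lit 0xb2992263e3118503817aba403687a7a222732fd3), (.inv (nat_lit 446))⟩))
 (.nd (nat_lit 451) (.lf ⟨nat_lit 0, nat_lit 229, nat_lit 229, (nat_lit 0xcc8f3b6934988e358d008a02d53d262d0a581d2e), one, (nat_lit 0x135e171446b8665be08be2d2219b395507e6e9f2), (.cmp (nat_lit 234) (nat_lit 229) (unp (nat_lit 5) (nat_lit 0x43c303)) [nat_lit 449])⟩)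
 (.lf ⟨nat_lit 1, nat_lit 129, nat_lit 221, (nat_lit 0x1fce42ed966b34fae64312a96f69e1eea7db1de4), (nat_lit 0x1cc1780e627762abc24c7f3203aa4427ba0a9e1c5), (nat_lit 0x171fcbaebcbb8d7e74d0e5a496f04f8b3330bc196), (.ren (nat_lit 221) (unp (nat_lit 5) (nat_lit 0x3fc403)) [nat_lit 447] [])⟩))))
 (.nd (nat_lit 456) (.nd (nat_lit 454) (.nd (nat_lit 453) (.lf ⟨nat_lit 0, nat_lit 93, nat_lit 71, (nat_lit 0xc83f493754ebfa08318222c805973f16de2365ca), one, (nat_lit 0x2afc2efed5b7b216a7124f6849b82dc103e3a925), (.cmp (nat_lit 251) (nat_lit 71) [nat_lit 6] [nat_lit 448])⟩)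
 (.lf ⟨nat_lit 0, nat_lit 97, nat_lit 97, (nat_lit 0x16146b1d652302cf6fac7c910a48430058769b84c), one, (nat_lit 0x2afc2efed5b7b216a7124f6849b82dc103e3a925), (.cmp (nat_lit 100) (nat_lit 97) (unp (nat_lit 5) (nat_lit 0x33a303)) [nat_lit 452])⟩))
 (.nd (nat_lit 455) (.lf ⟨nat_lit 0, nat_lit 235, nat_lit 101, (nat_lit 0x19cfcba24b62fe6e635c93b9296774dd827509074), one, (nat_lit 0x13715956c4437aec0ff7f7ce54ae81ca5869e6c06), (.cmp (nat_lit 235) (nat_lit 101) [nat_lit 30, nat_lit 13] [nat_lit 452, nat_lit 72])⟩)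
 (.lf ⟨nat_lit 0, nat_lit 246, nat_lit 95, (nat_lit 0x400f33bb13c64ca5ecd24b2a7a1d72a627c529a7), one, (nat_lit 0x13715956c4437aec0ff7f7ce54ae81ca5869e6c06), (.cmp (nat_lit 246) (nat_lit 95) [nat_lit 30, nat_lit 14] [nat_lit 452, nat_lit 72])⟩)))
 (.nd (nat_lit 458) (.nd (nat_lit 457) (.lf ⟨nat_lit 0, nat_lit 289, nat_lit 279, (nat_lit 0xe466be6b35c0bdc389652e9c4a72b8e508620181), one, (nat_lit 0x2afc2efed5b7b216a7124f6849b82dc103e3a925), (.cmp (nat_lit 289) (nat_lit 279) [nat_lit 29, nat_lit 18] [nat_lit 453])⟩)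
 (.lf ⟨nat_lit 0, nat_lit 300, nat_lit 287, (nat_lit 0x1f17ab37d3680aec186d2ec989b1805c40f0c3439), one, (nat_lit 0x2afc2efed5b7b216a7124f6849b82dc103e3a925), (.cmp (nat_lit 300) (nat_lit 287) [nat_lit 8] [nat_lit 453])⟩))
 (.nd (nat_lit 459) (.lf ⟨nat_lit 0, nat_lit 303, nat_lit 294, (nat_lit 0xa2ea9a2d0d739cc971a9d423bd96b619a03ddbf2), one, (nat_lit 0x2afc2efed5b7b216a7124f6849b82dc103e3a925), (.cmp (nat_lit 303) (nat_lit 294) (unp (nat_lit 5) (nat_lit 0x2fa303)) [nat_lit 453])⟩)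
 (.nd (nat_lit 460) (.lf ⟨nat_lit 0, nat_lit 101, nat_lit 235, (nat_lit 0x19cfcba24b62fe6e635c93b9296774dd827509074), one, (nat_lit 0x17b639d6f05878698a666c3dc7102322ccfdaa0fa), (.inv (nat_lit 454))⟩)
 (.lf ⟨nat_lit 0, nat_lit 101, nat_lit 101, (nat_lit 0x20a500fcc609c24f6a87be1396c175c0ea997d36), one, (nat_lit 0x1a6278160207610dd7e4511100240727fa346c81a), (.prod (unp (nat_lit 9) (nat_lit 0x719dbcb03)))⟩))))))
 (.nd (nat_lit 469) (.nd (nat_lit 465) (.nd (nat_lit 463) (.nd (nat_lit 462) (.lf ⟨nat_lit 0, nat_lit 238, nat_lit 306, (nat_lit 0x1b63158867b42fb9efd06a79ae1d9e2b7ee295939), one, (nat_lit 0x13715956c4437aec0ff7f7ce54ae81ca5869e6c06), (.cmp (nat_lit 238) (nat_lit 306) [nat_lit 30, nat_lit 18] [nat_lit 454])⟩)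
 (.lf ⟨nat_lit 0, nat_lit 241, nat_lit 313, (nat_lit 0x1e2e6a14c1972a7eab3301440cb8f4842393859ca), one, (nat_lit 0x13715956c4437aec0ff7f7ce54ae81ca5869e6c06), (.cmp (nat_lit 241) (nat_lit 313) (unp (nat_lit 5) (nat_lit 0x23a403)) [nat_lit 454])⟩))
 (.nd (nat_lit 464) (.lf ⟨nat_lit 0, nat_lit 156, nat_lit 270, (nat_lit 0x2dcf7ed7bc8fbd4b2e79a24e137258a3682b6b0de), one, (nat_lit 0x3a8435763459bd561eadc36dd6cf52893bd9582de), (.cmp (nat_lit 248) (nat_lit 270) [nat_lit 3, nat_lit 31] [nat_lit 455])⟩)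
 (.lf ⟨nat_lit 1, nat_lit 279, nat_lit 105, (nat_lit 0xf6d11ea1f2003230c9ae98d7ebf7a100d6421009), (nat_lit 0x36d25f68db00b7b459d7b5a72929b00f764ec9953), (nat_lit 0x39be860b32db70299b3f5c72d46a6d7cd0f67746d), (.ren (nat_lit 292) [nat_lit 3, nat_lit 22] [nat_lit 456] [])⟩)))
 (.nd (nat_lit 467) (.nd (nat_lit 466) (.lf ⟨nat_lit 1, nat_lit 279, nat_lit 321, (nat_lit 0x3eba12c3c3234cd354a978de13ad53d6c7be58abc), (nat_lit 0x9ff419f88c6acf958f9b72f66b5123e5a667f6a7), (nat_lit 0x39be860b32db70299b3f5c72d46a6d7cd0f67746d), (.ren (nat_lit 324) [nat_lit 31, nat_lit 15] [nat_lit 456] [])⟩)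
 (.lf ⟨nat_lit 0, nat_lit 311, nat_lit 208, (nat_lit 0x3ca0c7a62fb4320415764298e4044c7b3c596d1ee), one, (nat_lit 0x260e96463c6c59ef6cf87bfba66d625de5a12565b), (.cmp (nat_lit 311) (nat_lit 211) [nat_lit 30, nat_lit 12] [nat_lit 460])⟩))
 (.nd (nat_lit 468) (.lf ⟨nat_lit 0, nat_lit 314, nat_lit 307, (nat_lit 0x10e4101f00faf42cdfc15aeb1f6e6b0be4f5696c), one, (nat_lit 0x1a6278160207610dd7e4511100240727fa346c81a), (.cmp (nat_lit 314) (nat_lit 307) (unp (nat_lit 5) (nat_lit 0x4be303)) [nat_lit 460])⟩)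
 (.lf ⟨nat_lit 0, nat_lit 306, nat_lit 238, (nat_lit 0xd043ebfb6cd6655f7bd44ba3e801e77ba42b7c43), one, (nat_lit 0x17b639d6f05878698a666c3dc7102322ccfdaa0fa), (.inv (nat_lit 461))⟩))))
 (.nd (nat_lit 473) (.nd (nat_lit 471) (.nd (nat_lit 470) (.lf ⟨nat_lit 0, nat_lit 313, nat_lit 241, (nat_lit 0x12059bc177cce592b3669a43a878471d63636d56a), one, (nat_lit 0x17b639d6f05878698a666c3dc7102322ccfdaa0fa), (.inv (nat_lit 462))⟩)
 (.lf ⟨nat_lit 0, nat_lit 270, nat_lit 156, (nat_lit 0x33b5d5d557b652823c947cacadfae8aff41b4a1b6), one, (nat_lit 0x239d6d6d8226307f21215737e067e5214d68c0fc9), (.inv (nat_lit 463))⟩))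
 (.nd (nat_lit 472) (.lf ⟨nat_lit 1, nat_lit 156, nat_lit 260, (nat_lit 0x125910161e8d6fe6d72746c6acb95732f82b12d8b), (nat_lit 0x101a9bb0cd78fd6acd5da0e2a421f08e4085c65d1), (nat_lit 0x3a8435763459bd561eadc36dd6cf52893bd9582de), (.ren (nat_lit 271) [nat_lit 11] [nat_lit 470] [])⟩)
 (.lf ⟨nat_lit 1, nat_lit 208, nat_lit 398, (nat_lit 0x29d069dd4289881cb0b1977aaf1daee2c113e4bec), (nat_lit 0x32a58abf4c77a04c1dbec5461ea667683e2c60529), (nat_lit 0x15b9952899cb505184828069e4ecd8d9dd21993c9), (.ren (nat_lit 401) [nat_lit 11] [nat_lit 466] [])⟩)))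
 (.nd (nat_lit 475) (.nd (nat_lit 474) (.lf ⟨nat_lit 1, nat_lit 107, nat_lit 119, (nat_lit 0x3eba12c3c3234cd354a978de13ad53d6c7be58abc), (nat_lit 0x3ffb5ce05d756adc585c520d27c9aa5f916a0bab9), (nat_lit 0x3895467605afc0d69d950c2a2aa583daffa5ddacb), (.ren (nat_lit 347) [] [] [nat_lit 442])⟩)
 (.lf ⟨nat_lit 1, nat_lit 105, nat_lit 279, (nat_lit 0x3eba12c3c3234cd354a978de13ad53d6c7be58abc), (nat_lit 0x22270ce317408fde425d88caf92394dcd56c52e12), (nat_lit 0x2ae09c9807f00f2bcc87a73acbda89f11e897c5f1), (.ren (nat_lit 293) [] [] [nat_lit 456])⟩))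
 (.nd (nat_lit 476) (.lf ⟨nat_lit 1, nat_lit 321, nat_lit 279, (nat_lit 0x100e0aba0d17c70444d02bf329fd10d7608f1b426), (nat_lit 0x140b02083a1dee75c28f912dc7135eabe624be9c6), (nat_lit 0x2ae09c9807f00f2bcc87a73acbda89f11e897c5f1), (.ren (nat_lit 323) [] [] [nat_lit 456])⟩)
 (.nd (nat_lit 477) (.lf ⟨nat_lit 1, nat_lit 260, nat_lit 156, (nat_lit 0x100e0aba0d17c70444d02bf329fd10d7608f1b426), (nat_lit 0x2920ac1df0f75914ba582afdab38f5efe710cf380), (nat_lit 0x239d6d6d8226307f21215737e067e5214d68c0fc9), (.ren (nat_lit 272) [] [] [nat_lit 470])⟩)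
 (.lf ⟨nat_lit 1, nat_lit 398, nat_lit 208, (nat_lit 0x29d069dd4289881cb0b1977aaf1daee2c113e4bec), (nat_lit 0x335293620e111e50ad0f523504bfc98ac4f20a1f3), (nat_lit 0x1543f1b908a00f759835768780bb94e11263c2ec), (.ren (nat_lit 400) [] [] [nat_lit 466])⟩)))))))

noncomputable def T3_478 : Tr :=
  (.nd (nat_lit 495) (.nd (nat_lit 486) (.nd (nat_lit 482) (.nd (nat_lit 480) (.nd (nat_lit 479) (.lf ⟨nat_lit 1, nat_lit 174, nat_lit 307, (nat_lit 0x3eba12c3c3234cd354a978de13ad53d6c7be58abc), (nat_lit 0x4ef4135787dfbee29cd1b2392c3c047e4cfe0564), (nat_lit 0x1fc4ccb6eb9c7befbccfb693d2aefb58d8df867aa), (.ren (nat_lit 316) [] [] [nat_lit 467])⟩)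
 (.lf ⟨nat_lit 0, nat_lit 296, nat_lit 296, (nat_lit 0x105f889bf84ba5216a50d0702eacb68cdacb59cb4), one, (nat_lit 0x2afc2efed5b7b216a7124f6849b82dc103e3a925), (.cmp (nat_lit 296) (nat_lit 296) [nat_lit 6] [nat_lit 453])⟩))
 (.nd (nat_lit 481) (.lf ⟨nat_lit 1, nat_lit 381, nat_lit 388, (nat_lit 0x2ba2cea7bd829f6f53bc17c3f6c7dba59a18cc2c5), (nat_lit 0x396e599e0ca07fff0b70ff6fee0445800db8cad3), (nat_lit 0x3b5a08fd34025ab5f54bd8023bda3e97932c7beee), (.wt (nat_lit 6) (nat_lit 4) (nat_lit 0x5e20ad8c5bdf74edec9a72f77b0ed584b569210a) (.st (nat_lit 389) (unp (nat_lit 5) (nat_lit 0x4fe403)) [] (.st (nat_lit 115) [nat_lit 31, nat_lit 17] [] (.st (nat_lit 340) (unp (nat_lit 5) (nat_lit 0x4fc403)) [] (.st (nat_lit 426) (unp (nat_lit 5) (nat_lit 0x23a303)) [] (.st (nat_lit 434) (unp (nat_lit 5) (nat_lit 0x1ba403)) [] (.st (nat_lit 375) [nat_lit 31, nat_lit 19] [] (.st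 (nat_lit 381) (unp (nat_lit 5) (nat_lit 0x37c303)) [] .nil))))))) [nat_lit 3, nat_lit 8] [])⟩)
 (.lf ⟨nat_lit 1, nat_lit 388, nat_lit 381, (nat_lit 0x3eba12c3c3234cd354a978de13ad53d6c7be58abc), (nat_lit 0x15fd82ce2bc26a92357a534fbd258310597774462), (nat_lit 0x34e17808fa73d0114a72bfbdadd13e32dffc9da4b), (.wt (nat_lit 0) (nat_lit 0) (nat_lit 0x2ba2cea7bd829f6f53bc17c3f6c7dba59a18cc2c5) (.st (nat_lit 480) [] [] .nil) [nat_lit 31, nat_lit 13] [])⟩)))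
 (.nd (nat_lit 484) (.nd (nat_lit 483) (.lf ⟨nat_lit 1, nat_lit 354, nat_lit 382, (nat_lit 0x9a472e71a6030c6693ace0c7e5978349d74b3855), (nat_lit 0x1f7c4aa3f19f0c20bf3f5da203a939ae07e6359d7), (nat_lit 0x24dc5e4d6fc915bc043bc90b72a18f39ef9c43d7c), (.wt (nat_lit 6) (nat_lit 1) (nat_lit 0x176708afc7d76226519823ab768f79ea6a430c16) (.st (nat_lit 383) [nat_lit 30, nat_lit 13] [] (.st (nat_lit 374) [nat_lit 20] [] (.st (nat_lit 428) [nat_lit 3, nat_lit 13] [] (.st (nat_lit 426) [nat_lit 4, nat_lit 9] [nat_lit 440] (.st (nat_lit 432) (unp (nat_lit 5) (nat_lit 0x1bc303)) [] (.st (nat_lit 370) [nat_lit 31, nat_lit 18] [] (.st (nat_lit 354) [nat_lit 29, nat_lit 9] [] .nil))))))) [nat_lit 29, nat_lit 9] [])⟩)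
 (.lf ⟨nat_lit 1, nat_lit 382, nat_lit 354, (nat_lit 0x29d069dd4289881cb0b1977aaf1daee2c113e4bec), (nat_lit 0xea415b657b14f68c99fb5be62d96ecdaadd3029), (nat_lit 0x3f43f6b739fd7db459c66c45d8dabe1e8fe7d0d40), (.wt (nat_lit 0) (nat_lit 0) (nat_lit 0x9a472e71a6030c6693ace0c7e5978349d74b3855) (.st (nat_lit 482) [] [] .nil) (unp (nat_lit 5) (nat_lit 0x23a303)) [])⟩))
 (.nd (nat_lit 485) (.lf ⟨nat_lit 1, nat_lit 384, nat_lit 369, (nat_lit 0x125910161e8d6fe6d72746c6acb95732f82b12d8b), (nat_lit 0x1d9e2d2758975477ce8f7418783745b2dffa41576), (nat_lit 0x1b06e1f77fff47dc816f07df2e9e7d6c522db58ee), (.wt (nat_lit 6) (nat_lit 5) (nat_lit 0x33e16d119f175b986b587a80c2b328205ab23d734) (.st (nat_lit 370) (unp (nat_lit 5) (nat_lit 0x27c403)) [] (.st (nat_lit 110) [nat_lit 31, nat_lit 16] [] (.st (nat_lit 109) [nat_lit 3, nat_lit 29] [nat_lit 75] (.st (nat_lit 354) [nat_lit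 29, nat_lit 13] [] (.st (nat_lit 482) (unp (nat_lit 5) (nat_lit 0x5ba403)) [] (.st (nat_lit 383) [nat_lit 29, nat_lit 14] [nat_lit 436] (.st (nat_lit 384) [nat_lit 4, nat_lit 14] [] .nil))))))) [nat_lit 3, nat_lit 21] [])⟩)
 (.lf ⟨nat_lit 1, nat_lit 369, nat_lit 384, (nat_lit 0x2ba2cea7bd829f6f53bc17c3f6c7dba59a18cc2c5), (nat_lit 0xee1b373f30b10cf4ba4ae752c13f346d025eb84f), (nat_lit 0xfab1b5f82b08d7ff83e966fa9819f306243cd090), (.wt (nat_lit 0) (nat_lit 0) (nat_lit 0x125910161e8d6fe6d72746c6acb95732f82b12d8b) (.st (nat_lit 484) [] [] .nil) (unp (nat_lit 5) (nat_lit 0x3ba303)) [])⟩))))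
 (.nd (nat_lit 490) (.nd (nat_lit 488) (.nd (nat_lit 487) (.lf ⟨nat_lit 1, nat_lit 388, nat_lit 149, (nat_lit 0x1fce42ed966b34fae64312a96f69e1eea7db1de4), (nat_lit 0x7b70b72c684395c27dff1eb8700dc983860d1539), (nat_lit 0x20d9d4a55cb470a0a2715b99248c08bc61e57a671), (.wt (nat_lit 6) (nat_lit 3) (nat_lit 0x21be894588e10d7aaf679f06ed0268d208a4039b2) (.st (nat_lit 373) (unp (nat_lit 5) (nat_lit 0x2fa403)) [] (.st (nat_lit 485) [nat_lit 19] [] (.st (nat_lit 385) [nat_lit 29, nat_lit 18] [] (.st (nat_lit 381) (unp (nat_lit 5) (nat_lit 0x3bc303)) [] (.st (nat_lit 480) [nat_lit 3] [] (.st (nat_lit 390) [nat_lit 4, nat_lit 14] [] (.st (nat_lit 391) (unp (nat_lit 5) (nat_lit 0x2fc303)) [nat_lit 436] .nil))))))) (unp (nat_lit 5) (nat_lit 0x53e303)) [])⟩)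
 (.lf ⟨nat_lit 1, nat_lit 149, nat_lit 388, (nat_lit 0x29d069dd4289881cb0b1977aaf1daee2c113e4bec), (nat_lit 0x3bd964d29ed0e56d5590f2a3ca323ef363df189bf), (nat_lit 0x272a349e94c6a204155831628593180aa9f6c4798), (.wt (nat_lit 0) (nat_lit 0) (nat_lit 0x1fce42ed966b34fae64312a96f69e1eea7db1de4) (.st (nat_lit 486) [] [] .nil) [nat_lit 31, nat_lit 14] [])⟩))
 (.nd (nat_lit 489) (.lf ⟨nat_lit 1, nat_lit 369, nat_lit 327, (nat_lit 0x29d069dd4289881cb0b1977aaf1daee2c113e4bec), (nat_lit 0x12894be8a3487c5ce01b74131cb691e17cc85746), (nat_lit 0x1ced26a9a4c0d4bd0062a9b5f30acf0be393b46b8), (.wt (nat_lit 6) (nat_lit 6) (nat_lit 0x38961e28011c1a6798dea2110436c970fca45585) (.st (nat_lit 328) (unp (nat_lit 5) (nat_lit 0x47a303)) [] (.st (nat_lit 106) (unp (nat_lit 5) (nat_lit 0x33a403)) [] (.st (nat_lit 113) [nat_lit 29, nat_lit 12] [nat_lit 75] (.st (nat_lit 382) (unp (nat_lit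 5) (nat_lit 0x57e403)) [] (.st (nat_lit 391) (unp (nat_lit 5) (nat_lit 0x3bc303)) [nat_lit 436] (.st (nat_lit 486) (unp (nat_lit 5) (nat_lit 0x4fc303)) [] (.st (nat_lit 373) (unp (nat_lit 5) (nat_lit 0x2fa403)) [] .nil))))))) [nat_lit 31, nat_lit 16] [])⟩)
 (.lf ⟨nat_lit 1, nat_lit 327, nat_lit 369, (nat_lit 0x3b6020b1ee99f350ad1583cd87ceba46c32e15ab7), (nat_lit 0x127b6c0420c852dc81325474103c05b963e901f04), (nat_lit 0x6e33c5b4bcc2cb6fb171e9142ff3ddc978c72f23), (.wt (nat_lit 0) (nat_lit 0) (nat_lit 0x29d069dd4289881cb0b1977aaf1daee2c113e4bec) (.st (nat_lit 488) [] [] .nil) [nat_lit 31, nat_lit 18] [])⟩)))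
 (.nd (nat_lit 492) (.nd (nat_lit 491) (.lf ⟨nat_lit 1, nat_lit 254, nat_lit 382, (nat_lit 0x125910161e8d6fe6d72746c6acb95732f82b12d8b), (nat_lit 0x1cf3c331339134217b059b2fcba6ab79587bc52b0), (nat_lit 0x20e76f71562ff89ab860847d818f8d68fc1f200db), (.wt (nat_lit 6) (nat_lit 2) (nat_lit 0x29ceca1682be0f6e2992e589a43f04a4b4e58c3cb) (.st (nat_lit 391) (unp (nat_lit 5) (nat_lit 0x37e303)) [] (.st (nat_lit 486) (unp (nat_lit 5) (nat_lit 0x53a403)) [] (.st (nat_lit 151) [nat_lit 4, nat_lit 30] [] (.st (nat_lit 143) [nat_lit 29, nat_lit 18] [nat_lit 145] (.st (nat_lit 138) (unp (nat_lit 5) (nat_lit 0x37c303)) [] (.st (nat_lit 140) [nat_lit 3, nat_lit 8] [] (.st (nat_lit 254) [nat_lit 4, nat_lit 8] [] .nil))))))) (unp (nat_lit 5) (nat_lit 0x1be403)) [])⟩)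
 (.lf ⟨nat_lit 1, nat_lit 382, nat_lit 254, (nat_lit 0x2ba2cea7bd829f6f53bc17c3f6c7dba59a18cc2c5), (nat_lit 0x277bbc9804a1af08cd5e394edaf9ab169dc77267c), (nat_lit 0x3ffbb473bd0d7955710d5a941317e866e2376c1d9), (.wt (nat_lit 0) (nat_lit 0) (nat_lit 0x125910161e8d6fe6d72746c6acb95732f82b12d8b) (.st (nat_lit 490) [] [] .nil) [nat_lit 30, nat_lit 6] [])⟩))
 (.nd (nat_lit 493) (.lf ⟨nat_lit 1, nat_lit 82, nat_lit 89, (nat_lit 0x29d069dd4289881cb0b1977aaf1daee2c113e4bec), (nat_lit 0xa52ca9559088b1c47f670417d109ff14e2ffbcb9), (nat_lit 0xb2992263e3118503817aba403687a7a222732fd3), (.ren (nat_lit 131) [] [] [nat_lit 449])⟩)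
 (.nd (nat_lit 494) (.lf ⟨nat_lit 1, nat_lit 176, nat_lit 327, (nat_lit 0x9a472e71a6030c6693ace0c7e5978349d74b3855), (nat_lit 0x272a349e94c6a204155831628593180aa9f6c4798), (nat_lit 0x1cef8279014106fa59c67570ea8ec2d789f35e01), (.wt (nat_lit 5) (nat_lit 0) (nat_lit 0x2e307d598c40c94b5d831bb1e4ad8e2ad05a3ff90) (.st (nat_lit 437) (unp (nat_lit 5) (nat_lit 0x37c303)) [] (.st (nat_lit 385) [nat_lit 8] [] (.st (nat_lit 115) [nat_lit 31, nat_lit 20] [] (.st (nat_lit 473) (unp (nat_lit 5) (nat_lit 0x57c403)) [] (.st (nat_lit 120) [nat_lit 3, nat_lit 9] [] (.st (nat_lit 86) [nat_lit 30, nat_lit 18] [] (.st (nat_lit 492) (unp (nat_lit 5) (nat_lit 0x33a403)) [] (.st (nat_lit 91) [nat_lit 30, nat_lit 14] [] (.st (nat_lit 176) [nat_lit 31, nat_lit 14] [] .nil))))))))) (unp (nat_lit 5) (nat_lit 0x57c303)) [])⟩)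
 (.lf ⟨nat_lit 1, nat_lit 327, nat_lit 176, (nat_lit 0x29d069dd4289881cb0b1977aaf1daee2c113e4bec), (nat_lit 0x3defa71c20b498aab676ee81e10e03ec2dc76989e), (nat_lit 0x102091de4c7dac0fe044c54b09bf4a13ba974772e), (.wt (nat_lit 0) (nat_lit 0) (nat_lit 0x9a472e71a6030c6693ace0c7e5978349d74b3855) (.st (nat_lit 493) [] [] .nil) (unp (nat_lit 5) (nat_lit 0x53e303)) [])⟩))))))
 (.nd (nat_lit 503) (.nd (nat_lit 499) (.nd (nat_lit 497) (.nd (nat_lit 496) (.lf ⟨nat_lit 0, nat_lit 327, nat_lit 176, (nat_lit 0x13b2044e34a60505ff8d45777f4c6f3987db626a5), one, (nat_lit 0x26ab8b41d52800113ecd1b13063645482576dcb55), (.we (nat_lit 6) (nat_lit 0) (nat_lit 0x29040964e02c06d74a4091956be75539ce633e254) (.st (nat_lit 437) (unp (nat_lit 5) (nat_lit 0x2fc303)) [] (.st (nat_lit 386) [nat_lit 8] [] (.st (nat_lit 428) (unp (nat_lit 5) (nat_lit 0x1bc403)) [] (.st (nat_lit 341) [nat_lit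 30, nat_lit 18] [nat_lit 440] (.st (nat_lit 116) (unp (nat_lit 5) (nat_lit 0x37e403)) [] (.st (nat_lit 384) [nat_lit 9] [] (.st (nat_lit 438) (unp (nat_lit 5) (nat_lit 0x23c403)) [] (.st (nat_lit 494) [nat_lit 31, nat_lit 21] [] .nil)))))))))⟩)
 (.lf ⟨nat_lit 0, nat_lit 105, nat_lit 342, (nat_lit 0x11081d9814021f1986cd33c2910019be898265d47), one, (nat_lit 0x3cf8683d1f16cf996f0df67393ae08bda47e9aa29), (.cmp (nat_lit 328) (nat_lit 346) [nat_lit 30, nat_lit 14] [nat_lit 495])⟩))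
 (.nd (nat_lit 498) (.lf ⟨nat_lit 1, nat_lit 176, nat_lit 317, (nat_lit 0x3b6020b1ee99f350ad1583cd87ceba46c32e15ab7), (nat_lit 0x327d7bf6dcf39888d222eef23565671852d7b0791), (nat_lit 0x3099b20ded363cde83680f3496f283c81301203ba), (.ren (nat_lit 329) [nat_lit 30, nat_lit 13] [nat_lit 495] [])⟩)
 (.lf ⟨nat_lit 0, nat_lit 384, nat_lit 154, (nat_lit 0x162ccae86949ffac467435853565938e04b332dff), one, (nat_lit 0x2927b47a300788b13f54be236de70ec86187ae885), (.cmp (nat_lit 437) (nat_lit 178) (unp (nat_lit 5) (nat_lit 0x4be303)) [nat_lit 495])⟩)))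
 (.nd (nat_lit 501) (.nd (nat_lit 500) (.lf ⟨nat_lit 0, nat_lit 369, nat_lit 87, (nat_lit 0x222b62f474766792ab9c22e6170df19ff518ff61f), one, (nat_lit 0x18a4cdc9c1f63a40250825ddee10e3b5e996a5462), (.cmp (nat_lit 489) (nat_lit 177) (unp (nat_lit 5) (nat_lit 0x3fe303)) [nat_lit 495])⟩)
 (.lf ⟨nat_lit 0, nat_lit 342, nat_lit 105, (nat_lit 0x10696c0210301158a9554de8ad8c0ad055b39e511), one, (nat_lit 0x3cc54a08be37c19c41c520f290f72a61fc08ba30c), (.inv (nat_lit 496))⟩))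
 (.nd (nat_lit 502) (.lf ⟨nat_lit 0, nat_lit 107, nat_lit 337, (nat_lit 0x312f6cbbbb9bb76cb1957ae14771fa75c10b7b4cc), one, (nat_lit 0x3cc54a08be37c19c41c520f290f72a61fc08ba30c), (.cmp (nat_lit 343) (nat_lit 337) (unp (nat_lit 5) (nat_lit 0x47e403)) [nat_lit 500])⟩)
 (.lf ⟨nat_lit 0, nat_lit 180, nat_lit 330, (nat_lit 0x24dc5e4d6fc915bc043bc90b72a18f39ef9c43d7c), one, (nat_lit 0x1464086031af834f0032cb7e29643182d1758b31e), (.cmp (nat_lit 344) (nat_lit 330) (unp (nat_lit 5) (nat_lit 0x3fe403)) [nat_lit 500])⟩))))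
 (.nd (nat_lit 507) (.nd (nat_lit 505) (.nd (nat_lit 504) (.lf ⟨nat_lit 0, nat_lit 109, nat_lit 156, (nat_lit 0x2baba23dd72186b7db731a5ccc7d5f2adf5df9834), one, (nat_lit 0x18a4cdc9c1f63a40250825ddee10e3b5e996a5462), (.cmp (nat_lit 370) (nat_lit 156) [nat_lit 30, nat_lit 8] [nat_lit 499])⟩)
 (.lf ⟨nat_lit 0, nat_lit 361, nat_lit 138, (nat_lit 0x327d7bf6dcf39888d222eef23565671852d7b0791), one, (nat_lit 0x18a4cdc9c1f63a40250825ddee10e3b5e996a5462), (.cmp (nat_lit 371) (nat_lit 138) [nat_lit 4, nat_lit 15] [nat_lit 499])⟩))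
 (.nd (nat_lit 506) (.lf ⟨nat_lit 0, nat_lit 149, nat_lit 166, (nat_lit 0x34f111789602085680486ded7441f4b9320901235), one, (nat_lit 0xc080a3e4306cc8986d7c253f00526df1eb9478fe), (.cmp (nat_lit 372) (nat_lit 166) [nat_lit 4, nat_lit 9] [nat_lit 499])⟩)
 (.lf ⟨nat_lit 0, nat_lit 404, nat_lit 142, (nat_lit 0x36425eff8f69f112c6b693e0cf2b2998bbea0737b), one, (nat_lit 0x18a4cdc9c1f63a40250825ddee10e3b5e996a5462), (.cmp (nat_lit 408) (nat_lit 142) [nat_lit 29, nat_lit 12] [nat_lit 499])⟩)))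
 (.nd (nat_lit 509) (.nd (nat_lit 508) (.lf ⟨nat_lit 0, nat_lit 374, nat_lit 48, (nat_lit 0x1f6d88aae67012adff3c21fb2b7910b1905ef712e), one, (nat_lit 0x20ef865b9c06a69be459617ffabe625653ffc0a56), (.cmp (nat_lit 433) (nat_lit 88) [nat_lit 18] [nat_lit 499])⟩)
 (.lf ⟨nat_lit 0, nat_lit 337, nat_lit 107, (nat_lit 0x3879bfb838cbc80e7294be9bef99893b49d8fe9b2), one, (nat_lit 0x3cf8683d1f16cf996f0df67393ae08bda47e9aa29), (.inv (nat_lit 501))⟩))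
 (.nd (nat_lit 510) (.lf ⟨nat_lit 0, nat_lit 330, nat_lit 180, (nat_lit 0x3f43f6b739fd7db459c66c45d8dabe1e8fe7d0d40), one, (nat_lit 0x134ddbd4b0934381448ea6e528b1f06bb94969311), (.inv (nat_lit 502))⟩)
 (.nd (nat_lit 511) (.lf ⟨nat_lit 1, nat_lit 180, nat_lit 172, (nat_lit 0x3eba12c3c3234cd354a978de13ad53d6c7be58abc), (nat_lit 0x388b615b67b0326e052f661dd47356698088015db), (nat_lit 0x341af65b9f3750e62c006a5d1293d77dd026e98dd), (.ren (nat_lit 331) [nat_lit 31, nat_lit 22] [nat_lit 509] [])⟩)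
 (.lf ⟨nat_lit 0, nat_lit 156, nat_lit 109, (nat_lit 0x2f7852fc3f430313646b4d19f84f4f5c537a35916), one, (nat_lit 0x11687f571aacc5668219c3864e6e103421803bdca), (.inv (nat_lit 503))⟩)))))))

noncomputable def T3_512 : Tr :=
  (.nd (nat_lit 529) (.nd (nat_lit 520) (.nd (nat_lit 516) (.nd (nat_lit 514) (.nd (nat_lit 513) (.lf ⟨nat_lit 0, nat_lit 129, nat_lit 74, (nat_lit 0x2d2cd2c974016a631591d3ed8e815b03c688fd930), one, (nat_lit 0x1859eef8f3afc71aa6df75f4a8abc6336e69df582), (.cmp (nat_lit 160) (nat_lit 110) (unp (nat_lit 5) (nat_lit 0x1be303)) [nat_lit 511])⟩)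
 (.lf ⟨nat_lit 0, nat_lit 246, nat_lit 363, (nat_lit 0x1be466463c02e9d74a4842901280a1156cf698dee), one, (nat_lit 0x129cd119da7a00e970b7d2071ff55af8efdcbc85), (.cmp (nat_lit 249) (nat_lit 363) [nat_lit 4, nat_lit 30] [nat_lit 511])⟩))
 (.nd (nat_lit 515) (.lf ⟨nat_lit 0, nat_lit 260, nat_lit 354, (nat_lit 0x105cf6d5817356ad1b0dbba15dbd8f2690a0a228e), one, (nat_lit 0x24c0cc7fe55de8a1b3ebdb91dc5cb732fd4b49740), (.cmp (nat_lit 471) (nat_lit 354) [nat_lit 3, nat_lit 16] [nat_lit 511])⟩)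
 (.lf ⟨nat_lit 0, nat_lit 166, nat_lit 149, (nat_lit 0x29040964e02c06d74a4091956be75539ce633e254), one, (nat_lit 0x1c0602a64f11cf8dc207e9a0d9f936cc7e365ccd8), (.inv (nat_lit 505))⟩)))
 (.nd (nat_lit 518) (.nd (nat_lit 517) (.lf ⟨nat_lit 0, nat_lit 172, nat_lit 146, (nat_lit 0x2709bf8442366b7e2f856958e993c4b3ebdef6e6b), one, (nat_lit 0x1c0602a64f11cf8dc207e9a0d9f936cc7e365ccd8), (.cmp (nat_lit 172) (nat_lit 152) (unp (nat_lit 5) (nat_lit 0x3be303)) [nat_lit 515])⟩)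
 (.lf ⟨nat_lit 0, nat_lit 174, nat_lit 142, (nat_lit 0x29ec583854c2e294cc351724a1631ce2e708b334a), one, (nat_lit 0x1c0602a64f11cf8dc207e9a0d9f936cc7e365ccd8), (.cmp (nat_lit 174) (nat_lit 151) [nat_lit 30, nat_lit 19] [nat_lit 515])⟩))
 (.nd (nat_lit 519) (.lf ⟨nat_lit 1, nat_lit 142, nat_lit 117, (nat_lit 0x9a472e71a6030c6693ace0c7e5978349d74b3855), (nat_lit 0x1f1ff98f135411ba8b3ae692dd777638a3b51dddf), (nat_lit 0x11687f571aacc5668219c3864e6e103421803bdca), (.ren (nat_lit 405) (unp (nat_lit 5) (nat_lit 0x4ba303)) [nat_lit 506] [])⟩)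
 (.lf ⟨nat_lit 1, nat_lit 142, nat_lit 398, (nat_lit 0x1fce42ed966b34fae64312a96f69e1eea7db1de4), (nat_lit 0x2afedad5fab1b4d7c3e6ceb7159c49acb31139d75), (nat_lit 0x11687f571aacc5668219c3864e6e103421803bdca), (.ren (nat_lit 406) [nat_lit 29, nat_lit 19] [nat_lit 506] [])⟩))))
 (.nd (nat_lit 524) (.nd (nat_lit 522) (.nd (nat_lit 521) (.lf ⟨nat_lit 0, nat_lit 113, nat_lit 89, (nat_lit 0x3eab6f861a6f99d876d327989b0ec5282a1e50b8), one, (nat_lit 0xb6640dad88c279bec6138a9ebbc678bb3ef898d7), (.cmp (nat_lit 375) (nat_lit 89) (unp (nat_lit 5) (nat_lit 0x5be303)) [nat_lit 507, nat_lit 49])⟩)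
 (.lf ⟨nat_lit 0, nat_lit 384, nat_lit 87, (nat_lit 0x3625e83b5991f26315be83b602f93508ce83eeeee), one, (nat_lit 0xb6640dad88c279bec6138a9ebbc678bb3ef898d7), (.cmp (nat_lit 387) (nat_lit 87) (unp (nat_lit 5) (nat_lit 0x33e403)) [nat_lit 507, nat_lit 49])⟩))
 (.nd (nat_lit 523) (.lf ⟨nat_lit 0, nat_lit 340, nat_lit 61, (nat_lit 0x3709e20f11a379c9f25d9fc020f65468648cb6d66), one, (nat_lit 0x3e61e14df796501f78fa11170d566ed8ddc0e4019), (.cmp (nat_lit 428) (nat_lit 61) (unp (nat_lit 5) (nat_lit 0x4ba303)) [nat_lit 507])⟩)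
 (.lf ⟨nat_lit 0, nat_lit 82, nat_lit 107, (nat_lit 0x1109587d8cf40d01d2cfb86fc04531bd7feacc93d), one, (nat_lit 0x1859eef8f3afc71aa6df75f4a8abc6336e69df582), (.cmp (nat_lit 130) (nat_lit 107) (unp (nat_lit 5) (nat_lit 0x4bc303)) [nat_lit 512])⟩)))
 (.nd (nat_lit 526) (.nd (nat_lit 525) (.lf ⟨nat_lit 0, nat_lit 221, nat_lit 71, (nat_lit 0xab88bce3d5d44a17db4efde2051918adf34fa24b), one, (nat_lit 0x2483c4b71e6499c0abeab0fcce1da65d60a05b196), (.cmp (nat_lit 451) (nat_lit 77) (unp (nat_lit 5) (nat_lit 0x4fa303)) [nat_lit 512])⟩)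
 (.lf ⟨nat_lit 0, nat_lit 95, nat_lit 246, (nat_lit 0x400f33bb13c64ca5ecd24b2a7a1d72a627c529a7), one, (nat_lit 0x17b639d6f05878698a666c3dc7102322ccfdaa0fa), (.inv (nat_lit 455))⟩))
 (.nd (nat_lit 527) (.lf ⟨nat_lit 0, nat_lit 95, nat_lit 363, (nat_lit 0x1942f1a0686ed4efcfbf3163e2e8176feb55f3f1b), one, (nat_lit 0x24c0cc7fe55de8a1b3ebdb91dc5cb732fd4b49740), (.prod [nat_lit 525, nat_lit 513])⟩)
 (.nd (nat_lit 528) (.lf ⟨nat_lit 0, nat_lit 363, nat_lit 95, (nat_lit 0x660499dee757c6c7d1f6009ea41d79db3b60eb72), one, (nat_lit 0x3656d610c86ed6a56703c826fcb7a0fafff4d5a17), (.inv (nat_lit 526))⟩)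
 (.lf ⟨nat_lit 0, nat_lit 354, nat_lit 260, (nat_lit 0x47ffe235d695c2d399c2b17c7042979d63ccbf57), one, (nat_lit 0x3656d610c86ed6a56703c826fcb7a0fafff4d5a17), (.inv (nat_lit 514))⟩))))))
 (.nd (nat_lit 538) (.nd (nat_lit 533) (.nd (nat_lit 531) (.nd (nat_lit 530) (.lf ⟨nat_lit 1, nat_lit 260, nat_lit 382, (nat_lit 0x29d069dd4289881cb0b1977aaf1daee2c113e4bec), (nat_lit 0x3f70e41c4a34b3b13f7a0b9ab71cb7bd29c728359), (nat_lit 0xe4d72c162e3f44df47e6a0695a1d5a193892739b), (.ren (nat_lit 482) [nat_lit 4, nat_lit 18] [nat_lit 528] [])⟩)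
 (.lf ⟨nat_lit 1, nat_lit 146, nat_lit 180, (nat_lit 0x29d069dd4289881cb0b1977aaf1daee2c113e4bec), (nat_lit 0x1838f2efee660fc69fb5dbce927016a89c18c749d), (nat_lit 0x12ffe646eacae2cdbfd06f5692c01df73349ab82a), (.ren (nat_lit 332) (unp (nat_lit 5) (nat_lit 0x57e403)) [nat_lit 516] [nat_lit 509])⟩))
 (.nd (nat_lit 532) (.lf ⟨nat_lit 0, nat_lit 307, nat_lit 166, (nat_lit 0x755634c532672600374bedd5149ffb132215894f), one, (nat_lit 0x130548b17e0ba584d7a95281828eca78e9d63f039), (.cmp (nat_lit 478) (nat_lit 169) (unp (nat_lit 5) (nat_lit 0x4fe403)) [nat_lit 517, nat_lit 145])⟩)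
 (.lf ⟨nat_lit 0, nat_lit 202, nat_lit 202, (nat_lit 0x4bcd175a4299bcf4b8d0265ad6fd4dd52b7214c7), one, (nat_lit 0x1059d9c2943c134f001d3b17bfe8d5e9b649c31ce), (.cmp (nat_lit 207) (nat_lit 202) (unp (nat_lit 5) (nat_lit 0x1be403)) [nat_lit 520])⟩)))
 (.nd (nat_lit 535) (.nd (nat_lit 534) (.lf ⟨nat_lit 0, nat_lit 378, nat_lit 186, (nat_lit 0x1297196ed42b6340dca88ed43a53b145041a1d13c), one, (nat_lit 0xb6640dad88c279bec6138a9ebbc678bb3ef898d7), (.cmp (nat_lit 378) (nat_lit 186) [nat_lit 4, nat_lit 31] [nat_lit 520])⟩)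
 (.lf ⟨nat_lit 0, nat_lit 381, nat_lit 225, (nat_lit 0x12ef2a6dbda37e1ffb505c10de316c1f31fcaae36), one, (nat_lit 0xb6640dad88c279bec6138a9ebbc678bb3ef898d7), (.cmp (nat_lit 381) (nat_lit 225) (unp (nat_lit 5) (nat_lit 0x43e303)) [nat_lit 520])⟩))
 (.nd (nat_lit 536) (.lf ⟨nat_lit 0, nat_lit 382, nat_lit 229, (nat_lit 0x2d8929701647e2080f939d0b51a1552e66886100), one, (nat_lit 0xb6640dad88c279bec6138a9ebbc678bb3ef898d7), (.cmp (nat_lit 382) (nat_lit 229) (unp (nat_lit 5) (nat_lit 0x1be403)) [nat_lit 520])⟩)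
 (.nd (nat_lit 537) (.lf ⟨nat_lit 0, nat_lit 388, nat_lit 208, (nat_lit 0x400f33bb13c64ca5ecd24b2a7a1d72a627c529a7), one, (nat_lit 0xb6640dad88c279bec6138a9ebbc678bb3ef898d7), (.cmp (nat_lit 388) (nat_lit 208) [nat_lit 30, nat_lit 14] [nat_lit 520])⟩)
 (.lf ⟨nat_lit 0, nat_lit 154, nat_lit 384, (nat_lit 0x162ccae86949ffac467435853565938e04b332dff), one, (nat_lit 0x24b7d4b18e56171cc04032bc41993a3e737d3bcf7), (.inv (nat_lit 498))⟩)))))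
 (.nd (nat_lit 542) (.nd (nat_lit 540) (.nd (nat_lit 539) (.lf ⟨nat_lit 0, nat_lit 154, nat_lit 87, (nat_lit 0x105d0e34aa5f1b4b1e2f42e3dc04fb49394941a05), one, (nat_lit 0x1f6d88aae67012adff3c21fb2b7910b1905ef712e), (.prod [nat_lit 537, nat_lit 521])⟩)
 (.lf ⟨nat_lit 0, nat_lit 176, nat_lit 176, (nat_lit 0x101a9bb0cd78fd6acd5da0e2a421f08e4085c65d1), one, (nat_lit 0x1f6d88aae67012adff3c21fb2b7910b1905ef712e), (.cmp (nat_lit 179) (nat_lit 176) [nat_lit 11] [nat_lit 538])⟩))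
 (.nd (nat_lit 541) (.lf ⟨nat_lit 0, nat_lit 392, nat_lit 142, (nat_lit 0x23e82b4c39015212c40582c339e6bf52004e73a4d), one, (nat_lit 0x1d74efaf27a0ae358f22adb6fef96f7de343cfe6), (.cmp (nat_lit 397) (nat_lit 142) [nat_lit 4, nat_lit 19] [nat_lit 538])⟩)
 (.lf ⟨nat_lit 0, nat_lit 347, nat_lit 79, (nat_lit 0x254eefbca39eba1986c856459afbd6c9613d4dee4), one, (nat_lit 0x3dbf3676050afdb5ce9205a6a4bd0a6e7e33afa55), (.cmp (nat_lit 349) (nat_lit 79) [nat_lit 29, nat_lit 22] [nat_lit 522, nat_lit 63])⟩)))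
 (.nd (nat_lit 544) (.nd (nat_lit 543) (.lf ⟨nat_lit 0, nat_lit 107, nat_lit 82, (nat_lit 0x1103f87060b6fb2db70bd53ef6e527c671141655d), one, (nat_lit 0x18997efaf3af871aaedf74f49cadd538eaaa9f88a), (.inv (nat_lit 523))⟩)
 (.lf ⟨nat_lit 0, nat_lit 180, nat_lit 135, (nat_lit 0xe4348d331b84b50b2143244a8aa30de8c80f3cb0), one, (nat_lit 0x3159f8cf6f4bf1294df58a3388d3cdeec91e9e625), (.cmp (nat_lit 185) (nat_lit 135) [nat_lit 4, nat_lit 14] [nat_lit 542, nat_lit 83])⟩))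
 (.nd (nat_lit 545) (.lf ⟨nat_lit 0, nat_lit 342, nat_lit 133, (nat_lit 0x1c2bc3588e3249de837483a9230144dc438517d9a), one, (nat_lit 0x18997efaf3af871aaedf74f49cadd538eaaa9f88a), (.cmp (nat_lit 342) (nat_lit 133) [nat_lit 3, nat_lit 31] [nat_lit 542])⟩)
 (.nd (nat_lit 546) (.lf ⟨nat_lit 0, nat_lit 283, nat_lit 97, (nat_lit 0x35a3c35cb11a4ca0c054d89152cb0e9ee3b8f08cc), one, (nat_lit 0xc5e71250a7eeeee29cd26a3a8a9d589a2afcb57c), (.cmp (nat_lit 286) (nat_lit 97) [nat_lit 3, nat_lit 31] [nat_lit 524, nat_lit 72])⟩)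
 (.lf ⟨nat_lit 0, nat_lit 307, nat_lit 149, (nat_lit 0x16571c021329b7792bb0e52289a1a6e6b991d46ce), one, (nat_lit 0x57e9bd57a7672f850ece99f1ef8142d791481537), (.prod [nat_lit 531, nat_lit 515])⟩)))))))

noncomputable def T3_547 : Tr :=
  (.nd (nat_lit 564) (.nd (nat_lit 555) (.nd (nat_lit 551) (.nd (nat_lit 549) (.nd (nat_lit 548) (.lf ⟨nat_lit 1, nat_lit 149, nat_lit 101, (nat_lit 0x9a472e71a6030c6693ace0c7e5978349d74b3855), (nat_lit 0xbf022ce2855ccebcb26bb6c77e7442396c4f743e), (nat_lit 0x1f151154c97558fd2ddc439e2964209defcd2b06d), (.ren (nat_lit 308) (unp (nat_lit 5) (nat_lit 0x43a303)) [nat_lit 546] [])⟩)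
 (.lf ⟨nat_lit 1, nat_lit 186, nat_lit 225, (nat_lit 0xf6d11ea1f2003230c9ae98d7ebf7a100d6421009), (nat_lit 0xd877398c766b9e4871873e90576043f6a70de13f), (nat_lit 0x24ac3b3d401e4269503dcccb3a0d3820975f87329), (.ren (nat_lit 379) (unp (nat_lit 5) (nat_lit 0x47a403)) [nat_lit 533] [])⟩))
 (.nd (nat_lit 550) (.lf ⟨nat_lit 1, nat_lit 225, nat_lit 388, (nat_lit 0x3b6020b1ee99f350ad1583cd87ceba46c32e15ab7), (nat_lit 0x25aa30ab127c9245f43a20041d9b8ad7641fb72ee), (nat_lit 0x23c35c5c9bcf3fe5cd7a968aac9ab8ecd29ef0ae6), (.ren (nat_lit 480) [nat_lit 30, nat_lit 11] [nat_lit 534] [])⟩)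
 (.lf ⟨nat_lit 1, nat_lit 229, nat_lit 260, (nat_lit 0x1fce42ed966b34fae64312a96f69e1eea7db1de4), (nat_lit 0xd2d4793b8dc89d07d6e227b82cc2e94ae10253a8), (nat_lit 0x12059bc177cce592b3669a43a878471d63636d56a), (.ren (nat_lit 483) (unp (nat_lit 5) (nat_lit 0x4bc303)) [nat_lit 535] [nat_lit 528])⟩)))
 (.nd (nat_lit 553) (.nd (nat_lit 552) (.lf ⟨nat_lit 0, nat_lit 254, nat_lit 364, (nat_lit 0xf5ea9c297112a29b9596725bd2961c92eeffc827), one, (nat_lit 0x208dd0c49ffbbeffd562e651a8b1a4962b762921f), (.cmp (nat_lit 491) (nat_lit 368) (unp (nat_lit 5) (nat_lit 0x4bc303)) [nat_lit 535])⟩)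
 (.lf ⟨nat_lit 1, nat_lit 208, nat_lit 225, (nat_lit 0x2ba2cea7bd829f6f53bc17c3f6c7dba59a18cc2c5), (nat_lit 0x2552608708b91b6db74cb5665a7524653c8c74b80), (nat_lit 0x1f65a2eb5efc3a501c56d50f9afab2ddeecc8ee0f), (.ren (nat_lit 481) [nat_lit 4, nat_lit 29] [nat_lit 536] [nat_lit 534])⟩))
 (.nd (nat_lit 554) (.lf ⟨nat_lit 0, nat_lit 317, nat_lit 342, (nat_lit 0x37ba9a9559aa2310165c28ece765fc6e7adc346a0), one, (nat_lit 0x3ded5d5f59f71aab66814b1a9e8676aa3f34ba4c), (.cmp (nat_lit 497) (nat_lit 346) (unp (nat_lit 5) (nat_lit 0x2fa303)) [nat_lit 539])⟩)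
 (.lf ⟨nat_lit 0, nat_lit 117, nat_lit 117, (nat_lit 0x1a36fac72f0e1f064ff05ec53564d5192eefa84ae), one, (nat_lit 0x200a0b1ec06b20b36f414402ead52b870c2c9ce5), (.cmp (nat_lit 393) (nat_lit 518) (unp (nat_lit 5) (nat_lit 0x37e403)) [nat_lit 540, nat_lit 145])⟩))))
 (.nd (nat_lit 559) (.nd (nat_lit 557) (.nd (nat_lit 556) (.lf ⟨nat_lit 0, nat_lit 186, nat_lit 398, (nat_lit 0xa9b235e0c30dc19a424200b41ee75fa0864e7c94), one, (nat_lit 0x3a8435763459bd561eadc36dd6cf52893bd9582de), (.cmp (nat_lit 394) (nat_lit 519) (unp (nat_lit 5) (nat_lit 0x2fe403)) [nat_lit 540, nat_lit 145])⟩)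
 (.lf ⟨nat_lit 0, nat_lit 119, nat_lit 79, (nat_lit 0x3b6020b1ee99f350ad1583cd87ceba46c32e15ab7), one, (nat_lit 0x176708afc7d76226519823ab768f79ea6a430c16), (.prod [nat_lit 441, nat_lit 541])⟩))
 (.nd (nat_lit 558) (.lf ⟨nat_lit 0, nat_lit 125, nat_lit 125, (nat_lit 0x133e1931986bdb68d8ecb338151da65f469c6ec08), one, (nat_lit 0x117599dd406b9c62bc98b30c2b04f63dc2e97fcf1), (.cmp (nat_lit 128) (nat_lit 125) [nat_lit 4, nat_lit 12] [nat_lit 556, nat_lit 80])⟩)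
 (.lf ⟨nat_lit 0, nat_lit 420, nat_lit 121, (nat_lit 0x12c8a6e84bce67a77dca85a5585dd762cdf266f50), one, (nat_lit 0x31dab78bf7849c5163d3e57287f3dcf7fc3fffc43), (.cmp (nat_lit 420) (nat_lit 121) [nat_lit 3, nat_lit 6] [nat_lit 556, nat_lit 80])⟩)))
 (.nd (nat_lit 561) (.nd (nat_lit 560) (.lf ⟨nat_lit 1, nat_lit 135, nat_lit 87, (nat_lit 0x29d069dd4289881cb0b1977aaf1daee2c113e4bec), (nat_lit 0x1f6d88aae67012adff3c21fb2b7910b1905ef712e), (nat_lit 0x3ac32aba0c5aeb2e8895741c8058a97993a459338), (.ren (nat_lit 181) (unp (nat_lit 5) (nat_lit 0x47a403)) [nat_lit 543] [])⟩)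
 (.lf ⟨nat_lit 1, nat_lit 135, nat_lit 162, (nat_lit 0x2ba2cea7bd829f6f53bc17c3f6c7dba59a18cc2c5), (nat_lit 0x2a8906d58172ec9055249ba5115c9c037e3b941a0), (nat_lit 0x3ac32aba0c5aeb2e8895741c8058a97993a459338), (.ren (nat_lit 182) (unp (nat_lit 5) (nat_lit 0x47a403)) [nat_lit 543] [])⟩))
 (.nd (nat_lit 562) (.lf ⟨nat_lit 1, nat_lit 135, nat_lit 420, (nat_lit 0x9a472e71a6030c6693ace0c7e5978349d74b3855), (nat_lit 0xb0a8c95e80ba014bbbd363d19471f2533765f57f), (nat_lit 0x3d79d0b395c1e2326aa54562c96949df183f9a64d), (.ren (nat_lit 422) (unp (nat_lit 5) (nat_lit 0x3ba403)) [nat_lit 543] [])⟩)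
 (.nd (nat_lit 563) (.lf ⟨nat_lit 1, nat_lit 135, nat_lit 146, (nat_lit 0xf6d11ea1f2003230c9ae98d7ebf7a100d6421009), (nat_lit 0x2b1fc5f6eac27d75cdb147dd01e511e65c800d42c), (nat_lit 0x6db32ed4d0c0f8b853560d4b337d595beafd656d), (.ren (nat_lit 510) (unp (nat_lit 5) (nat_lit 0x3fc303)) [nat_lit 543] [nat_lit 516])⟩)
 (.lf ⟨nat_lit 0, nat_lit 105, nat_lit 133, (nat_lit 0x2f2f6c87b27f1690552bda9a21cc1126f709b0ffa), one, (nat_lit 0x2383ac03fb3a95d44eb101c911e2bffffd66f3ff), (.prod [nat_lit 496, nat_lit 544])⟩))))))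
 (.nd (nat_lit 572) (.nd (nat_lit 568) (.nd (nat_lit 566) (.nd (nat_lit 565) (.lf ⟨nat_lit 0, nat_lit 133, nat_lit 105, (nat_lit 0x3f70e41c4a34b3b13f7a0b9ab71cb7bd29c728359), one, (nat_lit 0x1bfa8354bda6dc1199bffd8798d00c8b1561e8eb8), (.inv (nat_lit 563))⟩)
 (.lf ⟨nat_lit 0, nat_lit 296, nat_lit 296, (nat_lit 0x19c2b8cf6e438e24d791822d8962277482bd5dd6c), one, (nat_lit 0xc5e71250a7eeeee29cd26a3a8a9d589a2afcb57c), (.cmp (nat_lit 299) (nat_lit 296) [nat_lit 3, nat_lit 19] [nat_lit 545])⟩))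
 (.nd (nat_lit 567) (.lf ⟨nat_lit 0, nat_lit 364, nat_lit 254, (nat_lit 0x1838f2efee660fc69fb5dbce927016a89c18c749d), one, (nat_lit 0x2e39332488cf55342c1fd9970eaaf4871b3ccf3c8), (.inv (nat_lit 551))⟩)
 (.lf ⟨nat_lit 1, nat_lit 254, nat_lit 109, (nat_lit 0x1fce42ed966b34fae64312a96f69e1eea7db1de4), (nat_lit 0x25294f6e308028bab01a3a2ee904a3374025e30f4), (nat_lit 0x208dd0c49ffbbeffd562e651a8b1a4962b762921f), (.ren (nat_lit 365) (unp (nat_lit 5) (nat_lit 0x5ba303)) [nat_lit 566] [])⟩)))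
 (.nd (nat_lit 570) (.nd (nat_lit 569) (.lf ⟨nat_lit 0, nat_lit 355, nat_lit 146, (nat_lit 0x21a8196de591a572f8cadcac81ab73e6b5d434aa0), one, (nat_lit 0x38f3b0bf4c461ad5ee86cd7ccc7e66dfb3d3a4e8a), (.cmp (nat_lit 366) (nat_lit 256) [nat_lit 4, nat_lit 29] [nat_lit 566])⟩)
 (.lf ⟨nat_lit 0, nat_lit 317, nat_lit 105, (nat_lit 0xc83f493754ebfa08318222c805973f16de2365ca), one, (nat_lit 0x1ebfb9c0de2a25cb903dc7b4860ee3b518eaeccb9), (.prod [nat_lit 553, nat_lit 500])⟩))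
 (.nd (nat_lit 571) (.lf ⟨nat_lit 0, nat_lit 398, nat_lit 186, (nat_lit 0x3b9b0079f11c45eec6ce0866a06034052cad603a), one, (nat_lit 0x239d6d6d8226307f21215737e067e5214d68c0fc9), (.inv (nat_lit 555))⟩)
 (.lf ⟨nat_lit 1, nat_lit 186, nat_lit 208, (nat_lit 0x3eba12c3c3234cd354a978de13ad53d6c7be58abc), (nat_lit 0x3408559caa5f6286692159dba1a4ac649dc590089), (nat_lit 0xe61e38bec712a461515696e1bcf96e38c0a60401), (.ren (nat_lit 477) [nat_lit 29, nat_lit 19] [nat_lit 570] [])⟩))))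
 (.nd (nat_lit 576) (.nd (nat_lit 574) (.nd (nat_lit 573) (.lf ⟨nat_lit 1, nat_lit 121, nat_lit 135, (nat_lit 0x9a472e71a6030c6693ace0c7e5978349d74b3855), (nat_lit 0x32d1d306a10d2f1f78de319de027eaab4e269baf9), (nat_lit 0x1d800abf4f312b8fd51d047b94ef4597569c1447e), (.ren (nat_lit 421) (unp (nat_lit 5) (nat_lit 0x5bc303)) [nat_lit 558] [nat_lit 543])⟩)
 (.lf ⟨nat_lit 0, nat_lit 296, nat_lit 296, (nat_lit 0x16146b1d652302cf6fac7c910a48430058769b84c), one, (nat_lit 0xee1b373f30b10cf4ba4ae752c13f346d025eb84f), (.prod [nat_lit 479, nat_lit 565])⟩))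
 (.nd (nat_lit 575) (.lf ⟨nat_lit 1, nat_lit 146, nat_lit 109, (nat_lit 0x3eba12c3c3234cd354a978de13ad53d6c7be58abc), (nat_lit 0x2910acc239d92269540dcbd61943b8f855b444c3), (nat_lit 0x25e859467605943bd5d39601451f278dfb823de73), (.ren (nat_lit 356) [nat_lit 30, nat_lit 8] [nat_lit 568] [])⟩)
 (.lf ⟨nat_lit 1, nat_lit 176, nat_lit 105, (nat_lit 0x125910161e8d6fe6d72746c6acb95732f82b12d8b), (nat_lit 0x24dc5e4d6fc915bc043bc90b72a18f39ef9c43d7c), (nat_lit 0x3099b20ded363cde83680f3496f283c81301203ba), (.ren (nat_lit 346) [] [] [nat_lit 500])⟩)))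
 (.nd (nat_lit 578) (.nd (nat_lit 577) (.lf ⟨nat_lit 1, nat_lit 105, nat_lit 176, (nat_lit 0x125910161e8d6fe6d72746c6acb95732f82b12d8b), (nat_lit 0x7adc4484b0620e4ee8b79dd4721dfd3f91fdf30), (nat_lit 0x26ab8b41d52800113ecd1b13063645482576dcb55), (.ren (nat_lit 327) [] [] [nat_lit 495])⟩)
 (.lf ⟨nat_lit 1, nat_lit 117, nat_lit 142, (nat_lit 0x3b6020b1ee99f350ad1583cd87ceba46c32e15ab7), (nat_lit 0x30b6320d0518c15c28a0b6bcac3a7bac863235ba6), (nat_lit 0x1d74efaf27a0ae358f22adb6fef96f7de343cfe6), (.ren (nat_lit 392) [] [] [nat_lit 540])⟩))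
 (.nd (nat_lit 579) (.lf ⟨nat_lit 1, nat_lit 142, nat_lit 186, (nat_lit 0x1fce42ed966b34fae64312a96f69e1eea7db1de4), (nat_lit 0x297797ac7f553e4469143367c51251aa271fd4057), (nat_lit 0x3be7244fa63d5756bbd2c48ffcc5336ea63b2c00), (.ren (nat_lit 519) [] [] [nat_lit 570])⟩)
 (.nd (nat_lit 580) (.lf ⟨nat_lit 1, nat_lit 186, nat_lit 142, (nat_lit 0x2ba2cea7bd829f6f53bc17c3f6c7dba59a18cc2c5), (nat_lit 0x3e5c4fac40cdc3de4250c00e6c66a0b30c184cf56), (nat_lit 0x68148027e00c9ef75b6a339741a11575a8ee5132), (.ren (nat_lit 395) [] [] [nat_lit 540])⟩)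
 (.lf ⟨nat_lit 1, nat_lit 260, nat_lit 229, (nat_lit 0x29d069dd4289881cb0b1977aaf1daee2c113e4bec), (nat_lit 0x15f5af68d9bdf35187941f394b1092e6f9a4a1bbc), (nat_lit 0x1e2e6a14c1972a7eab3301440cb8f4842393859ca), (.ren (nat_lit 529) [] [] [nat_lit 535])⟩)))))))

noncomputable def T3_581 : Tr :=
  (.nd (nat_lit 598) (.nd (nat_lit 589) (.nd (nat_lit 585) (.nd (nat_lit 583) (.nd (nat_lit 582) (.lf ⟨nat_lit 1, nat_lit 146, nat_lit 135, (nat_lit 0x29d069dd4289881cb0b1977aaf1daee2c113e4bec), (nat_lit 0x74516a12d15065274827f4c1ee6fb59d85e6d98), (nat_lit 0x6db32ed4d0c0f8b853560d4b337d595beafd656d), (.ren (nat_lit 530) [] [] [nat_lit 543])⟩)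
 (.lf ⟨nat_lit 1, nat_lit 101, nat_lit 149, (nat_lit 0x125910161e8d6fe6d72746c6acb95732f82b12d8b), (nat_lit 0x1a592fac405d319193edc3e000a4a0b79bd003f5d), (nat_lit 0x57e9bd57a7672f850ece99f1ef8142d791481537), (.ren (nat_lit 307) [] [] [nat_lit 546])⟩))
 (.nd (nat_lit 584) (.lf ⟨nat_lit 1, nat_lit 225, nat_lit 186, (nat_lit 0x125910161e8d6fe6d72746c6acb95732f82b12d8b), (nat_lit 0x1f65a2eb5efc3a501c56d50f9afab2ddeecc8ee0f), (nat_lit 0x335391a4b1714acde704aa72b913bdcc7d6c392c0), (.ren (nat_lit 380) [] [] [nat_lit 533])⟩)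
 (.lf ⟨nat_lit 1, nat_lit 225, nat_lit 208, (nat_lit 0x3b6020b1ee99f350ad1583cd87ceba46c32e15ab7), (nat_lit 0x2d9aa714da63df93ced13ebb0da79e39454962bf1), (nat_lit 0x9c5c9d6db9e7bbcc4fbe21e322da65eaca4b1f2a), (.ren (nat_lit 549) [] [] [nat_lit 536])⟩)))
 (.nd (nat_lit 587) (.nd (nat_lit 586) (.lf ⟨nat_lit 1, nat_lit 87, nat_lit 135, (nat_lit 0x9a472e71a6030c6693ace0c7e5978349d74b3855), (nat_lit 0x10e973cb7281a4980a79eca638ac93ddc0f3c7478), (nat_lit 0x3159f8cf6f4bf1294df58a3388d3cdeec91e9e625), (.ren (nat_lit 180) [] [] [nat_lit 543])⟩)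
 (.lf ⟨nat_lit 1, nat_lit 162, nat_lit 135, (nat_lit 0x100e0aba0d17c70444d02bf329fd10d7608f1b426), (nat_lit 0x132c0b2b693d283ba4d376e6354ddc3e7e2176619), (nat_lit 0x3159f8cf6f4bf1294df58a3388d3cdeec91e9e625), (.ren (nat_lit 183) [] [] [nat_lit 543])⟩))
 (.nd (nat_lit 588) (.lf ⟨nat_lit 1, nat_lit 135, nat_lit 121, (nat_lit 0x9a472e71a6030c6693ace0c7e5978349d74b3855), (nat_lit 0x1a4356431548040444e39717736a1f6a0b9edc2e9), (nat_lit 0x1d800abf4f312b8fd51d047b94ef4597569c1447e), (.ren (nat_lit 561) [] [] [nat_lit 558])⟩)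
 (.lf ⟨nat_lit 1, nat_lit 109, nat_lit 254, (nat_lit 0x3eba12c3c3234cd354a978de13ad53d6c7be58abc), (nat_lit 0xf5ea9c297112a29b9596725bd2961c92eeffc827), (nat_lit 0x2e39332488cf55342c1fd9970eaaf4871b3ccf3c8), (.ren (nat_lit 364) [] [] [nat_lit 566])⟩))))
 (.nd (nat_lit 593) (.nd (nat_lit 591) (.nd (nat_lit 590) (.lf ⟨nat_lit 1, nat_lit 208, nat_lit 186, (nat_lit 0x29d069dd4289881cb0b1977aaf1daee2c113e4bec), (nat_lit 0x365e6a2c3745d385e5e100f9d1181d55f46c5df98), (nat_lit 0x1e4f1e2831920e847b847a3b6d041108eb073913), (.ren (nat_lit 472) [] [] [nat_lit 570])⟩)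
 (.lf ⟨nat_lit 1, nat_lit 109, nat_lit 146, (nat_lit 0xf6d11ea1f2003230c9ae98d7ebf7a100d6421009), (nat_lit 0x31f7936c60e4cc53928389ee357b63f5090bb4e47), (nat_lit 0x38f3b0bf4c461ad5ee86cd7ccc7e66dfb3d3a4e8a), (.ren (nat_lit 355) [] [] [nat_lit 568])⟩))
 (.nd (nat_lit 592) (.lf ⟨nat_lit 0, nat_lit 402, nat_lit 402, (nat_lit 0x3bee2f44535c109cfbd75dea39712b27875669ef), one, (nat_lit 0x200a0b1ec06b20b36f414402ead52b870c2c9ce5), (.cmp (nat_lit 402) (nat_lit 402) [nat_lit 30, nat_lit 8] [nat_lit 554])⟩)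
 (.lf ⟨nat_lit 0, nat_lit 411, nat_lit 411, (nat_lit 0x1929089bfa7d9629b95df3caaf1cb0a6788f77591), one, (nat_lit 0x200a0b1ec06b20b36f414402ead52b870c2c9ce5), (.cmp (nat_lit 411) (nat_lit 411) (unp (nat_lit 5) (nat_lit 0x57c303)) [nat_lit 554])⟩)))
 (.nd (nat_lit 595) (.nd (nat_lit 594) (.lf ⟨nat_lit 1, nat_lit 87, nat_lit 109, (nat_lit 0x125910161e8d6fe6d72746c6acb95732f82b12d8b), (nat_lit 0x2baba23dd72186b7db731a5ccc7d5f2adf5df9834), (nat_lit 0x11687f571aacc5668219c3864e6e103421803bdca), (.ren (nat_lit 156) [] [] [nat_lit 511])⟩)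
 (.lf ⟨nat_lit 1, nat_lit 254, nat_lit 229, (nat_lit 0x125910161e8d6fe6d72746c6acb95732f82b12d8b), (nat_lit 0x378e0ba441ffad7e2f9597b13d5c4ffb21259af52), (nat_lit 0x1d36afb6a4866b1ffb5b2ad66a070a4f291f6fac6), (.ren (nat_lit 490) [] [] [nat_lit 535])⟩))
 (.nd (nat_lit 596) (.lf ⟨nat_lit 1, nat_lit 200, nat_lit 225, (nat_lit 0x3eba12c3c3234cd354a978de13ad53d6c7be58abc), (nat_lit 0x9d6b1641b1869ea9364ec518f7aa9f8bb22e2095), (nat_lit 0x654b964d3c079cc973e179c154a931f219950a8b), (.wt (nat_lit 5) (nat_lit 3) (nat_lit 0x3accadc3f0e5377ba1d1d97091861faf64e954752) (.st (nat_lit 583) [nat_lit 29, nat_lit 14] [] (.st (nat_lit 187) (unp (nat_lit 5) (nat_lit 0x57c303)) [] (.st (nat_lit 90) [nat_lit 4] [] (.st (nat_lit 87) [nat_lit 19] [nat_lit 49] (.st (nat_lit 593) [nat_lit 30, nat_lit 14] [] (.st (nat_lit 588) [nat_lit 3, nat_lit 16] [] (.st (nat_lit 594) [nat_lit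 29, nat_lit 11] [] (.st (nat_lit 230) [nat_lit 4, nat_lit 14] [nat_lit 450] (.st (nat_lit 200) (unp (nat_lit 5) (nat_lit 0x23e403)) [] .nil))))))))) [nat_lit 17] [])⟩)
 (.nd (nat_lit 597) (.lf ⟨nat_lit 1, nat_lit 225, nat_lit 200, (nat_lit 0x9a472e71a6030c6693ace0c7e5978349d74b3855), (nat_lit 0x30d720dcd004d1590b71406ae7b2cb61754c16f37), (nat_lit 0x1f9603c9e0ad2ce840a61cc5274502278501c4f70), (.wt (nat_lit 0) (nat_lit 0) (nat_lit 0x3eba12c3c3234cd354a978de13ad53d6c7be58abc) (.st (nat_lit 595) [] [] .nil) (unp (nat_lit 5) (nat_lit 0x27c403)) [])⟩)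
 (.lf ⟨nat_lit 1, nat_lit 89, nat_lit 74, (nat_lit 0x2ba2cea7bd829f6f53bc17c3f6c7dba59a18cc2c5), (nat_lit 0xaf618fbc07e7ee6d7370c4db76ea4ef384d0ba00), (nat_lit 0x19bfe2ed4f2aa3539296f4cc2b061d9f1a97a92d4), (.ren (nat_lit 212) [] [] [nat_lit 447, nat_lit 512])⟩))))))
 (.nd (nat_lit 606) (.nd (nat_lit 602) (.nd (nat_lit 600) (.nd (nat_lit 599) (.lf ⟨nat_lit 1, nat_lit 176, nat_lit 258, (nat_lit 0xf6d11ea1f2003230c9ae98d7ebf7a100d6421009), (nat_lit 0x16571c021329b7792bb0e52289a1a6e6b991d46ce), (nat_lit 0x1d266b1f173efc52e713ba5a1bfb666274be9fd55), (.wt (nat_lit 5) (nat_lit 7) (nat_lit 0x3ddf3b2fe9ff145ae8e902f678420fb736a88af5c) (.st (nat_lit 259) (unp (nat_lit 5) (nat_lit 0x5ba303)) [] (.st (nat_lit 260) (unp (nat_lit 5) (nat_lit 0x3fa303)) [] (.st (nat_lit 580) (unp (nat_lit 5) (nat_lit 0x2fa403)) [] (.st (nat_lit 230) (unp (nat_lit 5) (nat_lit 0x37e403))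 [nat_lit 450] (.st (nat_lit 90) [nat_lit 16] [] (.st (nat_lit 89) [nat_lit 3, nat_lit 29] [nat_lit 49] (.st (nat_lit 597) [nat_lit 29, nat_lit 13] [] (.st (nat_lit 105) [nat_lit 8] [nat_lit 75] (.st (nat_lit 576) (unp (nat_lit 5) (nat_lit 0x1bc403)) [] .nil))))))))) [nat_lit 29] [])⟩)
 (.lf ⟨nat_lit 1, nat_lit 258, nat_lit 176, (nat_lit 0x2ba2cea7bd829f6f53bc17c3f6c7dba59a18cc2c5), (nat_lit 0xb7eddfffba20a2fa26a55ac3b41fc2cf0cd2e01d), (nat_lit 0x1987dbbe371644d3be4aa3ea9ce4e38866f0ffd6f), (.wt (nat_lit 0) (nat_lit 0) (nat_lit 0xf6d11ea1f2003230c9ae98d7ebf7a100d6421009) (.st (nat_lit 598) [] [] .nil) [nat_lit 4, nat_lit 11] [])⟩))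
 (.nd (nat_lit 601) (.lf ⟨nat_lit 1, nat_lit 238, nat_lit 101, one, (nat_lit 0x40342fd203ddecba214e1bc96d782c8ddc6e5e86), (nat_lit 0x13715956c4437aec0ff7f7ce54ae81ca5869e6c06), (.ren (nat_lit 240) [] [] [nat_lit 454])⟩)
 (.lf ⟨nat_lit 1, nat_lit 225, nat_lit 238, (nat_lit 0x29d069dd4289881cb0b1977aaf1daee2c113e4bec), (nat_lit 0x2af775942db2b3184bc98854cb1e96cffbe698891), (nat_lit 0x335391a4b1714acde704aa72b913bdcc7d6c392c0), (.wt (nat_lit 5) (nat_lit 6) (nat_lit 0x2f482a14c2f0e19802bcafaa4b5590571a669ace1) (.st (nat_lit 600) (unp (nat_lit 5) (nat_lit 0x53c303)) [] (.st (nat_lit 582) (unp (nat_lit 5) (nat_lit 0x2fc303)) [] (.st (nat_lit 152) [nat_lit 31, nat_lit 15] [] (.st (nat_lit 257) (unp (nat_lit 5) (nat_lit 0x23e303)) [] (.st (nat_lit 594) [nat_lit 29, nat_lit 12] [] (.st (nat_lit 230) [nat_lit 4, nat_lit 12] [nat_lit 450] (.st (nat_lit 225) [nat_lit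 30, nat_lit 14] [] (.st (nat_lit 596) [nat_lit 4, nat_lit 21] [] (.st (nat_lit 228) (unp (nat_lit 5) (nat_lit 0x4bc303)) [] .nil))))))))) [nat_lit 29, nat_lit 16] [])⟩)))
 (.nd (nat_lit 604) (.nd (nat_lit 603) (.lf ⟨nat_lit 1, nat_lit 238, nat_lit 225, (nat_lit 0x3b6020b1ee99f350ad1583cd87ceba46c32e15ab7), (nat_lit 0x3eab6f861a6f99d876d327989b0ec5282a1e50b8), (nat_lit 0x24ac3b3d401e4269503dcccb3a0d3820975f87329), (.wt (nat_lit 0) (nat_lit 0) (nat_lit 0x29d069dd4289881cb0b1977aaf1daee2c113e4bec) (.st (nat_lit 601) [] [] .nil) (unp (nat_lit 5) (nat_lit 0x5be303)) [])⟩)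
 (.lf ⟨nat_lit 1, nat_lit 109, nat_lit 260, (nat_lit 0x29d069dd4289881cb0b1977aaf1daee2c113e4bec), (nat_lit 0x105cf6d5817356ad1b0dbba15dbd8f2690a0a228e), (nat_lit 0x3656d610c86ed6a56703c826fcb7a0fafff4d5a17), (.ren (nat_lit 354) [] [] [nat_lit 528])⟩))
 (.nd (nat_lit 605) (.lf ⟨nat_lit 1, nat_lit 260, nat_lit 254, (nat_lit 0x2ba2cea7bd829f6f53bc17c3f6c7dba59a18cc2c5), (nat_lit 0x2c7de49e9596a6dc8106bfadcdc5de4c78f8ffa26), (nat_lit 0x2f2df0a9eed8ff5c27de6b80a9962aad2369e55e1), (.wt (nat_lit 6) (nat_lit 5) (nat_lit 0x318363ce795f2c002db166b668afc2e065fd37aa0) (.st (nat_lit 256) [nat_lit 30, nat_lit 19] [] (.st (nat_lit 257) (unp (nat_lit 5) (nat_lit 0x57e303)) [nat_lit 147] (.st (nat_lit 594) (unp (nat_lit 5) (nat_lit 0x57a403)) [] (.st (nat_lit 230) (unp (nat_lit 5) (nat_lit 0x33c403)) [] (.st (nat_lit 91) [nat_lit 3, nat_lit 31] [] (.st (nat_lit 593) [nat_lit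 3, nat_lit 19] [] (.st (nat_lit 603) [nat_lit 31, nat_lit 6] [] .nil))))))) [nat_lit 29, nat_lit 16] [])⟩)
 (.lf ⟨nat_lit 1, nat_lit 254, nat_lit 260, (nat_lit 0x3b6020b1ee99f350ad1583cd87ceba46c32e15ab7), (nat_lit 0x367857302dbf38e080b766423565d7413f8ff5a22), (nat_lit 0x28b461851ea49bb8ebb784cb0a559da009fc73873), (.wt (nat_lit 0) (nat_lit 0) (nat_lit 0x2ba2cea7bd829f6f53bc17c3f6c7dba59a18cc2c5) (.st (nat_lit 604) [] [] .nil) [nat_lit 31, nat_lit 19] [])⟩))))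
 (.nd (nat_lit 610) (.nd (nat_lit 608) (.nd (nat_lit 607) (.lf ⟨nat_lit 1, nat_lit 135, nat_lit 266, (nat_lit 0x125910161e8d6fe6d72746c6acb95732f82b12d8b), (nat_lit 0x19b95abd21589383ec8dea3a20723ccac598b4173), (nat_lit 0xb6640dad88c279bec6138a9ebbc678bb3ef898d7), (.wt (nat_lit 6) (nat_lit 5) (nat_lit 0x38961e28011c1a6798dea2110436c970fca45585) (.st (nat_lit 267) (unp (nat_lit 5) (nat_lit 0x47a303)) [] (.st (nat_lit 260) (unp (nat_lit 5) (nat_lit 0x43a303)) [] (.st (nat_lit 580) (unp (nat_lit 5) (nat_lit 0x37a403)) [] (.st (nat_lit 230) (unp (nat_lit 5) (nat_lit 0x37e403)) [nat_lit 450] (.st (nat_lit 90) [nat_lit 16] [] (.st (nat_lit 87) [nat_lit 29, nat_lit 20] [nat_lit 49] (.st (nat_lit 585) (unp (nat_lit 5) (nat_lit 0x3bc303)) [] .nil))))))) (unp (nat_lit 5) (nat_lit 0x2fc303)) [])⟩)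
 (.lf ⟨nat_lit 1, nat_lit 266, nat_lit 135, (nat_lit 0x3b6020b1ee99f350ad1583cd87ceba46c32e15ab7), (nat_lit 0x2920ac1df0f75914ba582afdab38f5efe710cf380), (nat_lit 0x740c002fe864a17713590fcce1cd7a0f34e77dd3), (.wt (nat_lit 0) (nat_lit 0) (nat_lit 0x125910161e8d6fe6d72746c6acb95732f82b12d8b) (.st (nat_lit 606) [] [] .nil) [nat_lit 29, nat_lit 18] [])⟩))
 (.nd (nat_lit 609) (.lf ⟨nat_lit 1, nat_lit 208, nat_lit 319, (nat_lit 0x3eba12c3c3234cd354a978de13ad53d6c7be58abc), (nat_lit 0x1c7d2e83d914b0256b20e217a41bd6c324a309350), (nat_lit 0x56e5c564848e2d216db967cd968bec247ade2cc5), (.wt (nat_lit 6) (nat_lit 5) (nat_lit 0x4e6384a9a0e163e7b17919152c89181b5311f964) (.st (nat_lit 320) (unp (nat_lit 5) (nat_lit 0x37a303)) [] (.st (nat_lit 474) (unp (nat_lit 5) (nat_lit 0x3fa403)) [] (.st (nat_lit 281) (unp (nat_lit 5) (nat_lit 0x37e303)) [] (.st (nat_lit 232) (unp (nat_lit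 5) (nat_lit 0x43c403)) [] (.st (nat_lit 230) (unp (nat_lit 5) (nat_lit 0x37a303)) [nat_lit 450] (.st (nat_lit 186) (unp (nat_lit 5) (nat_lit 0x43a403)) [] (.st (nat_lit 571) (unp (nat_lit 5) (nat_lit 0x37c403)) [] .nil))))))) [nat_lit 29, nat_lit 17] [])⟩)
 (.lf ⟨nat_lit 1, nat_lit 319, nat_lit 208, (nat_lit 0x3b6020b1ee99f350ad1583cd87ceba46c32e15ab7), (nat_lit 0x3f8a49404767e2f6a921159935cfe2440225c5068), (nat_lit 0x152395d5f42969b00c83ab7cf6d8ef64c7dc61c3d), (.wt (nat_lit 0) (nat_lit 0) (nat_lit 0x3eba12c3c3234cd354a978de13ad53d6c7be58abc) (.st (nat_lit 608) [] [] .nil) (unp (nat_lit 5) (nat_lit 0x27e303)) [])⟩)))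
 (.nd (nat_lit 612) (.nd (nat_lit 611) (.lf ⟨nat_lit 1, nat_lit 109, nat_lit 138, (nat_lit 0x1fce42ed966b34fae64312a96f69e1eea7db1de4), (nat_lit 0x3625e83b5991f26315be83b602f93508ce83eeeee), (nat_lit 0x18a4cdc9c1f63a40250825ddee10e3b5e996a5462), (.ren (nat_lit 361) [] [] [nat_lit 504])⟩)
 (.lf ⟨nat_lit 1, nat_lit 202, nat_lit 352, (nat_lit 0x3eba12c3c3234cd354a978de13ad53d6c7be58abc), (nat_lit 0x2eedf0e9cbd60adceeb154a336a8c77720b2827a7), (nat_lit 0x1d89ec15889e4d5d07556b6ef54320c188e78411c), (.wt (nat_lit 6) (nat_lit 4) (nat_lit 0x15cfc2f444b06ce862fe783b0130696af9c71c587) (.st (nat_lit 353) [nat_lit 4, nat_lit 17] [] (.st (nat_lit 610) [nat_lit 31, nat_lit 22] [] (.st (nat_lit 140) [nat_lit 6] [] (.st (nat_lit 254) [] [] (.st (nat_lit 594) (unp (nat_lit 5) (nat_lit 0x1bc403)) [] (.st (nat_lit 230) (unp (nat_lit 5) (nat_lit 0x27a303)) [] (.st (nat_lit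 202) (unp (nat_lit 5) (nat_lit 0x43a403)) [] .nil))))))) (unp (nat_lit 5) (nat_lit 0x37c403)) [])⟩))
 (.nd (nat_lit 613) (.lf ⟨nat_lit 1, nat_lit 352, nat_lit 202, (nat_lit 0x3eba12c3c3234cd354a978de13ad53d6c7be58abc), (nat_lit 0x81b3b9de83053d9cd4f452f74fe89cfd2c3a843e), (nat_lit 0x11c05de2aa918498e845d15bc06e903b7c5a8a436), (.wt (nat_lit 0) (nat_lit 0) (nat_lit 0x3eba12c3c3234cd354a978de13ad53d6c7be58abc) (.st (nat_lit 611) [] [] .nil) [nat_lit 4, nat_lit 14] [])⟩)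
 (.nd (nat_lit 614) (.lf ⟨nat_lit 0, nat_lit 352, nat_lit 352, (nat_lit 0x12dfba795933520e4eed49a79f374328cc1a599e6), one, (nat_lit 0x1f9a4a010b4159a6912095192d92721700a145c79), (.cmp (nat_lit 611) (nat_lit 611) (unp (nat_lit 5) (nat_lit 0x27a303)) [nat_lit 532])⟩)
 (.lf ⟨nat_lit 1, nat_lit 258, nat_lit 258, (nat_lit 0x1fce42ed966b34fae64312a96f69e1eea7db1de4), (nat_lit 0x6ac67a0e46e21256b24b6aa9e8d6680f27f1db3e), (nat_lit 0x25e8ec0ac08a18892b3cb88e80f0c528d7284a484), (.wt (nat_lit 6) (nat_lit 6) (nat_lit 0x3297108fa1c2c366063a7d672d521706ed744252a) (.st (nat_lit 259) (unp (nat_lit 5) (nat_lit 0x53a303)) [] (.st (nat_lit 260) (unp (nat_lit 5) (nat_lit 0x47a303)) [] (.st (nat_lit 580) (unp (nat_lit 5) (nat_lit 0x2fa403)) [] (.st (nat_lit 230) (unp (nat_lit 5) (nat_lit 0x37e403)) [nat_lit 450] (.st (nat_lit 91) [nat_lit 31, nat_lit 13] [] (.st (nat_lit 176)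 (unp (nat_lit 5) (nat_lit 0x4bc403)) [] (.st (nat_lit 598) [nat_lit 15] [nat_lit 539] .nil))))))) (unp (nat_lit 5) (nat_lit 0x27c303)) [])⟩)))))))

noncomputable def T3_615 : Tr :=
  (.nd (nat_lit 632) (.nd (nat_lit 623) (.nd (nat_lit 619) (.nd (nat_lit 617) (.nd (nat_lit 616) (.lf ⟨nat_lit 1, nat_lit 87, nat_lit 87, (nat_lit 0xf6d11ea1f2003230c9ae98d7ebf7a100d6421009), (nat_lit 0x1a11ed02813dba2f3b07d5e2eaa5caf6fd4a89a02), (nat_lit 0x1f6d88aae67012adff3c21fb2b7910b1905ef712e), (.ren (nat_lit 154) [] [] [nat_lit 538])⟩)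
 (.lf ⟨nat_lit 1, nat_lit 138, nat_lit 260, (nat_lit 0x1fce42ed966b34fae64312a96f69e1eea7db1de4), (nat_lit 0x30a62e6947b269831516d1c7b5023ff4dd466cc06), (nat_lit 0x330d6b9dea732063c2889337b503723b34c85c3de), (.wt (nat_lit 6) (nat_lit 6) (nat_lit 0x13f169540c4032672860241d068e4227d01ba29a9) (.st (nat_lit 261) (unp (nat_lit 5) (nat_lit 0x47c403)) [] (.st (nat_lit 254) [nat_lit 18] [] (.st (nat_lit 594) [nat_lit 30, nat_lit 16] [] (.st (nat_lit 230) (unp (nat_lit 5) (nat_lit 0x3be403)) [nat_lit 450] (.st (nat_lit 91) [nat_lit 31, nat_lit 11] [] (.st (nat_lit 615) (unp (nat_lit 5) (nat_lit 0x23a303)) [] (.st (nat_lit 138) [nat_lit 31, nat_lit 12] [] .nil))))))) (unp (nat_lit 5) (nat_lit 0x57c303)) [])⟩))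
 (.nd (nat_lit 618) (.lf ⟨nat_lit 1, nat_lit 260, nat_lit 138, (nat_lit 0x1fce42ed966b34fae64312a96f69e1eea7db1de4), (nat_lit 0x3099b20ded363cde83680f3496f283c81301203ba), (nat_lit 0x3893f968b17732678679859a378c713954475cef1), (.wt (nat_lit 0) (nat_lit 0) (nat_lit 0x1fce42ed966b34fae64312a96f69e1eea7db1de4) (.st (nat_lit 616) [] [] .nil) [nat_lit 3, nat_lit 8] [])⟩)
 (.lf ⟨nat_lit 1, nat_lit 109, nat_lit 87, (nat_lit 0x9a472e71a6030c6693ace0c7e5978349d74b3855), (nat_lit 0x247af0fccd3ed53bc178a40639c9415565ed2e3be), (nat_lit 0x18a4cdc9c1f63a40250825ddee10e3b5e996a5462), (.ren (nat_lit 369) [] [] [nat_lit 499])⟩)))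
 (.nd (nat_lit 621) (.nd (nat_lit 620) (.lf ⟨nat_lit 1, nat_lit 162, nat_lit 138, (nat_lit 0x2ba2cea7bd829f6f53bc17c3f6c7dba59a18cc2c5), (nat_lit 0x3f8471c201d0d282ecd494928274e28b6aefe99c), (nat_lit 0x23beee2a2e618dc4c9c659909a8e82855213f6f6b), (.wt (nat_lit 6) (nat_lit 0) (nat_lit 0x1d6256b07dadbb8f96e426e59fb34e118ae9de7ff) (.st (nat_lit 616) (unp (nat_lit 5) (nat_lit 0x33a403)) [] (.st (nat_lit 580) (unp (nat_lit 5) (nat_lit 0x53a403)) [] (.st (nat_lit 230) [nat_lit 29, nat_lit 8] [nat_lit 450] (.st (nat_lit 597) [nat_lit 29] [] (.st (nat_lit 109) [nat_lit 29, nat_lit 17] [nat_lit 75] (.st (nat_lit 618) (unp (nat_lit 5) (nat_lit 0x4be403)) [] (.st (nat_lit 162) (unp (nat_lit 5) (nat_lit 0x53a303)) [] .nil))))))) (unp (nat_lit 5) (nat_lit 0x47a303)) [])⟩)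
 (.lf ⟨nat_lit 1, nat_lit 138, nat_lit 162, (nat_lit 0xf6d11ea1f2003230c9ae98d7ebf7a100d6421009), (nat_lit 0xc83f493754ebfa08318222c805973f16de2365ca), (nat_lit 0x3ca9451dfd098729deab349903cf06e50cecb5b52), (.wt (nat_lit 0) (nat_lit 0) (nat_lit 0x2ba2cea7bd829f6f53bc17c3f6c7dba59a18cc2c5) (.st (nat_lit 619) [] [] .nil) [nat_lit 6] [])⟩))
 (.nd (nat_lit 622) (.lf ⟨nat_lit 1, nat_lit 273, nat_lit 254, (nat_lit 0x9a472e71a6030c6693ace0c7e5978349d74b3855), (nat_lit 0x117ce28e5d84e3ea57891950cb78ba661d27c3118), (nat_lit 0x33e15b97a14ae4a495862cdbdc41aaa376a89659c), (.wt (nat_lit 6) (nat_lit 2) (nat_lit 0x12b65a74c109b90d71245ec51beb86f15e2de184a) (.st (nat_lit 594) [nat_lit 30, nat_lit 15] [] (.st (nat_lit 230) (unp (nat_lit 5) (nat_lit 0x33e403)) [nat_lit 450] (.st (nat_lit 90) [nat_lit 18] [] (.st (nat_lit 87) [nat_lit 29, nat_lit 20] [nat_lit 49] (.st (nat_lit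 162) (unp (nat_lit 5) (nat_lit 0x3bc303)) [] (.st (nat_lit 619) [nat_lit 3] [] (.st (nat_lit 276) (unp (nat_lit 5) (nat_lit 0x1ba403)) [] .nil))))))) (unp (nat_lit 5) (nat_lit 0x37c303)) [])⟩)
 (.lf ⟨nat_lit 0, nat_lit 273, nat_lit 262, (nat_lit 0x2bd57b63b6e1e54e728f1917e9c240084ef712c03), one, (nat_lit 0x33e15b97a14ae4a495862cdbdc41aaa376a89659c), (.we (nat_lit 0) (nat_lit 0) (nat_lit 0x9a472e71a6030c6693ace0c7e5978349d74b3855) (.st (nat_lit 621) [] [] (.st (nat_lit 265) (unp (nat_lit 5) (nat_lit 0x47e303)) [] .nil)))⟩))))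
 (.nd (nat_lit 627) (.nd (nat_lit 625) (.nd (nat_lit 624) (.lf ⟨nat_lit 1, nat_lit 262, nat_lit 95, (nat_lit 0xf6d11ea1f2003230c9ae98d7ebf7a100d6421009), (nat_lit 0x80e38292021966d874246d578f937da9c327e1fa), (nat_lit 0x35121a3e415c5e6d8773ab4956ee8c37c4ebefc6a), (.ren (nat_lit 274) (unp (nat_lit 5) (nat_lit 0x37a303)) [nat_lit 622] [])⟩)
 (.lf ⟨nat_lit 1, nat_lit 262, nat_lit 138, (nat_lit 0x3eba12c3c3234cd354a978de13ad53d6c7be58abc), (nat_lit 0x7b70b72c684395c27dff1eb8700dc983860d1539), (nat_lit 0x74fe6b5db56fe18d587e771ef5faa1dee933f78e), (.ren (nat_lit 275) (unp (nat_lit 5) (nat_lit 0x37a303)) [nat_lit 622] [])⟩))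
 (.nd (nat_lit 626) (.lf ⟨nat_lit 1, nat_lit 262, nat_lit 200, (nat_lit 0x1fce42ed966b34fae64312a96f69e1eea7db1de4), (nat_lit 0x2120c95ea49a84c0b20d9b6a52b2d722503db34c), (nat_lit 0x1bb3bfddddbe9592abbe25256fa1aa50392a572af), (.ren (nat_lit 277) [nat_lit 29, nat_lit 18] [nat_lit 622] [])⟩)
 (.lf ⟨nat_lit 1, nat_lit 95, nat_lit 262, (nat_lit 0x9a472e71a6030c6693ace0c7e5978349d74b3855), (nat_lit 0x388b615b67b0326e052f661dd47356698088015db), (nat_lit 0x33e15b97a14ae4a495862cdbdc41aaa376a89659c), (.ren (nat_lit 273) [] [] [nat_lit 622])⟩)))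
 (.nd (nat_lit 629) (.nd (nat_lit 628) (.lf ⟨nat_lit 1, nat_lit 138, nat_lit 262, (nat_lit 0x29d069dd4289881cb0b1977aaf1daee2c113e4bec), (nat_lit 0xb1fc20ecb52ca25fda1cb6b80f4272e1a30dc8ef), (nat_lit 0x8eee63e390f7dbcaa77e43ad8713d61e88a0fe63), (.ren (nat_lit 276) [] [] [nat_lit 622])⟩)
 (.lf ⟨nat_lit 1, nat_lit 200, nat_lit 262, (nat_lit 0x9a472e71a6030c6693ace0c7e5978349d74b3855), (nat_lit 0x26c572083b3f112f173bb516110018202dd86854c), (nat_lit 0x16138eeedbad4a5dc43ae03e4b8ad98d615cffa3e), (.ren (nat_lit 278) [] [] [nat_lit 622])⟩))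
 (.nd (nat_lit 630) (.lf ⟨nat_lit 1, nat_lit 200, nat_lit 319, (nat_lit 0x29d069dd4289881cb0b1977aaf1daee2c113e4bec), (nat_lit 0x135d35f73d915d80fd0c325129798879b428eeadb), (nat_lit 0x1a1f6120ac838f6b236cae6f4320ab1464d6b6e23), (.wt (nat_lit 6) (nat_lit 1) (nat_lit 0x37333aa3f3b4d3d35ca11cccf99c55d7e01e90523) (.st (nat_lit 609) [nat_lit 30] [] (.st (nat_lit 232) (unp (nat_lit 5) (nat_lit 0x33e403)) [] (.st (nat_lit 230) [] [nat_lit 450] (.st (nat_lit 225) (unp (nat_lit 5) (nat_lit 0x33e303)) [] (.st (nat_lit 601) (unp (nat_lit 5) (nat_lit 0x2fa303)) [] (.st (nat_lit 602) [nat_lit 31, nat_lit 16] [nat_lit 239] (.st (nat_lit 596) (unp (nat_lit 5) (nat_lit 0x3bc403)) [] .nil))))))) [nat_lit 31, nat_lit 20] [])⟩)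
 (.nd (nat_lit 631) (.lf ⟨nat_lit 1, nat_lit 319, nat_lit 200, (nat_lit 0x29d069dd4289881cb0b1977aaf1daee2c113e4bec), (nat_lit 0x1082434c50d3063b1800a361907a24003d3853e5e), (nat_lit 0x335f9594efc644cc224a23053816bc110fc8aeb6), (.wt (nat_lit 0) (nat_lit 0) (nat_lit 0x29d069dd4289881cb0b1977aaf1daee2c113e4bec) (.st (nat_lit 629) [] [] .nil) (unp (nat_lit 5) (nat_lit 0x27c403)) [])⟩)
 (.lf ⟨nat_lit 1, nat_lit 258, nat_lit 95, (nat_lit 0x125910161e8d6fe6d72746c6acb95732f82b12d8b), (nat_lit 0x2738aeef26610956c531f7a73d0dbe885b95e5a21), (nat_lit 0x25c916cb07f25630de9d6b6bd0df41cbed1595b0), (.wt (nat_lit 6) (nat_lit 1) (nat_lit 0x2dcd54525235dedaf690d4b5f2eebfa72abb4828d) (.st (nat_lit 626) [nat_lit 31, nat_lit 21] [] (.st (nat_lit 264) (unp (nat_lit 5) (nat_lit 0x2fc303)) [] (.st (nat_lit 594) [nat_lit 30, nat_lit 17] [] (.st (nat_lit 230) (unp (nat_lit 5) (nat_lit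 0x33e403)) [nat_lit 450] (.st (nat_lit 91) [nat_lit 31, nat_lit 11] [] (.st (nat_lit 176) (unp (nat_lit 5) (nat_lit 0x4bc403)) [] (.st (nat_lit 598) (unp (nat_lit 5) (nat_lit 0x57c403)) [] .nil))))))) [nat_lit 22] [])⟩))))))
 (.nd (nat_lit 640) (.nd (nat_lit 636) (.nd (nat_lit 634) (.nd (nat_lit 633) (.lf ⟨nat_lit 0, nat_lit 258, nat_lit 258, (nat_lit 0xfbce02e564270a742205c392827542a1a48b9150), one, (nat_lit 0x25c916cb07f25630de9d6b6bd0df41cbed1595b0), (.we (nat_lit 0) (nat_lit 0) (nat_lit 0x125910161e8d6fe6d72746c6acb95732f82b12d8b) (.st (nat_lit 631) [] [] (.st (nat_lit 258) (unp (nat_lit 5) (nat_lit 0x57c303)) [] .nil)))⟩)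
 (.lf ⟨nat_lit 1, nat_lit 260, nat_lit 109, (nat_lit 0x100e0aba0d17c70444d02bf329fd10d7608f1b426), (nat_lit 0x11f28d33158d14b1e0924e506037dbc33469c4d7), (nat_lit 0x24c0cc7fe55de8a1b3ebdb91dc5cb732fd4b49740), (.ren (nat_lit 476) [] [] [nat_lit 511])⟩))
 (.nd (nat_lit 635) (.lf ⟨nat_lit 1, nat_lit 105, nat_lit 135, (nat_lit 0x1fce42ed966b34fae64312a96f69e1eea7db1de4), (nat_lit 0x1633014df6857566911d1f44327a6f6238798c52a), (nat_lit 0x2820e4d03131624d7a24285e2ccbd9e874800fb4), (.ren (nat_lit 330) [] [] [nat_lit 509, nat_lit 543])⟩)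
 (.lf ⟨nat_lit 1, nat_lit 266, nat_lit 258, (nat_lit 0x3eba12c3c3234cd354a978de13ad53d6c7be58abc), (nat_lit 0x2927b47a300788b13f54be236de70ec86187ae885), (nat_lit 0x29ec583854c2e294cc351724a1631ce2e708b334a), (.wt (nat_lit 5) (nat_lit 7) (nat_lit 0x3a85d9d7bd5bc0f36dbd7e8d1f77da1f49f6509f6) (.st (nat_lit 599) (unp (nat_lit 5) (nat_lit 0x43c403)) [] (.st (nat_lit 177) [nat_lit 30, nat_lit 6] [] (.st (nat_lit 92) (unp (nat_lit 5) (nat_lit 0x43e403)) [] (.st (nat_lit 229) (unp (nat_lit 5) (nat_lit 0x2fe403)) [] (.st (nat_lit 550) [nat_lit 30, nat_lit 13] [nat_lit 450] (.st (nat_lit 633) (unp (nat_lit 5) (nat_lit 0x5ba303)) [] (.st (nat_lit 111) (unp (nat_lit 5) (nat_lit 0x27c403)) [] (.st (nat_lit 634) (unp (nat_lit 5) (nat_lit 0x47c303)) [] (.st (nat_lit 606) [nat_lit 31, nat_lit 20] [] .nil))))))))) [nat_lit 4, nat_lit 11] [])⟩)))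
 (.nd (nat_lit 638) (.nd (nat_lit 637) (.lf ⟨nat_lit 0, nat_lit 266, nat_lit 266, (nat_lit 0x1a36fac72f0e1f064ff05ec53564d5192eefa84ae), one, (nat_lit 0x1a61280e6271482f172cedb3225072149888b2d86), (.we (nat_lit 0) (nat_lit 0) (nat_lit 0x3eba12c3c3234cd354a978de13ad53d6c7be58abc) (.st (nat_lit 635) [] [] (.st (nat_lit 269) [nat_lit 21] [nat_lit 632] .nil)))⟩)
 (.lf ⟨nat_lit 1, nat_lit 229, nat_lit 254, (nat_lit 0x9a472e71a6030c6693ace0c7e5978349d74b3855), (nat_lit 0x225facb2480c4293cef0280d221b148c5da73f0ec), (nat_lit 0x10b25ce497b6bcd094d66b19cb3d5a9a7169efb83), (.ren (nat_lit 368) [] [] [nat_lit 566])⟩))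
 (.nd (nat_lit 639) (.lf ⟨nat_lit 1, nat_lit 87, nat_lit 149, (nat_lit 0x2ba2cea7bd829f6f53bc17c3f6c7dba59a18cc2c5), (nat_lit 0x34f111789602085680486ded7441f4b9320901235), (nat_lit 0x1c0602a64f11cf8dc207e9a0d9f936cc7e365ccd8), (.ren (nat_lit 166) [] [] [nat_lit 515])⟩)
 (.lf ⟨nat_lit 1, nat_lit 149, nat_lit 208, (nat_lit 0x29d069dd4289881cb0b1977aaf1daee2c113e4bec), (nat_lit 0x1d266b1f173efc52e713ba5a1bfb666274be9fd55), (nat_lit 0x2e97ab2019dce371730a3cafdcd9441fc331961ab), (.ren (nat_lit 487) [] [] [nat_lit 536])⟩))))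
 (.nd (nat_lit 644) (.nd (nat_lit 642) (.nd (nat_lit 641) (.lf ⟨nat_lit 1, nat_lit 319, nat_lit 186, (nat_lit 0x3eba12c3c3234cd354a978de13ad53d6c7be58abc), (nat_lit 0x2da964b71f19d5f415c82a48b1aa4be753558fa02), (nat_lit 0x28b461851ea49bb8ebb784cb0a559da009fc73873), (.wt (nat_lit 5) (nat_lit 9) (nat_lit 0x19ab81ed15df905f1eb711b3bad06435ec5c9b7b5) (.st (nat_lit 187) [nat_lit 19] [] (.st (nat_lit 229) [nat_lit 30, nat_lit 13] [] (.st (nat_lit 637) [nat_lit 22] [] (.st (nat_lit 255) [nat_lit 6] [] (.st (nat_lit 141) (unp (nat_lit 5) (nat_lit 0x33e303)) [] (.st (nat_lit 139) (unp (nat_lit 5) (nat_lit 0x1bc403)) [] (.st (nat_lit 638) [nat_lit 31, nat_lit 16] [] (.st (nat_lit 639) [nat_lit 4, nat_lit 31] [] (.st (nat_lit 608) [nat_lit 4, nat_lit 21] [] .nil))))))))) (unp (nat_lit 5) (nat_lit 0x37c303)) [])⟩)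
 (.lf ⟨nat_lit 1, nat_lit 186, nat_lit 319, (nat_lit 0x1fce42ed966b34fae64312a96f69e1eea7db1de4), (nat_lit 0x3d3c265a514e3a93394c79fe046cb81ebac0c209e), (nat_lit 0x2f2df0a9eed8ff5c27de6b80a9962aad2369e55e1), (.wt (nat_lit 0) (nat_lit 0) (nat_lit 0x3eba12c3c3234cd354a978de13ad53d6c7be58abc) (.st (nat_lit 640) [] [] .nil) (unp (nat_lit 5) (nat_lit 0x4ba303)) [])⟩))
 (.nd (nat_lit 643) (.lf ⟨nat_lit 1, nat_lit 138, nat_lit 319, (nat_lit 0x3eba12c3c3234cd354a978de13ad53d6c7be58abc), (nat_lit 0x3842bd2e97e6336b69a090611a947248c3d4435a9), (nat_lit 0x310bc676b4b05cf728a822509a37906489384e9e), (.wt (nat_lit 5) (nat_lit 5) (nat_lit 0x502c2413d84024c63c941eb41ee2ad885132c077) (.st (nat_lit 320) [nat_lit 21] [] (.st (nat_lit 112) (unp (nat_lit 5) (nat_lit 0x27e403)) [] (.st (nat_lit 618) (unp (nat_lit 5) (nat_lit 0x37c303)) [] (.st (nat_lit 615) [nat_lit 4, nat_lit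 15] [] (.st (nat_lit 92) (unp (nat_lit 5) (nat_lit 0x3fe403)) [] (.st (nat_lit 229) (unp (nat_lit 5) (nat_lit 0x37e403)) [] (.st (nat_lit 637) [nat_lit 3, nat_lit 21] [nat_lit 450] (.st (nat_lit 265) [nat_lit 29, nat_lit 21] [] (.st (nat_lit 624) (unp (nat_lit 5) (nat_lit 0x1ba303)) [] .nil))))))))) [nat_lit 3] [])⟩)
 (.lf ⟨nat_lit 1, nat_lit 319, nat_lit 138, (nat_lit 0x9a472e71a6030c6693ace0c7e5978349d74b3855), (nat_lit 0x212c1738a8f75355713728200ad543f38505b5c25), (nat_lit 0x1c9007713c20ba269566db7d203deab210e58970b), (.wt (nat_lit 0) (nat_lit 0) (nat_lit 0x3eba12c3c3234cd354a978de13ad53d6c7be58abc) (.st (nat_lit 642) [] [] .nil) (unp (nat_lit 5) (nat_lit 0x43e403)) [])⟩)))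
 (.nd (nat_lit 646) (.nd (nat_lit 645) (.lf ⟨nat_lit 1, nat_lit 319, nat_lit 225, (nat_lit 0x2ba2cea7bd829f6f53bc17c3f6c7dba59a18cc2c5), (nat_lit 0x27576d4d0d4e773c81a92a3d93d1db928f3a75ef5), (nat_lit 0x2483c4b71e6499c0abeab0fcce1da65d60a05b196), (.wt (nat_lit 6) (nat_lit 0) (nat_lit 0xeaad67fd11c5b9223e2ddec3fe3fc4bea7a101af) (.st (nat_lit 226) [nat_lit 3, nat_lit 30] [] (.st (nat_lit 229) (unp (nat_lit 5) (nat_lit 0x33a403)) [] (.st (nat_lit 637) [nat_lit 31, nat_lit 22] [nat_lit 450] (.st (nat_lit 256) [nat_lit 3, nat_lit 16] [] (.st (nat_lit 148) [nat_lit 4, nat_lit 18] [] (.st (nat_lit 578) [nat_lit 30, nat_lit 21] [] (.st (nat_lit 641) (unp (nat_lit 5) (nat_lit 0x27c303)) [] .nil))))))) (unp (nat_lit 5) (nat_lit 0x33e303)) [])⟩)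
 (.lf ⟨nat_lit 1, nat_lit 225, nat_lit 319, (nat_lit 0x1fce42ed966b34fae64312a96f69e1eea7db1de4), (nat_lit 0x18daa58ffb2128063364fae1d7159ea9cd18bbdc0), (nat_lit 0x2f1e1579102e93a0181bb9804df7202d621f47cc0), (.wt (nat_lit 0) (nat_lit 0) (nat_lit 0x2ba2cea7bd829f6f53bc17c3f6c7dba59a18cc2c5) (.st (nat_lit 644) [] [] .nil) (unp (nat_lit 5) (nat_lit 0x37a403)) [])⟩))
 (.nd (nat_lit 647) (.lf ⟨nat_lit 1, nat_lit 260, nat_lit 238, (nat_lit 0xf6d11ea1f2003230c9ae98d7ebf7a100d6421009), (nat_lit 0x1a2aae5714d71892b3589c545af609be53f167d4e), (nat_lit 0xacf5a30bc347a7fe9effbf1d71484255d92c5574), (.wt (nat_lit 6) (nat_lit 4) (nat_lit 0x1765167dd39bdd8d483e0d9695a1a7be0ca147b5c) (.st (nat_lit 600) (unp (nat_lit 5) (nat_lit 0x23e303)) [] (.st (nat_lit 211) [nat_lit 4, nat_lit 19] [] (.st (nat_lit 608) [nat_lit 4, nat_lit 19] [] (.st (nat_lit 640) (unp (nat_lit 5) (nat_lit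 0x2fc303)) [] (.st (nat_lit 187) [nat_lit 19] [] (.st (nat_lit 229) [nat_lit 30, nat_lit 13] [] (.st (nat_lit 550) [nat_lit 22] [] .nil))))))) [nat_lit 29, nat_lit 15] [])⟩)
 (.nd (nat_lit 648) (.lf ⟨nat_lit 1, nat_lit 238, nat_lit 260, (nat_lit 0x1fce42ed966b34fae64312a96f69e1eea7db1de4), (nat_lit 0x3820f45df5fb7391c7eb469faad7951b46c218b52), (nat_lit 0x120a91146b68ff1df3af42b3daa7600dffc34658c), (.wt (nat_lit 0) (nat_lit 0) (nat_lit 0xf6d11ea1f2003230c9ae98d7ebf7a100d6421009) (.st (nat_lit 646) [] [] .nil) [nat_lit 4] [])⟩)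
 (.lf ⟨nat_lit 1, nat_lit 200, nat_lit 89, (nat_lit 0x125910161e8d6fe6d72746c6acb95732f82b12d8b), (nat_lit 0x29d986799699c0c77ba89ff9bcf9a6789daa29820), (nat_lit 0x1eaa3b02eb39efc912eddee28aaea30318f3e1c61), (.wt (nat_lit 6) (nat_lit 2) (nat_lit 0xf3e7afbf5b9b7b5ce935acc012a511a8df6b99e6) (.st (nat_lit 229) (unp (nat_lit 5) (nat_lit 0x2fa403)) [] (.st (nat_lit 550) [nat_lit 3, nat_lit 15] [nat_lit 450] (.st (nat_lit 646) [nat_lit 4, nat_lit 8] [] (.st (nat_lit 602) (unp (nat_lit 5) (nat_lit 0x57e403)) [nat_lit 239] (.st (nat_lit 584) (unp (nat_lit 5) (nat_lit 0x3fc303)) [] (.st (nat_lit 608) (unp (nat_lit 5) (nat_lit 0x33a403)) [] (.st (nat_lit 630) [nat_lit 15] [] .nil))))))) (unp (nat_lit 5) (nat_lit 0x3fc303)) [])⟩)))))))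

noncomputable def T3_649 : Tr :=
  (.nd (nat_lit 666) (.nd (nat_lit 657) (.nd (nat_lit 653) (.nd (nat_lit 651) (.nd (nat_lit 650) (.lf ⟨nat_lit 0, nat_lit 200, nat_lit 200, (nat_lit 0x162ccae86949ffac467435853565938e04b332dff), one, (nat_lit 0x1eaa3b02eb39efc912eddee28aaea30318f3e1c61), (.we (nat_lit 0) (nat_lit 0) (nat_lit 0x125910161e8d6fe6d72746c6acb95732f82b12d8b) (.st (nat_lit 648) [] [] (.st (nat_lit 200) [nat_lit 29, nat_lit 9] [] .nil)))⟩)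
 (.lf ⟨nat_lit 0, nat_lit 262, nat_lit 262, (nat_lit 0x162ccae86949ffac467435853565938e04b332dff), one, (nat_lit 0x57f628e5d37b98c9d5df1bb848825b5aab37e504), (.cmp (nat_lit 628) (nat_lit 628) (unp (nat_lit 5) (nat_lit 0x4bc403)) [nat_lit 649])⟩))
 (.nd (nat_lit 652) (.lf ⟨nat_lit 1, nat_lit 101, nat_lit 241, (nat_lit 0x2ba2cea7bd829f6f53bc17c3f6c7dba59a18cc2c5), (nat_lit 0x1e2e6a14c1972a7eab3301440cb8f4842393859ca), (nat_lit 0x17b639d6f05878698a666c3dc7102322ccfdaa0fa), (.ren (nat_lit 313) [] [] [nat_lit 469])⟩)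
 (.lf ⟨nat_lit 1, nat_lit 241, nat_lit 238, (nat_lit 0xf6d11ea1f2003230c9ae98d7ebf7a100d6421009), (nat_lit 0x14656b3b8be2a3b6fb0225135dbac810456124915), (nat_lit 0x175e79594c059dc42da19eadbfac377be69c91d43), (.wt (nat_lit 6) (nat_lit 6) (nat_lit 0x2d76c5b354db3d6e634b477e44fe844cdff10eda2) (.st (nat_lit 647) [nat_lit 20] [] (.st (nat_lit 580) [nat_lit 30, nat_lit 14] [] (.st (nat_lit 231) (unp (nat_lit 5) (nat_lit 0x3bc403)) [] (.st (nat_lit 210) (unp (nat_lit 5) (nat_lit 0x43e303)) [] (.st (nat_lit 102) [nat_lit 3, nat_lit 29] [nat_lit 460] (.st (nat_lit 101) (unp (nat_lit 5) (nat_lit 0x33e303)) [nat_lit 72] (.st (nat_lit 651) (unp (nat_lit 5) (nat_lit 0x2fa303)) [] .nil))))))) (unp (nat_lit 5) (nat_lit 0x3bc403)) [])⟩)))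
 (.nd (nat_lit 655) (.nd (nat_lit 654) (.lf ⟨nat_lit 0, nat_lit 241, nat_lit 241, (nat_lit 0x1038c8d1b85cc5293dd44986257891a6781760163), one, (nat_lit 0x175e79594c059dc42da19eadbfac377be69c91d43), (.we (nat_lit 0) (nat_lit 0) (nat_lit 0xf6d11ea1f2003230c9ae98d7ebf7a100d6421009) (.st (nat_lit 652) [] [] (.st (nat_lit 245) [nat_lit 29, nat_lit 21] [] .nil)))⟩)
 (.lf ⟨nat_lit 0, nat_lit 241, nat_lit 241, (nat_lit 0x190628209c2389ad1b0f751a78512e64f9dc96965), one, (nat_lit 0x20a02200740e470d28fd56541121dabc4379c8e6), (.prod [nat_lit 242, nat_lit 653])⟩))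
 (.nd (nat_lit 656) (.lf ⟨nat_lit 0, nat_lit 241, nat_lit 241, (nat_lit 0x1fdf9a2a8f34908823ec839a21cf31b8a0fad0539), one, (nat_lit 0xfe3022967516daa8a652b2a96f745ee86c63655a), (.prod [nat_lit 654, nat_lit 242])⟩)
 (.lf ⟨nat_lit 0, nat_lit 241, nat_lit 241, (nat_lit 0x2b0cd6990199fba8e2f32e7935cced2eab07cd834), one, (nat_lit 0x31b3582922aab11c4ff2176d6509bda9d69fb18d1), (.prod [nat_lit 655, nat_lit 653])⟩))))
 (.nd (nat_lit 661) (.nd (nat_lit 659) (.nd (nat_lit 658) (.lf ⟨nat_lit 1, nat_lit 279, nat_lit 279, (nat_lit 0x100e0aba0d17c70444d02bf329fd10d7608f1b426), (nat_lit 0x1b94dc9a9f5dafe6001e2ccbef9b1bb06e7ad4c94), (nat_lit 0x2afc2efed5b7b216a7124f6849b82dc103e3a925), (.ren (nat_lit 291) [] [] [nat_lit 456])⟩)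
 (.lf ⟨nat_lit 1, nat_lit 279, nat_lit 260, (nat_lit 0x1fce42ed966b34fae64312a96f69e1eea7db1de4), (nat_lit 0x1483c08fbc1c858b6e11f25776f6c3bf72274b6d5), (nat_lit 0x133788d1b82d5fb9ce3bfbf9d63b767e2e3d4360f), (.wt (nat_lit 6) (nat_lit 7) (nat_lit 0x1ed8fb50bf2d96c3c7a8537414b6c49ffe02041bd) (.st (nat_lit 580) (unp (nat_lit 5) (nat_lit 0x2fc403)) [] (.st (nat_lit 231) [nat_lit 29, nat_lit 9] [nat_lit 450] (.st (nat_lit 589) (unp (nat_lit 5) (nat_lit 0x33a303)) [] (.st (nat_lit 641) [nat_lit 4] [] (.st (nat_lit 320) (unp (nat_lit 5) (nat_lit 0x53e303)) [] (.st (nat_lit 474) [nat_lit 4, nat_lit 8] [] (.st (nat_lit 657) (unp (nat_lit 5) (nat_lit 0x2fc303)) [] .nil))))))) (unp (nat_lit 5) (nat_lit 0x53e303)) [])⟩))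
 (.nd (nat_lit 660) (.lf ⟨nat_lit 1, nat_lit 260, nat_lit 279, (nat_lit 0x3b6020b1ee99f350ad1583cd87ceba46c32e15ab7), (nat_lit 0x8797616d116d7ed920abd8824326fb67010eb74e), (nat_lit 0x179c48a43865f41666bfe89cf988a48d7e8826b66), (.wt (nat_lit 0) (nat_lit 0) (nat_lit 0x1fce42ed966b34fae64312a96f69e1eea7db1de4) (.st (nat_lit 658) [] [] .nil) (unp (nat_lit 5) (nat_lit 0x3be303)) [])⟩)
 (.lf ⟨nat_lit 1, nat_lit 333, nat_lit 319, (nat_lit 0x1fce42ed966b34fae64312a96f69e1eea7db1de4), (nat_lit 0x267efd7be7387fb9a83308a1e27e3b977d5696600), (nat_lit 0xdb4e2b957260e87c2d965e9a91b527778e3ffd59), (.wt (nat_lit 6) (nat_lit 4) (nat_lit 0x33d5c4505bb377b822b4edd5e2cf8ffc69181ee63) (.st (nat_lit 643) (unp (nat_lit 5) (nat_lit 0x3fe403)) [] (.st (nat_lit 627) (unp (nat_lit 5) (nat_lit 0x23c403)) [] (.st (nat_lit 264) (unp (nat_lit 5) (nat_lit 0x57c303)) [] (.st (nat_lit 594)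 [nat_lit 30, nat_lit 19] [] (.st (nat_lit 231) [nat_lit 4, nat_lit 11] [nat_lit 450] (.st (nat_lit 608) [nat_lit 31, nat_lit 18] [] (.st (nat_lit 336) [nat_lit 30, nat_lit 20] [] .nil))))))) (unp (nat_lit 5) (nat_lit 0x53e303)) [])⟩)))
 (.nd (nat_lit 663) (.nd (nat_lit 662) (.lf ⟨nat_lit 0, nat_lit 333, nat_lit 333, (nat_lit 0x14958ad7e103008364905244342a553d5ea5c8444), one, (nat_lit 0xdb4e2b957260e87c2d965e9a91b527778e3ffd59), (.we (nat_lit 0) (nat_lit 0) (nat_lit 0x1fce42ed966b34fae64312a96f69e1eea7db1de4) (.st (nat_lit 660) [] [] (.st (nat_lit 336) (unp (nat_lit 5) (nat_lit 0x5be303)) [] .nil)))⟩)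
 (.lf ⟨nat_lit 1, nat_lit 333, nat_lit 105, (nat_lit 0x29d069dd4289881cb0b1977aaf1daee2c113e4bec), (nat_lit 0x39cc924077415f4f59c31db90d8fa57103b60a3e8), (nat_lit 0xfb4c3514b7623efe86cffbf3bfa72307c08ef90e), (.wt (nat_lit 6) (nat_lit 5) (nat_lit 0x25e8ec0ac08a18892b3cb88e80f0c528d7284a484) (.st (nat_lit 474) (unp (nat_lit 5) (nat_lit 0x4ba403)) [] (.st (nat_lit 281) (unp (nat_lit 5) (nat_lit 0x2fe303)) [] (.st (nat_lit 232) (unp (nat_lit 5) (nat_lit 0x43c403)) [] (.st (nat_lit 231) (unp (nat_lit 5) (nat_lit 0x37a303)) [nat_lit 450] (.st (nat_lit 282) [nat_lit 20] [] (.st (nat_lit 464) (unp (nat_lit 5) (nat_lit 0x57a403)) [] (.st (nat_lit 333) (unp (nat_lit 5) (nat_lit 0x4be303)) [] .nil))))))) (unp (nat_lit 5) (nat_lit 0x4fa303)) [])⟩))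
 (.nd (nat_lit 664) (.lf ⟨nat_lit 0, nat_lit 333, nat_lit 333, (nat_lit 0x1f9a4a010b4159a6912095192d92721700a145c79), one, (nat_lit 0xfb4c3514b7623efe86cffbf3bfa72307c08ef90e), (.we (nat_lit 0) (nat_lit 0) (nat_lit 0x29d069dd4289881cb0b1977aaf1daee2c113e4bec) (.st (nat_lit 662) [] [] (.st (nat_lit 333) (unp (nat_lit 5) (nat_lit 0x27c303)) [] .nil)))⟩)
 (.nd (nat_lit 665) (.lf ⟨nat_lit 0, nat_lit 333, nat_lit 333, (nat_lit 0xb1fc20ecb52ca25fda1cb6b80f4272e1a30dc8ef), one, (nat_lit 0xc8441ea1e3419cb6e1d487692c344373eba10456), (.prod [nat_lit 661, nat_lit 663])⟩)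
 (.lf ⟨nat_lit 1, nat_lit 238, nat_lit 287, (nat_lit 0x3eba12c3c3234cd354a978de13ad53d6c7be58abc), (nat_lit 0x12b65a74c109b90d71245ec51beb86f15e2de184a), (nat_lit 0x1e635a896169ebf42994346347e4a28e68d6e3452), (.wt (nat_lit 6) (nat_lit 5) (nat_lit 0x2a0a9a2d15c2218952a404dbfae086843305090d) (.st (nat_lit 288) (unp (nat_lit 5) (nat_lit 0x57a403)) [] (.st (nat_lit 279) [nat_lit 31, nat_lit 12] [] (.st (nat_lit 658) (unp (nat_lit 5) (nat_lit 0x57c303)) [] (.st (nat_lit 580) (unp (nat_lit 5) (nat_lit 0x37c403)) [] (.st (nat_lit 231) [nat_lit 29, nat_lit 9] [nat_lit 450] (.st (nat_lit 552) (unp (nat_lit 5) (nat_lit 0x3ba303)) [] (.st (nat_lit 601) [nat_lit 3, nat_lit 29] [] .nil))))))) [nat_lit 4, nat_lit 19] [])⟩))))))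
 (.nd (nat_lit 675) (.nd (nat_lit 670) (.nd (nat_lit 668) (.nd (nat_lit 667) (.lf ⟨nat_lit 1, nat_lit 287, nat_lit 238, (nat_lit 0x125910161e8d6fe6d72746c6acb95732f82b12d8b), (nat_lit 0xdb4e2b957260e87c2d965e9a91b527778e3ffd59), (nat_lit 0x142fbb947b5d75bc0438e4c14b9c817480ddb2cdc), (.wt (nat_lit 0) (nat_lit 0) (nat_lit 0x3eba12c3c3234cd354a978de13ad53d6c7be58abc) (.st (nat_lit 665) [] [] .nil) [nat_lit 30, nat_lit 15] [])⟩)
 (.lf ⟨nat_lit 1, nat_lit 162, nat_lit 279, (nat_lit 0x1fce42ed966b34fae64312a96f69e1eea7db1de4), (nat_lit 0x11d79d3082e0a3db24424f7bdd4755633ff68f460), (nat_lit 0x20aa58a399fa08a10a02281e80f20a30594f3bb08), (.wt (nat_lit 6) (nat_lit 7) (nat_lit 0xfaa82a7c80cd986b424ba71f1d19c8921ae8141) (.st (nat_lit 658) (unp (nat_lit 5) (nat_lit 0x3fe303)) [] (.st (nat_lit 580) [nat_lit 31, nat_lit 15] [] (.st (nat_lit 231) [nat_lit 14] [] (.st (nat_lit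 608) (unp (nat_lit 5) (nat_lit 0x27c303)) [] (.st (nat_lit 643) [nat_lit 31, nat_lit 20] [] (.st (nat_lit 139) [nat_lit 4, nat_lit 17] [] (.st (nat_lit 162) [nat_lit 31, nat_lit 22] [] .nil))))))) [nat_lit 4, nat_lit 12] [])⟩))
 (.nd (nat_lit 669) (.lf ⟨nat_lit 1, nat_lit 279, nat_lit 162, (nat_lit 0x125910161e8d6fe6d72746c6acb95732f82b12d8b), (nat_lit 0x13c72bd1e7f22e9802b5d9a9ebbe7b413c071f5af), (nat_lit 0x35bae25f6cd2e9217b1b6d5208ab8a4f1128aaa45), (.wt (nat_lit 0) (nat_lit 0) (nat_lit 0x1fce42ed966b34fae64312a96f69e1eea7db1de4) (.st (nat_lit 667) [] [] .nil) [nat_lit 29, nat_lit 18] [])⟩)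
 (.lf ⟨nat_lit 1, nat_lit 287, nat_lit 238, (nat_lit 0x1fce42ed966b34fae64312a96f69e1eea7db1de4), (nat_lit 0x1942f1a0686ed4efcfbf3163e2e8176feb55f3f1b), (nat_lit 0x271a355a7bf8cbd7d6a0dd5057732493bde513016), (.wt (nat_lit 6) (nat_lit 1) (nat_lit 0x3898cfde3f936575ffeb5dc136bc188f6fb15b7fc) (.st (nat_lit 647) [nat_lit 8] [] (.st (nat_lit 580) (unp (nat_lit 5) (nat_lit 0x1ba403)) [] (.st (nat_lit 231) (unp (nat_lit 5) (nat_lit 0x33e403)) [nat_lit 450] (.st (nat_lit 210) (unp (nat_lit 5) (nat_lit 0x27c403)) [] (.st (nat_lit 651) (unp (nat_lit 5) (nat_lit 0x57c403)) [] (.st (nat_lit 244) [nat_lit 3, nat_lit 12] [nat_lit 656] (.st (nat_lit 665) [nat_lit 29, nat_lit 22] [nat_lit 239] .nil))))))) [nat_lit 3, nat_lit 11] [])⟩)))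
 (.nd (nat_lit 672) (.nd (nat_lit 671) (.lf ⟨nat_lit 0, nat_lit 287, nat_lit 287, (nat_lit 0x4bcd175a4299bcf4b8d0265ad6fd4dd52b7214c7), one, (nat_lit 0xfe10060a26325a960ade6fcac3b33c598c22bd0b), (.we (nat_lit 0) (nat_lit 0) (nat_lit 0x1fce42ed966b34fae64312a96f69e1eea7db1de4) (.st (nat_lit 669) [] [] (.st (nat_lit 665) (unp (nat_lit 5) (nat_lit 0x5ba303)) [] .nil)))⟩)
 (.lf ⟨nat_lit 1, nat_lit 97, nat_lit 97, (nat_lit 0x29d069dd4289881cb0b1977aaf1daee2c113e4bec), (nat_lit 0x24f97abd2144e1cc048010ce4076ae924f243cdd4), (nat_lit 0xc5e71250a7eeeee29cd26a3a8a9d589a2afcb57c), (.ren (nat_lit 283) [] [] [nat_lit 545])⟩))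
 (.nd (nat_lit 673) (.lf ⟨nat_lit 1, nat_lit 208, nat_lit 294, (nat_lit 0xf6d11ea1f2003230c9ae98d7ebf7a100d6421009), (nat_lit 0x3d88e7cacabcda9dc52812c863026eddddec55e46), (nat_lit 0xa2ea9a2d0d739cc971a9d423bd96b619a03ddbf2), (.wt (nat_lit 5) (nat_lit 3) (nat_lit 0x1e2e6a14c1972a7eab3301440cb8f4842393859ca) (.st (nat_lit 295) [nat_lit 30, nat_lit 19] [] (.st (nat_lit 671) [nat_lit 4, nat_lit 13] [] (.st (nat_lit 287) [nat_lit 29, nat_lit 15] [] (.st (nat_lit 666) [nat_lit 4, nat_lit 18] [nat_lit 670] (.st (nat_lit 602) [nat_lit 31, nat_lit 17] [] (.st (nat_lit 645) [nat_lit 31, nat_lit 17] [] (.st (nat_lit 609) [nat_lit 30, nat_lit 9] [] (.st (nat_lit 232) (unp (nat_lit 5) (nat_lit 0x3be403)) [] (.st (nat_lit 231) [] [nat_lit 450] .nil))))))))) [nat_lit 3, nat_lit 30] [])⟩)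
 (.nd (nat_lit 674) (.lf ⟨nat_lit 1, nat_lit 294, nat_lit 208, (nat_lit 0x29d069dd4289881cb0b1977aaf1daee2c113e4bec), (nat_lit 0x1f9603c9e0ad2ce840a61cc5274502278501c4f70), (nat_lit 0x144f71aeb2b26463c2b6d4f30c0d3e252450edb2b), (.wt (nat_lit 0) (nat_lit 0) (nat_lit 0xf6d11ea1f2003230c9ae98d7ebf7a100d6421009) (.st (nat_lit 672) [] [] .nil) (unp (nat_lit 5) (nat_lit 0x27e303)) [])⟩)
 (.lf ⟨nat_lit 1, nat_lit 287, nat_lit 225, (nat_lit 0x9a472e71a6030c6693ace0c7e5978349d74b3855), (nat_lit 0x3c8e45d2c1564e2395a80eb7c70562ed07c2df161), (nat_lit 0x3d30d1fc7e50c6d00caa52572d507ff1ff43707f2), (.wt (nat_lit 5) (nat_lit 5) (nat_lit 0xfcaaa1b57e374e549ab383d9c6c504e96ef4bd6a) (.st (nat_lit 226) [nat_lit 30, nat_lit 16] [] (.st (nat_lit 90) [nat_lit 30] [] (.st (nat_lit 87) (unp (nat_lit 5) (nat_lit 0x4ba303)) [nat_lit 50] (.st (nat_lit 638) (unp (nat_lit 5) (nat_lit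 0x37a403)) [] (.st (nat_lit 639) [nat_lit 3, nat_lit 20] [nat_lit 150] (.st (nat_lit 232) [nat_lit 9] [] (.st (nat_lit 550) [nat_lit 4, nat_lit 22] [nat_lit 450] (.st (nat_lit 646) [nat_lit 3] [] (.st (nat_lit 665) [nat_lit 31, nat_lit 20] [] .nil))))))))) (unp (nat_lit 5) (nat_lit 0x27c403)) [])⟩)))))
 (.nd (nat_lit 679) (.nd (nat_lit 677) (.nd (nat_lit 676) (.lf ⟨nat_lit 1, nat_lit 225, nat_lit 287, (nat_lit 0x2ba2cea7bd829f6f53bc17c3f6c7dba59a18cc2c5), (nat_lit 0x2ab6d488d439ef205997f608a0ee8e28647f1b8a1), (nat_lit 0x2e6ec95dba3557f776d2c3be31111d544b9db1a1b), (.wt (nat_lit 0) (nat_lit 0) (nat_lit 0x9a472e71a6030c6693ace0c7e5978349d74b3855) (.st (nat_lit 674) [] [] .nil) [nat_lit 3, nat_lit 16] [])⟩)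
 (.lf ⟨nat_lit 1, nat_lit 162, nat_lit 319, (nat_lit 0x29d069dd4289881cb0b1977aaf1daee2c113e4bec), (nat_lit 0x8797616d116d7ed920abd8824326fb67010eb74e), (nat_lit 0x318483eb233ef3dc817775e5a08a3bd85b4571e28), (.wt (nat_lit 5) (nat_lit 7) (nat_lit 0x999a824d68d0c6b69a99f472f8aff91f5bd76316) (.st (nat_lit 336) [nat_lit 29, nat_lit 22] [] (.st (nat_lit 335) [nat_lit 18] [nat_lit 661] (.st (nat_lit 609) [nat_lit 30, nat_lit 16] [] (.st (nat_lit 232) [nat_lit 4, nat_lit 12] [] (.st (nat_lit 550) [nat_lit 30, nat_lit 16] [nat_lit 450] (.st (nat_lit 261) [nat_lit 3, nat_lit 19] [] (.st (nat_lit 266) [nat_lit 3, nat_lit 17] [] (.st (nat_lit 607) (unp (nat_lit 5) (nat_lit 0x47e303)) [] (.st (nat_lit 560) [nat_lit 17] [] .nil))))))))) [nat_lit 6] [])⟩))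
 (.nd (nat_lit 678) (.lf ⟨nat_lit 1, nat_lit 319, nat_lit 162, (nat_lit 0x1fce42ed966b34fae64312a96f69e1eea7db1de4), (nat_lit 0x282a6fa662cedad749dadff665e278e397c6a4455), (nat_lit 0x2eb63bdefd01545d3cdfca8fa9839ffd2982dea97), (.wt (nat_lit 0) (nat_lit 0) (nat_lit 0x29d069dd4289881cb0b1977aaf1daee2c113e4bec) (.st (nat_lit 676) [] [] .nil) (unp (nat_lit 5) (nat_lit 0x3fe403)) [])⟩)
 (.lf ⟨nat_lit 1, nat_lit 135, nat_lit 105, (nat_lit 0x100e0aba0d17c70444d02bf329fd10d7608f1b426), (nat_lit 0x26ab8b41d52800113ecd1b13063645482576dcb55), (nat_lit 0x1a4356431548040444e39717736a1f6a0b9edc2e9), (.ren (nat_lit 137) [] [] [nat_lit 564])⟩)))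
 (.nd (nat_lit 681) (.nd (nat_lit 680) (.lf ⟨nat_lit 1, nat_lit 260, nat_lit 294, (nat_lit 0x9a472e71a6030c6693ace0c7e5978349d74b3855), (nat_lit 0x33334c6f3dbe8168d885d671d93f7fc9ddca5e915), (nat_lit 0x1be466463c02e9d74a4842901280a1156cf698dee), (.wt (nat_lit 5) (nat_lit 0) (nat_lit 0x1af96e83d948612cf54f60eb25fb3575a269cdddf) (.st (nat_lit 673) [nat_lit 29, nat_lit 6] [] (.st (nat_lit 232) (unp (nat_lit 5) (nat_lit 0x37c303)) [] (.st (nat_lit 550) (unp (nat_lit 5) (nat_lit 0x53e303)) [] (.st (nat_lit 659) (unp (nat_lit 5) (nat_lit 0x37e403)) [] (.st (nat_lit 668) (unp (nat_lit 5) (nat_lit 0x3fa303)) [] (.st (nat_lit 586) (unp (nat_lit 5) (nat_lit 0x43c403)) [] (.st (nat_lit 678) [nat_lit 4, nat_lit 20] [] (.st (nat_lit 474) (unp (nat_lit 5) (nat_lit 0x47e303)) [] (.st (nat_lit 658) (unp (nat_lit 5) (nat_lit 0x3ba403)) [] .nil))))))))) (unp (nat_lit 5)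 (nat_lit 0x37e303)) [])⟩)
 (.lf ⟨nat_lit 1, nat_lit 294, nat_lit 260, (nat_lit 0x9a472e71a6030c6693ace0c7e5978349d74b3855), (nat_lit 0x914eaee10cf2e77f68e65c618d640f6befacf34c), (nat_lit 0x4087d1da32ed4101660d00d154642a49caea85b6), (.wt (nat_lit 0) (nat_lit 0) (nat_lit 0x9a472e71a6030c6693ace0c7e5978349d74b3855) (.st (nat_lit 679) [] [] .nil) (unp (nat_lit 5) (nat_lit 0x2fe403)) [])⟩))
 (.nd (nat_lit 682) (.lf ⟨nat_lit 1, nat_lit 294, nat_lit 294, (nat_lit 0x100e0aba0d17c70444d02bf329fd10d7608f1b426), (nat_lit 0x27188c6ea9d647b822b4ce8acbd89accc9539bf3c), (nat_lit 0x2afc2efed5b7b216a7124f6849b82dc103e3a925), (.ren (nat_lit 305) [] [] [nat_lit 458])⟩)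
 (.nd (nat_lit 683) (.lf ⟨nat_lit 1, nat_lit 319, nat_lit 294, (nat_lit 0x125910161e8d6fe6d72746c6acb95732f82b12d8b), (nat_lit 0x1790dbbe356c8df5e059f76388d208e32d99576e2), (nat_lit 0x188bd3cd3baea2a890df6be633ee2a4f079f6e7a), (.wt (nat_lit 5) (nat_lit 9) (nat_lit 0x19c559b5d40adb0bbd0c03950c161026a1642bf49) (.st (nat_lit 681) [nat_lit 4, nat_lit 30] [] (.st (nat_lit 673) [nat_lit 29, nat_lit 18] [] (.st (nat_lit 232) (unp (nat_lit 5) (nat_lit 0x2fe403)) [] (.st (nat_lit 230) [nat_lit 8] [nat_lit 450] (.st (nat_lit 225) (unp (nat_lit 5) (nat_lit 0x33e303)) [] (.st (nat_lit 601) (unp (nat_lit 5) (nat_lit 0x2fa303)) [] (.st (nat_lit 665) [nat_lit 31] [] (.st (nat_lit 674) (unp (nat_lit 5) (nat_lit 0x4be303)) [] (.st (nat_lit 645) [nat_lit 31, nat_lit 16] [] .nil))))))))) [nat_lit 4, nat_lit 18] [])⟩)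
 (.lf ⟨nat_lit 1, nat_lit 294, nat_lit 319, (nat_lit 0x2ba2cea7bd829f6f53bc17c3f6c7dba59a18cc2c5), (nat_lit 0x178248b17c7cd2235bfabc3d6509c35f7ebe14c14), (nat_lit 0x19e5d65e14fc254b980cae4ac007f35748f29ebef), (.wt (nat_lit 0) (nat_lit 0) (nat_lit 0x125910161e8d6fe6d72746c6acb95732f82b12d8b) (.st (nat_lit 682) [] [] .nil) (unp (nat_lit 5) (nat_lit 0x33a303)) [])⟩)))))))

noncomputable def T3_684 : Tr :=
  (.nd (nat_lit 701) (.nd (nat_lit 692) (.nd (nat_lit 688) (.nd (nat_lit 686) (.nd (nat_lit 685) (.lf ⟨nat_lit 1, nat_lit 142, nat_lit 149, (nat_lit 0x100e0aba0d17c70444d02bf329fd10d7608f1b426), (nat_lit 0x553582c71f2255653879ff0b6b076874473c7be2), (nat_lit 0x1c0602a64f11cf8dc207e9a0d9f936cc7e365ccd8), (.ren (nat_lit 169) [] [] [nat_lit 515])⟩)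
 (.lf ⟨nat_lit 1, nat_lit 138, nat_lit 294, (nat_lit 0x9a472e71a6030c6693ace0c7e5978349d74b3855), (nat_lit 0x2baddbbdda34f53e7b1b9e30bdcacbfb153d09697), (nat_lit 0x22bd7affe11c9862ee90323edc0e92ab297a9bec7), (.wt (nat_lit 5) (nat_lit 6) (nat_lit 0x3432f69902d34fa58eca391f28437ddd5d8bec5d3) (.st (nat_lit 673) (unp (nat_lit 5) (nat_lit 0x2fc303)) [] (.st (nat_lit 589) [nat_lit 3, nat_lit 21] [] (.st (nat_lit 579) (unp (nat_lit 5) (nat_lit 0x33e303)) [] (.st (nat_lit 684) (unp (nat_lit 5) (nat_lit 0x3fe403)) [] (.st (nat_lit 639) [nat_lit 3, nat_lit 22] [nat_lit 150] (.st (nat_lit 232) [nat_lit 6] [] (.st (nat_lit 637) [nat_lit 30, nat_lit 11] [nat_lit 450] (.st (nat_lit 567) [nat_lit 30, nat_lit 15] [] (.st (nat_lit 610) (unp (nat_lit 5) (nat_lit 0x53c303)) [] .nil))))))))) [nat_lit 4, nat_lit 13] [])⟩))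
 (.nd (nat_lit 687) (.lf ⟨nat_lit 1, nat_lit 294, nat_lit 138, (nat_lit 0x1fce42ed966b34fae64312a96f69e1eea7db1de4), (nat_lit 0x3425488ab450dd19c439201132229b53cfa67b596), (nat_lit 0x318363ce795f2c002db166b668afc2e065fd37aa0), (.wt (nat_lit 0) (nat_lit 0) (nat_lit 0x9a472e71a6030c6693ace0c7e5978349d74b3855) (.st (nat_lit 685) [] [] .nil) [nat_lit 15] [])⟩)
 (.lf ⟨nat_lit 1, nat_lit 296, nat_lit 97, (nat_lit 0xf6d11ea1f2003230c9ae98d7ebf7a100d6421009), (nat_lit 0x1d74efaf27a0ae358f22adb6fef96f7de343cfe6), (nat_lit 0x1fd7ba577b1a698c9d64a81f389ab5f2c6004f10b), (.wt (nat_lit 6) (nat_lit 6) (nat_lit 0x170cb0e9cbb51ccf9a633cafa32213bd341ac548b) (.st (nat_lit 294) (unp (nat_lit 5) (nat_lit 0x27e303)) [] (.st (nat_lit 673) [nat_lit 29, nat_lit 15] [] (.st (nat_lit 232) (unp (nat_lit 5) (nat_lit 0x37e403)) [] (.st (nat_lit 231) [nat_lit 8] [nat_lit 450] (.st (nat_lit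 672) [nat_lit 3, nat_lit 30] [] (.st (nat_lit 295) [nat_lit 30, nat_lit 19] [] (.st (nat_lit 296) (unp (nat_lit 5) (nat_lit 0x5ba403)) [] .nil))))))) [nat_lit 3, nat_lit 22] [])⟩)))
 (.nd (nat_lit 690) (.nd (nat_lit 689) (.lf ⟨nat_lit 0, nat_lit 296, nat_lit 296, (nat_lit 0xa8b2e7196c78218099a844af4bb54b3272a703c), one, (nat_lit 0x1fd7ba577b1a698c9d64a81f389ab5f2c6004f10b), (.we (nat_lit 0) (nat_lit 0) (nat_lit 0xf6d11ea1f2003230c9ae98d7ebf7a100d6421009) (.st (nat_lit 687) [] [] (.st (nat_lit 296) (unp (nat_lit 5) (nat_lit 0x4fc303)) [] .nil)))⟩)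
 (.lf ⟨nat_lit 0, nat_lit 296, nat_lit 296, (nat_lit 0x16146b1d652302cf6fac7c910a48430058769b84c), one, (nat_lit 0xee1b373f30b10cf4ba4ae752c13f346d025eb84f), (.inv (nat_lit 573))⟩))
 (.nd (nat_lit 691) (.lf ⟨nat_lit 0, nat_lit 296, nat_lit 296, (nat_lit 0x13ea0bc0d56ce86cc9fd377d87ce81f0a0dee6589), one, (nat_lit 0x98b2154ca236c43dec85ffc3fe2557b5e428d05c), (.prod [nat_lit 688, nat_lit 689])⟩)
 (.lf ⟨nat_lit 1, nat_lit 82, nat_lit 74, (nat_lit 0x3b6020b1ee99f350ad1583cd87ceba46c32e15ab7), (nat_lit 0x217561fcdf424186d591039cb91c6f871811b1c08), (nat_lit 0x1859eef8f3afc71aa6df75f4a8abc6336e69df582), (.ren (nat_lit 129) [] [] [nat_lit 512])⟩))))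
 (.nd (nat_lit 696) (.nd (nat_lit 694) (.nd (nat_lit 693) (.lf ⟨nat_lit 1, nat_lit 71, nat_lit 71, (nat_lit 0x3b6020b1ee99f350ad1583cd87ceba46c32e15ab7), (nat_lit 0x522e6f86265b7a28451f430379680a861e68edb2), (nat_lit 0x2afc2efed5b7b216a7124f6849b82dc103e3a925), (.ren (nat_lit 93) [] [] [nat_lit 452])⟩)
 (.lf ⟨nat_lit 1, nat_lit 74, nat_lit 82, (nat_lit 0x29d069dd4289881cb0b1977aaf1daee2c113e4bec), (nat_lit 0x1109587d8cf40d01d2cfb86fc04531bd7feacc93d), (nat_lit 0x18997efaf3af871aaedf74f49cadd538eaaa9f88a), (.ren (nat_lit 107) [] [] [nat_lit 542])⟩))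
 (.nd (nat_lit 695) (.lf ⟨nat_lit 1, nat_lit 125, nat_lit 125, (nat_lit 0x3b6020b1ee99f350ad1583cd87ceba46c32e15ab7), (nat_lit 0x3aaffccb2b0023eb9413c9cf6fc947482ea2a04fa), (nat_lit 0x4bcd175a4299bcf4b8d0265ad6fd4dd52b7214c7), (.wt (nat_lit 5) (nat_lit 8) (nat_lit 0x88278b68c34ad18f165e3342438a0200295c67c1) (.st (nat_lit 126) (unp (nat_lit 5) (nat_lit 0x3fa403)) [] (.st (nat_lit 86) (unp (nat_lit 5) (nat_lit 0x3bc403)) [] (.st (nat_lit 691) [nat_lit 30, nat_lit 12] [] (.st (nat_lit 77) (unp (nat_lit 5) (nat_lit 0x4be303)) [] (.st (nat_lit 692) (unp (nat_lit 5) (nat_lit 0x33e303)) [nat_lit 72] (.st (nat_lit 78) (unp (nat_lit 5) (nat_lit 0x37a303)) [] (.st (nat_lit 693) (unp (nat_lit 5) (nat_lit 0x43a403)) [nat_lit 75] (.st (nat_lit 85) [nat_lit 29, nat_lit 13] [] (.st (nat_lit 125) [nat_lit 4, nat_lit 13] [] .nil))))))))) [nat_lit 4, nat_lit 20] [])⟩)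
 (.lf ⟨nat_lit 1, nat_lit 296, nat_lit 97, (nat_lit 0x3b6020b1ee99f350ad1583cd87ceba46c32e15ab7), (nat_lit 0x13e5008f2840a2274879a6482d53c56e956371fce), (nat_lit 0x100c18603031000008086416110106010e0702900), (.wt (nat_lit 5) (nat_lit 0) (nat_lit 0x1f2026b3d6f0756cb19a8eeb09bc3503039e408a0) (.st (nat_lit 98) (unp (nat_lit 5) (nat_lit 0x1ba403)) [] (.st (nat_lit 97) (unp (nat_lit 5) (nat_lit 0x57c303)) [nat_lit 72] (.st (nat_lit 671) [nat_lit 4] [] (.st (nat_lit 287) (unp (nat_lit 5) (nat_lit 0x37a303)) [] (.st (nat_lit 288) [nat_lit 3, nat_lit 14] [nat_lit 670] (.st (nat_lit 671) (unp (nat_lit 5) (nat_lit 0x57e303)) [] (.st (nat_lit 98) [nat_lit 4, nat_lit 29] [] (.st (nat_lit 97) (unp (nat_lit 5) (nat_lit 0x5be303)) [nat_lit 72] (.st (nat_lit 296) [nat_lit 4] [] .nil))))))))) [nat_lit 4, nat_lit 31] [])⟩)))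
 (.nd (nat_lit 698) (.nd (nat_lit 697) (.lf ⟨nat_lit 0, nat_lit 296, nat_lit 296, (nat_lit 0x1ff2a83cf20d718d3de5bc1982cba772f232b29e5), one, (nat_lit 0x100c18603031000008086416110106010e0702900), (.we (nat_lit 0) (nat_lit 0) (nat_lit 0x3b6020b1ee99f350ad1583cd87ceba46c32e15ab7) (.st (nat_lit 695) [] [] (.st (nat_lit 296) (unp (nat_lit 5) (nat_lit 0x57c403)) [] .nil)))⟩)
 (.lf ⟨nat_lit 1, nat_lit 321, nat_lit 186, (nat_lit 0x3b6020b1ee99f350ad1583cd87ceba46c32e15ab7), (nat_lit 0x95ff1e16172283a5669cbdce4a532f22c2d86dc9), (nat_lit 0xef153e98b72519e9e55a29a140a314f87cff2878), (.wt (nat_lit 5) (nat_lit 3) (nat_lit 0x303f8e4254d59542d2bd043ebabcfe0c378cddfd0) (.st (nat_lit 205) [nat_lit 9] [] (.st (nat_lit 203) [nat_lit 3, nat_lit 13] [nat_lit 532] (.st (nat_lit 208) (unp (nat_lit 5) (nat_lit 0x53a303)) [] (.st (nat_lit 552) (unp (nat_lit 5) (nat_lit 0x47a303))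 [] (.st (nat_lit 601) (unp (nat_lit 5) (nat_lit 0x23e303)) [] (.st (nat_lit 665) [nat_lit 4, nat_lit 11] [] (.st (nat_lit 288) (unp (nat_lit 5) (nat_lit 0x43a403)) [] (.st (nat_lit 279) (unp (nat_lit 5) (nat_lit 0x2fc403)) [nat_lit 453] (.st (nat_lit 465) (unp (nat_lit 5) (nat_lit 0x23e303)) [] .nil))))))))) (unp (nat_lit 5) (nat_lit 0x1ba403)) [])⟩))
 (.nd (nat_lit 699) (.lf ⟨nat_lit 1, nat_lit 186, nat_lit 321, (nat_lit 0x125910161e8d6fe6d72746c6acb95732f82b12d8b), (nat_lit 0x3bba37d2c4e77b6b2347e9309c8f7f799d78824c6), (nat_lit 0xdf6128947116df850fca867b30766b585613e484), (.wt (nat_lit 0) (nat_lit 0) (nat_lit 0x3b6020b1ee99f350ad1583cd87ceba46c32e15ab7) (.st (nat_lit 697) [] [] .nil) [nat_lit 22] [])⟩)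
 (.nd (nat_lit 700) (.lf ⟨nat_lit 1, nat_lit 321, nat_lit 321, (nat_lit 0xf6d11ea1f2003230c9ae98d7ebf7a100d6421009), (nat_lit 0x20a500fcc609c24f6a87be1396c175c0ea997d36), (nat_lit 0x1a6278160207610dd7e4511100240727fa346c81a), (.wt (nat_lit 5) (nat_lit 3) (nat_lit 0xba542d1d73c75ac58e29cda5af39bcf00d2bfe28) (.st (nat_lit 325) [nat_lit 9] [] (.st (nat_lit 627) (unp (nat_lit 5) (nat_lit 0x1be303)) [] (.st (nat_lit 625) (unp (nat_lit 5) (nat_lit 0x3fa303)) [] (.st (nat_lit 595) [nat_lit 3, nat_lit 16] [nat_lit 649] (.st (nat_lit 584) (unp (nat_lit 5) (nat_lit 0x4ba303)) [] (.st (nat_lit 672) (unp (nat_lit 5) (nat_lit 0x5bc303)) [] (.st (nat_lit 295) (unp (nat_lit 5) (nat_lit 0x4fe303)) [] (.st (nat_lit 279) (unp (nat_lit 5) (nat_lit 0x33a403)) [nat_lit 453] (.st (nat_lit 465) (unp (nat_lit 5) (nat_lit 0x47c403)) [] .nil))))))))) [nat_lit 3, nat_lit 20] [])⟩)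
 (.lf ⟨nat_lit 1, nat_lit 321, nat_lit 125, (nat_lit 0x3eba12c3c3234cd354a978de13ad53d6c7be58abc), (nat_lit 0x20ca465a52ae5b5170bd4a92e3ea262fc31a29cb3), (nat_lit 0x19cebc1c48c12ac69b7a0a9292e438d8984151ce3), (.wt (nat_lit 6) (nat_lit 2) (nat_lit 0x13f169540c4032672860241d068e4227d01ba29a9) (.st (nat_lit 126) (unp (nat_lit 5) (nat_lit 0x47c403)) [] (.st (nat_lit 81) (unp (nat_lit 5) (nat_lit 0x53e403)) [] (.st (nat_lit 64) [nat_lit 30] [nat_lit 68] (.st (nat_lit 87) [nat_lit 31, nat_lit 6] [] (.st (nat_lit 162) [nat_lit 30, nat_lit 9] [] (.st (nat_lit 667) [nat_lit 31, nat_lit 9] [] (.st (nat_lit 465) (unp (nat_lit 5) (nat_lit 0x33e403)) [] .nil))))))) [nat_lit 21] [])⟩))))))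
 (.nd (nat_lit 709) (.nd (nat_lit 705) (.nd (nat_lit 703) (.nd (nat_lit 702) (.lf ⟨nat_lit 1, nat_lit 125, nat_lit 321, (nat_lit 0x1fce42ed966b34fae64312a96f69e1eea7db1de4), (nat_lit 0x3f78c742a76b1843c05e905cbbab66530a3a78e10), (nat_lit 0x16470d8ab2b07d214ec3c92929664b07c4921419b), (.wt (nat_lit 0) (nat_lit 0) (nat_lit 0x3eba12c3c3234cd354a978de13ad53d6c7be58abc) (.st (nat_lit 700) [] [] .nil) (unp (nat_lit 5) (nat_lit 0x4bc303)) [])⟩)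
 (.lf ⟨nat_lit 1, nat_lit 241, nat_lit 101, one, (nat_lit 0x23573ac692ef22734e4dd163daa77abd7ac684216), (nat_lit 0x13715956c4437aec0ff7f7ce54ae81ca5869e6c06), (.ren (nat_lit 243) [] [] [nat_lit 454])⟩))
 (.nd (nat_lit 704) (.lf ⟨nat_lit 1, nat_lit 95, nat_lit 109, (nat_lit 0x3eba12c3c3234cd354a978de13ad53d6c7be58abc), (nat_lit 0x21c51c45261a6f97e2e1b678c4f33415283596023), (nat_lit 0x24c0cc7fe55de8a1b3ebdb91dc5cb732fd4b49740), (.ren (nat_lit 270) [] [] [nat_lit 470, nat_lit 511])⟩)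
 (.lf ⟨nat_lit 1, nat_lit 357, nat_lit 109, (nat_lit 0x1fce42ed966b34fae64312a96f69e1eea7db1de4), (nat_lit 0x393db97701effd92356cef96b581bd2bb6e2730cb), (nat_lit 0xce7802a163e27801948b5020537a139a040ba13c), (.wt (nat_lit 5) (nat_lit 5) (nat_lit 0x11b16e7f1d8042294dc79106db7e1e5dbcd091bd5) (.st (nat_lit 618) [nat_lit 3, nat_lit 12] [] (.st (nat_lit 638) [nat_lit 29, nat_lit 20] [] (.st (nat_lit 547) (unp (nat_lit 5) (nat_lit 0x23a403)) [nat_lit 150] (.st (nat_lit 651) [nat_lit 3, nat_lit 30] [] (.st (nat_lit 702) [nat_lit 29, nat_lit 8] [nat_lit 653] (.st (nat_lit 102) (unp (nat_lit 5) (nat_lit 0x33e303)) [] (.st (nat_lit 95) (unp (nat_lit 5) (nat_lit 0x23e403)) [nat_lit 72] (.st (nat_lit 703) [nat_lit 17] [] (.st (nat_lit 357) [nat_lit 31, nat_lit 9] [] .nil))))))))) [nat_lit 30, nat_lit 9] [])⟩)))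
 (.nd (nat_lit 707) (.nd (nat_lit 706) (.lf ⟨nat_lit 0, nat_lit 357, nat_lit 357, (nat_lit 0x16d72a8d7d3d0f8a823d4702b2c6d7a8aea754c6d), one, (nat_lit 0xce7802a163e27801948b5020537a139a040ba13c), (.we (nat_lit 0) (nat_lit 0) (nat_lit 0x1fce42ed966b34fae64312a96f69e1eea7db1de4) (.st (nat_lit 704) [] [] (.st (nat_lit 357) [nat_lit 3, nat_lit 13] [] .nil)))⟩)
 (.lf ⟨nat_lit 1, nat_lit 266, nat_lit 357, (nat_lit 0x1fce42ed966b34fae64312a96f69e1eea7db1de4), (nat_lit 0x82f1b347ba6ed6fa5939453efbcd85bf9619867a), (nat_lit 0x1cc71f152ef80a8ff937f59be28fe8f6f4c086e4f), (.wt (nat_lit 5) (nat_lit 6) (nat_lit 0x18cdf0ebc12da51136c0ce9466fa370110a788864) (.st (nat_lit 358) (unp (nat_lit 5) (nat_lit 0x3be303)) [] (.st (nat_lit 110) (unp (nat_lit 5) (nat_lit 0x33a303)) [] (.st (nat_lit 77) (unp (nat_lit 5) (nat_lit 0x43a403)) [] (.st (nat_lit 101) (unp (nat_lit 5) (nat_lit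 0x3bc403)) [] (.st (nat_lit 102) [nat_lit 29, nat_lit 9] [nat_lit 460] (.st (nat_lit 73) [nat_lit 4, nat_lit 11] [] (.st (nat_lit 71) [nat_lit 31, nat_lit 15] [nat_lit 55] (.st (nat_lit 95) (unp (nat_lit 5) (nat_lit 0x1be303)) [nat_lit 72] (.st (nat_lit 266) [nat_lit 29, nat_lit 15] [] .nil))))))))) (unp (nat_lit 5) (nat_lit 0x4be403)) [])⟩))
 (.nd (nat_lit 708) (.lf ⟨nat_lit 1, nat_lit 357, nat_lit 266, (nat_lit 0x2ba2cea7bd829f6f53bc17c3f6c7dba59a18cc2c5), (nat_lit 0x3b9b0079f11c45eec6ce0866a06034052cad603a), (nat_lit 0x1fc4ccb6eb9c7befbccfb693d2aefb58d8df867aa), (.wt (nat_lit 0) (nat_lit 0) (nat_lit 0x1fce42ed966b34fae64312a96f69e1eea7db1de4) (.st (nat_lit 706) [] [] .nil) [nat_lit 3, nat_lit 15] [])⟩)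
 (.lf ⟨nat_lit 1, nat_lit 208, nat_lit 149, (nat_lit 0x125910161e8d6fe6d72746c6acb95732f82b12d8b), (nat_lit 0x3e63e19d26924bbcf1d958fb53c9b77d8d201370f), (nat_lit 0x20c48d205fc1a76b463ff2bcb7ca69157fe92b8a0), (.ren (nat_lit 310) [] [] [nat_lit 546])⟩))))
 (.nd (nat_lit 713) (.nd (nat_lit 711) (.nd (nat_lit 710) (.lf ⟨nat_lit 1, nat_lit 411, nat_lit 117, (nat_lit 0xf6d11ea1f2003230c9ae98d7ebf7a100d6421009), (nat_lit 0x39f029190808dfb87a4a84db2b7bb6c0c17c7f987), (nat_lit 0x2afc2efed5b7b216a7124f6849b82dc103e3a925), (.wt (nat_lit 5) (nat_lit 3) (nat_lit 0x21dec207e861104cd500e4efb00b90968d614b8e2) (.st (nat_lit 189) (unp (nat_lit 5) (nat_lit 0x4ba303)) [] (.st (nat_lit 187) [nat_lit 30, nat_lit 11] [] (.st (nat_lit 225) [nat_lit 31, nat_lit 8] [] (.st (nat_lit 645) [nat_lit 30, nat_lit 6] [] (.st (nat_lit 609) [nat_lit 4, nat_lit 12] [] (.st (nat_lit 708)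 [nat_lit 3, nat_lit 30] [] (.st (nat_lit 151) [nat_lit 31, nat_lit 11] [] (.st (nat_lit 518) (unp (nat_lit 5) (nat_lit 0x27a403)) [nat_lit 145] (.st (nat_lit 411) (unp (nat_lit 5) (nat_lit 0x53e403)) [] .nil))))))))) (unp (nat_lit 5) (nat_lit 0x4bc403)) [])⟩)
 (.lf ⟨nat_lit 0, nat_lit 411, nat_lit 411, (nat_lit 0x371021b1d6048299b2ca6b82df430b7d0cdf7524), one, (nat_lit 0x2afc2efed5b7b216a7124f6849b82dc103e3a925), (.we (nat_lit 0) (nat_lit 0) (nat_lit 0xf6d11ea1f2003230c9ae98d7ebf7a100d6421009) (.st (nat_lit 709) [] [] (.st (nat_lit 411) [nat_lit 31] [] .nil)))⟩))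
 (.nd (nat_lit 712) (.lf ⟨nat_lit 0, nat_lit 411, nat_lit 411, (nat_lit 0x3015db885dc7fefe223c35eb8413fb97279c09a11), one, (nat_lit 0x2a3022c16177808041ae4023b35ee8d5b5bada580), (.prod [nat_lit 710, nat_lit 592])⟩)
 (.lf ⟨nat_lit 0, nat_lit 411, nat_lit 411, (nat_lit 0x1cd859d3a253deebde548cf608ea6261d0fe4dd58), one, (nat_lit 0x7ae10979839b58eb37d5abb9526c7844e8324c5e), (.prod [nat_lit 711, nat_lit 710])⟩)))
 (.nd (nat_lit 715) (.nd (nat_lit 714) (.lf ⟨nat_lit 1, nat_lit 402, nat_lit 225, (nat_lit 0x9a472e71a6030c6693ace0c7e5978349d74b3855), (nat_lit 0x71558930316b087c2c53cbb94ec4a01378e24c2c), (nat_lit 0x2e307d598c40c94b5d831bb1e4ad8e2ad05a3ff90), (.wt (nat_lit 5) (nat_lit 3) (nat_lit 0x9e40e71b1f88e195c9d74348bdf398087e99baf5) (.st (nat_lit 226) [nat_lit 29, nat_lit 8] [] (.st (nat_lit 90) [nat_lit 4, nat_lit 13] [] (.st (nat_lit 87) [nat_lit 3, nat_lit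 31] [nat_lit 49] (.st (nat_lit 638) [nat_lit 29, nat_lit 17] [] (.st (nat_lit 547) (unp (nat_lit 5) (nat_lit 0x53a303)) [nat_lit 150] (.st (nat_lit 582) (unp (nat_lit 5) (nat_lit 0x5bc303)) [nat_lit 460] (.st (nat_lit 151) [nat_lit 31, nat_lit 12] [] (.st (nat_lit 518) (unp (nat_lit 5) (nat_lit 0x1ba403)) [nat_lit 145] (.st (nat_lit 402) [nat_lit 31, nat_lit 14] [] .nil))))))))) (unp (nat_lit 5) (nat_lit 0x57c303)) [])⟩)
 (.lf ⟨nat_lit 1, nat_lit 225, nat_lit 402, (nat_lit 0x3eba12c3c3234cd354a978de13ad53d6c7be58abc), (nat_lit 0x2c6e6f3566ab72b7f6f43a4aa4d1f9a056cc786fe), (nat_lit 0x306b853bda0be7e5dd673084cb1c5b0d52c670a5d), (.wt (nat_lit 0) (nat_lit 0) (nat_lit 0x9a472e71a6030c6693ace0c7e5978349d74b3855) (.st (nat_lit 713) [] [] .nil) [nat_lit 4, nat_lit 8] [])⟩))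
 (.nd (nat_lit 716) (.lf ⟨nat_lit 1, nat_lit 121, nat_lit 357, (nat_lit 0xf6d11ea1f2003230c9ae98d7ebf7a100d6421009), (nat_lit 0x26bfaaee12d94c6b7301883f67de7b4947c655a7c), (nat_lit 0x3982215e4dd185a691348af6fee3ff16114eb0f99), (.wt (nat_lit 5) (nat_lit 5) (nat_lit 0x4fb3835e192aa5925c0d7ea58898d87c5284390) (.st (nat_lit 358) (unp (nat_lit 5) (nat_lit 0x43c303)) [] (.st (nat_lit 111) [nat_lit 9] [] (.st (nat_lit 319) (unp (nat_lit 5) (nat_lit 0x43a403)) [] (.st (nat_lit 640) (unp (nat_lit 5) (nat_lit 0x37c403)) [] (.st (nat_lit 579) [nat_lit 4, nat_lit 21] [] (.st (nat_lit 518) [nat_lit 8] [] (.st (nat_lit 577) (unp (nat_lit 5) (nat_lit 0x57e403)) [] (.st (nat_lit 518) (unp (nat_lit 5) (nat_lit 0x43a303)) [] (.st (nat_lit 124) [nat_lit 31, nat_lit 20] [] .nil))))))))) [nat_lit 3, nat_lit 20] [])⟩)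
 (.nd (nat_lit 717) (.lf ⟨nat_lit 1, nat_lit 357, nat_lit 121, (nat_lit 0xf6d11ea1f2003230c9ae98d7ebf7a100d6421009), (nat_lit 0x124990494c1511e782babd70088f2379756401014), (nat_lit 0x26bfaaee12d94c6b7301883f67de7b4947c655a7c), (.wt (nat_lit 0) (nat_lit 0) (nat_lit 0xf6d11ea1f2003230c9ae98d7ebf7a100d6421009) (.st (nat_lit 715) [] [] .nil) [nat_lit 12] [])⟩)
 (.lf ⟨nat_lit 1, nat_lit 296, nat_lit 717, (nat_lit 0x29d069dd4289881cb0b1977aaf1daee2c113e4bec), one, one, (.df [nat_lit 2])⟩)))))))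

noncomputable def T3_718 : Tr :=
  (.nd (nat_lit 735) (.nd (nat_lit 726) (.nd (nat_lit 722) (.nd (nat_lit 720) (.nd (nat_lit 719) (.lf ⟨nat_lit 0, nat_lit 717, nat_lit 717, (nat_lit 0x1297196ed42b6340dca88ed43a53b145041a1d13c), one, (nat_lit 0x98b2154ca236c43dec85ffc3fe2557b5e428d05c), (.cmp (nat_lit 717) (nat_lit 717) [nat_lit 4, nat_lit 31] [nat_lit 690])⟩)
 (.lf ⟨nat_lit 0, nat_lit 717, nat_lit 717, (nat_lit 0xe3e501f6660cfa092a9fc309be027534e3ab7868), one, (nat_lit 0x100c18603031000008086416110106010e0702900), (.cmp (nat_lit 717) (nat_lit 717) [nat_lit 3, nat_lit 29] [nat_lit 696])⟩))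
 (.nd (nat_lit 721) (.lf ⟨nat_lit 0, nat_lit 717, nat_lit 717, (nat_lit 0x1cb949980a7102eefd9cbcd339e6700f449bb75a6), one, (nat_lit 0x96283e98b1d7743ded0cf5e13ade4a2be64f41da), (.prod [nat_lit 718, nat_lit 719])⟩)
 (.lf ⟨nat_lit 0, nat_lit 717, nat_lit 717, (nat_lit 0x1f17ab37d3680aec186d2ec989b1805c40f0c3439), one, (nat_lit 0x2afc2efed5b7b216a7124f6849b82dc103e3a925), (.cmp (nat_lit 717) (nat_lit 717) [nat_lit 8] [nat_lit 479])⟩)))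
 (.nd (nat_lit 724) (.nd (nat_lit 723) (.lf ⟨nat_lit 0, nat_lit 717, nat_lit 717, (nat_lit 0x3bee2f44535c109cfbd75dea39712b27875669ef), one, (nat_lit 0x1370697624741962bca9b23ebc5d75b1e63de71e7), (.prod [nat_lit 720, nat_lit 721])⟩)
 (.lf ⟨nat_lit 0, nat_lit 717, nat_lit 717, (nat_lit 0x105f889bf84ba5216a50d0702eacb68cdacb59cb4), one, (nat_lit 0xc5e71250a7eeeee29cd26a3a8a9d589a2afcb57c), (.cmp (nat_lit 717) (nat_lit 717) [nat_lit 6] [nat_lit 565])⟩))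
 (.nd (nat_lit 725) (.lf ⟨nat_lit 0, nat_lit 717, nat_lit 717, (nat_lit 0x1e71d8df0207a38ad2b5cb84a68c733ee8effccac), one, (nat_lit 0x4ef4135787dfbee29cd1b2392c3c047e4cfe0564), (.prod [nat_lit 719, nat_lit 723])⟩)
 (.lf ⟨nat_lit 0, nat_lit 717, nat_lit 717, (nat_lit 0x13f169540c4032672860241d068e4227d01ba29a9), one, (nat_lit 0x57f628e5d37b98c9d5df1bb848825b5aab37e504), (.prod [nat_lit 722, nat_lit 723])⟩))))
 (.nd (nat_lit 730) (.nd (nat_lit 728) (.nd (nat_lit 727) (.lf ⟨nat_lit 1, nat_lit 717, nat_lit 296, one, (nat_lit 0x29d069dd4289881cb0b1977aaf1daee2c113e4bec), one, (.wt (nat_lit 0) (nat_lit 0) (nat_lit 0x29d069dd4289881cb0b1977aaf1daee2c113e4bec) (.st (nat_lit 717) [] [] .nil) [] [])⟩)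
 (.lf ⟨nat_lit 1, nat_lit 717, nat_lit 125, (nat_lit 0x3eba12c3c3234cd354a978de13ad53d6c7be58abc), (nat_lit 0x29040964e02c06d74a4091956be75539ce633e254), (nat_lit 0x171fcbaebcbb8d7e74d0e5a496f04f8b3330bc196), (.wt (nat_lit 5) (nat_lit 2) (nat_lit 0x305f8834c2ae26cf9a7280fb82cdced45fd6dbedb) (.st (nat_lit 126) (unp (nat_lit 5) (nat_lit 0x33a403)) [] (.st (nat_lit 86) (unp (nat_lit 5) (nat_lit 0x43c403)) [] (.st (nat_lit 492) (unp (nat_lit 5) (nat_lit 0x4ba403)) [nat_lit 83] (.st (nat_lit 90) (unp (nat_lit 5) (nat_lit 0x23c403)) [] (.st (nat_lit 53) [nat_lit 31, nat_lit 18] [] (.st (nat_lit 71) [nat_lit 3, nat_lit 11] [nat_lit 55] (.st (nat_lit 97) (unp (nat_lit 5) (nat_lit 0x5ba303)) [] (.st (nat_lit 296) (unp (nat_lit 5) (nat_lit 0x3fa303)) [] (.st (nat_lit 717) (unp (nat_lit 5) (nat_lit 0x2fa403)) [] .nil))))))))) (unp (nat_lit 5) (nat_lit 0x3fc403)) [])⟩))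
 (.nd (nat_lit 729) (.lf ⟨nat_lit 1, nat_lit 125, nat_lit 717, (nat_lit 0x125910161e8d6fe6d72746c6acb95732f82b12d8b), (nat_lit 0x2ac6c16a370ae70bc4a9f88315be00509d54c0057), (nat_lit 0xbc73acc20b4853daa27c6a10ab6024b89400c555), (.wt (nat_lit 0) (nat_lit 0) (nat_lit 0x3eba12c3c3234cd354a978de13ad53d6c7be58abc) (.st (nat_lit 727) [nat_lit 8] [nat_lit 723] .nil) (unp (nat_lit 5) (nat_lit 0x33c303)) [])⟩)
 (.lf ⟨nat_lit 1, nat_lit 296, nat_lit 729, (nat_lit 0x2ba2cea7bd829f6f53bc17c3f6c7dba59a18cc2c5), one, one, (.df [nat_lit 2, nat_lit 0])⟩)))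
 (.nd (nat_lit 732) (.nd (nat_lit 731) (.lf ⟨nat_lit 0, nat_lit 729, nat_lit 729, (nat_lit 0x1a61280e6271482f172cedb3225072149888b2d86), one, (nat_lit 0x98b2154ca236c43dec85ffc3fe2557b5e428d05c), (.cmp (nat_lit 729) (nat_lit 729) [nat_lit 30, nat_lit 12] [nat_lit 690])⟩)
 (.lf ⟨nat_lit 0, nat_lit 729, nat_lit 729, (nat_lit 0xde880979a19e183f990488a2146d7c9dac5e4d69), one, (nat_lit 0x100c18603031000008086416110106010e0702900), (.cmp (nat_lit 729) (nat_lit 729) (unp (nat_lit 5) (nat_lit 0x43c403)) [nat_lit 696])⟩))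
 (.nd (nat_lit 733) (.lf ⟨nat_lit 0, nat_lit 729, nat_lit 729, (nat_lit 0x1f17ab37d3680aec186d2ec989b1805c40f0c3439), one, (nat_lit 0x2afc2efed5b7b216a7124f6849b82dc103e3a925), (.cmp (nat_lit 729) (nat_lit 729) [nat_lit 8] [nat_lit 479])⟩)
 (.nd (nat_lit 734) (.lf ⟨nat_lit 0, nat_lit 729, nat_lit 729, (nat_lit 0xf5823ae2b3588c8e3fdffba9e8d20b3ac39d7087), one, (nat_lit 0xc5e71250a7eeeee29cd26a3a8a9d589a2afcb57c), (.cmp (nat_lit 729) (nat_lit 729) [nat_lit 9] [nat_lit 565])⟩)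
 (.lf ⟨nat_lit 0, nat_lit 729, nat_lit 729, (nat_lit 0x105f889bf84ba5216a50d0702eacb68cdacb59cb4), one, (nat_lit 0xee1b373f30b10cf4ba4ae752c13f346d025eb84f), (.prod [nat_lit 732, nat_lit 733])⟩))))))
 (.nd (nat_lit 743) (.nd (nat_lit 739) (.nd (nat_lit 737) (.nd (nat_lit 736) (.lf ⟨nat_lit 1, nat_lit 729, nat_lit 296, one, (nat_lit 0x2ba2cea7bd829f6f53bc17c3f6c7dba59a18cc2c5), one, (.wt (nat_lit 0) (nat_lit 0) (nat_lit 0x2ba2cea7bd829f6f53bc17c3f6c7dba59a18cc2c5) (.st (nat_lit 729) [] [] .nil) [] [])⟩)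
 (.lf ⟨nat_lit 1, nat_lit 729, nat_lit 717, (nat_lit 0x100e0aba0d17c70444d02bf329fd10d7608f1b426), (nat_lit 0x100e0aba0d17c70444d02bf329fd10d7608f1b426), one, (.wt (nat_lit 2) (nat_lit 2) one (.st (nat_lit 726) [] [] (.st (nat_lit 729) [] [] .nil)) [] [])⟩))
 (.nd (nat_lit 738) (.lf ⟨nat_lit 1, nat_lit 717, nat_lit 729, (nat_lit 0x100e0aba0d17c70444d02bf329fd10d7608f1b426), (nat_lit 0x100e0aba0d17c70444d02bf329fd10d7608f1b426), one, (.wt (nat_lit 0) (nat_lit 0) (nat_lit 0x100e0aba0d17c70444d02bf329fd10d7608f1b426) (.st (nat_lit 736) [] [] .nil) [] [])⟩)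
 (.lf ⟨nat_lit 1, nat_lit 729, nat_lit 176, (nat_lit 0x3eba12c3c3234cd354a978de13ad53d6c7be58abc), (nat_lit 0x3bc0620ec9948c18f96fb012e3e9772a0fcc3d146), (nat_lit 0x12c15001a3c2f41cc07e4f3f85322159b999d59e1), (.wt (nat_lit 5) (nat_lit 2) (nat_lit 0x32871b433bb65af1150c3acad72fdfbaa6beddfdb) (.st (nat_lit 177) [nat_lit 31, nat_lit 15] [] (.st (nat_lit 88) (unp (nat_lit 5) (nat_lit 0x53a403)) [] (.st (nat_lit 61) [nat_lit 21] [] (.st (nat_lit 82) [nat_lit 14] [nat_lit 63] (.st (nat_lit 691) [nat_lit 30, nat_lit 19] [] (.st (nat_lit 77) (unp (nat_lit 5) (nat_lit 0x57e303)) [] (.st (nat_lit 97) (unp (nat_lit 5) (nat_lit 0x53a303)) [nat_lit 72] (.st (nat_lit 296) (unp (nat_lit 5) (nat_lit 0x47a303)) [] (.st (nat_lit 729) (unp (nat_lit 5) (nat_lit 0x2fa403)) [] .nil))))))))) (unp (nat_lit 5) (nat_lit 0x3fc403)) [])⟩)))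
 (.nd (nat_lit 741) (.nd (nat_lit 740) (.lf ⟨nat_lit 1, nat_lit 176, nat_lit 729, (nat_lit 0x1fce42ed966b34fae64312a96f69e1eea7db1de4), (nat_lit 0x2211be69467244e69611a2d65a76444671240cc79), (nat_lit 0x1785dad8c614509bec4539d29c7547e7773a6c15e), (.wt (nat_lit 0) (nat_lit 0) (nat_lit 0x3eba12c3c3234cd354a978de13ad53d6c7be58abc) (.st (nat_lit 738) [nat_lit 8] [nat_lit 734] .nil) [nat_lit 31, nat_lit 18] [])⟩)
 (.lf ⟨nat_lit 1, nat_lit 333, nat_lit 740, (nat_lit 0x3b6020b1ee99f350ad1583cd87ceba46c32e15ab7), one, one, (.df [nat_lit 3])⟩))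
 (.nd (nat_lit 742) (.lf ⟨nat_lit 0, nat_lit 740, nat_lit 740, (nat_lit 0x1a61280e6271482f172cedb3225072149888b2d86), one, (nat_lit 0xdb4e2b957260e87c2d965e9a91b527778e3ffd59), (.cmp (nat_lit 740) (nat_lit 740) [nat_lit 30, nat_lit 12] [nat_lit 661])⟩)
 (.lf ⟨nat_lit 0, nat_lit 740, nat_lit 740, (nat_lit 0xde880979a19e183f990488a2146d7c9dac5e4d69), one, (nat_lit 0xfb4c3514b7623efe86cffbf3bfa72307c08ef90e), (.cmp (nat_lit 740) (nat_lit 740) (unp (nat_lit 5) (nat_lit 0x43c403)) [nat_lit 663])⟩))))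
 (.nd (nat_lit 747) (.nd (nat_lit 745) (.nd (nat_lit 744) (.lf ⟨nat_lit 1, nat_lit 740, nat_lit 333, one, (nat_lit 0x3b6020b1ee99f350ad1583cd87ceba46c32e15ab7), one, (.wt (nat_lit 0) (nat_lit 0) (nat_lit 0x3b6020b1ee99f350ad1583cd87ceba46c32e15ab7) (.st (nat_lit 740) [] [] .nil) [] [])⟩)
 (.lf ⟨nat_lit 1, nat_lit 89, nat_lit 82, (nat_lit 0x29d069dd4289881cb0b1977aaf1daee2c113e4bec), (nat_lit 0x10e973cb7281a4980a79eca638ac93ddc0f3c7478), (nat_lit 0x82801ce0b05af1a002aa0aaa2292e1500a722a94), (.ren (nat_lit 190) [] [] [nat_lit 444])⟩))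
 (.nd (nat_lit 746) (.lf ⟨nat_lit 1, nat_lit 82, nat_lit 105, (nat_lit 0xf6d11ea1f2003230c9ae98d7ebf7a100d6421009), (nat_lit 0x2f2f6c87b27f1690552bda9a21cc1126f709b0ffa), (nat_lit 0x1bfa8354bda6dc1199bffd8798d00c8b1561e8eb8), (.ren (nat_lit 133) [] [] [nat_lit 564])⟩)
 (.lf ⟨nat_lit 1, nat_lit 740, nat_lit 162, (nat_lit 0x3b6020b1ee99f350ad1583cd87ceba46c32e15ab7), (nat_lit 0xf3e7afbf5b9b7b5ce935acc012a511a8df6b99e6), (nat_lit 0xdd8f1d76b5c64eaaffa8a93eaf892d65fd57a74), (.wt (nat_lit 5) (nat_lit 2) (nat_lit 0xd043ebfb6cd6655f7bd44ba3e801e77ba42b7c43) (.st (nat_lit 163) (unp (nat_lit 5) (nat_lit 0x1bc303)) [] (.st (nat_lit 138) (unp (nat_lit 5) (nat_lit 0x2fa403)) [] (.st (nat_lit 642) (unp (nat_lit 5) (nat_lit 0x3fc403)) [] (.st (nat_lit 609) [nat_lit 30, nat_lit 22] [] (.st (nat_lit 209) [nat_lit 29, nat_lit 8] [] (.st (nat_lit 744) [nat_lit 29] [] (.st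 (nat_lit 745) [nat_lit 30, nat_lit 8] [nat_lit 83] (.st (nat_lit 333) [nat_lit 4, nat_lit 13] [] (.st (nat_lit 740) [nat_lit 4, nat_lit 20] [] .nil))))))))) (unp (nat_lit 5) (nat_lit 0x37e303)) [])⟩)))
 (.nd (nat_lit 749) (.nd (nat_lit 748) (.lf ⟨nat_lit 1, nat_lit 162, nat_lit 740, (nat_lit 0x9a472e71a6030c6693ace0c7e5978349d74b3855), (nat_lit 0x20aa58a399fa08a10a02281e80f20a30594f3bb08), (nat_lit 0x1b9125bf35ad154cad8e3f239f3e7bfae56c97615), (.wt (nat_lit 0) (nat_lit 0) (nat_lit 0x3b6020b1ee99f350ad1583cd87ceba46c32e15ab7) (.st (nat_lit 746) [] [] .nil) (unp (nat_lit 5) (nat_lit 0x2fa403)) [])⟩)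
 (.lf ⟨nat_lit 1, nat_lit 740, nat_lit 279, (nat_lit 0x9a472e71a6030c6693ace0c7e5978349d74b3855), (nat_lit 0x1483c08fbc1c858b6e11f25776f6c3bf72274b6d5), (nat_lit 0x13c6ebc176ae1c7009837846b99116e574d4212b3), (.wt (nat_lit 5) (nat_lit 2) (nat_lit 0x683a5764881768019a3e48cb35074e9a4e1baf0) (.st (nat_lit 280) (unp (nat_lit 5) (nat_lit 0x53c403)) [] (.st (nat_lit 296) (unp (nat_lit 5) (nat_lit 0x27c303)) [] (.st (nat_lit 717) [nat_lit 29, nat_lit 19] [] (.st (nat_lit 727) [nat_lit 3, nat_lit 29] [nat_lit 724] (.st (nat_lit 701) [nat_lit 4, nat_lit 29] [nat_lit 557] (.st (nat_lit 325) (unp (nat_lit 5) (nat_lit 0x4fa403)) [] (.st (nat_lit 642) [nat_lit 4, nat_lit 12] [] (.st (nat_lit 336) [nat_lit 17] [] (.st (nat_lit 740) [nat_lit 30, nat_lit 18] [] .nil))))))))) [nat_lit 4, nat_lit 16] [])⟩))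
 (.nd (nat_lit 750) (.lf ⟨nat_lit 1, nat_lit 279, nat_lit 740, (nat_lit 0x3b6020b1ee99f350ad1583cd87ceba46c32e15ab7), (nat_lit 0x33d5c4505bb377b822b4edd5e2cf8ffc69181ee63), (nat_lit 0x182d3974edd5645163fb11bcb95e90b4ae1f4beda), (.wt (nat_lit 0) (nat_lit 0) (nat_lit 0x9a472e71a6030c6693ace0c7e5978349d74b3855) (.st (nat_lit 748) [] [] .nil) (unp (nat_lit 5) (nat_lit 0x3be303)) [])⟩)
 (.nd (nat_lit 751) (.lf ⟨nat_lit 1, nat_lit 333, nat_lit 750, (nat_lit 0x125910161e8d6fe6d72746c6acb95732f82b12d8b), one, one, (.df [nat_lit 2, nat_lit 8])⟩)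
 (.lf ⟨nat_lit 0, nat_lit 750, nat_lit 750, (nat_lit 0xd90b162b66b58e6d08821ad01e7c167004d8e1fc), one, (nat_lit 0xdb4e2b957260e87c2d965e9a91b527778e3ffd59), (.cmp (nat_lit 750) (nat_lit 750) (unp (nat_lit 5) (nat_lit 0x23e403)) [nat_lit 661])⟩)))))))

noncomputable def T3_752 : Tr :=
  (.nd (nat_lit 769) (.nd (nat_lit 760) (.nd (nat_lit 756) (.nd (nat_lit 754) (.nd (nat_lit 753) (.lf ⟨nat_lit 0, nat_lit 750, nat_lit 750, (nat_lit 0x176708afc7d76226519823ab768f79ea6a430c16), one, (nat_lit 0xfb4c3514b7623efe86cffbf3bfa72307c08ef90e), (.cmp (nat_lit 750) (nat_lit 750) (unp (nat_lit 5) (nat_lit 0x27a303)) [nat_lit 663])⟩)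
 (.lf ⟨nat_lit 0, nat_lit 750, nat_lit 750, (nat_lit 0xcf6c238431296858381ed13a54f36fddaf7bedeb), one, (nat_lit 0xc8441ea1e3419cb6e1d487692c344373eba10456), (.prod [nat_lit 751, nat_lit 752])⟩))
 (.nd (nat_lit 755) (.lf ⟨nat_lit 1, nat_lit 750, nat_lit 333, one, (nat_lit 0x125910161e8d6fe6d72746c6acb95732f82b12d8b), one, (.wt (nat_lit 0) (nat_lit 0) (nat_lit 0x125910161e8d6fe6d72746c6acb95732f82b12d8b) (.st (nat_lit 750) [] [] .nil) [] [])⟩)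
 (.lf ⟨nat_lit 1, nat_lit 750, nat_lit 740, (nat_lit 0x100e0aba0d17c70444d02bf329fd10d7608f1b426), (nat_lit 0x1fcc4265e5f5e8c58e758190706d179ef60cc5dd7), one, (.wt (nat_lit 2) (nat_lit 2) (nat_lit 0xa2ea9a2d0d739cc971a9d423bd96b619a03ddbf2) (.st (nat_lit 743) [nat_lit 4, nat_lit 22] [] (.st (nat_lit 750) [] [] .nil)) [] [])⟩)))
 (.nd (nat_lit 758) (.nd (nat_lit 757) (.lf ⟨nat_lit 1, nat_lit 740, nat_lit 750, (nat_lit 0x100e0aba0d17c70444d02bf329fd10d7608f1b426), (nat_lit 0x3e9bb5a40ffe36717b19c821828fe8c2a374cf1a2), one, (.wt (nat_lit 0) (nat_lit 0) (nat_lit 0x100e0aba0d17c70444d02bf329fd10d7608f1b426) (.st (nat_lit 755) [] [] .nil) (unp (nat_lit 5) (nat_lit 0x3fe303)) [])⟩)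
 (.lf ⟨nat_lit 1, nat_lit 74, nat_lit 89, (nat_lit 0x1fce42ed966b34fae64312a96f69e1eea7db1de4), (nat_lit 0x762b6060da8981ed93d909d89630dbcf23cbf488), (nat_lit 0xb6640dad88c279bec6138a9ebbc678bb3ef898d7), (.ren (nat_lit 113) [] [] [nat_lit 520])⟩))
 (.nd (nat_lit 759) (.lf ⟨nat_lit 1, nat_lit 750, nat_lit 138, (nat_lit 0x29d069dd4289881cb0b1977aaf1daee2c113e4bec), (nat_lit 0x740c002fe864a17713590fcce1cd7a0f34e77dd3), (nat_lit 0xedeb78bf7d918e5dd40d9f0538361da6153d25ac), (.wt (nat_lit 5) (nat_lit 2) (nat_lit 0x3f70e41c4a34b3b13f7a0b9ab71cb7bd29c728359) (.st (nat_lit 627) [nat_lit 29, nat_lit 20] [] (.st (nat_lit 623) (unp (nat_lit 5) (nat_lit 0x43a303)) [nat_lit 650] (.st (nat_lit 703) (unp (nat_lit 5) (nat_lit 0x5ba303)) [] (.st (nat_lit 110) (unp (nat_lit 5) (nat_lit 0x1bc403)) [] (.st (nat_lit 757) [nat_lit 3, nat_lit 8] [nat_lit 75] (.st (nat_lit 225)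 [nat_lit 29, nat_lit 21] [] (.st (nat_lit 645) (unp (nat_lit 5) (nat_lit 0x33e403)) [] (.st (nat_lit 336) [nat_lit 3, nat_lit 19] [] (.st (nat_lit 750) (unp (nat_lit 5) (nat_lit 0x2fe303)) [] .nil))))))))) (unp (nat_lit 5) (nat_lit 0x37a303)) [])⟩)
 (.lf ⟨nat_lit 1, nat_lit 138, nat_lit 750, (nat_lit 0x3b6020b1ee99f350ad1583cd87ceba46c32e15ab7), (nat_lit 0x1a73377ff03622b4cd2968cc34be9b98488c923aa), (nat_lit 0xc91373debc44ce21b70b71346fea1e39d8b54112), (.wt (nat_lit 0) (nat_lit 0) (nat_lit 0x29d069dd4289881cb0b1977aaf1daee2c113e4bec) (.st (nat_lit 758) [] [] .nil) (unp (nat_lit 5) (nat_lit 0x33a403)) [])⟩))))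
 (.nd (nat_lit 764) (.nd (nat_lit 762) (.nd (nat_lit 761) (.lf ⟨nat_lit 1, nat_lit 750, nat_lit 321, (nat_lit 0x2ba2cea7bd829f6f53bc17c3f6c7dba59a18cc2c5), (nat_lit 0x2ec57ea3fdf80abcaa5ce37e6bb1a70a9f51089cf), (nat_lit 0x1c9007713c20ba269566db7d203deab210e58970b), (.wt (nat_lit 5) (nat_lit 2) (nat_lit 0x904cd8407f102a464fe936b25f9266b436ea55e4) (.st (nat_lit 322) (unp (nat_lit 5) (nat_lit 0x1be303)) [] (.st (nat_lit 634) [nat_lit 29, nat_lit 16] [] (.st (nat_lit 587) (unp (nat_lit 5) (nat_lit 0x53e303)) [] (.st (nat_lit 165) (unp (nat_lit 5) (nat_lit 0x3ba403)) [] (.st (nat_lit 676) [nat_lit 31, nat_lit 21] [] (.st (nat_lit 630) (unp (nat_lit 5) (nat_lit 0x4fc303)) [] (.st (nat_lit 629) (unp (nat_lit 5) (nat_lit 0x27e403)) [nat_lit 649] (.st (nat_lit 336) [nat_lit 3, nat_lit 21] [] (.st (nat_lit 750) (unp (nat_lit 5) (nat_lit 0x37e303)) [] .nil)))))))))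 (unp (nat_lit 5) (nat_lit 0x37a303)) [])⟩)
 (.lf ⟨nat_lit 1, nat_lit 321, nat_lit 750, (nat_lit 0x9a472e71a6030c6693ace0c7e5978349d74b3855), (nat_lit 0x2d807977004c569a83f0593ac00439aa46285d50e), (nat_lit 0x310bc676b4b05cf728a822509a37906489384e9e), (.wt (nat_lit 0) (nat_lit 0) (nat_lit 0x2ba2cea7bd829f6f53bc17c3f6c7dba59a18cc2c5) (.st (nat_lit 760) [] [] .nil) [nat_lit 3, nat_lit 16] [])⟩))
 (.nd (nat_lit 763) (.lf ⟨nat_lit 1, nat_lit 200, nat_lit 762, (nat_lit 0x1fce42ed966b34fae64312a96f69e1eea7db1de4), one, one, (.df [nat_lit 8])⟩)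
 (.lf ⟨nat_lit 0, nat_lit 762, nat_lit 762, (nat_lit 0x176708afc7d76226519823ab768f79ea6a430c16), one, (nat_lit 0x1eaa3b02eb39efc912eddee28aaea30318f3e1c61), (.cmp (nat_lit 762) (nat_lit 762) (unp (nat_lit 5) (nat_lit 0x27a303)) [nat_lit 649])⟩)))
 (.nd (nat_lit 766) (.nd (nat_lit 765) (.lf ⟨nat_lit 1, nat_lit 762, nat_lit 200, one, (nat_lit 0x1fce42ed966b34fae64312a96f69e1eea7db1de4), one, (.wt (nat_lit 0) (nat_lit 0) (nat_lit 0x1fce42ed966b34fae64312a96f69e1eea7db1de4) (.st (nat_lit 762) [] [] .nil) [] [])⟩)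
 (.lf ⟨nat_lit 1, nat_lit 762, nat_lit 262, (nat_lit 0x100e0aba0d17c70444d02bf329fd10d7608f1b426), (nat_lit 0x3851c0fad760210111a50fcd653ad4f0dd0ba4b1a), (nat_lit 0x16138eeedbad4a5dc43ae03e4b8ad98d615cffa3e), (.wt (nat_lit 2) (nat_lit 2) (nat_lit 0x1d36afb6a4866b1ffb5b2ad66a070a4f291f6fac6) (.st (nat_lit 625) [nat_lit 3, nat_lit 13] [] (.st (nat_lit 762) [] [] .nil)) [] [])⟩))
 (.nd (nat_lit 767) (.lf ⟨nat_lit 1, nat_lit 262, nat_lit 762, (nat_lit 0x9a472e71a6030c6693ace0c7e5978349d74b3855), (nat_lit 0x16138eeedbad4a5dc43ae03e4b8ad98d615cffa3e), (nat_lit 0x1bb3bfddddbe9592abbe25256fa1aa50392a572af), (.wt (nat_lit 0) (nat_lit 0) (nat_lit 0x100e0aba0d17c70444d02bf329fd10d7608f1b426) (.st (nat_lit 765) [] [] .nil) [nat_lit 30, nat_lit 18] [])⟩)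
 (.nd (nat_lit 768) (.lf ⟨nat_lit 1, nat_lit 149, nat_lit 87, (nat_lit 0x3eba12c3c3234cd354a978de13ad53d6c7be58abc), (nat_lit 0x237105baa068686c15f1aab92e3946e3c875311c7), (nat_lit 0xc080a3e4306cc8986d7c253f00526df1eb9478fe), (.ren (nat_lit 373) [] [] [nat_lit 499])⟩)
 (.lf ⟨nat_lit 1, nat_lit 762, nat_lit 162, (nat_lit 0x2ba2cea7bd829f6f53bc17c3f6c7dba59a18cc2c5), (nat_lit 0x2b3d2e854787e4cbf01b4be35ffb18af2a24601be), (nat_lit 0x3129f347ebc2aaa635665f4682dc33041638ebe57), (.wt (nat_lit 5) (nat_lit 2) (nat_lit 0x88278b68c34ad18f165e3342438a0200295c67c1) (.st (nat_lit 163) (unp (nat_lit 5) (nat_lit 0x3fa403)) [] (.st (nat_lit 92) (unp (nat_lit 5) (nat_lit 0x3bc403)) [] (.st (nat_lit 208) [nat_lit 4, nat_lit 11] [] (.st (nat_lit 708) [nat_lit 4, nat_lit 22] [] (.st (nat_lit 767) (unp (nat_lit 5) (nat_lit 0x47a403)) [nat_lit 150] (.st (nat_lit 615) [nat_lit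 9] [] (.st (nat_lit 92) [nat_lit 31] [] (.st (nat_lit 200) [nat_lit 31, nat_lit 19] [] (.st (nat_lit 762) (unp (nat_lit 5) (nat_lit 0x3bc303)) [] .nil))))))))) [nat_lit 3] [])⟩))))))
 (.nd (nat_lit 777) (.nd (nat_lit 773) (.nd (nat_lit 771) (.nd (nat_lit 770) (.lf ⟨nat_lit 1, nat_lit 162, nat_lit 762, (nat_lit 0x3b6020b1ee99f350ad1583cd87ceba46c32e15ab7), (nat_lit 0xaf618fbc07e7ee6d7370c4db76ea4ef384d0ba00), (nat_lit 0x2e3e5a42c9d25a690203ba4d399c471e08f6a8a6e), (.wt (nat_lit 0) (nat_lit 0) (nat_lit 0x2ba2cea7bd829f6f53bc17c3f6c7dba59a18cc2c5) (.st (nat_lit 768) [] [] .nil) [nat_lit 3, nat_lit 17] [])⟩)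
 (.lf ⟨nat_lit 1, nat_lit 762, nat_lit 121, (nat_lit 0xf6d11ea1f2003230c9ae98d7ebf7a100d6421009), (nat_lit 0x38d571562accb257d495fa47159e73cee0943da4c), (nat_lit 0x2bd57b63b6e1e54e728f1917e9c240084ef712c03), (.wt (nat_lit 5) (nat_lit 2) (nat_lit 0x12ef2a6dbda37e1ffb505c10de316c1f31fcaae36) (.st (nat_lit 122) (unp (nat_lit 5) (nat_lit 0x43e303)) [] (.st (nat_lit 86) (unp (nat_lit 5) (nat_lit 0x5bc303)) [] (.st (nat_lit 745) (unp (nat_lit 5) (nat_lit 0x23e303)) [nat_lit 83] (.st (nat_lit 106) [nat_lit 14] [] (.st (nat_lit 757) [nat_lit 3, nat_lit 18] [] (.st (nat_lit 200) [nat_lit 6] [] (.st (nat_lit 228) [nat_lit 29, nat_lit 21] [nat_lit 649] (.st (nat_lit 596) (unp (nat_lit 5) (nat_lit 0x53e303)) [] (.st (nat_lit 762) (unp (nat_lit 5) (nat_lit 0x37a403)) [] .nil))))))))) (unp (nat_lit 5) (nat_lit 0x27a303)) [])⟩))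
 (.nd (nat_lit 772) (.lf ⟨nat_lit 1, nat_lit 121, nat_lit 762, (nat_lit 0x2ba2cea7bd829f6f53bc17c3f6c7dba59a18cc2c5), (nat_lit 0x200d102c9eb32a3f0e7902b3f06d5e6f5d023808c), (nat_lit 0x388b615b67b0326e052f661dd47356698088015db), (.wt (nat_lit 0) (nat_lit 0) (nat_lit 0xf6d11ea1f2003230c9ae98d7ebf7a100d6421009) (.st (nat_lit 770) [] [] .nil) [nat_lit 31, nat_lit 16] [])⟩)
 (.lf ⟨nat_lit 1, nat_lit 762, nat_lit 121, (nat_lit 0x29d069dd4289881cb0b1977aaf1daee2c113e4bec), (nat_lit 0x1e8d3b017b7a5ee3fe294a3292e6c7a41efb8cd7e), (nat_lit 0x19d5199b96b3cac6212f6ead5e5691a749d4d39f), (.wt (nat_lit 5) (nat_lit 2) (nat_lit 0x3f07a9b8e89b6a07798f7f411c41eea3f3ef0ce5c) (.st (nat_lit 122) (unp (nat_lit 5) (nat_lit 0x5bc303)) [] (.st (nat_lit 81) (unp (nat_lit 5) (nat_lit 0x5bc403)) [] (.st (nat_lit 65) (unp (nat_lit 5) (nat_lit 0x43e403)) [nat_lit 68] (.st (nat_lit 74)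 [nat_lit 3, nat_lit 29] [] (.st (nat_lit 757) (unp (nat_lit 5) (nat_lit 0x4be403)) [nat_lit 75] (.st (nat_lit 186) (unp (nat_lit 5) (nat_lit 0x3be403)) [] (.st (nat_lit 548) [nat_lit 18] [] (.st (nat_lit 227) [nat_lit 29, nat_lit 18] [] (.st (nat_lit 762) (unp (nat_lit 5) (nat_lit 0x2fc303)) [] .nil))))))))) [nat_lit 3, nat_lit 8] [])⟩)))
 (.nd (nat_lit 775) (.nd (nat_lit 774) (.lf ⟨nat_lit 1, nat_lit 121, nat_lit 762, (nat_lit 0x125910161e8d6fe6d72746c6acb95732f82b12d8b), (nat_lit 0x19ba4ababf39a505ff984efb1f4386305e83f5d7d), (nat_lit 0x51552b5dc57b163875f9b395f5aa8874c035a7d8), (.wt (nat_lit 0) (nat_lit 0) (nat_lit 0x29d069dd4289881cb0b1977aaf1daee2c113e4bec) (.st (nat_lit 772) [] [] .nil) (unp (nat_lit 5) (nat_lit 0x2fe303)) [])⟩)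
 (.lf ⟨nat_lit 1, nat_lit 202, nat_lit 774, (nat_lit 0xf6d11ea1f2003230c9ae98d7ebf7a100d6421009), one, one, (.df (unp (nat_lit 2) (nat_lit 0x2203)))⟩))
 (.nd (nat_lit 776) (.lf ⟨nat_lit 0, nat_lit 774, nat_lit 774, (nat_lit 0x1cc1780e627762abc24c7f3203aa4427ba0a9e1c5), one, (nat_lit 0x1059d9c2943c134f001d3b17bfe8d5e9b649c31ce), (.cmp (nat_lit 774) (nat_lit 774) (unp (nat_lit 5) (nat_lit 0x3fc403)) [nat_lit 532])⟩)
 (.lf ⟨nat_lit 1, nat_lit 774, nat_lit 202, one, (nat_lit 0xf6d11ea1f2003230c9ae98d7ebf7a100d6421009), one, (.wt (nat_lit 0) (nat_lit 0) (nat_lit 0xf6d11ea1f2003230c9ae98d7ebf7a100d6421009) (.st (nat_lit 774) [] [] .nil) [] [])⟩))))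
 (.nd (nat_lit 781) (.nd (nat_lit 779) (.nd (nat_lit 778) (.lf ⟨nat_lit 1, nat_lit 774, nat_lit 352, (nat_lit 0x100e0aba0d17c70444d02bf329fd10d7608f1b426), (nat_lit 0x3f95822386b969c69b7f817c77e48ede6455ae727), (nat_lit 0x1d89ec15889e4d5d07556b6ef54320c188e78411c), (.wt (nat_lit 2) (nat_lit 2) (nat_lit 0x2eedf0e9cbd60adceeb154a336a8c77720b2827a7) (.st (nat_lit 612) [nat_lit 4, nat_lit 14] [] (.st (nat_lit 774) [] [] .nil)) [] [])⟩)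
 (.lf ⟨nat_lit 1, nat_lit 352, nat_lit 774, (nat_lit 0xf6d11ea1f2003230c9ae98d7ebf7a100d6421009), (nat_lit 0x3e61e14df796501f78fa11170d566ed8ddc0e4019), (nat_lit 0x11c05de2aa918498e845d15bc06e903b7c5a8a436), (.wt (nat_lit 0) (nat_lit 0) (nat_lit 0x100e0aba0d17c70444d02bf329fd10d7608f1b426) (.st (nat_lit 777) [] [] .nil) (unp (nat_lit 5) (nat_lit 0x4fe403)) [])⟩))
 (.nd (nat_lit 780) (.lf ⟨nat_lit 1, nat_lit 774, nat_lit 238, (nat_lit 0x29d069dd4289881cb0b1977aaf1daee2c113e4bec), (nat_lit 0x2413045598f1b2397d29b952711dac6c6f51b3a96), (nat_lit 0x14e20a55c6dcdb430fcee7d13223825be97314bb7), (.wt (nat_lit 5) (nat_lit 2) (nat_lit 0x1363e217365d9ebcf1dbd8c558afdebd005ee202f) (.st (nat_lit 600) [nat_lit 30, nat_lit 17] [] (.st (nat_lit 102) (unp (nat_lit 5) (nat_lit 0x3fe303)) [] (.st (nat_lit 95) [nat_lit 4, nat_lit 30] [nat_lit 72] (.st (nat_lit 260) [nat_lit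 31, nat_lit 18] [] (.st (nat_lit 679) (unp (nat_lit 5) (nat_lit 0x43c303)) [] (.st (nat_lit 683) (unp (nat_lit 5) (nat_lit 0x53a403)) [] (.st (nat_lit 640) (unp (nat_lit 5) (nat_lit 0x43c303)) [] (.st (nat_lit 205) [nat_lit 31, nat_lit 14] [] (.st (nat_lit 774) (unp (nat_lit 5) (nat_lit 0x23a303)) [] .nil))))))))) [nat_lit 29, nat_lit 13] [])⟩)
 (.lf ⟨nat_lit 1, nat_lit 238, nat_lit 774, (nat_lit 0x29d069dd4289881cb0b1977aaf1daee2c113e4bec), (nat_lit 0x39109732ae6b829fcd02b9f11042dda295a177821), (nat_lit 0x18c4593db1ac00acba024e7602faf34afd67e2be0), (.wt (nat_lit 0) (nat_lit 0) (nat_lit 0x29d069dd4289881cb0b1977aaf1daee2c113e4bec) (.st (nat_lit 779) [] [] .nil) [nat_lit 29, nat_lit 9] [])⟩)))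
 (.nd (nat_lit 783) (.nd (nat_lit 782) (.lf ⟨nat_lit 1, nat_lit 774, nat_lit 260, (nat_lit 0x9a472e71a6030c6693ace0c7e5978349d74b3855), (nat_lit 0x212f09b0929665560b79e82963714f45244f49213), (nat_lit 0x129cd119da7a00e970b7d2071ff55af8efdcbc85), (.wt (nat_lit 5) (nat_lit 2) (nat_lit 0x241604a849aa38571af59288e990a0bee610332e0) (.st (nat_lit 604) [nat_lit 30, nat_lit 16] [] (.st (nat_lit 256) [nat_lit 3, nat_lit 13] [] (.st (nat_lit 148) [nat_lit 4, nat_lit 21] [] (.st (nat_lit 518) [nat_lit 3, nat_lit 11] [] (.st (nat_lit 577) (unp (nat_lit 5) (nat_lit 0x33c303)) [] (.st (nat_lit 143) [nat_lit 4, nat_lit 19] [] (.st (nat_lit 92) (unp (nat_lit 5) (nat_lit 0x5ba303)) [] (.st (nat_lit 202) [nat_lit 4, nat_lit 29] [] (.st (nat_lit 774) [nat_lit 29, nat_lit 22] [] .nil))))))))) (unp (nat_lit 5) (nat_lit 0x33c303)) [])⟩)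
 (.lf ⟨nat_lit 1, nat_lit 260, nat_lit 774, (nat_lit 0x3eba12c3c3234cd354a978de13ad53d6c7be58abc), (nat_lit 0x16010d02800200051000444886001c0a221322120), (nat_lit 0x10cd06264ca2eb42128e7499f84c57846e90ee5fd), (.wt (nat_lit 0) (nat_lit 0) (nat_lit 0x9a472e71a6030c6693ace0c7e5978349d74b3855) (.st (nat_lit 781) [] [] .nil) (unp (nat_lit 5) (nat_lit 0x1be403)) [])⟩))
 (.nd (nat_lit 784) (.lf ⟨nat_lit 1, nat_lit 774, nat_lit 352, (nat_lit 0xf6d11ea1f2003230c9ae98d7ebf7a100d6421009), (nat_lit 0x1fce42ed966b34fae64312a96f69e1eea7db1de4), (nat_lit 0x2187e49b424e55087bfb35329c76babf0a1f3285d), (.wt (nat_lit 6) (nat_lit 2) (nat_lit 0xe61e38bec712a461515696e1bcf96e38c0a60401) (.st (nat_lit 353) (unp (nat_lit 5) (nat_lit 0x2fc403)) [] (.st (nat_lit 603) (unp (nat_lit 5) (nat_lit 0x23e303)) [] (.st (nat_lit 646) [nat_lit 15] [] (.st (nat_lit 602) (unp (nat_lit 5) (nat_lit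 0x57c303)) [nat_lit 239] (.st (nat_lit 226) [nat_lit 4, nat_lit 30] [] (.st (nat_lit 202) (unp (nat_lit 5) (nat_lit 0x2fc403)) [] (.st (nat_lit 774) (unp (nat_lit 5) (nat_lit 0x3bc403)) [] .nil))))))) (unp (nat_lit 5) (nat_lit 0x33c403)) [])⟩)
 (.nd (nat_lit 785) (.lf ⟨nat_lit 1, nat_lit 352, nat_lit 774, (nat_lit 0x1fce42ed966b34fae64312a96f69e1eea7db1de4), (nat_lit 0xf6d11ea1f2003230c9ae98d7ebf7a100d6421009), (nat_lit 0x2ab6d488d439ef205997f608a0ee8e28647f1b8a1), (.wt (nat_lit 0) (nat_lit 0) (nat_lit 0xf6d11ea1f2003230c9ae98d7ebf7a100d6421009) (.st (nat_lit 783) [] [] .nil) [] [])⟩)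
 (.lf ⟨nat_lit 1, nat_lit 229, nat_lit 785, (nat_lit 0x29d069dd4289881cb0b1977aaf1daee2c113e4bec), one, one, (.df [nat_lit 2])⟩)))))))

noncomputable def T3_786 : Tr :=
  (.nd (nat_lit 803) (.nd (nat_lit 794) (.nd (nat_lit 790) (.nd (nat_lit 788) (.nd (nat_lit 787) (.lf ⟨nat_lit 0, nat_lit 785, nat_lit 785, (nat_lit 0xde880979a19e183f990488a2146d7c9dac5e4d69), one, (nat_lit 0x135e171446b8665be08be2d2219b395507e6e9f2), (.cmp (nat_lit 785) (nat_lit 785) (unp (nat_lit 5) (nat_lit 0x43c403)) [nat_lit 450])⟩)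
 (.lf ⟨nat_lit 1, nat_lit 785, nat_lit 229, one, (nat_lit 0x29d069dd4289881cb0b1977aaf1daee2c113e4bec), one, (.wt (nat_lit 0) (nat_lit 0) (nat_lit 0x29d069dd4289881cb0b1977aaf1daee2c113e4bec) (.st (nat_lit 785) [] [] .nil) [] [])⟩))
 (.nd (nat_lit 789) (.lf ⟨nat_lit 1, nat_lit 785, nat_lit 294, (nat_lit 0x3b6020b1ee99f350ad1583cd87ceba46c32e15ab7), (nat_lit 0x18fbe579984b927393dff3d01fc9731de8ea3e2de), (nat_lit 0x3681420e585ebad00cb8e618a8bc43b0c0020a060), (.wt (nat_lit 5) (nat_lit 2) (nat_lit 0x437dbdefeb4ffcb399d5c95e3387c77a5cb4e151) (.st (nat_lit 680) [nat_lit 30, nat_lit 21] [] (.st (nat_lit 659) [nat_lit 29, nat_lit 18] [] (.st (nat_lit 281) (unp (nat_lit 5) (nat_lit 0x5be303)) [] (.st (nat_lit 209) [nat_lit 19] [] (.st (nat_lit 200) [nat_lit 30, nat_lit 14] [] (.st (nat_lit 628) [nat_lit 4, nat_lit 21] [] (.st (nat_lit 264) (unp (nat_lit 5) (nat_lit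 0x27e303)) [] (.st (nat_lit 594) [nat_lit 4, nat_lit 20] [] (.st (nat_lit 785) [nat_lit 4, nat_lit 14] [] .nil))))))))) [nat_lit 3, nat_lit 19] [])⟩)
 (.lf ⟨nat_lit 1, nat_lit 294, nat_lit 785, (nat_lit 0x125910161e8d6fe6d72746c6acb95732f82b12d8b), (nat_lit 0x35214522e2399fed179d3b761b29b3ca13ebfef29), (nat_lit 0x275be997d92280b246612ed2002ab0d0282e1b8c4), (.wt (nat_lit 0) (nat_lit 0) (nat_lit 0x3b6020b1ee99f350ad1583cd87ceba46c32e15ab7) (.st (nat_lit 788) [] [] .nil) [nat_lit 29, nat_lit 17] [])⟩)))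
 (.nd (nat_lit 792) (.nd (nat_lit 791) (.lf ⟨nat_lit 1, nat_lit 785, nat_lit 135, (nat_lit 0x1fce42ed966b34fae64312a96f69e1eea7db1de4), (nat_lit 0x1af947507bdf724916351cddaf00e05a2d599d28e), (nat_lit 0xaa9b983be0eafc21ed3a7db02f321ce564bcebeb), (.wt (nat_lit 5) (nat_lit 2) (nat_lit 0x105cf6d5817356ad1b0dbba15dbd8f2690a0a228e) (.st (nat_lit 678) (unp (nat_lit 5) (nat_lit 0x3fa303)) [] (.st (nat_lit 333) (unp (nat_lit 5) (nat_lit 0x4be403)) [] (.st (nat_lit 335) [nat_lit 22] [nat_lit 664] (.st (nat_lit 609) [nat_lit 3, nat_lit 12] [] (.st (nat_lit 708) [nat_lit 31, nat_lit 17] [] (.st (nat_lit 547) (unp (nat_lit 5) (nat_lit 0x27e303)) [nat_lit 150] (.st (nat_lit 211) [nat_lit 30, nat_lit 22] [nat_lit 460] (.st (nat_lit 232) [nat_lit 29, nat_lit 11] [] (.st (nat_lit 785) [nat_lit 29, nat_lit 16] [] .nil))))))))) (unp (nat_lit 5) (nat_lit 0x43e403)) [])⟩)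
 (.lf ⟨nat_lit 1, nat_lit 135, nat_lit 785, (nat_lit 0x3b6020b1ee99f350ad1583cd87ceba46c32e15ab7), (nat_lit 0x1a3d1e118829de2393c3ab2cdc114e191c4d178ca), (nat_lit 0x1d8eb1b7ee13bc459c32aad097b6e7ad2069ea2a2), (.wt (nat_lit 0) (nat_lit 0) (nat_lit 0x1fce42ed966b34fae64312a96f69e1eea7db1de4) (.st (nat_lit 790) [] [] .nil) [nat_lit 31, nat_lit 21] [])⟩))
 (.nd (nat_lit 793) (.lf ⟨nat_lit 1, nat_lit 785, nat_lit 266, (nat_lit 0x2ba2cea7bd829f6f53bc17c3f6c7dba59a18cc2c5), (nat_lit 0x3f38e24e6f43edb96479cbd3b6d3812dcf111e76c), (nat_lit 0xb318dc6ee09bdad6c93b9a9248d908848d00b4b3), (.wt (nat_lit 5) (nat_lit 2) (nat_lit 0x2a983f110894ad5bc5045646b0a8c4d5189a30800) (.st (nat_lit 268) [nat_lit 3, nat_lit 21] [] (.st (nat_lit 259) [nat_lit 29, nat_lit 13] [nat_lit 632] (.st (nat_lit 262) (unp (nat_lit 5) (nat_lit 0x53a403)) [] (.st (nat_lit 623) [nat_lit 21] [] (.st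 (nat_lit 262) (unp (nat_lit 5) (nat_lit 0x5bc403)) [] (.st (nat_lit 623) (unp (nat_lit 5) (nat_lit 0x1bc303)) [] (.st (nat_lit 260) (unp (nat_lit 5) (nat_lit 0x4fe303)) [] (.st (nat_lit 580) (unp (nat_lit 5) (nat_lit 0x47a303)) [] (.st (nat_lit 785) (unp (nat_lit 5) (nat_lit 0x37c303)) [] .nil))))))))) [nat_lit 3, nat_lit 8] [])⟩)
 (.lf ⟨nat_lit 1, nat_lit 266, nat_lit 785, (nat_lit 0x29d069dd4289881cb0b1977aaf1daee2c113e4bec), (nat_lit 0x1be466463c02e9d74a4842901280a1156cf698dee), (nat_lit 0x1d1124b18e4b27441876642da984b01810a6225db), (.wt (nat_lit 0) (nat_lit 0) (nat_lit 0x2ba2cea7bd829f6f53bc17c3f6c7dba59a18cc2c5) (.st (nat_lit 792) [] [] .nil) (unp (nat_lit 5) (nat_lit 0x3fa303)) [])⟩))))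
 (.nd (nat_lit 798) (.nd (nat_lit 796) (.nd (nat_lit 795) (.lf ⟨nat_lit 1, nat_lit 229, nat_lit 794, (nat_lit 0x2ba2cea7bd829f6f53bc17c3f6c7dba59a18cc2c5), one, one, (.df [nat_lit 2, nat_lit 0])⟩)
 (.lf ⟨nat_lit 0, nat_lit 794, nat_lit 794, (nat_lit 0xe3e501f6660cfa092a9fc309be027534e3ab7868), one, (nat_lit 0x135e171446b8665be08be2d2219b395507e6e9f2), (.cmp (nat_lit 794) (nat_lit 794) [nat_lit 3, nat_lit 29] [nat_lit 450])⟩))
 (.nd (nat_lit 797) (.lf ⟨nat_lit 1, nat_lit 794, nat_lit 229, one, (nat_lit 0x2ba2cea7bd829f6f53bc17c3f6c7dba59a18cc2c5), one, (.wt (nat_lit 0) (nat_lit 0) (nat_lit 0x2ba2cea7bd829f6f53bc17c3f6c7dba59a18cc2c5) (.st (nat_lit 794) [] [] .nil) [] [])⟩)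
 (.lf ⟨nat_lit 1, nat_lit 794, nat_lit 785, (nat_lit 0x100e0aba0d17c70444d02bf329fd10d7608f1b426), (nat_lit 0x100e0aba0d17c70444d02bf329fd10d7608f1b426), one, (.wt (nat_lit 2) (nat_lit 2) one (.st (nat_lit 787) [] [] (.st (nat_lit 794) [] [] .nil)) [] [])⟩)))
 (.nd (nat_lit 800) (.nd (nat_lit 799) (.lf ⟨nat_lit 1, nat_lit 785, nat_lit 794, (nat_lit 0x100e0aba0d17c70444d02bf329fd10d7608f1b426), (nat_lit 0x100e0aba0d17c70444d02bf329fd10d7608f1b426), one, (.wt (nat_lit 0) (nat_lit 0) (nat_lit 0x100e0aba0d17c70444d02bf329fd10d7608f1b426) (.st (nat_lit 797) [] [] .nil) [] [])⟩)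
 (.lf ⟨nat_lit 1, nat_lit 794, nat_lit 785, (nat_lit 0x3eba12c3c3234cd354a978de13ad53d6c7be58abc), (nat_lit 0x268694d5c28dbb03f989730d61974304c2832b9d2), (nat_lit 0x2927b47a300788b13f54be236de70ec86187ae885), (.wt (nat_lit 5) (nat_lit 2) (nat_lit 0x657e9d43eb9fb87fd38e26bc65107e5bf7557315) (.st (nat_lit 790) [nat_lit 31, nat_lit 20] [] (.st (nat_lit 587) [nat_lit 3, nat_lit 19] [] (.st (nat_lit 771) [nat_lit 4, nat_lit 17] [] (.st (nat_lit 770) [nat_lit 3, nat_lit 12] [nat_lit 763] (.st (nat_lit 773) (unp (nat_lit 5) (nat_lit 0x33c303)) [] (.st (nat_lit 764) (unp (nat_lit 5) (nat_lit 0x3fe303)) [] (.st (nat_lit 201) (unp (nat_lit 5) (nat_lit 0x23c303)) [nat_lit 649] (.st (nat_lit 229) (unp (nat_lit 5) (nat_lit 0x47a303)) [] (.st (nat_lit 794) (unp (nat_lit 5) (nat_lit 0x2fa403)) [] .nil))))))))) (unp (nat_lit 5) (nat_lit 0x3fc403)) [])⟩))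
 (.nd (nat_lit 801) (.lf ⟨nat_lit 1, nat_lit 785, nat_lit 794, (nat_lit 0x125910161e8d6fe6d72746c6acb95732f82b12d8b), (nat_lit 0x2a28bbfa36915cdf1fc2f3ea57b2de0755ec21b7d), (nat_lit 0x24b7d4b18e56171cc04032bc41993a3e737d3bcf7), (.wt (nat_lit 0) (nat_lit 0) (nat_lit 0x3eba12c3c3234cd354a978de13ad53d6c7be58abc) (.st (nat_lit 799) [] [] .nil) [nat_lit 4, nat_lit 16] [])⟩)
 (.nd (nat_lit 802) (.lf ⟨nat_lit 1, nat_lit 794, nat_lit 294, (nat_lit 0x9a472e71a6030c6693ace0c7e5978349d74b3855), (nat_lit 0x27d31d67710fe51ad88a9fcd3627bebefe09c5ff5), (nat_lit 0x740c002fe864a17713590fcce1cd7a0f34e77dd3), (.wt (nat_lit 5) (nat_lit 2) (nat_lit 0x683a5764881768019a3e48cb35074e9a4e1baf0) (.st (nat_lit 295) (unp (nat_lit 5) (nat_lit 0x53c403)) [] (.st (nat_lit 98) (unp (nat_lit 5) (nat_lit 0x23c303)) [] (.st (nat_lit 78) [nat_lit 29, nat_lit 21] [] (.st (nat_lit 757) [nat_lit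 30] [nat_lit 75] (.st (nat_lit 208) [nat_lit 18] [] (.st (nat_lit 210) [nat_lit 30, nat_lit 15] [] (.st (nat_lit 211) [nat_lit 29, nat_lit 17] [nat_lit 460] (.st (nat_lit 232) [nat_lit 29, nat_lit 17] [] (.st (nat_lit 794) [nat_lit 29, nat_lit 14] [] .nil))))))))) (unp (nat_lit 5) (nat_lit 0x57e403)) [])⟩)
 (.lf ⟨nat_lit 1, nat_lit 294, nat_lit 794, (nat_lit 0x3b6020b1ee99f350ad1583cd87ceba46c32e15ab7), (nat_lit 0x3c2537ffc312845ac4fdacc347e48d1ffe82edb19), (nat_lit 0xb6640dad88c279bec6138a9ebbc678bb3ef898d7), (.wt (nat_lit 0) (nat_lit 0) (nat_lit 0x9a472e71a6030c6693ace0c7e5978349d74b3855) (.st (nat_lit 801) [] [] .nil) (unp (nat_lit 5) (nat_lit 0x43c403)) [])⟩))))))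
 (.nd (nat_lit 812) (.nd (nat_lit 807) (.nd (nat_lit 805) (.nd (nat_lit 804) (.lf ⟨nat_lit 1, nat_lit 794, nat_lit 402, (nat_lit 0x125910161e8d6fe6d72746c6acb95732f82b12d8b), (nat_lit 0x10d35e4d01d425090c87507cfe4f2a385651b1f22), (nat_lit 0x1b06e1f77fff47dc816f07df2e9e7d6c522db58ee), (.wt (nat_lit 5) (nat_lit 2) (nat_lit 0x117daf96b58d9add5bc85b1e6bb3836cb12535fff) (.st (nat_lit 713) [nat_lit 29, nat_lit 11] [] (.st (nat_lit 584) (unp (nat_lit 5) (nat_lit 0x47c403)) [] (.st (nat_lit 210) [nat_lit 29, nat_lit 6] [] (.st (nat_lit 582) (unp (nat_lit 5) (nat_lit 0x53c303)) [nat_lit 460] (.st (nat_lit 151) [nat_lit 31, nat_lit 14] [] (.st (nat_lit 578) (unp (nat_lit 5) (nat_lit 0x4fe303)) [nat_lit 145] (.st (nat_lit 571) [nat_lit 29, nat_lit 18] [] (.st (nat_lit 232) [nat_lit 31, nat_lit 22] [] (.st (nat_lit 794) [nat_lit 9] [] .nil))))))))) (unp (nat_lit 5)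 (nat_lit 0x27c403)) [])⟩)
 (.lf ⟨nat_lit 1, nat_lit 402, nat_lit 794, (nat_lit 0xf6d11ea1f2003230c9ae98d7ebf7a100d6421009), (nat_lit 0x1aa6d7e1ca7f3bec035ad1c43d9a4e6d8aacafbfa), (nat_lit 0xfab1b5f82b08d7ff83e966fa9819f306243cd090), (.wt (nat_lit 0) (nat_lit 0) (nat_lit 0x125910161e8d6fe6d72746c6acb95732f82b12d8b) (.st (nat_lit 803) [] [] .nil) [nat_lit 31, nat_lit 8] [])⟩))
 (.nd (nat_lit 806) (.lf ⟨nat_lit 1, nat_lit 258, nat_lit 805, (nat_lit 0xf6d11ea1f2003230c9ae98d7ebf7a100d6421009), one, one, (.df (unp (nat_lit 2) (nat_lit 0x2203)))⟩)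
 (.lf ⟨nat_lit 0, nat_lit 805, nat_lit 805, (nat_lit 0x2d8929701647e2080f939d0b51a1552e66886100), one, (nat_lit 0x25c916cb07f25630de9d6b6bd0df41cbed1595b0), (.cmp (nat_lit 805) (nat_lit 805) (unp (nat_lit 5) (nat_lit 0x1be403)) [nat_lit 632])⟩)))
 (.nd (nat_lit 809) (.nd (nat_lit 808) (.lf ⟨nat_lit 1, nat_lit 805, nat_lit 258, one, (nat_lit 0xf6d11ea1f2003230c9ae98d7ebf7a100d6421009), one, (.wt (nat_lit 0) (nat_lit 0) (nat_lit 0xf6d11ea1f2003230c9ae98d7ebf7a100d6421009) (.st (nat_lit 805) [] [] .nil) [] [])⟩)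
 (.lf ⟨nat_lit 1, nat_lit 805, nat_lit 258, (nat_lit 0x29d069dd4289881cb0b1977aaf1daee2c113e4bec), (nat_lit 0x3f21eee1fc92b424196eba5c8cf539bea1796f426), (nat_lit 0x580400200100d814480a20a140a2050148042450), (.wt (nat_lit 5) (nat_lit 2) (nat_lit 0xe5e69e2b5c85d337b1ca17f5afda00948aa39fc9) (.st (nat_lit 269) (unp (nat_lit 5) (nat_lit 0x4fe403)) [] (.st (nat_lit 267) [nat_lit 4, nat_lit 19] [nat_lit 636] (.st (nat_lit 104) (unp (nat_lit 5) (nat_lit 0x4fe303)) [] (.st (nat_lit 651) (unp (nat_lit 5) (nat_lit 0x33a403)) [] (.st (nat_lit 702) [nat_lit 3, nat_lit 11] [nat_lit 656] (.st (nat_lit 103) (unp (nat_lit 5) (nat_lit 0x3fe303)) [nat_lit 460] (.st (nat_lit 266) (unp (nat_lit 5) (nat_lit 0x43a403)) [] (.st (nat_lit 268) (unp (nat_lit 5) (nat_lit 0x3fe403)) [nat_lit 636] (.st (nat_lit 805) (unp (nat_lit 5) (nat_lit 0x23a303)) [] .nil))))))))) [nat_lit 29,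 nat_lit 13] [])⟩))
 (.nd (nat_lit 810) (.lf ⟨nat_lit 0, nat_lit 805, nat_lit 805, (nat_lit 0xce7802a163e27801948b5020537a139a040ba13c), one, (nat_lit 0x580400200100d814480a20a140a2050148042450), (.we (nat_lit 0) (nat_lit 0) (nat_lit 0x29d069dd4289881cb0b1977aaf1daee2c113e4bec) (.st (nat_lit 808) [] [] (.st (nat_lit 805) (unp (nat_lit 5) (nat_lit 0x2fa303)) [] .nil)))⟩)
 (.nd (nat_lit 811) (.lf ⟨nat_lit 0, nat_lit 805, nat_lit 805, (nat_lit 0x2d8929701647e2080f939d0b51a1552e66886100), one, (nat_lit 0x25c916cb07f25630de9d6b6bd0df41cbed1595b0), (.inv (nat_lit 806))⟩)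
 (.lf ⟨nat_lit 0, nat_lit 805, nat_lit 805, (nat_lit 0x148a3002a254cc2b0e593e2a21465b6e44a3c2f3c), one, (nat_lit 0x2f2f716cb2e638e1222b407cb7711f126adaed87d), (.prod [nat_lit 809, nat_lit 810])⟩)))))
 (.nd (nat_lit 816) (.nd (nat_lit 814) (.nd (nat_lit 813) (.lf ⟨nat_lit 1, nat_lit 805, nat_lit 812, (nat_lit 0x3b6020b1ee99f350ad1583cd87ceba46c32e15ab7), one, one, (.df [nat_lit 3])⟩)
 (.lf ⟨nat_lit 0, nat_lit 812, nat_lit 812, (nat_lit 0x4fb3835e192aa5925c0d7ea58898d87c5284390), one, (nat_lit 0x2f2f716cb2e638e1222b407cb7711f126adaed87d), (.cmp (nat_lit 812) (nat_lit 812) [nat_lit 31] [nat_lit 811])⟩))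
 (.nd (nat_lit 815) (.lf ⟨nat_lit 0, nat_lit 812, nat_lit 812, (nat_lit 0xd0230d63d7d0049f6d151f3340098dc903e84391), one, (nat_lit 0x2f3f71741ae678e080ab417cadf91f163e5ab8cd5), (.prod [nat_lit 813, nat_lit 813])⟩)
 (.lf ⟨nat_lit 1, nat_lit 812, nat_lit 805, one, (nat_lit 0x3b6020b1ee99f350ad1583cd87ceba46c32e15ab7), one, (.wt (nat_lit 0) (nat_lit 0) (nat_lit 0x3b6020b1ee99f350ad1583cd87ceba46c32e15ab7) (.st (nat_lit 812) [] [] .nil) [] [])⟩)))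
 (.nd (nat_lit 818) (.nd (nat_lit 817) (.lf ⟨nat_lit 1, nat_lit 812, nat_lit 805, (nat_lit 0x29d069dd4289881cb0b1977aaf1daee2c113e4bec), (nat_lit 0xda5361086c1376585878ac04713add59a95a231b), (nat_lit 0x4e6384a9a0e163e7b17919152c89181b5311f964), (.wt (nat_lit 6) (nat_lit 2) (nat_lit 0x3129f347ebc2aaa635665f4682dc33041638ebe57) (.st (nat_lit 807) [nat_lit 4, nat_lit 14] [] (.st (nat_lit 614) (unp (nat_lit 5) (nat_lit 0x57a403)) [nat_lit 632] (.st (nat_lit 269) (unp (nat_lit 5) (nat_lit 0x5be403)) [nat_lit 632] (.st (nat_lit 268) [nat_lit 29, nat_lit 9] [nat_lit 636] (.st (nat_lit 614) [nat_lit 4, nat_lit 13] [] (.st (nat_lit 805) (unp (nat_lit 5) (nat_lit 0x4fa403)) [] (.st (nat_lit 812) (unp (nat_lit 5) (nat_lit 0x2fe303)) [nat_lit 806] .nil))))))) (unp (nat_lit 5) (nat_lit 0x37a303)) [])⟩)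
 (.lf ⟨nat_lit 0, nat_lit 812, nat_lit 812, (nat_lit 0xce7802a163e27801948b5020537a139a040ba13c), one, (nat_lit 0x366c2c9356d6d2bccbcdd9c2964f7bdba5535970), (.we (nat_lit 0) (nat_lit 0) (nat_lit 0x29d069dd4289881cb0b1977aaf1daee2c113e4bec) (.st (nat_lit 816) [] [] (.st (nat_lit 812) (unp (nat_lit 5) (nat_lit 0x2fa303)) [nat_lit 806] .nil)))⟩))
 (.nd (nat_lit 819) (.lf ⟨nat_lit 0, nat_lit 812, nat_lit 812, (nat_lit 0x180049c7ca63e8698a5da6748bdc270912afcfc41), one, (nat_lit 0x210b25961101b0803255fa684a400234871d01cf), (.prod [nat_lit 814, nat_lit 817])⟩)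
 (.nd (nat_lit 820) (.lf ⟨nat_lit 1, nat_lit 805, nat_lit 819, (nat_lit 0x125910161e8d6fe6d72746c6acb95732f82b12d8b), one, one, (.df [nat_lit 2, nat_lit 8])⟩)
 (.lf ⟨nat_lit 0, nat_lit 819, nat_lit 819, (nat_lit 0x18cdf0ebc12da51136c0ce9466fa370110a788864), one, (nat_lit 0x2f2f716cb2e638e1222b407cb7711f126adaed87d), (.cmp (nat_lit 819) (nat_lit 819) (unp (nat_lit 5) (nat_lit 0x3fe403)) [nat_lit 811])⟩)))))))

noncomputable def T3_821 : Tr :=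
  (.nd (nat_lit 838) (.nd (nat_lit 829) (.nd (nat_lit 825) (.nd (nat_lit 823) (.nd (nat_lit 822) (.lf ⟨nat_lit 0, nat_lit 819, nat_lit 819, (nat_lit 0x848a42ca02b0113ed896e466dbb292ba1790df2), one, (nat_lit 0x2f3f71741ae678e080ab417cadf91f163e5ab8cd5), (.prod [nat_lit 820, nat_lit 820])⟩)
 (.lf ⟨nat_lit 1, nat_lit 819, nat_lit 805, one, (nat_lit 0x125910161e8d6fe6d72746c6acb95732f82b12d8b), one, (.wt (nat_lit 0) (nat_lit 0) (nat_lit 0x125910161e8d6fe6d72746c6acb95732f82b12d8b) (.st (nat_lit 819) [] [] .nil) [] [])⟩))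
 (.nd (nat_lit 824) (.lf ⟨nat_lit 1, nat_lit 819, nat_lit 812, (nat_lit 0x100e0aba0d17c70444d02bf329fd10d7608f1b426), (nat_lit 0x1fcc4265e5f5e8c58e758190706d179ef60cc5dd7), one, (.wt (nat_lit 2) (nat_lit 2) (nat_lit 0xa2ea9a2d0d739cc971a9d423bd96b619a03ddbf2) (.st (nat_lit 815) [nat_lit 4, nat_lit 22] [] (.st (nat_lit 819) [] [] .nil)) [] [])⟩)
 (.lf ⟨nat_lit 1, nat_lit 812, nat_lit 819, (nat_lit 0x100e0aba0d17c70444d02bf329fd10d7608f1b426), (nat_lit 0x3e9bb5a40ffe36717b19c821828fe8c2a374cf1a2), one, (.wt (nat_lit 0) (nat_lit 0) (nat_lit 0x100e0aba0d17c70444d02bf329fd10d7608f1b426) (.st (nat_lit 823) [] [] .nil) (unp (nat_lit 5) (nat_lit 0x3fe303)) [])⟩)))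
 (.nd (nat_lit 827) (.nd (nat_lit 826) (.lf ⟨nat_lit 1, nat_lit 819, nat_lit 294, (nat_lit 0x3b6020b1ee99f350ad1583cd87ceba46c32e15ab7), (nat_lit 0x14f61d344e7b1fc62b1ee140a995fd8193b63491e), (nat_lit 0x1fa0cd02aed90002c01e4a077abd6019d00320ec), (.wt (nat_lit 5) (nat_lit 2) (nat_lit 0x37b7a5b0db568d748f7ffef5be8209c85ac67b34d) (.st (nat_lit 789) (unp (nat_lit 5) (nat_lit 0x37c403)) [] (.st (nat_lit 787) [nat_lit 29, nat_lit 17] [] (.st (nat_lit 230) [nat_lit 3, nat_lit 17] [nat_lit 450] (.st (nat_lit 200) [nat_lit 30, nat_lit 13] [] (.st (nat_lit 628) [nat_lit 22] [] (.st (nat_lit 263) (unp (nat_lit 5) (nat_lit 0x2fc403)) [] (.st (nat_lit 258) (unp (nat_lit 5) (nat_lit 0x3bc403)) [] (.st (nat_lit 805) (unp (nat_lit 5) (nat_lit 0x33c403)) [] (.st (nat_lit 819) [nat_lit 4, nat_lit 22] [nat_lit 806] .nil))))))))) (unp (nat_lit 5) (nat_lit 0x2fe303)) [])⟩)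
 (.lf ⟨nat_lit 1, nat_lit 294, nat_lit 819, (nat_lit 0x3eba12c3c3234cd354a978de13ad53d6c7be58abc), (nat_lit 0x193537735a9036b9646b64df2e6ec84812170cf80), (nat_lit 0x18f8f42fb0885d235bd86a3cf41eb159ef51a2910), (.wt (nat_lit 0) (nat_lit 0) (nat_lit 0x3b6020b1ee99f350ad1583cd87ceba46c32e15ab7) (.st (nat_lit 825) [] [] .nil) [nat_lit 14] [])⟩))
 (.nd (nat_lit 828) (.lf ⟨nat_lit 1, nat_lit 819, nat_lit 819, (nat_lit 0x1fce42ed966b34fae64312a96f69e1eea7db1de4), (nat_lit 0x2a4d7dd604ac745ae8d0e8da238e1803c442073bc), (nat_lit 0x2dadfe8546e484ccbc0154cb2637ecd93e50b71d4), (.wt (nat_lit 5) (nat_lit 3) (nat_lit 0x9e369798166fa9e9e4330b3f268ae9e3224d48a0) (.st (nat_lit 825) [nat_lit 4, nat_lit 8] [] (.st (nat_lit 295) (unp (nat_lit 5) (nat_lit 0x3fc303)) [] (.st (nat_lit 279) [nat_lit 29, nat_lit 16] [nat_lit 453] (.st (nat_lit 658) (unp (nat_lit 5) (nat_lit 0x43e403))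 [] (.st (nat_lit 617) (unp (nat_lit 5) (nat_lit 0x33e303)) [] (.st (nat_lit 140) [nat_lit 30, nat_lit 9] [] (.st (nat_lit 258) (unp (nat_lit 5) (nat_lit 0x53a403)) [] (.st (nat_lit 805) [nat_lit 21] [] (.st (nat_lit 819) [nat_lit 30, nat_lit 12] [] .nil))))))))) [nat_lit 4, nat_lit 21] [])⟩)
 (.lf ⟨nat_lit 1, nat_lit 819, nat_lit 828, (nat_lit 0x9a472e71a6030c6693ace0c7e5978349d74b3855), one, one, (.df [nat_lit 8, nat_lit 0])⟩))))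
 (.nd (nat_lit 833) (.nd (nat_lit 831) (.nd (nat_lit 830) (.lf ⟨nat_lit 0, nat_lit 828, nat_lit 828, (nat_lit 0xeaad67fd11c5b9223e2ddec3fe3fc4bea7a101af), one, (nat_lit 0x2f2f716cb2e638e1222b407cb7711f126adaed87d), (.cmp (nat_lit 828) (nat_lit 828) (unp (nat_lit 5) (nat_lit 0x33c403)) [nat_lit 820])⟩)
 (.lf ⟨nat_lit 0, nat_lit 828, nat_lit 828, (nat_lit 0x7ca567dd30d58922be2dce626effc4f6e2a710ed), one, (nat_lit 0x2f3f71741ae678e080ab417cadf91f163e5ab8cd5), (.prod [nat_lit 829, nat_lit 829])⟩))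
 (.nd (nat_lit 832) (.lf ⟨nat_lit 1, nat_lit 828, nat_lit 819, one, (nat_lit 0x9a472e71a6030c6693ace0c7e5978349d74b3855), one, (.wt (nat_lit 0) (nat_lit 0) (nat_lit 0x9a472e71a6030c6693ace0c7e5978349d74b3855) (.st (nat_lit 828) [] [] .nil) [] [])⟩)
 (.lf ⟨nat_lit 1, nat_lit 828, nat_lit 819, (nat_lit 0x100e0aba0d17c70444d02bf329fd10d7608f1b426), (nat_lit 0x21186d22aa5c742d2832af4a161a29870280b26f), (nat_lit 0x3db7652f239c79a7dbdcf42998be1c572a55a40ac), (.wt (nat_lit 2) (nat_lit 2) (nat_lit 0x1a2aae5714d71892b3589c545af609be53f167d4e) (.st (nat_lit 827) [nat_lit 4] [] (.st (nat_lit 828) [nat_lit 30, nat_lit 16] [] .nil)) (unp (nat_lit 5) (nat_lit 0x57c403)) [])⟩)))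
 (.nd (nat_lit 835) (.nd (nat_lit 834) (.lf ⟨nat_lit 0, nat_lit 828, nat_lit 828, (nat_lit 0x2d5ffd4372c41ec66911bf3a119a4eafa169fe72d), one, (nat_lit 0x3db7652f239c79a7dbdcf42998be1c572a55a40ac), (.we (nat_lit 0) (nat_lit 0) (nat_lit 0x100e0aba0d17c70444d02bf329fd10d7608f1b426) (.st (nat_lit 832) [] [] (.st (nat_lit 828) [nat_lit 31, nat_lit 13] [] .nil)))⟩)
 (.lf ⟨nat_lit 1, nat_lit 828, nat_lit 828, (nat_lit 0x2ba2cea7bd829f6f53bc17c3f6c7dba59a18cc2c5), (nat_lit 0x32fd4398c55f7dbb8ca77ee5f2fd2d284bc9b3590), (nat_lit 0x10e973cb7281a4980a79eca638ac93ddc0f3c7478), (.wt (nat_lit 5) (nat_lit 2) (nat_lit 0x33e16d119f175b986b587a80c2b328205ab23d734) (.st (nat_lit 831) (unp (nat_lit 5) (nat_lit 0x27c403)) [] (.st (nat_lit 823) [nat_lit 19] [] (.st (nat_lit 815) [nat_lit 30, nat_lit 12] [nat_lit 817] (.st (nat_lit 819) [nat_lit 31, nat_lit 16] [nat_lit 806] (.st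 (nat_lit 827) (unp (nat_lit 5) (nat_lit 0x43c303)) [] (.st (nat_lit 822) [nat_lit 29, nat_lit 20] [] (.st (nat_lit 812) [nat_lit 3, nat_lit 31] [nat_lit 806] (.st (nat_lit 824) (unp (nat_lit 5) (nat_lit 0x27a403)) [nat_lit 818] (.st (nat_lit 828) (unp (nat_lit 5) (nat_lit 0x53e303)) [] .nil))))))))) [nat_lit 4, nat_lit 8] [])⟩))
 (.nd (nat_lit 836) (.lf ⟨nat_lit 1, nat_lit 828, nat_lit 819, (nat_lit 0xf6d11ea1f2003230c9ae98d7ebf7a100d6421009), (nat_lit 0x190628209c2389ad1b0f751a78512e64f9dc96965), (nat_lit 0x810895a1f768203a555069f0b0370053656768ec), (.wt (nat_lit 5) (nat_lit 2) (nat_lit 0x611a5c204d3de7adbf71259c29ad23b5677dd6ba) (.st (nat_lit 825) [nat_lit 29, nat_lit 14] [] (.st (nat_lit 683) [nat_lit 30, nat_lit 14] [] (.st (nat_lit 644) [nat_lit 17] [] (.st (nat_lit 714) (unp (nat_lit 5) (nat_lit 0x23e403)) [] (.st (nat_lit 804) (unp (nat_lit 5) (nat_lit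 0x4fe403)) [nat_lit 591] (.st (nat_lit 801) (unp (nat_lit 5) (nat_lit 0x4bc403)) [nat_lit 795] (.st (nat_lit 681) (unp (nat_lit 5) (nat_lit 0x4fa303)) [] (.st (nat_lit 826) [nat_lit 21] [] (.st (nat_lit 828) [nat_lit 4, nat_lit 31] [] .nil))))))))) [nat_lit 31, nat_lit 14] [])⟩)
 (.nd (nat_lit 837) (.lf ⟨nat_lit 0, nat_lit 828, nat_lit 828, (nat_lit 0x1f9603c9e0ad2ce840a61cc5274502278501c4f70), one, (nat_lit 0x810895a1f768203a555069f0b0370053656768ec), (.we (nat_lit 0) (nat_lit 0) (nat_lit 0xf6d11ea1f2003230c9ae98d7ebf7a100d6421009) (.st (nat_lit 835) [] [] (.st (nat_lit 828) (unp (nat_lit 5) (nat_lit 0x27e303)) [] .nil)))⟩)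
 (.lf ⟨nat_lit 1, nat_lit 828, nat_lit 837, (nat_lit 0x29d069dd4289881cb0b1977aaf1daee2c113e4bec), one, one, (.df [nat_lit 2])⟩))))))
 (.nd (nat_lit 846) (.nd (nat_lit 842) (.nd (nat_lit 840) (.nd (nat_lit 839) (.lf ⟨nat_lit 0, nat_lit 837, nat_lit 837, (nat_lit 0x10003ee42b1dcfa59538adc760f734d392f56083c), one, (nat_lit 0x2f2f716cb2e638e1222b407cb7711f126adaed87d), (.cmp (nat_lit 837) (nat_lit 837) [nat_lit 3] [nat_lit 829])⟩)
 (.lf ⟨nat_lit 0, nat_lit 837, nat_lit 837, (nat_lit 0x1ee35ee62970ce0500d08bb760d5b6a032680657c), one, (nat_lit 0x2f3f71741ae678e080ab417cadf91f163e5ab8cd5), (.prod [nat_lit 838, nat_lit 838])⟩))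
 (.nd (nat_lit 841) (.lf ⟨nat_lit 0, nat_lit 837, nat_lit 837, (nat_lit 0xc644e73b1e883268a7272a576f3e399b7a4d9ea5), one, (nat_lit 0x3db7652f239c79a7dbdcf42998be1c572a55a40ac), (.cmp (nat_lit 837) (nat_lit 837) [nat_lit 4, nat_lit 6] [nat_lit 833])⟩)
 (.lf ⟨nat_lit 0, nat_lit 837, nat_lit 837, (nat_lit 0x2f482a14c2f0e19802bcafaa4b5590571a669ace1), one, (nat_lit 0x810895a1f768203a555069f0b0370053656768ec), (.cmp (nat_lit 837) (nat_lit 837) [nat_lit 20] [nat_lit 836])⟩)))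
 (.nd (nat_lit 844) (.nd (nat_lit 843) (.lf ⟨nat_lit 0, nat_lit 837, nat_lit 837, (nat_lit 0x1141c1aeb1e26c0104476f84481c863fc23823ad5), one, (nat_lit 0x1710753b66ab77e85480247834b252e610515e90), (.prod [nat_lit 840, nat_lit 841])⟩)
 (.lf ⟨nat_lit 0, nat_lit 837, nat_lit 837, (nat_lit 0x38961e28011c1a6798dea2110436c970fca45585), one, (nat_lit 0x348589d6f10ba4d35c8956860e7663353e3050011), (.prod [nat_lit 841, nat_lit 838])⟩))
 (.nd (nat_lit 845) (.lf ⟨nat_lit 0, nat_lit 837, nat_lit 837, (nat_lit 0x201003011008a45038026000580180440d0683219), one, (nat_lit 0x13073eed2578232f99fecf643d9b34cc188ab8829), (.prod [nat_lit 841, nat_lit 841])⟩)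
 (.lf ⟨nat_lit 0, nat_lit 837, nat_lit 837, (nat_lit 0x88278b68c34ad18f165e3342438a0200295c67c1), one, (nat_lit 0x18cdf0ebc12da51136c0ce9466fa370110a788864), (.prod [nat_lit 842, nat_lit 838])⟩))))
 (.nd (nat_lit 850) (.nd (nat_lit 848) (.nd (nat_lit 847) (.lf ⟨nat_lit 1, nat_lit 837, nat_lit 828, one, (nat_lit 0x29d069dd4289881cb0b1977aaf1daee2c113e4bec), one, (.wt (nat_lit 0) (nat_lit 0) (nat_lit 0x29d069dd4289881cb0b1977aaf1daee2c113e4bec) (.st (nat_lit 837) [] [] .nil) [] [])⟩)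
 (.lf ⟨nat_lit 1, nat_lit 837, nat_lit 828, (nat_lit 0x100e0aba0d17c70444d02bf329fd10d7608f1b426), (nat_lit 0x38ca7ce7b08df48709aa260903cef5afc76d19737), (nat_lit 0xe4348d331b84b50b2143244a8aa30de8c80f3cb0), (.wt (nat_lit 2) (nat_lit 2) (nat_lit 0x32fd4398c55f7dbb8ca77ee5f2fd2d284bc9b3590) (.st (nat_lit 834) [nat_lit 3, nat_lit 9] [] (.st (nat_lit 837) [nat_lit 4] [] .nil)) [nat_lit 4] [])⟩))
 (.nd (nat_lit 849) (.lf ⟨nat_lit 0, nat_lit 837, nat_lit 837, (nat_lit 0xab88bce3d5d44a17db4efde2051918adf34fa24b), one, (nat_lit 0xe4348d331b84b50b2143244a8aa30de8c80f3cb0), (.we (nat_lit 0) (nat_lit 0) (nat_lit 0x100e0aba0d17c70444d02bf329fd10d7608f1b426) (.st (nat_lit 847) [] [] (.st (nat_lit 837) [nat_lit 4, nat_lit 6] [] .nil)))⟩)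
 (.lf ⟨nat_lit 0, nat_lit 837, nat_lit 837, (nat_lit 0xc080a3e4306cc8986d7c253f00526df1eb9478fe), one, (nat_lit 0x1af947507bdf724916351cddaf00e05a2d599d28e), (.prod [nat_lit 843, nat_lit 848])⟩)))
 (.nd (nat_lit 852) (.nd (nat_lit 851) (.lf ⟨nat_lit 0, nat_lit 837, nat_lit 837, (nat_lit 0x29a8254fb6027177edb0de7a9dd3e4ffbb6ca9582), one, (nat_lit 0x3e0230a76781e40320960d4a9dd14845340806999), (.prod [nat_lit 845, nat_lit 848])⟩)
 (.lf ⟨nat_lit 1, nat_lit 837, nat_lit 828, (nat_lit 0x2ba2cea7bd829f6f53bc17c3f6c7dba59a18cc2c5), (nat_lit 0x348589d6f10ba4d35c8956860e7663353e3050011), (nat_lit 0x1a6278160207610dd7e4511100240727fa346c81a), (.wt (nat_lit 5) (nat_lit 2) (nat_lit 0xa4aeb4b8b83e1893cc1361e30f4bc23902bd55be) (.st (nat_lit 831) (unp (nat_lit 5) (nat_lit 0x2fe303)) [] (.st (nat_lit 825) (unp (nat_lit 5) (nat_lit 0x3ba303)) [] (.st (nat_lit 802) (unp (nat_lit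 5) (nat_lit 0x53e403)) [] (.st (nat_lit 799) (unp (nat_lit 5) (nat_lit 0x5ba303)) [] (.st (nat_lit 800) (unp (nat_lit 5) (nat_lit 0x1bc303)) [nat_lit 786] (.st (nat_lit 801) [nat_lit 3, nat_lit 9] [] (.st (nat_lit 826) [nat_lit 4, nat_lit 15] [] (.st (nat_lit 828) (unp (nat_lit 5) (nat_lit 0x2fe303)) [] (.st (nat_lit 837) (unp (nat_lit 5) (nat_lit 0x37a303)) [] .nil))))))))) (unp (nat_lit 5) (nat_lit 0x3fa403)) [])⟩))
 (.nd (nat_lit 853) (.lf ⟨nat_lit 0, nat_lit 837, nat_lit 837, (nat_lit 0xb2157e1ca78760480c2a576d8813624e776309e4), one, (nat_lit 0x3d07fd1b95bc6c7ba99aaec0a1350d468a19fc99f), (.we (nat_lit 0) (nat_lit 0) (nat_lit 0x2ba2cea7bd829f6f53bc17c3f6c7dba59a18cc2c5) (.st (nat_lit 851) (unp (nat_lit 5) (nat_lit 0x33a303)) [nat_lit 850] (.st (nat_lit 837) (unp (nat_lit 5) (nat_lit 0x4fe303)) [] .nil)))⟩)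
 (.nd (nat_lit 854) (.lf ⟨nat_lit 0, nat_lit 837, nat_lit 837, (nat_lit 0x2bfe45a40e5ff3531601c60d0c96658e1fc23d13c), one, (nat_lit 0x29181aa69695968b97733000120d4af914420118d), (.inv (nat_lit 850))⟩)
 (.lf ⟨nat_lit 0, nat_lit 837, nat_lit 837, (nat_lit 0x6dba3dd8d3229c39f784fd626ee551ada0e5c01b), one, (nat_lit 0xd877398c766b9e4871873e90576043f6a70de13f), (.prod [nat_lit 852, nat_lit 853])⟩)))))))

noncomputable def T3_855 : Tr :=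
  (.nd (nat_lit 872) (.nd (nat_lit 863) (.nd (nat_lit 859) (.nd (nat_lit 857) (.nd (nat_lit 856) (.lf ⟨nat_lit 0, nat_lit 837, nat_lit 837, (nat_lit 0x348589d6f10ba4d35c8956860e7663353e3050011), one, (nat_lit 0x2171b03a80f0776e051913af0b0010fb8a1fa3866), (.prod [nat_lit 854, nat_lit 838])⟩)
 (.lf ⟨nat_lit 0, nat_lit 837, nat_lit 837, (nat_lit 0x148a3002a254cc2b0e593e2a21465b6e44a3c2f3c), one, (nat_lit 0x2cf6c6ea4b96ce8a821440760e7746c7b4efbdff3), (.prod [nat_lit 855, nat_lit 838])⟩))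
 (.nd (nat_lit 858) (.lf ⟨nat_lit 1, nat_lit 837, nat_lit 837, (nat_lit 0x125910161e8d6fe6d72746c6acb95732f82b12d8b), (nat_lit 0x3913ade2aa036ea08304cbbd1945ac31e28b79e47), (nat_lit 0x294f81fa771fadc0404e8065e61999b41fc53378f), (.wt (nat_lit 5) (nat_lit 2) (nat_lit 0x10cd06264ca2eb42128e7499f84c57846e90ee5fd) (.st (nat_lit 846) [nat_lit 3, nat_lit 6] [] (.st (nat_lit 831) (unp (nat_lit 5) (nat_lit 0x23a403)) [] (.st (nat_lit 823) [nat_lit 13] [] (.st (nat_lit 824) [nat_lit 4, nat_lit 31] [nat_lit 818] (.st (nat_lit 827) (unp (nat_lit 5) (nat_lit 0x37c303)) [] (.st (nat_lit 823) [nat_lit 18] [] (.st (nat_lit 824) (unp (nat_lit 5) (nat_lit 0x23c403)) [nat_lit 818] (.st (nat_lit 828) (unp (nat_lit 5) (nat_lit 0x3fc303)) [] (.st (nat_lit 837) [nat_lit 8] [] .nil))))))))) (unp (nat_lit 5) (nat_lit 0x1bc403)) [])⟩)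
 (.lf ⟨nat_lit 1, nat_lit 837, nat_lit 858, (nat_lit 0x3b6020b1ee99f350ad1583cd87ceba46c32e15ab7), one, one, (.df [nat_lit 3])⟩)))
 (.nd (nat_lit 861) (.nd (nat_lit 860) (.lf ⟨nat_lit 0, nat_lit 858, nat_lit 858, (nat_lit 0xbcc58b68eda6baf80b67a6638ac95f5dfd1cf7b4), one, (nat_lit 0x2ac6c16a370ae70bc4a9f88315be00509d54c0057), (.cmp (nat_lit 858) (nat_lit 858) (unp (nat_lit 5) (nat_lit 0x37a403)) (unp (nat_lit 10) (nat_lit 0x351d634703)))⟩)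
 (.lf ⟨nat_lit 0, nat_lit 858, nat_lit 858, (nat_lit 0x1e4650d63eda2b29a3b67b6b3cbfd4fddfd14f7b5), one, (nat_lit 0x2ad6c2024230574570a45054942be0399d545e03b), (.prod [nat_lit 859, nat_lit 859])⟩))
 (.nd (nat_lit 862) (.lf ⟨nat_lit 0, nat_lit 858, nat_lit 858, (nat_lit 0x1ee559b77dae1cff8c3689317d12c52d87a42cfdd), one, (nat_lit 0x11a79425802401370cd926f98235e6396d1dbbbd4), (.cmp (nat_lit 858) (nat_lit 858) (unp (nat_lit 5) (nat_lit 0x37e303)) (unp (nat_lit 10) (nat_lit 0x34cd5f4603)))⟩)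
 (.lf ⟨nat_lit 0, nat_lit 858, nat_lit 858, (nat_lit 0x1e4650d63eda2b29a3b67b6b3cbfd4fddfd14f7b5), one, (nat_lit 0x2ad6c2024230574570a45054942be0399d545e03b), (.inv (nat_lit 859))⟩))))
 (.nd (nat_lit 867) (.nd (nat_lit 865) (.nd (nat_lit 864) (.lf ⟨nat_lit 0, nat_lit 858, nat_lit 858, (nat_lit 0x2ce6c6e84b968e8b851402b61ea742ffaae0bdff2), one, (nat_lit 0x13073eed2578232f99fecf643d9b34cc188ab8829), (.prod [nat_lit 861, nat_lit 862])⟩)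
 (.lf ⟨nat_lit 0, nat_lit 858, nat_lit 858, (nat_lit 0x8e63aa1b814fbf745cff8bb8ff826f7280ea5d49), one, (nat_lit 0x2bfe45a40e5ff3531601c60d0c96658e1fc23d13c), (.prod [nat_lit 860, nat_lit 863])⟩))
 (.nd (nat_lit 866) (.lf ⟨nat_lit 0, nat_lit 858, nat_lit 858, (nat_lit 0x16e3ab878ecaecdee67e003153bff636f7dfed6fe), one, (nat_lit 0x1288cbe786fa4166689f68998bf43ba331522a69), (.prod [nat_lit 864, nat_lit 863])⟩)
 (.lf ⟨nat_lit 0, nat_lit 858, nat_lit 858, (nat_lit 0x2cf6c6ea4b96ce8a821440760e7746c7b4efbdff3), one, (nat_lit 0x12a1deef25630d294a7ece6f258df2c51e519554b), (.prod [nat_lit 863, nat_lit 863])⟩)))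
 (.nd (nat_lit 869) (.nd (nat_lit 868) (.lf ⟨nat_lit 0, nat_lit 858, nat_lit 858, (nat_lit 0x3dcf3316c592684e1b7392143c0305fdbafc0a3c7), one, (nat_lit 0x33f8342a9c28430e72b1578e0b2777229a0a2e1fa), (.cmp (nat_lit 858) (nat_lit 858) (unp (nat_lit 5) (nat_lit 0x53a303)) (unp (nat_lit 10) (nat_lit 0x34cd634603)))⟩)
 (.lf ⟨nat_lit 0, nat_lit 858, nat_lit 858, (nat_lit 0x2cf6c6ea4b96ce8a821440760e7746c7b4efbdff3), one, (nat_lit 0x12a1deef25630d294a7ece6f258df2c51e519554b), (.inv (nat_lit 863))⟩))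
 (.nd (nat_lit 870) (.lf ⟨nat_lit 0, nat_lit 858, nat_lit 858, (nat_lit 0x1ee35ee62970ce0500d08bb760d5b6a032680657c), one, (nat_lit 0x2171b03a80f0776e051913af0b0010fb8a1fa3866), (.prod (unp (nat_lit 10) (nat_lit 0x364d7b6303)))⟩)
 (.nd (nat_lit 871) (.lf ⟨nat_lit 0, nat_lit 858, nat_lit 858, (nat_lit 0x12ef2a6dbda37e1ffb505c10de316c1f31fcaae36), one, (nat_lit 0x37a9d4fc00034015c2b062103c81d0e7f30386412), (.prod [nat_lit 865, nat_lit 869])⟩)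
 (.lf ⟨nat_lit 0, nat_lit 858, nat_lit 858, (nat_lit 0x10003ee42b1dcfa59538adc760f734d392f56083c), one, (nat_lit 0x2161b1c2d0f0372427cc715ba98d46c0c035f10cc), (.prod [nat_lit 869, nat_lit 869])⟩))))))
 (.nd (nat_lit 880) (.nd (nat_lit 876) (.nd (nat_lit 874) (.nd (nat_lit 873) (.lf ⟨nat_lit 1, nat_lit 858, nat_lit 837, one, (nat_lit 0x3b6020b1ee99f350ad1583cd87ceba46c32e15ab7), one, (.wt (nat_lit 0) (nat_lit 0) (nat_lit 0x3b6020b1ee99f350ad1583cd87ceba46c32e15ab7) (.st (nat_lit 858) [] [] .nil) [] [])⟩)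
 (.lf ⟨nat_lit 1, nat_lit 858, nat_lit 837, (nat_lit 0x100e0aba0d17c70444d02bf329fd10d7608f1b426), (nat_lit 0x3e10c2fd22b669c42be6e6677aa82342df6b14ad9), (nat_lit 0x2c30e36e8228144d779371de7839bc01e1f698622), (.wt (nat_lit 2) (nat_lit 2) (nat_lit 0xd35dfdffb3233e86c0f892675d7e163acced0e3c) (.st (nat_lit 857) (unp (nat_lit 5) (nat_lit 0x1be303)) [] (.st (nat_lit 858) [nat_lit 3, nat_lit 30] [] .nil)) [nat_lit 4, nat_lit 29] [])⟩))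
 (.nd (nat_lit 875) (.lf ⟨nat_lit 0, nat_lit 858, nat_lit 858, (nat_lit 0x2b8a976ad31c88dd873a6e854915790bfb6083b9), one, (nat_lit 0x2c30e36e8228144d779371de7839bc01e1f698622), (.we (nat_lit 0) (nat_lit 0) (nat_lit 0x100e0aba0d17c70444d02bf329fd10d7608f1b426) (.st (nat_lit 873) [] [] (.st (nat_lit 858) (unp (nat_lit 5) (nat_lit 0x43a303)) [] .nil)))⟩)
 (.lf ⟨nat_lit 0, nat_lit 858, nat_lit 858, (nat_lit 0xba9295e6e174bcde7180018c4f125c797a0e14c2), one, (nat_lit 0x3764f667a529d98823e07f0ee438ebbff912b0705), (.prod [nat_lit 870, nat_lit 874])⟩)))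
 (.nd (nat_lit 878) (.nd (nat_lit 877) (.lf ⟨nat_lit 1, nat_lit 858, nat_lit 837, (nat_lit 0xf6d11ea1f2003230c9ae98d7ebf7a100d6421009), (nat_lit 0x1da149b43a9aced9247726b80f60dd37662838cb), (nat_lit 0x1e8d3b017b7a5ee3fe294a3292e6c7a41efb8cd7e), (.wt (nat_lit 5) (nat_lit 2) one (.st (nat_lit 846) [] [] (.st (nat_lit 831) [nat_lit 4, nat_lit 30] [] (.st (nat_lit 822) [nat_lit 31, nat_lit 18] [] (.st (nat_lit 812) (unp (nat_lit 5) (nat_lit 0x23a303)) [nat_lit 806] (.st (nat_lit 815) [nat_lit 30, nat_lit 19] [nat_lit 817] (.st (nat_lit 819) [nat_lit 29, nat_lit 22] [nat_lit 806] (.st (nat_lit 828) (unp (nat_lit 5) (nat_lit 0x33c303)) [] (.st (nat_lit 837) [nat_lit 3] [] (.st (nat_lit 858) [nat_lit 4, nat_lit 29] [] .nil))))))))) [nat_lit 29, nat_lit 22] [])⟩)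
 (.lf ⟨nat_lit 0, nat_lit 858, nat_lit 858, (nat_lit 0x12e68209c6e5ab5de8f04f440ebd46b847138350), one, (nat_lit 0x37891bba2f8b234b5db2326e4b8920645d1647fd8), (.we (nat_lit 0) (nat_lit 0) (nat_lit 0xf6d11ea1f2003230c9ae98d7ebf7a100d6421009) (.st (nat_lit 876) [nat_lit 30, nat_lit 19] (unp (nat_lit 10) (nat_lit 0x36bd8b6703)) (.st (nat_lit 858) [nat_lit 30, nat_lit 18] [] .nil)))⟩))
 (.nd (nat_lit 879) (.lf ⟨nat_lit 0, nat_lit 858, nat_lit 858, (nat_lit 0x175572a64c0671430fee5757f4b7258a574fa6f96), one, (nat_lit 0x294f81fa771fadc0404e8065e61999b41fc53378f), (.inv (nat_lit 874))⟩)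
 (.lf ⟨nat_lit 0, nat_lit 858, nat_lit 858, (nat_lit 0x13ea0bc0d56ce86cc9fd377d87ce81f0a0dee6589), one, (nat_lit 0xe3e501f6660cfa092a9fc309be027534e3ab7868), (.prod [nat_lit 877, nat_lit 878])⟩))))
 (.nd (nat_lit 884) (.nd (nat_lit 882) (.nd (nat_lit 881) (.lf ⟨nat_lit 1, nat_lit 258, nat_lit 880, (nat_lit 0x3eba12c3c3234cd354a978de13ad53d6c7be58abc), one, one, (.df [nat_lit 2, nat_lit 2])⟩)
 (.lf ⟨nat_lit 0, nat_lit 880, nat_lit 880, (nat_lit 0x19cfcba24b62fe6e635c93b9296774dd827509074), one, (nat_lit 0x25c916cb07f25630de9d6b6bd0df41cbed1595b0), (.cmp (nat_lit 880) (nat_lit 880) [nat_lit 30, nat_lit 13] [nat_lit 632])⟩))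
 (.nd (nat_lit 883) (.lf ⟨nat_lit 1, nat_lit 880, nat_lit 258, one, (nat_lit 0x3eba12c3c3234cd354a978de13ad53d6c7be58abc), one, (.wt (nat_lit 0) (nat_lit 0) (nat_lit 0x3eba12c3c3234cd354a978de13ad53d6c7be58abc) (.st (nat_lit 880) [] [] .nil) [] [])⟩)
 (.lf ⟨nat_lit 1, nat_lit 880, nat_lit 805, (nat_lit 0x100e0aba0d17c70444d02bf329fd10d7608f1b426), (nat_lit 0x100e0aba0d17c70444d02bf329fd10d7608f1b426), one, (.wt (nat_lit 2) (nat_lit 2) one (.st (nat_lit 807) [] [] (.st (nat_lit 880) [] [] .nil)) [] [])⟩)))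
 (.nd (nat_lit 886) (.nd (nat_lit 885) (.lf ⟨nat_lit 1, nat_lit 805, nat_lit 880, (nat_lit 0x100e0aba0d17c70444d02bf329fd10d7608f1b426), (nat_lit 0x100e0aba0d17c70444d02bf329fd10d7608f1b426), one, (.wt (nat_lit 0) (nat_lit 0) (nat_lit 0x100e0aba0d17c70444d02bf329fd10d7608f1b426) (.st (nat_lit 883) [] [] .nil) [] [])⟩)
 (.lf ⟨nat_lit 1, nat_lit 880, nat_lit 279, (nat_lit 0x3eba12c3c3234cd354a978de13ad53d6c7be58abc), (nat_lit 0xe3d8b0d407d6021bb75d59593e561eaf240dbd79), (nat_lit 0x1e88d3b296804497e2d95a1142e8c94b27705d6c6), (.wt (nat_lit 5) (nat_lit 2) (nat_lit 0xedeb78bf7d918e5dd40d9f0538361da6153d25ac) (.st (nat_lit 465) [nat_lit 4, nat_lit 22] [] (.st (nat_lit 761) [nat_lit 29] [] (.st (nat_lit 758) [nat_lit 3, nat_lit 21] [nat_lit 753] (.st (nat_lit 616) (unp (nat_lit 5) (nat_lit 0x5ba303)) [] (.st (nat_lit 261) [nat_lit 19] [] (.st (nat_lit 266) (unp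 (nat_lit 5) (nat_lit 0x23e403)) [] (.st (nat_lit 268) [nat_lit 30] [nat_lit 636] (.st (nat_lit 614) [nat_lit 4, nat_lit 19] [] (.st (nat_lit 880) (unp (nat_lit 5) (nat_lit 0x2fa403)) [] .nil))))))))) (unp (nat_lit 5) (nat_lit 0x3fc403)) [])⟩))
 (.nd (nat_lit 887) (.lf ⟨nat_lit 1, nat_lit 279, nat_lit 880, (nat_lit 0x9a472e71a6030c6693ace0c7e5978349d74b3855), (nat_lit 0x3893f968b17732678679859a378c713954475cef1), (nat_lit 0xc05688aabaf90d6cd701881dc5f4c6759a784397), (.wt (nat_lit 0) (nat_lit 0) (nat_lit 0x3eba12c3c3234cd354a978de13ad53d6c7be58abc) (.st (nat_lit 885) [] [] .nil) (unp (nat_lit 5) (nat_lit 0x37e303)) [])⟩)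
 (.nd (nat_lit 888) (.lf ⟨nat_lit 1, nat_lit 880, nat_lit 260, (nat_lit 0x29d069dd4289881cb0b1977aaf1daee2c113e4bec), (nat_lit 0x277bbc9804a1af08cd5e394edaf9ab169dc77267c), (nat_lit 0x270e9b3e119d33689578dd726a9befbcd9e696f07), (.wt (nat_lit 5) (nat_lit 2) (nat_lit 0x452c537ba36551136efd32fbc3c6c1c2b71c67c2) (.st (nat_lit 617) [nat_lit 3, nat_lit 19] [] (.st (nat_lit 642) (unp (nat_lit 5) (nat_lit 0x23e403)) [] (.st (nat_lit 609) (unp (nat_lit 5) (nat_lit 0x3ba403)) [] (.st (nat_lit 282) (unp (nat_lit 5) (nat_lit 0x4fa403)) [] (.st (nat_lit 658) (unp (nat_lit 5) (nat_lit 0x27a303)) [] (.st (nat_lit 604) (unp (nat_lit 5) (nat_lit 0x33c403)) [] (.st (nat_lit 255) (unp (nat_lit 5) (nat_lit 0x4fa403)) [] (.st (nat_lit 258) (unp (nat_lit 5) (nat_lit 0x4fc403)) [] (.st (nat_lit 880) (unp (nat_lit 5) (nat_lit 0x23a303)) [] .nil))))))))) [nat_lit 29, nat_lit 13]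 [])⟩)
 (.lf ⟨nat_lit 1, nat_lit 260, nat_lit 880, (nat_lit 0x125910161e8d6fe6d72746c6acb95732f82b12d8b), (nat_lit 0x3fd69c47ad48bc103d081b92a7a33cb8b1d50df62), (nat_lit 0x32d413bfa5f9ccc3b2e4f51a4139ba606ba315fde), (.wt (nat_lit 0) (nat_lit 0) (nat_lit 0x29d069dd4289881cb0b1977aaf1daee2c113e4bec) (.st (nat_lit 887) [] [] .nil) (unp (nat_lit 5) (nat_lit 0x4bc403)) [])⟩)))))))

noncomputable def T3_889 : Tr :=
  (.nd (nat_lit 906) (.nd (nat_lit 897) (.nd (nat_lit 893) (.nd (nat_lit 891) (.nd (nat_lit 890) (.lf ⟨nat_lit 1, nat_lit 266, nat_lit 889, (nat_lit 0x9a472e71a6030c6693ace0c7e5978349d74b3855), one, one, (.df [nat_lit 8, nat_lit 0])⟩)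
 (.lf ⟨nat_lit 0, nat_lit 889, nat_lit 889, (nat_lit 0x1929089bfa7d9629b95df3caaf1cb0a6788f77591), one, (nat_lit 0x1a61280e6271482f172cedb3225072149888b2d86), (.cmp (nat_lit 889) (nat_lit 889) (unp (nat_lit 5) (nat_lit 0x57c303)) [nat_lit 636])⟩))
 (.nd (nat_lit 892) (.lf ⟨nat_lit 1, nat_lit 889, nat_lit 266, one, (nat_lit 0x9a472e71a6030c6693ace0c7e5978349d74b3855), one, (.wt (nat_lit 0) (nat_lit 0) (nat_lit 0x9a472e71a6030c6693ace0c7e5978349d74b3855) (.st (nat_lit 889) [] [] .nil) [] [])⟩)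
 (.lf ⟨nat_lit 1, nat_lit 889, nat_lit 357, (nat_lit 0x100e0aba0d17c70444d02bf329fd10d7608f1b426), (nat_lit 0x32a58abf4c77a04c1dbec5461ea667683e2c60529), (nat_lit 0x1cc71f152ef80a8ff937f59be28fe8f6f4c086e4f), (.wt (nat_lit 2) (nat_lit 2) (nat_lit 0x28c0345461c387ddccffa33fcbba44599479955eb) (.st (nat_lit 707) [nat_lit 4] [] (.st (nat_lit 889) [] [] .nil)) [] [])⟩)))
 (.nd (nat_lit 895) (.nd (nat_lit 894) (.lf ⟨nat_lit 1, nat_lit 357, nat_lit 889, (nat_lit 0x29d069dd4289881cb0b1977aaf1daee2c113e4bec), (nat_lit 0x2709bf8442366b7e2f856958e993c4b3ebdef6e6b), (nat_lit 0x1fc4ccb6eb9c7befbccfb693d2aefb58d8df867aa), (.wt (nat_lit 0) (nat_lit 0) (nat_lit 0x100e0aba0d17c70444d02bf329fd10d7608f1b426) (.st (nat_lit 892) [] [] .nil) [nat_lit 4] [])⟩)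
 (.lf ⟨nat_lit 1, nat_lit 889, nat_lit 266, (nat_lit 0x3b6020b1ee99f350ad1583cd87ceba46c32e15ab7), (nat_lit 0x12571276787ca7fc14b84955785cebab58d3e52df), (nat_lit 0x12ee6b885d69f2666f3953818006c0c188b43050e), (.wt (nat_lit 5) (nat_lit 2) (nat_lit 0xaaa258867c9a09c4e805dc2711f2ed0a3f4c14f6) (.st (nat_lit 267) (unp (nat_lit 5) (nat_lit 0x27e303)) [] (.st (nat_lit 260) [nat_lit 6] [] (.st (nat_lit 659) (unp (nat_lit 5) (nat_lit 0x23c403)) [] (.st (nat_lit 749) [nat_lit 29, nat_lit 11] [] (.st (nat_lit 748) (unp (nat_lit 5) (nat_lit 0x3fc403)) [nat_lit 742] (.st (nat_lit 658) [nat_lit 3, nat_lit 21] [] (.st (nat_lit 261) [nat_lit 8] [] (.st (nat_lit 266) [nat_lit 31, nat_lit 20] [] (.st (nat_lit 889) [nat_lit 4, nat_lit 14] [] .nil))))))))) [nat_lit 3, nat_lit 19] [])⟩))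
 (.nd (nat_lit 896) (.lf ⟨nat_lit 0, nat_lit 889, nat_lit 889, (nat_lit 0x884b1eb7664ac69a91c87a43563317a345f94120), one, (nat_lit 0x12ee6b885d69f2666f3953818006c0c188b43050e), (.we (nat_lit 0) (nat_lit 0) (nat_lit 0x3b6020b1ee99f350ad1583cd87ceba46c32e15ab7) (.st (nat_lit 894) [] [] (.st (nat_lit 889) [nat_lit 29, nat_lit 8] [] .nil)))⟩)
 (.lf ⟨nat_lit 0, nat_lit 889, nat_lit 889, (nat_lit 0x2ec9bababf7bfeb4cd25793c911c35451deef8335), one, (nat_lit 0x2c842730bfd066417a48bbe142fe38e3198a5e853), (.prod [nat_lit 895, nat_lit 890])⟩))))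
 (.nd (nat_lit 901) (.nd (nat_lit 899) (.nd (nat_lit 898) (.lf ⟨nat_lit 0, nat_lit 889, nat_lit 889, (nat_lit 0x371021b1d6048299b2ca6b82df430b7d0cdf7524), one, (nat_lit 0x86ad1ff6a33f145f4194337adc5138ad8c9bdcb7), (.prod [nat_lit 896, nat_lit 895])⟩)
 (.lf ⟨nat_lit 1, nat_lit 287, nat_lit 898, (nat_lit 0xf6d11ea1f2003230c9ae98d7ebf7a100d6421009), one, one, (.df (unp (nat_lit 2) (nat_lit 0x2203)))⟩))
 (.nd (nat_lit 900) (.lf ⟨nat_lit 0, nat_lit 898, nat_lit 898, (nat_lit 0x1cc1780e627762abc24c7f3203aa4427ba0a9e1c5), one, (nat_lit 0xfe10060a26325a960ade6fcac3b33c598c22bd0b), (.cmp (nat_lit 898) (nat_lit 898) (unp (nat_lit 5) (nat_lit 0x3fc403)) [nat_lit 670])⟩)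
 (.lf ⟨nat_lit 1, nat_lit 898, nat_lit 287, one, (nat_lit 0xf6d11ea1f2003230c9ae98d7ebf7a100d6421009), one, (.wt (nat_lit 0) (nat_lit 0) (nat_lit 0xf6d11ea1f2003230c9ae98d7ebf7a100d6421009) (.st (nat_lit 898) [] [] .nil) [] [])⟩)))
 (.nd (nat_lit 903) (.nd (nat_lit 902) (.lf ⟨nat_lit 1, nat_lit 287, nat_lit 287, (nat_lit 0x100e0aba0d17c70444d02bf329fd10d7608f1b426), (nat_lit 0x303f8e4254d59542d2bd043ebabcfe0c378cddfd0), (nat_lit 0x2afc2efed5b7b216a7124f6849b82dc103e3a925), (.ren (nat_lit 302) [] [] [nat_lit 457])⟩)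
 (.lf ⟨nat_lit 1, nat_lit 898, nat_lit 321, (nat_lit 0x3b6020b1ee99f350ad1583cd87ceba46c32e15ab7), (nat_lit 0x10baa93db1a4d4e40073e84860c1643317db0a90f), (nat_lit 0x24a9330141158668d8e5e1d3391768d515a7c8657), (.wt (nat_lit 5) (nat_lit 2) (nat_lit 0x24a16b3d4e2ad579aec8d8bb7f6dab6d8c73d048) (.st (nat_lit 322) [nat_lit 3, nat_lit 9] [] (.st (nat_lit 333) [nat_lit 30, nat_lit 15] [] (.st (nat_lit 335) (unp (nat_lit 5) (nat_lit 0x47c403)) [nat_lit 661] (.st (nat_lit 640) [nat_lit 18] [] (.st (nat_lit 548) (unp (nat_lit 5) (nat_lit 0x27e403)) [] (.st (nat_lit 601) (unp (nat_lit 5) (nat_lit 0x27a303)) [] (.st (nat_lit 665) [nat_lit 20] [] (.st (nat_lit 901) (unp (nat_lit 5) (nat_lit 0x5bc403)) [] (.st (nat_lit 898) [nat_lit 17] [] .nil))))))))) [nat_lit 30, nat_lit 17] [])⟩))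
 (.nd (nat_lit 904) (.lf ⟨nat_lit 1, nat_lit 321, nat_lit 898, (nat_lit 0x125910161e8d6fe6d72746c6acb95732f82b12d8b), (nat_lit 0x27d31d67710fe51ad88a9fcd3627bebefe09c5ff5), (nat_lit 0x22974324895204cf6f849b32910239432dce27604), (.wt (nat_lit 0) (nat_lit 0) (nat_lit 0x3b6020b1ee99f350ad1583cd87ceba46c32e15ab7) (.st (nat_lit 902) [] [] .nil) [nat_lit 30] [])⟩)
 (.nd (nat_lit 905) (.lf ⟨nat_lit 1, nat_lit 898, nat_lit 254, (nat_lit 0x9a472e71a6030c6693ace0c7e5978349d74b3855), (nat_lit 0x212c1738a8f75355713728200ad543f38505b5c25), (nat_lit 0x3454ec0fd63066428c61bc72d4cf205bd4675fa95), (.wt (nat_lit 5) (nat_lit 2) (nat_lit 0x3d0e538d6a1e39d7c3fc73159340e6871074204ff) (.st (nat_lit 256) [nat_lit 29, nat_lit 16] [] (.st (nat_lit 574) (unp (nat_lit 5) (nat_lit 0x47e303)) [nat_lit 147] (.st (nat_lit 357) (unp (nat_lit 5) (nat_lit 0x5be403)) [] (.st (nat_lit 716)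 (unp (nat_lit 5) (nat_lit 0x43c403)) [] (.st (nat_lit 773) (unp (nat_lit 5) (nat_lit 0x27c303)) [] (.st (nat_lit 764) [nat_lit 30, nat_lit 13] [] (.st (nat_lit 595) [nat_lit 31, nat_lit 20] [nat_lit 649] (.st (nat_lit 675) [nat_lit 4, nat_lit 15] [] (.st (nat_lit 898) [nat_lit 30, nat_lit 17] [] .nil))))))))) [nat_lit 4, nat_lit 18] [])⟩)
 (.lf ⟨nat_lit 1, nat_lit 254, nat_lit 898, (nat_lit 0x3eba12c3c3234cd354a978de13ad53d6c7be58abc), (nat_lit 0x3842bd2e97e6336b69a090611a947248c3d4435a9), (nat_lit 0x3ac4cd3cd013dd81fac9ae22dd7463e284151620e), (.wt (nat_lit 0) (nat_lit 0) (nat_lit 0x9a472e71a6030c6693ace0c7e5978349d74b3855) (.st (nat_lit 904) [] [] .nil) (unp (nat_lit 5) (nat_lit 0x33e303)) [])⟩))))))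
 (.nd (nat_lit 914) (.nd (nat_lit 910) (.nd (nat_lit 908) (.nd (nat_lit 907) (.lf ⟨nat_lit 1, nat_lit 898, nat_lit 186, (nat_lit 0x125910161e8d6fe6d72746c6acb95732f82b12d8b), (nat_lit 0x38fe22fc3c31669bd84cf9a678471df3c6e8c7c2e), (nat_lit 0x3accadc3f0e5377ba1d1d97091861faf64e954752), (.wt (nat_lit 5) (nat_lit 2) (nat_lit 0x46a765a91c9154b0d2a36c155e77468439c7df74) (.st (nat_lit 188) [nat_lit 31, nat_lit 13] [] (.st (nat_lit 411) [nat_lit 3, nat_lit 18] [] (.st (nat_lit 412) [nat_lit 30, nat_lit 19] [nat_lit 592, nat_lit 712] (.st (nat_lit 577) (unp (nat_lit 5) (nat_lit 0x57a403)) [nat_lit 554] (.st (nat_lit 518) (unp (nat_lit 5) (nat_lit 0x5bc403)) [] (.st (nat_lit 402) [nat_lit 21] [] (.st (nat_lit 713) [nat_lit 4, nat_lit 12] [nat_lit 591] (.st (nat_lit 675) [nat_lit 3, nat_lit 12] [] (.st (nat_lit 898) [nat_lit 3, nat_lit 19] [] .nil))))))))) (unp (nat_lit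 5) (nat_lit 0x3be303)) [])⟩)
 (.lf ⟨nat_lit 1, nat_lit 186, nat_lit 898, (nat_lit 0x3b6020b1ee99f350ad1583cd87ceba46c32e15ab7), (nat_lit 0xed71f52cb661ad1e5e39fcc65230a692c451ff4b), (nat_lit 0x309d3d9816c4eb708bfd1394b44a69c2be8204e59), (.wt (nat_lit 0) (nat_lit 0) (nat_lit 0x125910161e8d6fe6d72746c6acb95732f82b12d8b) (.st (nat_lit 906) [] [] .nil) [nat_lit 3, nat_lit 9] [])⟩))
 (.nd (nat_lit 909) (.lf ⟨nat_lit 1, nat_lit 287, nat_lit 908, (nat_lit 0x3eba12c3c3234cd354a978de13ad53d6c7be58abc), one, one, (.df [nat_lit 2, nat_lit 2])⟩)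
 (.lf ⟨nat_lit 0, nat_lit 908, nat_lit 908, (nat_lit 0x176708afc7d76226519823ab768f79ea6a430c16), one, (nat_lit 0xfe10060a26325a960ade6fcac3b33c598c22bd0b), (.cmp (nat_lit 908) (nat_lit 908) (unp (nat_lit 5) (nat_lit 0x27a303)) [nat_lit 670])⟩)))
 (.nd (nat_lit 912) (.nd (nat_lit 911) (.lf ⟨nat_lit 1, nat_lit 908, nat_lit 287, one, (nat_lit 0x3eba12c3c3234cd354a978de13ad53d6c7be58abc), one, (.wt (nat_lit 0) (nat_lit 0) (nat_lit 0x3eba12c3c3234cd354a978de13ad53d6c7be58abc) (.st (nat_lit 908) [] [] .nil) [] [])⟩)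
 (.lf ⟨nat_lit 1, nat_lit 908, nat_lit 898, (nat_lit 0x100e0aba0d17c70444d02bf329fd10d7608f1b426), (nat_lit 0x100e0aba0d17c70444d02bf329fd10d7608f1b426), one, (.wt (nat_lit 2) (nat_lit 2) one (.st (nat_lit 900) [] [] (.st (nat_lit 908) [] [] .nil)) [] [])⟩))
 (.nd (nat_lit 913) (.lf ⟨nat_lit 1, nat_lit 898, nat_lit 908, (nat_lit 0x100e0aba0d17c70444d02bf329fd10d7608f1b426), (nat_lit 0x100e0aba0d17c70444d02bf329fd10d7608f1b426), one, (.wt (nat_lit 0) (nat_lit 0) (nat_lit 0x100e0aba0d17c70444d02bf329fd10d7608f1b426) (.st (nat_lit 911) [] [] .nil) [] [])⟩)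
 (.lf ⟨nat_lit 1, nat_lit 908, nat_lit 898, (nat_lit 0x29d069dd4289881cb0b1977aaf1daee2c113e4bec), (nat_lit 0x13d0dfdddf09ba31dbf6cc2ec78ad7eb30e78ad44), (nat_lit 0xbae13ae2b16c4456f31ba7bbf7733e634bf7bcc4), (.wt (nat_lit 5) (nat_lit 2) (nat_lit 0x37644f1ccc84b9d69d8c6cef3899d917d8a756b3d) (.st (nat_lit 904) [nat_lit 31, nat_lit 8] [] (.st (nat_lit 255) (unp (nat_lit 5) (nat_lit 0x37c303)) [] (.st (nat_lit 104) [nat_lit 3, nat_lit 8] [] (.st (nat_lit 582) (unp (nat_lit 5) (nat_lit 0x23a403)) [] (.st (nat_lit 547) [nat_lit 31, nat_lit 13] [nat_lit 150] (.st (nat_lit 102) [nat_lit 4, nat_lit 9] [] (.st (nat_lit 97) (unp (nat_lit 5) (nat_lit 0x57a403)) [nat_lit 72] (.st (nat_lit 287) (unp (nat_lit 5) (nat_lit 0x4fc403)) [nat_lit 453] (.st (nat_lit 908) (unp (nat_lit 5) (nat_lit 0x23a303)) [] .nil))))))))) [nat_lit 29, nat_lit 13] [])⟩))))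
 (.nd (nat_lit 918) (.nd (nat_lit 916) (.nd (nat_lit 915) (.lf ⟨nat_lit 0, nat_lit 908, nat_lit 908, (nat_lit 0x210b25961101b0803255fa684a400234871d01cf), one, (nat_lit 0xbae13ae2b16c4456f31ba7bbf7733e634bf7bcc4), (.we (nat_lit 0) (nat_lit 0) (nat_lit 0x29d069dd4289881cb0b1977aaf1daee2c113e4bec) (.st (nat_lit 913) [] [] (.st (nat_lit 912) (unp (nat_lit 5) (nat_lit 0x2fc303)) [] .nil)))⟩)
 (.lf ⟨nat_lit 0, nat_lit 908, nat_lit 908, (nat_lit 0x2f3f71741ae678e080ab417cadf91f163e5ab8cd5), one, (nat_lit 0x10a729423c54fb866938d7f6b7167b81c86e20bd9), (.prod [nat_lit 909, nat_lit 914])⟩))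
 (.nd (nat_lit 917) (.lf ⟨nat_lit 1, nat_lit 908, nat_lit 916, (nat_lit 0xf6d11ea1f2003230c9ae98d7ebf7a100d6421009), one, one, (.df (unp (nat_lit 2) (nat_lit 0x2203)))⟩)
 (.lf ⟨nat_lit 0, nat_lit 916, nat_lit 916, (nat_lit 0x27886d5f2d21155f20e72f284280a739b940580), one, (nat_lit 0x10a729423c54fb866938d7f6b7167b81c86e20bd9), (.cmp (nat_lit 916) (nat_lit 916) (unp (nat_lit 5) (nat_lit 0x5ba403)) [nat_lit 915])⟩)))
 (.nd (nat_lit 920) (.nd (nat_lit 919) (.lf ⟨nat_lit 0, nat_lit 916, nat_lit 916, (nat_lit 0x1b83d2413c1dbc1557085fa50601b07e39b9f355c), one, (nat_lit 0x16e888d7d43141626d81d5d720de7b852c6220bd8), (.prod [nat_lit 917, nat_lit 917])⟩)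
 (.lf ⟨nat_lit 1, nat_lit 916, nat_lit 908, one, (nat_lit 0xf6d11ea1f2003230c9ae98d7ebf7a100d6421009), one, (.wt (nat_lit 0) (nat_lit 0) (nat_lit 0xf6d11ea1f2003230c9ae98d7ebf7a100d6421009) (.st (nat_lit 916) [] [] .nil) [] [])⟩))
 (.nd (nat_lit 921) (.lf ⟨nat_lit 1, nat_lit 916, nat_lit 908, (nat_lit 0x29d069dd4289881cb0b1977aaf1daee2c113e4bec), (nat_lit 0xfaa82a7c80cd986b424ba71f1d19c8921ae8141), (nat_lit 0x184f708afc4f049da4862695fa3ee392a520b80d4), (.wt (nat_lit 5) (nat_lit 2) (nat_lit 0x3dcf3316c592684e1b7392143c0305fdbafc0a3c7) (.st (nat_lit 910) [nat_lit 31, nat_lit 17] [] (.st (nat_lit 901) [nat_lit 4, nat_lit 12] [] (.st (nat_lit 674) [nat_lit 31, nat_lit 12] [nat_lit 670] (.st (nat_lit 584) [nat_lit 31, nat_lit 9] [] (.st (nat_lit 209) (unp (nat_lit 5) (nat_lit 0x3be303)) [] (.st (nat_lit 186) [] [] (.st (nat_lit 907) [nat_lit 4, nat_lit 30] []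 (.st (nat_lit 912) [nat_lit 30, nat_lit 22] [] (.st (nat_lit 916) (unp (nat_lit 5) (nat_lit 0x23a303)) [nat_lit 909] .nil))))))))) [nat_lit 29, nat_lit 13] [])⟩)
 (.nd (nat_lit 922) (.lf ⟨nat_lit 0, nat_lit 916, nat_lit 916, (nat_lit 0x175e79594c059dc42da19eadbfac377be69c91d43), one, (nat_lit 0x1ff2a83cf20d718d3de5bc1982cba772f232b29e5), (.we (nat_lit 0) (nat_lit 0) (nat_lit 0x29d069dd4289881cb0b1977aaf1daee2c113e4bec) (.st (nat_lit 920) [] [] (.st (nat_lit 916) (unp (nat_lit 5) (nat_lit 0x33a303)) [nat_lit 909] .nil)))⟩)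
 (.lf ⟨nat_lit 0, nat_lit 916, nat_lit 916, (nat_lit 0x1f9a4a010b4159a6912095192d92721700a145c79), one, (nat_lit 0x7dcd174186f28e3e3e974bcb3afd44cfed1ce549), (.prod [nat_lit 917, nat_lit 921])⟩)))))))

noncomputable def T3_923 : Tr :=
  (.nd (nat_lit 940) (.nd (nat_lit 931) (.nd (nat_lit 927) (.nd (nat_lit 925) (.nd (nat_lit 924) (.lf ⟨nat_lit 0, nat_lit 916, nat_lit 916, (nat_lit 0x1370697624741962bca9b23ebc5d75b1e63de71e7), one, (nat_lit 0x1e71d8df0207a38ad2b5cb84a68c733ee8effccac), (.prod [nat_lit 918, nat_lit 921])⟩)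
 (.lf ⟨nat_lit 1, nat_lit 908, nat_lit 924, (nat_lit 0x3eba12c3c3234cd354a978de13ad53d6c7be58abc), one, one, (.df [nat_lit 2, nat_lit 2])⟩))
 (.nd (nat_lit 926) (.lf ⟨nat_lit 0, nat_lit 924, nat_lit 924, (nat_lit 0x12039043a6092718f95caf72806334f068d2c67c0), one, (nat_lit 0x10a729423c54fb866938d7f6b7167b81c86e20bd9), (.cmp (nat_lit 924) (nat_lit 924) [nat_lit 4, nat_lit 13] [nat_lit 915])⟩)
 (.lf ⟨nat_lit 0, nat_lit 924, nat_lit 924, (nat_lit 0x88278b68c34ad18f165e3342438a0200295c67c1), one, (nat_lit 0x16e888d7d43141626d81d5d720de7b852c6220bd8), (.prod [nat_lit 925, nat_lit 925])⟩)))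
 (.nd (nat_lit 929) (.nd (nat_lit 928) (.lf ⟨nat_lit 1, nat_lit 924, nat_lit 908, one, (nat_lit 0x3eba12c3c3234cd354a978de13ad53d6c7be58abc), one, (.wt (nat_lit 0) (nat_lit 0) (nat_lit 0x3eba12c3c3234cd354a978de13ad53d6c7be58abc) (.st (nat_lit 924) [] [] .nil) [] [])⟩)
 (.lf ⟨nat_lit 1, nat_lit 924, nat_lit 916, (nat_lit 0x100e0aba0d17c70444d02bf329fd10d7608f1b426), (nat_lit 0x100e0aba0d17c70444d02bf329fd10d7608f1b426), one, (.wt (nat_lit 2) (nat_lit 2) one (.st (nat_lit 919) [] [] (.st (nat_lit 924) [] [] .nil)) [] [])⟩))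
 (.nd (nat_lit 930) (.lf ⟨nat_lit 1, nat_lit 916, nat_lit 924, (nat_lit 0x100e0aba0d17c70444d02bf329fd10d7608f1b426), (nat_lit 0x100e0aba0d17c70444d02bf329fd10d7608f1b426), one, (.wt (nat_lit 0) (nat_lit 0) (nat_lit 0x100e0aba0d17c70444d02bf329fd10d7608f1b426) (.st (nat_lit 928) [] [] .nil) [] [])⟩)
 (.lf ⟨nat_lit 1, nat_lit 924, nat_lit 254, (nat_lit 0x3eba12c3c3234cd354a978de13ad53d6c7be58abc), (nat_lit 0x2738aeef26610956c531f7a73d0dbe885b95e5a21), (nat_lit 0x959b35e0cfe7d80196b294729f7fda9923c737ed), (.wt (nat_lit 5) (nat_lit 2) (nat_lit 0x1278ff037d404a7ea956fdfae7b00fcb9d3ea718e) (.st (nat_lit 605) [nat_lit 20] [] (.st (nat_lit 659) [nat_lit 4, nat_lit 16] [] (.st (nat_lit 280) [nat_lit 29, nat_lit 20] [] (.st (nat_lit 287) [nat_lit 4, nat_lit 21] [] (.st (nat_lit 666) [nat_lit 3, nat_lit 12] [] (.st (nat_lit 665) [nat_lit 4, nat_lit 18] [nat_lit 239]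 (.st (nat_lit 901) (unp (nat_lit 5) (nat_lit 0x33a403)) [] (.st (nat_lit 908) [nat_lit 29, nat_lit 22] [] (.st (nat_lit 924) (unp (nat_lit 5) (nat_lit 0x4fc403)) [nat_lit 909] .nil))))))))) (unp (nat_lit 5) (nat_lit 0x23a303)) [])⟩))))
 (.nd (nat_lit 935) (.nd (nat_lit 933) (.nd (nat_lit 932) (.lf ⟨nat_lit 1, nat_lit 254, nat_lit 924, (nat_lit 0x29d069dd4289881cb0b1977aaf1daee2c113e4bec), (nat_lit 0x13ea0bc0d56ce86cc9fd377d87ce81f0a0dee6589), (nat_lit 0x6fb206e6bb9b767284ab0feaa609c37e2915b336), (.wt (nat_lit 0) (nat_lit 0) (nat_lit 0x3eba12c3c3234cd354a978de13ad53d6c7be58abc) (.st (nat_lit 930) [] [] .nil) (unp (nat_lit 5) (nat_lit 0x57c303)) [])⟩)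
 (.lf ⟨nat_lit 1, nat_lit 924, nat_lit 924, (nat_lit 0x125910161e8d6fe6d72746c6acb95732f82b12d8b), (nat_lit 0x125910161e8d6fe6d72746c6acb95732f82b12d8b), (nat_lit 0x101a9bb0cd78fd6acd5da0e2a421f08e4085c65d1), (.wt (nat_lit 6) (nat_lit 2) (nat_lit 0x19d5199b96b3cac6212f6ead5e5691a749d4d39f) (.st (nat_lit 930) (unp (nat_lit 5) (nat_lit 0x57e403)) [] (.st (nat_lit 265) (unp (nat_lit 5) (nat_lit 0x27e403)) [] (.st (nat_lit 625) (unp (nat_lit 5) (nat_lit 0x2fc303)) [] (.st (nat_lit 595) [nat_lit 30, nat_lit 21] [nat_lit 649] (.st (nat_lit 675) [nat_lit 4, nat_lit 17] [] (.st (nat_lit 908) (unp (nat_lit 5) (nat_lit 0x1ba403)) [] (.st (nat_lit 924) [nat_lit 11] [] .nil))))))) [nat_lit 31, nat_lit 22] [])⟩))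
 (.nd (nat_lit 934) (.lf ⟨nat_lit 1, nat_lit 924, nat_lit 933, (nat_lit 0x3b6020b1ee99f350ad1583cd87ceba46c32e15ab7), one, one, (.df [nat_lit 3])⟩)
 (.lf ⟨nat_lit 0, nat_lit 933, nat_lit 933, (nat_lit 0x1b83d2413c1dbc1557085fa50601b07e39b9f355c), one, (nat_lit 0x10a729423c54fb866938d7f6b7167b81c86e20bd9), (.cmp (nat_lit 933) (nat_lit 933) [nat_lit 31, nat_lit 11] [nat_lit 925])⟩)))
 (.nd (nat_lit 937) (.nd (nat_lit 936) (.lf ⟨nat_lit 1, nat_lit 933, nat_lit 924, one, (nat_lit 0x3b6020b1ee99f350ad1583cd87ceba46c32e15ab7), one, (.wt (nat_lit 0) (nat_lit 0) (nat_lit 0x3b6020b1ee99f350ad1583cd87ceba46c32e15ab7) (.st (nat_lit 933) [] [] .nil) [] [])⟩)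
 (.lf ⟨nat_lit 1, nat_lit 933, nat_lit 924, (nat_lit 0x100e0aba0d17c70444d02bf329fd10d7608f1b426), (nat_lit 0x130a48fd346cc8a79b7a515a57b3f65e708742ca2), (nat_lit 0x101a9bb0cd78fd6acd5da0e2a421f08e4085c65d1), (.wt (nat_lit 2) (nat_lit 2) (nat_lit 0x4ef4135787dfbee29cd1b2392c3c047e4cfe0564) (.st (nat_lit 932) [nat_lit 4, nat_lit 20] [] (.st (nat_lit 933) [] [] .nil)) [] [])⟩))
 (.nd (nat_lit 938) (.lf ⟨nat_lit 0, nat_lit 933, nat_lit 933, (nat_lit 0x16146b1d652302cf6fac7c910a48430058769b84c), one, (nat_lit 0x101a9bb0cd78fd6acd5da0e2a421f08e4085c65d1), (.we (nat_lit 0) (nat_lit 0) (nat_lit 0x100e0aba0d17c70444d02bf329fd10d7608f1b426) (.st (nat_lit 936) [] [] (.st (nat_lit 933) [nat_lit 3, nat_lit 21] [] .nil)))⟩)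
 (.nd (nat_lit 939) (.lf ⟨nat_lit 0, nat_lit 933, nat_lit 933, (nat_lit 0x16138eeedbad4a5dc43ae03e4b8ad98d615cffa3e), one, (nat_lit 0x1aa6d7e1ca7f3bec035ad1c43d9a4e6d8aacafbfa), (.prod [nat_lit 934, nat_lit 937])⟩)
 (.lf ⟨nat_lit 1, nat_lit 933, nat_lit 924, (nat_lit 0xf6d11ea1f2003230c9ae98d7ebf7a100d6421009), (nat_lit 0x29bd6124d69f5fd01c1139afc4eb5ed6937ca989), (nat_lit 0x2ce6c6e84b968e8b851402b61ea742ffaae0bdff2), (.wt (nat_lit 5) (nat_lit 2) (nat_lit 0x8e63aa1b814fbf745cff8bb8ff826f7280ea5d49) (.st (nat_lit 927) [nat_lit 29, nat_lit 15] [] (.st (nat_lit 910) (unp (nat_lit 5) (nat_lit 0x2fc303)) [] (.st (nat_lit 666) [nat_lit 31, nat_lit 19] [nat_lit 670] (.st (nat_lit 780) (unp (nat_lit 5) (nat_lit 0x3fe303)) [] (.st (nat_lit 783) [nat_lit 31, nat_lit 22] [nat_lit 775] (.st (nat_lit 353) [nat_lit 29, nat_lit 19] [nat_lit 613] (.st (nat_lit 588) (unp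 (nat_lit 5) (nat_lit 0x4fc303)) [] (.st (nat_lit 931) [nat_lit 30, nat_lit 8] [] (.st (nat_lit 933) (unp (nat_lit 5) (nat_lit 0x53e403)) [] .nil))))))))) (unp (nat_lit 5) (nat_lit 0x4bc403)) [])⟩))))))
 (.nd (nat_lit 949) (.nd (nat_lit 944) (.nd (nat_lit 942) (.nd (nat_lit 941) (.lf ⟨nat_lit 0, nat_lit 933, nat_lit 933, (nat_lit 0xb02a93c1044d071730109060bbf13f971faca589), one, (nat_lit 0x2ce6c6e84b968e8b851402b61ea742ffaae0bdff2), (.we (nat_lit 0) (nat_lit 0) (nat_lit 0xf6d11ea1f2003230c9ae98d7ebf7a100d6421009) (.st (nat_lit 939) [] [] (.st (nat_lit 933) (unp (nat_lit 5) (nat_lit 0x57a303)) [] .nil)))⟩)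
 (.lf ⟨nat_lit 0, nat_lit 933, nat_lit 933, (nat_lit 0x1bb3bfddddbe9592abbe25256fa1aa50392a572af), one, (nat_lit 0xce3edc6ef623c62c2be72070e53bee32e25e9e2b), (.inv (nat_lit 938))⟩))
 (.nd (nat_lit 943) (.lf ⟨nat_lit 0, nat_lit 933, nat_lit 933, (nat_lit 0x2ac6c16a370ae70bc4a9f88315be00509d54c0057), one, (nat_lit 0x1859eef8f3afc71aa6df75f4a8abc6336e69df582), (.prod [nat_lit 940, nat_lit 941])⟩)
 (.lf ⟨nat_lit 1, nat_lit 933, nat_lit 933, (nat_lit 0x29d069dd4289881cb0b1977aaf1daee2c113e4bec), (nat_lit 0x3432f69902d34fa58eca391f28437ddd5d8bec5d3), (nat_lit 0x2e3e3bc3283a12f9376be5a584de057ce6844ba19), (.wt (nat_lit 5) (nat_lit 2) (nat_lit 0x1027baa1b9873113716da2a541134b489fbe3d75f) (.st (nat_lit 935) (unp (nat_lit 5) (nat_lit 0x47e303)) [] (.st (nat_lit 928) (unp (nat_lit 5) (nat_lit 0x53c303)) [] (.st (nat_lit 919) (unp (nat_lit 5) (nat_lit 0x43e303)) [nat_lit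 921] (.st (nat_lit 924) [nat_lit 3, nat_lit 15] [nat_lit 909] (.st (nat_lit 932) (unp (nat_lit 5) (nat_lit 0x4be303)) [] (.st (nat_lit 927) (unp (nat_lit 5) (nat_lit 0x57a303)) [] (.st (nat_lit 916) (unp (nat_lit 5) (nat_lit 0x47e303)) [nat_lit 909] (.st (nat_lit 929) [nat_lit 3, nat_lit 14] [nat_lit 923] (.st (nat_lit 933) (unp (nat_lit 5) (nat_lit 0x57e303)) [] .nil))))))))) (unp (nat_lit 5) (nat_lit 0x3fa303)) [])⟩)))
 (.nd (nat_lit 946) (.nd (nat_lit 945) (.lf ⟨nat_lit 1, nat_lit 933, nat_lit 944, (nat_lit 0x2ba2cea7bd829f6f53bc17c3f6c7dba59a18cc2c5), one, one, (.df [nat_lit 2, nat_lit 0])⟩)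
 (.lf ⟨nat_lit 0, nat_lit 944, nat_lit 944, (nat_lit 0xeaad67fd11c5b9223e2ddec3fe3fc4bea7a101af), one, (nat_lit 0x1859eef8f3afc71aa6df75f4a8abc6336e69df582), (.cmp (nat_lit 944) (nat_lit 944) (unp (nat_lit 5) (nat_lit 0x33c403)) [nat_lit 942])⟩))
 (.nd (nat_lit 947) (.lf ⟨nat_lit 0, nat_lit 944, nat_lit 944, (nat_lit 0x7ca567dd30d58922be2dce626effc4f6e2a710ed), one, (nat_lit 0x18997efaf3af871aaedf74f49cadd538eaaa9f88a), (.prod [nat_lit 945, nat_lit 945])⟩)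
 (.nd (nat_lit 948) (.lf ⟨nat_lit 0, nat_lit 944, nat_lit 944, (nat_lit 0x217671bb1d0d686d559c231b1f407326aaad33e0e), one, (nat_lit 0x10a729423c54fb866938d7f6b7167b81c86e20bd9), (.cmp (nat_lit 944) (nat_lit 944) (unp (nat_lit 5) (nat_lit 0x3fa403)) [nat_lit 934])⟩)
 (.lf ⟨nat_lit 0, nat_lit 944, nat_lit 944, (nat_lit 0x182d3974edd5645163fb11bcb95e90b4ae1f4beda), one, (nat_lit 0x11d62e118a3e4c7c2f91e54978634da02eeab5549), (.prod [nat_lit 947, nat_lit 945])⟩)))))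
 (.nd (nat_lit 953) (.nd (nat_lit 951) (.nd (nat_lit 950) (.lf ⟨nat_lit 0, nat_lit 944, nat_lit 944, (nat_lit 0x2166738bec75d24e7294e9d92d918764f49333e0f), one, (nat_lit 0x16e888d7d43141626d81d5d720de7b852c6220bd8), (.prod [nat_lit 947, nat_lit 947])⟩)
 (.lf ⟨nat_lit 0, nat_lit 944, nat_lit 944, (nat_lit 0x184f708afc4f049da4862695fa3ee392a520b80d4), one, (nat_lit 0x1710753b66ab77e85480247834b252e610515e90), (.prod [nat_lit 948, nat_lit 945])⟩))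
 (.nd (nat_lit 952) (.lf ⟨nat_lit 0, nat_lit 944, nat_lit 944, (nat_lit 0x1687e1cdf7ad552f2ca2d77e4075b9279d7fdbf75), one, (nat_lit 0xe0c210981e9b567864ed37c30308b93418c6a0cb), (.prod [nat_lit 949, nat_lit 945])⟩)
 (.lf ⟨nat_lit 0, nat_lit 944, nat_lit 944, (nat_lit 0x10cb06ea4ba2683836cda44ebc5f8f0cd97223702), one, (nat_lit 0x1494e02c1599c3f5005c00f19dec67d1d29b174aa), (.prod [nat_lit 950, nat_lit 947])⟩)))
 (.nd (nat_lit 955) (.nd (nat_lit 954) (.lf ⟨nat_lit 0, nat_lit 944, nat_lit 944, (nat_lit 0x1f85201a39c9c4615e3f4e2531c62f0069ecc9039), one, (nat_lit 0x39d451a64fc6f205ebcf06ab10eef016ea6fca61a), (.prod [nat_lit 951, nat_lit 945])⟩)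
 (.lf ⟨nat_lit 1, nat_lit 944, nat_lit 933, one, (nat_lit 0x2ba2cea7bd829f6f53bc17c3f6c7dba59a18cc2c5), one, (.wt (nat_lit 0) (nat_lit 0) (nat_lit 0x2ba2cea7bd829f6f53bc17c3f6c7dba59a18cc2c5) (.st (nat_lit 944) [] [] .nil) [] [])⟩))
 (.nd (nat_lit 956) (.lf ⟨nat_lit 1, nat_lit 944, nat_lit 933, (nat_lit 0x100e0aba0d17c70444d02bf329fd10d7608f1b426), (nat_lit 0x210b25961101b0803255fa684a400234871d01cf), (nat_lit 0x36cba1562b6607d4293f38669998a67f1a7b2a678), (.wt (nat_lit 2) (nat_lit 2) (nat_lit 0x3432f69902d34fa58eca391f28437ddd5d8bec5d3) (.st (nat_lit 943) (unp (nat_lit 5) (nat_lit 0x2fc303)) [] (.st (nat_lit 944) (unp (nat_lit 5) (nat_lit 0x3fa403)) [] .nil)) (unp (nat_lit 5) (nat_lit 0x5ba403)) [])⟩)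
 (.nd (nat_lit 957) (.lf ⟨nat_lit 0, nat_lit 944, nat_lit 944, (nat_lit 0x4082b621685acd7819a68faa846876ee7535a5cb), one, (nat_lit 0x36cba1562b6607d4293f38669998a67f1a7b2a678), (.we (nat_lit 0) (nat_lit 0) (nat_lit 0x100e0aba0d17c70444d02bf329fd10d7608f1b426) (.st (nat_lit 955) [] [] (.st (nat_lit 944) (unp (nat_lit 5) (nat_lit 0x3bc403)) [] .nil)))⟩)
 (.lf ⟨nat_lit 0, nat_lit 944, nat_lit 944, (nat_lit 0x3ffdcfa32dcf5c42bcc0f12b742cb755c18d84e61), one, (nat_lit 0x2f16b77d5055b68e91ba633a0064c1c75561e9070), (.prod [nat_lit 948, nat_lit 956])⟩)))))))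

noncomputable def T3_958 : Tr :=
  (.nd (nat_lit 975) (.nd (nat_lit 966) (.nd (nat_lit 962) (.nd (nat_lit 960) (.nd (nat_lit 959) (.lf ⟨nat_lit 0, nat_lit 944, nat_lit 944, (nat_lit 0x113a82ffd2fa1cfc14b0dde44999e309948c436c6), one, (nat_lit 0x1288cbe786fa4166689f68998bf43ba331522a69), (.prod [nat_lit 950, nat_lit 956])⟩)
 (.lf ⟨nat_lit 0, nat_lit 944, nat_lit 944, (nat_lit 0x2afedad5fab1b4d7c3e6ceb7159c49acb31139d75), one, (nat_lit 0x6299d8ef78bba15461ffbc3056e0bff1e639b638), (.prod [nat_lit 952, nat_lit 956])⟩))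
 (.nd (nat_lit 961) (.lf ⟨nat_lit 0, nat_lit 944, nat_lit 944, (nat_lit 0x3892a976af9c076795bb18b01282d22ef6fa6a344), one, (nat_lit 0x2b8212ec8237a3caeb51c18c4d25c092b08684d21), (.prod [nat_lit 953, nat_lit 956])⟩)
 (.lf ⟨nat_lit 1, nat_lit 944, nat_lit 944, (nat_lit 0x29d069dd4289881cb0b1977aaf1daee2c113e4bec), (nat_lit 0x3e640a8dae6302f27a70acf740d8f8ade357023bb), (nat_lit 0x7290265e57c5cadff2ce9cf2c7db2a3381f279b1), (.wt (nat_lit 5) (nat_lit 2) (nat_lit 0x1f8320ad3aea785712667a8c81a544e65b1ce2c9f) (.st (nat_lit 954) [nat_lit 3, nat_lit 13] [] (.st (nat_lit 935) (unp (nat_lit 5) (nat_lit 0x5ba303)) [] (.st (nat_lit 928) (unp (nat_lit 5) (nat_lit 0x3fa303)) [] (.st (nat_lit 929) [nat_lit 3, nat_lit 19] [nat_lit 923] (.st (nat_lit 932) (unp (nat_lit 5) (nat_lit 0x2fe303)) [] (.st (nat_lit 928) (unp (nat_lit 5) (nat_lit 0x33a303)) [] (.st (nat_lit 929) [nat_lit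 3, nat_lit 13] [nat_lit 923] (.st (nat_lit 933) (unp (nat_lit 5) (nat_lit 0x5ba303)) [] (.st (nat_lit 944) (unp (nat_lit 5) (nat_lit 0x3fa303)) [] .nil))))))))) (unp (nat_lit 5) (nat_lit 0x2fa403)) [])⟩)))
 (.nd (nat_lit 964) (.nd (nat_lit 963) (.lf ⟨nat_lit 0, nat_lit 944, nat_lit 944, (nat_lit 0xc91373debc44ce21b70b71346fea1e39d8b54112), one, (nat_lit 0x144d964d13d446f09b83905baffc0c2cf0557eb3), (.cmp (nat_lit 961) (nat_lit 961) (unp (nat_lit 5) (nat_lit 0x33a303)) [nat_lit 945, nat_lit 959])⟩)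
 (.lf ⟨nat_lit 0, nat_lit 944, nat_lit 944, (nat_lit 0x3ae44b97a2ef544342022317b583c587744704ef5), one, (nat_lit 0x2d5831e1630d8e03f9bc1f6ec78b63912885dd583), (.inv (nat_lit 960))⟩))
 (.nd (nat_lit 965) (.lf ⟨nat_lit 0, nat_lit 944, nat_lit 944, (nat_lit 0x1838f2efee660fc69fb5dbce927016a89c18c749d), one, (nat_lit 0x2f3f71741ae678e080ab417cadf91f163e5ab8cd5), (.prod [nat_lit 962, nat_lit 963])⟩)
 (.lf ⟨nat_lit 0, nat_lit 944, nat_lit 944, (nat_lit 0x2ac6c16a370ae70bc4a9f88315be00509d54c0057), one, (nat_lit 0x8003a3e5793d485e5c24eee137313da8e483dce0), (.prod [nat_lit 964, nat_lit 945])⟩))))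
 (.nd (nat_lit 970) (.nd (nat_lit 968) (.nd (nat_lit 967) (.lf ⟨nat_lit 0, nat_lit 944, nat_lit 944, (nat_lit 0xf5ea9c297112a29b9596725bd2961c92eeffc827), one, (nat_lit 0x2f2f716cb2e638e1222b407cb7711f126adaed87d), (.prod [nat_lit 964, nat_lit 964])⟩)
 (.lf ⟨nat_lit 1, nat_lit 944, nat_lit 967, (nat_lit 0x2ba2cea7bd829f6f53bc17c3f6c7dba59a18cc2c5), one, one, (.df [nat_lit 2, nat_lit 0])⟩))
 (.nd (nat_lit 969) (.lf ⟨nat_lit 0, nat_lit 967, nat_lit 967, (nat_lit 0x142b3823159f4577929633dc34bfc6bc1ce6ada97), one, (nat_lit 0x35ce6608bd5b8f864592ab1e0b26f073c13c435bb), (.cmp (nat_lit 967) (nat_lit 967) [nat_lit 16] (unp (nat_lit 10) (nat_lit 0x3bdf17b203)))⟩)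
 (.lf ⟨nat_lit 0, nat_lit 967, nat_lit 967, (nat_lit 0x12039043a6092718f95caf72806334f068d2c67c0), one, (nat_lit 0x2ad6c2024230574570a45054942be0399d545e03b), (.prod [nat_lit 968, nat_lit 968])⟩)))
 (.nd (nat_lit 972) (.nd (nat_lit 971) (.lf ⟨nat_lit 0, nat_lit 967, nat_lit 967, (nat_lit 0x1f17ab37d3680aec186d2ec989b1805c40f0c3439), one, (nat_lit 0x101a9bb0cd78fd6acd5da0e2a421f08e4085c65d1), (.prod [nat_lit 969, nat_lit 968])⟩)
 (.lf ⟨nat_lit 0, nat_lit 967, nat_lit 967, (nat_lit 0x15290101f374771cfdd3cf038aab631dbaa2e3869), one, (nat_lit 0x2a0a9a2d15c2218952a404dbfae086843305090d), (.cmp (nat_lit 967) (nat_lit 967) [nat_lit 13] (unp (nat_lit 10) (nat_lit 0x3b4f1bb203)))⟩))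
 (.nd (nat_lit 973) (.lf ⟨nat_lit 0, nat_lit 967, nat_lit 967, (nat_lit 0x3f17a0ad3bbb80b968ec7fda65f8261fc0adc3055), one, (nat_lit 0x1af947507bdf724916351cddaf00e05a2d599d28e), (.prod [nat_lit 969, nat_lit 971])⟩)
 (.nd (nat_lit 974) (.lf ⟨nat_lit 0, nat_lit 967, nat_lit 967, (nat_lit 0x304f828d3badc7fcd031b1e86f18301ce116546c2), one, (nat_lit 0x19bcf2ead215116fb388a676b714468670081d05e), (.prod [nat_lit 971, nat_lit 968])⟩)
 (.lf ⟨nat_lit 0, nat_lit 967, nat_lit 967, (nat_lit 0x105f889bf84ba5216a50d0702eacb68cdacb59cb4), one, (nat_lit 0x105f889bf84ba5216a50d0702eacb68cdacb59cb4), (.prod [nat_lit 971, nat_lit 971])⟩))))))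
 (.nd (nat_lit 983) (.nd (nat_lit 979) (.nd (nat_lit 977) (.nd (nat_lit 976) (.lf ⟨nat_lit 0, nat_lit 967, nat_lit 967, (nat_lit 0x1ae5ab878cfe0d5a87bcb09665e3d7a80f80becf0), one, (nat_lit 0x1177e1851f8e2785eb7e0fcbf2ce3a2eac7fdf978), (.prod [nat_lit 973, nat_lit 971])⟩)
 (.lf ⟨nat_lit 0, nat_lit 967, nat_lit 967, (nat_lit 0x1f17ab37d3680aec186d2ec989b1805c40f0c3439), one, (nat_lit 0x101a9bb0cd78fd6acd5da0e2a421f08e4085c65d1), (.inv (nat_lit 970))⟩))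
 (.nd (nat_lit 978) (.lf ⟨nat_lit 0, nat_lit 967, nat_lit 967, (nat_lit 0x10003ee42b1dcfa59538adc760f734d392f56083c), one, (nat_lit 0x1859eef8f3afc71aa6df75f4a8abc6336e69df582), (.prod (unp (nat_lit 10) (nat_lit 0x3d0f2fc803)))⟩)
 (.lf ⟨nat_lit 0, nat_lit 967, nat_lit 967, (nat_lit 0x10cb06ea4ba2683836cda44ebc5f8f0cd97223702), one, (nat_lit 0x1f7bca6efb545700ba30dcb30deb8278a102cd2ef), (.cmp (nat_lit 967) (nat_lit 967) (unp (nat_lit 5) (nat_lit 0x2fc403)) [nat_lit 964, nat_lit 958])⟩)))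
 (.nd (nat_lit 981) (.nd (nat_lit 980) (.lf ⟨nat_lit 0, nat_lit 967, nat_lit 967, (nat_lit 0x105f889bf84ba5216a50d0702eacb68cdacb59cb4), one, (nat_lit 0x105f889bf84ba5216a50d0702eacb68cdacb59cb4), (.inv (nat_lit 974))⟩)
 (.lf ⟨nat_lit 0, nat_lit 967, nat_lit 967, (nat_lit 0xeaad67fd11c5b9223e2ddec3fe3fc4bea7a101af), one, (nat_lit 0x8003a3e5793d485e5c24eee137313da8e483dce0), (.prod [nat_lit 978, nat_lit 979])⟩))
 (.nd (nat_lit 982) (.lf ⟨nat_lit 0, nat_lit 967, nat_lit 967, (nat_lit 0x1a61280e6271482f172cedb3225072149888b2d86), one, (nat_lit 0x6df23067175ace1a6a90f928aae01c5b01285035), (.prod [nat_lit 980, nat_lit 977])⟩)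
 (.lf ⟨nat_lit 1, nat_lit 967, nat_lit 944, one, (nat_lit 0x2ba2cea7bd829f6f53bc17c3f6c7dba59a18cc2c5), one, (.wt (nat_lit 0) (nat_lit 0) (nat_lit 0x2ba2cea7bd829f6f53bc17c3f6c7dba59a18cc2c5) (.st (nat_lit 967) [] [] .nil) [] [])⟩))))
 (.nd (nat_lit 987) (.nd (nat_lit 985) (.nd (nat_lit 984) (.lf ⟨nat_lit 1, nat_lit 967, nat_lit 944, (nat_lit 0x100e0aba0d17c70444d02bf329fd10d7608f1b426), (nat_lit 0x2ae09c9807f00f2bcc87a73acbda89f11e897c5f1), (nat_lit 0x7290265e57c5cadff2ce9cf2c7db2a3381f279b1), (.wt (nat_lit 2) (nat_lit 2) (nat_lit 0x3e640a8dae6302f27a70acf740d8f8ade357023bb) (.st (nat_lit 961) (unp (nat_lit 5) (nat_lit 0x33e403)) [] (.st (nat_lit 967) [] [] .nil)) [] [])⟩)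
 (.lf ⟨nat_lit 0, nat_lit 967, nat_lit 967, (nat_lit 0x7290265e57c5cadff2ce9cf2c7db2a3381f279b1), one, (nat_lit 0x7290265e57c5cadff2ce9cf2c7db2a3381f279b1), (.we (nat_lit 0) (nat_lit 0) (nat_lit 0x100e0aba0d17c70444d02bf329fd10d7608f1b426) (.st (nat_lit 983) [] [] (.st (nat_lit 967) [nat_lit 4, nat_lit 15] [] .nil)))⟩))
 (.nd (nat_lit 986) (.lf ⟨nat_lit 0, nat_lit 967, nat_lit 967, (nat_lit 0x137a3e5cff7eff5ab279c4b04df6d233c55ad341b), one, (nat_lit 0x172892767a97ccfe223a10e5388e9162e6a86ab41), (.prod [nat_lit 975, nat_lit 984])⟩)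
 (.lf ⟨nat_lit 1, nat_lit 967, nat_lit 944, (nat_lit 0x3eba12c3c3234cd354a978de13ad53d6c7be58abc), (nat_lit 0x3d590964e14539e40053172ee4380e5343a9a3e87), (nat_lit 0x1d800abf4f312b8fd51d047b94ef4597569c1447e), (.wt (nat_lit 5) (nat_lit 2) (nat_lit 0xa2ea9a2d0d739cc971a9d423bd96b619a03ddbf2) (.st (nat_lit 954) [nat_lit 4, nat_lit 22] [] (.st (nat_lit 935) (unp (nat_lit 5) (nat_lit 0x33e303)) [] (.st (nat_lit 927) (unp (nat_lit 5) (nat_lit 0x2fa303)) [] (.st (nat_lit 916) (unp (nat_lit 5) (nat_lit 0x2fe303)) [nat_lit 909] (.st (nat_lit 919) (unp (nat_lit 5) (nat_lit 0x3fe303)) [nat_lit 921] (.st (nat_lit 924) [nat_lit 3, nat_lit 17] [nat_lit 909] (.st (nat_lit 933) (unp (nat_lit 5) (nat_lit 0x47e303)) [] (.st (nat_lit 944) (unp (nat_lit 5) (nat_lit 0x53c303)) [] (.st (nat_lit 967) (unp (nat_lit 5) (nat_lit 0x4fa403)) [] .nil))))))))) (unp (nat_lit 5) (nat_lit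 0x4fc403)) [])⟩)))
 (.nd (nat_lit 989) (.nd (nat_lit 988) (.lf ⟨nat_lit 0, nat_lit 967, nat_lit 967, (nat_lit 0x3a749b63b78c8679b66427c0f0e1d152ec3d34091), one, (nat_lit 0x4087d1da32ed4101660d00d154642a49caea85b6), (.we (nat_lit 0) (nat_lit 0) (nat_lit 0x3eba12c3c3234cd354a978de13ad53d6c7be58abc) (.st (nat_lit 986) [nat_lit 3, nat_lit 16] [nat_lit 981, nat_lit 985] (.st (nat_lit 967) (unp (nat_lit 5) (nat_lit 0x23a303)) [] .nil)))⟩)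
 (.lf ⟨nat_lit 0, nat_lit 967, nat_lit 967, (nat_lit 0x2f482a14c2f0e19802bcafaa4b5590571a669ace1), one, (nat_lit 0xb102fcb838fb96ea7e5cca6999a90dbf14969359), (.inv (nat_lit 972))⟩))
 (.nd (nat_lit 990) (.lf ⟨nat_lit 0, nat_lit 967, nat_lit 967, (nat_lit 0x2101002c2d39410bc49b20f171d53d405ba698223), one, (nat_lit 0xb09aa3e55762498a44adf09f6dac968b171e3634), (.prod [nat_lit 987, nat_lit 988])⟩)
 (.nd (nat_lit 991) (.lf ⟨nat_lit 1, nat_lit 812, nat_lit 990, (nat_lit 0x3b6020b1ee99f350ad1583cd87ceba46c32e15ab7), one, one, (.df [nat_lit 3])⟩)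
 (.lf ⟨nat_lit 0, nat_lit 990, nat_lit 990, (nat_lit 0x1139f84a980c7d0dbcc5b58db3b4b5943673b60d9), one, (nat_lit 0x210b25961101b0803255fa684a400234871d01cf), (.cmp (nat_lit 990) (nat_lit 990) (unp (nat_lit 5) (nat_lit 0x23a303)) [nat_lit 818])⟩)))))))

noncomputable def T3_992 : Tr :=
  (.nd (nat_lit 1009) (.nd (nat_lit 1000) (.nd (nat_lit 996) (.nd (nat_lit 994) (.nd (nat_lit 993) (.lf ⟨nat_lit 1, nat_lit 990, nat_lit 812, one, (nat_lit 0x3b6020b1ee99f350ad1583cd87ceba46c32e15ab7), one, (.wt (nat_lit 0) (nat_lit 0) (nat_lit 0x3b6020b1ee99f350ad1583cd87ceba46c32e15ab7) (.st (nat_lit 990) [] [] .nil) [] [])⟩)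
 (.lf ⟨nat_lit 1, nat_lit 990, nat_lit 990, (nat_lit 0x3eba12c3c3234cd354a978de13ad53d6c7be58abc), (nat_lit 0x34f111789602085680486ded7441f4b9320901235), (nat_lit 0xd31a0ab1235dc864e19dacb8819606e2857f118b), (.wt (nat_lit 5) (nat_lit 2) (nat_lit 0x82886d5ea4d2cd2749e3e155e73a5591936e427) (.st (nat_lit 992) (unp (nat_lit 5) (nat_lit 0x37c303)) [] (.st (nat_lit 824) [nat_lit 30, nat_lit 8] [nat_lit 814] (.st (nat_lit 825) [nat_lit 3, nat_lit 21] [nat_lit 821] (.st (nat_lit 295) [nat_lit 31, nat_lit 8] [] (.st (nat_lit 671) [nat_lit 30] [] (.st (nat_lit 294) (unp (nat_lit 5) (nat_lit 0x4fc403)) [] (.st (nat_lit 826) (unp (nat_lit 5) (nat_lit 0x23a303)) [] (.st (nat_lit 823) (unp (nat_lit 5) (nat_lit 0x47a403)) [] (.st (nat_lit 990) (unp (nat_lit 5) (nat_lit 0x27a403)) [nat_lit 814] .nil))))))))) [nat_lit 11] [])⟩))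
 (.nd (nat_lit 995) (.lf ⟨nat_lit 1, nat_lit 990, nat_lit 225, (nat_lit 0x29d069dd4289881cb0b1977aaf1daee2c113e4bec), (nat_lit 0x274c2de75ed1539f7c69927fb009eaa65702b3c34), (nat_lit 0x12a1deef25630d294a7ece6f258df2c51e519554b), (.wt (nat_lit 5) (nat_lit 2) (nat_lit 0x3dbf3676050afdb5ce9205a6a4bd0a6e7e33afa55) (.st (nat_lit 227) [nat_lit 30] [] (.st (nat_lit 762) [nat_lit 4, nat_lit 19] [] (.st (nat_lit 768) (unp (nat_lit 5) (nat_lit 0x3fa303)) [nat_lit 763] (.st (nat_lit 619) (unp (nat_lit 5) (nat_lit 0x27c303)) [] (.st (nat_lit 616) [nat_lit 29, nat_lit 21] [] (.st (nat_lit 888) (unp (nat_lit 5) (nat_lit 0x4fa403)) [] (.st (nat_lit 883) (unp (nat_lit 5) (nat_lit 0x27c403)) [] (.st (nat_lit 812) [nat_lit 4, nat_lit 22] [nat_lit 806] (.st (nat_lit 990) (unp (nat_lit 5) (nat_lit 0x2fe303)) [] .nil))))))))) (unp (nat_lit 5) (nat_lit 0x37a303)) [])⟩)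
 (.lf ⟨nat_lit 1, nat_lit 225, nat_lit 990, (nat_lit 0xf6d11ea1f2003230c9ae98d7ebf7a100d6421009), (nat_lit 0x2413045598f1b2397d29b952711dac6c6f51b3a96), (nat_lit 0x13073eed2578232f99fecf643d9b34cc188ab8829), (.wt (nat_lit 0) (nat_lit 0) (nat_lit 0x29d069dd4289881cb0b1977aaf1daee2c113e4bec) (.st (nat_lit 994) [] [] .nil) [nat_lit 30, nat_lit 17] [])⟩)))
 (.nd (nat_lit 998) (.nd (nat_lit 997) (.lf ⟨nat_lit 1, nat_lit 990, nat_lit 402, (nat_lit 0x2ba2cea7bd829f6f53bc17c3f6c7dba59a18cc2c5), (nat_lit 0x3d3ac199bb48a69b8ae015514fc004c9b67d28e2c), (nat_lit 0x120a91146b68ff1df3af42b3daa7600dffc34658c), (.wt (nat_lit 5) (nat_lit 2) (nat_lit 0x1e2b0646ebc5bf2db7229adafd31f203960fda0f2) (.st (nat_lit 804) [nat_lit 30, nat_lit 12] [] (.st (nat_lit 799) [nat_lit 29, nat_lit 15] [nat_lit 795] (.st (nat_lit 787) (unp (nat_lit 5) (nat_lit 0x4ba403)) [] (.st (nat_lit 637)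 [nat_lit 3, nat_lit 22] [] (.st (nat_lit 255) (unp (nat_lit 5) (nat_lit 0x43a403)) [] (.st (nat_lit 258) (unp (nat_lit 5) (nat_lit 0x37c403)) [] (.st (nat_lit 805) (unp (nat_lit 5) (nat_lit 0x3bc403)) [] (.st (nat_lit 812) [nat_lit 4, nat_lit 20] [nat_lit 806] (.st (nat_lit 990) (unp (nat_lit 5) (nat_lit 0x37e303)) [] .nil))))))))) (unp (nat_lit 5) (nat_lit 0x37a303)) [])⟩)
 (.lf ⟨nat_lit 1, nat_lit 402, nat_lit 990, (nat_lit 0x1fce42ed966b34fae64312a96f69e1eea7db1de4), (nat_lit 0x3844194676769108cd7eb2b0dd5f91471e70f3b9f), (nat_lit 0xacf5a30bc347a7fe9effbf1d71484255d92c5574), (.wt (nat_lit 0) (nat_lit 0) (nat_lit 0x2ba2cea7bd829f6f53bc17c3f6c7dba59a18cc2c5) (.st (nat_lit 996) [] [] .nil) [nat_lit 31, nat_lit 18] [])⟩))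
 (.nd (nat_lit 999) (.lf ⟨nat_lit 1, nat_lit 125, nat_lit 990, (nat_lit 0x29d069dd4289881cb0b1977aaf1daee2c113e4bec), (nat_lit 0x2eb63bdefd01545d3cdfca8fa9839ffd2982dea97), (nat_lit 0x337d1732ad85b1ccbc0dde69d968d7c00c2020923), (.wt (nat_lit 5) (nat_lit 0) (nat_lit 0xda7301a3a5dee0dcb1482760ca95020aa056cc0f) (.st (nat_lit 992) [nat_lit 4, nat_lit 21] [] (.st (nat_lit 990) [nat_lit 12] [nat_lit 814] (.st (nat_lit 996) (unp (nat_lit 5) (nat_lit 0x47a403)) [nat_lit 991] (.st (nat_lit 403) (unp (nat_lit 5) (nat_lit 0x3fc403)) [] (.st (nat_lit 124) (unp (nat_lit 5) (nat_lit 0x1bc303)) [] (.st (nat_lit 773) [nat_lit 3, nat_lit 11] [] (.st (nat_lit 770) (unp (nat_lit 5) (nat_lit 0x43c303)) [nat_lit 763] (.st (nat_lit 122) [nat_lit 3, nat_lit 14] [] (.st (nat_lit 125) (unp (nat_lit 5) (nat_lit 0x4fe303)) [] .nil))))))))) (unp (nat_lit 5) (nat_lit 0x47a303)) [])⟩)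
 (.lf ⟨nat_lit 1, nat_lit 990, nat_lit 125, (nat_lit 0xf6d11ea1f2003230c9ae98d7ebf7a100d6421009), (nat_lit 0x3cf9e6746a5df58d913ba4d90d5e7b2e1e0f400d6), (nat_lit 0x2527cf0059a9e84e1b654429f6d92281ee51658ed), (.wt (nat_lit 0) (nat_lit 0) (nat_lit 0x29d069dd4289881cb0b1977aaf1daee2c113e4bec) (.st (nat_lit 998) [] [] .nil) (unp (nat_lit 5) (nat_lit 0x5bc303)) [])⟩))))
 (.nd (nat_lit 1004) (.nd (nat_lit 1002) (.nd (nat_lit 1001) (.lf ⟨nat_lit 1, nat_lit 812, nat_lit 1000, (nat_lit 0x125910161e8d6fe6d72746c6acb95732f82b12d8b), one, one, (.df [nat_lit 2, nat_lit 8])⟩)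
 (.lf ⟨nat_lit 0, nat_lit 1000, nat_lit 1000, (nat_lit 0xf20133bb32f31cbd46cd0482611f4667a3cfc082), one, (nat_lit 0x210b25961101b0803255fa684a400234871d01cf), (.cmp (nat_lit 1000) (nat_lit 1000) (unp (nat_lit 5) (nat_lit 0x47c403)) [nat_lit 818])⟩))
 (.nd (nat_lit 1003) (.lf ⟨nat_lit 1, nat_lit 1000, nat_lit 812, one, (nat_lit 0x125910161e8d6fe6d72746c6acb95732f82b12d8b), one, (.wt (nat_lit 0) (nat_lit 0) (nat_lit 0x125910161e8d6fe6d72746c6acb95732f82b12d8b) (.st (nat_lit 1000) [] [] .nil) [] [])⟩)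
 (.lf ⟨nat_lit 1, nat_lit 1000, nat_lit 990, (nat_lit 0x100e0aba0d17c70444d02bf329fd10d7608f1b426), (nat_lit 0x1fcc4265e5f5e8c58e758190706d179ef60cc5dd7), one, (.wt (nat_lit 2) (nat_lit 2) (nat_lit 0xa2ea9a2d0d739cc971a9d423bd96b619a03ddbf2) (.st (nat_lit 992) [nat_lit 4, nat_lit 22] [] (.st (nat_lit 1000) [] [] .nil)) [] [])⟩)))
 (.nd (nat_lit 1006) (.nd (nat_lit 1005) (.lf ⟨nat_lit 1, nat_lit 990, nat_lit 1000, (nat_lit 0x100e0aba0d17c70444d02bf329fd10d7608f1b426), (nat_lit 0x3e9bb5a40ffe36717b19c821828fe8c2a374cf1a2), one, (.wt (nat_lit 0) (nat_lit 0) (nat_lit 0x100e0aba0d17c70444d02bf329fd10d7608f1b426) (.st (nat_lit 1003) [] [] .nil) (unp (nat_lit 5) (nat_lit 0x3fe303)) [])⟩)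
 (.lf ⟨nat_lit 1, nat_lit 1000, nat_lit 279, (nat_lit 0x1fce42ed966b34fae64312a96f69e1eea7db1de4), (nat_lit 0x62002894500068041b0102000200061001c30104), (nat_lit 0x1c8ecb76742a88a610646281907901380d54096c9), (.wt (nat_lit 5) (nat_lit 2) (nat_lit 0xb7b519d2565ea3a7629787de47a16fd14e1eb814) (.st (nat_lit 465) (unp (nat_lit 5) (nat_lit 0x3fa403)) [] (.st (nat_lit 700) (unp (nat_lit 5) (nat_lit 0x4bc403)) [] (.st (nat_lit 998) [nat_lit 4, nat_lit 12] [nat_lit 557] (.st (nat_lit 994) (unp (nat_lit 5) (nat_lit 0x27a403)) [] (.st (nat_lit 584) (unp (nat_lit 5) (nat_lit 0x1be303)) [] (.st (nat_lit 672) [nat_lit 30, nat_lit 22] [] (.st (nat_lit 826) (unp (nat_lit 5) (nat_lit 0x4fa303)) [] (.st (nat_lit 823) [nat_lit 29, nat_lit 17] [] (.st (nat_lit 1000) [nat_lit 30, nat_lit 15] [nat_lit 813] .nil))))))))) [nat_lit 4, nat_lit 18] [])⟩))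
 (.nd (nat_lit 1007) (.lf ⟨nat_lit 1, nat_lit 279, nat_lit 1000, (nat_lit 0x29d069dd4289881cb0b1977aaf1daee2c113e4bec), (nat_lit 0x383a13e9aefd76461503509489ef746a43096cd7e), (nat_lit 0x16036823174282cc23094c451dfbc0684da4ca2f0), (.wt (nat_lit 0) (nat_lit 0) (nat_lit 0x1fce42ed966b34fae64312a96f69e1eea7db1de4) (.st (nat_lit 1005) [] [] .nil) [nat_lit 4, nat_lit 31] [])⟩)
 (.nd (nat_lit 1008) (.lf ⟨nat_lit 1, nat_lit 1000, nat_lit 208, (nat_lit 0x9a472e71a6030c6693ace0c7e5978349d74b3855), (nat_lit 0x22b8eeed267104d7819c8396313143bbf84d4a312), (nat_lit 0x1ce8cc9a9d9bbf2b9ab872b53c21e74ee1a0cab4e), (.wt (nat_lit 5) (nat_lit 2) (nat_lit 0x9ff419f88c6acf958f9b72f66b5123e5a667f6a7) (.st (nat_lit 232) (unp (nat_lit 5) (nat_lit 0x2fc403)) [] (.st (nat_lit 230) (unp (nat_lit 5) (nat_lit 0x3fa303)) [nat_lit 450] (.st (nat_lit 186) (unp (nat_lit 5) (nat_lit 0x33a403))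 [] (.st (nat_lit 571) (unp (nat_lit 5) (nat_lit 0x47c403)) [] (.st (nat_lit 672) [nat_lit 29, nat_lit 13] [] (.st (nat_lit 826) (unp (nat_lit 5) (nat_lit 0x47a303)) [] (.st (nat_lit 822) [nat_lit 30, nat_lit 20] [] (.st (nat_lit 812) [nat_lit 15] [nat_lit 806] (.st (nat_lit 1000) [nat_lit 30, nat_lit 18] [] .nil))))))))) [nat_lit 4, nat_lit 16] [])⟩)
 (.lf ⟨nat_lit 1, nat_lit 208, nat_lit 1000, (nat_lit 0x9a472e71a6030c6693ace0c7e5978349d74b3855), (nat_lit 0xeff9379c89a186cd35f01ef8abf8b1769cbd2c42), (nat_lit 0x124cfef072ef52867f14ae5204f6d2acdf527ff2d), (.wt (nat_lit 0) (nat_lit 0) (nat_lit 0x9a472e71a6030c6693ace0c7e5978349d74b3855) (.st (nat_lit 1007) [] [] .nil) (unp (nat_lit 5) (nat_lit 0x4bc303)) [])⟩))))))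
 (.nd (nat_lit 1017) (.nd (nat_lit 1013) (.nd (nat_lit 1011) (.nd (nat_lit 1010) (.lf ⟨nat_lit 1, nat_lit 1000, nat_lit 880, (nat_lit 0x125910161e8d6fe6d72746c6acb95732f82b12d8b), (nat_lit 0x3842bd2e97e6336b69a090611a947248c3d4435a9), (nat_lit 0x314b337873f08af6a923215245f7856c376c4305d), (.wt (nat_lit 5) (nat_lit 2) (nat_lit 0x212c1738a8f75355713728200ad543f38505b5c25) (.st (nat_lit 885) (unp (nat_lit 5) (nat_lit 0x33e303)) [] (.st (nat_lit 657) [nat_lit 29, nat_lit 20] [] (.st (nat_lit 281) (unp (nat_lit 5) (nat_lit 0x43a403)) [] (.st (nat_lit 672) [nat_lit 30, nat_lit 18] [] (.st (nat_lit 826) [nat_lit 4, nat_lit 8] [] (.st (nat_lit 828) [nat_lit 30, nat_lit 13] [] (.st (nat_lit 831) (unp (nat_lit 5) (nat_lit 0x2fc403)) [nat_lit 830, nat_lit 836] (.st (nat_lit 823) (unp (nat_lit 5) (nat_lit 0x23e303)) [] (.st (nat_lit 1000) [nat_lit 3, nat_lit 19] []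 .nil))))))))) (unp (nat_lit 5) (nat_lit 0x3be303)) [])⟩)
 (.lf ⟨nat_lit 1, nat_lit 880, nat_lit 1000, (nat_lit 0x9a472e71a6030c6693ace0c7e5978349d74b3855), (nat_lit 0x1584b14606c7d17c8500c93c2dc0c4bcae132a823), (nat_lit 0x2e97ab2019dce371730a3cafdcd9441fc331961ab), (.wt (nat_lit 0) (nat_lit 0) (nat_lit 0x125910161e8d6fe6d72746c6acb95732f82b12d8b) (.st (nat_lit 1009) [] [] .nil) (unp (nat_lit 5) (nat_lit 0x43e403)) [])⟩))
 (.nd (nat_lit 1012) (.lf ⟨nat_lit 1, nat_lit 916, nat_lit 1011, (nat_lit 0x3b6020b1ee99f350ad1583cd87ceba46c32e15ab7), one, one, (.df [nat_lit 3])⟩)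
 (.lf ⟨nat_lit 0, nat_lit 1011, nat_lit 1011, (nat_lit 0xde880979a19e183f990488a2146d7c9dac5e4d69), one, (nat_lit 0x7dcd174186f28e3e3e974bcb3afd44cfed1ce549), (.cmp (nat_lit 1011) (nat_lit 1011) (unp (nat_lit 5) (nat_lit 0x43c403)) [nat_lit 922])⟩)))
 (.nd (nat_lit 1015) (.nd (nat_lit 1014) (.lf ⟨nat_lit 1, nat_lit 1011, nat_lit 916, one, (nat_lit 0x3b6020b1ee99f350ad1583cd87ceba46c32e15ab7), one, (.wt (nat_lit 0) (nat_lit 0) (nat_lit 0x3b6020b1ee99f350ad1583cd87ceba46c32e15ab7) (.st (nat_lit 1011) [] [] .nil) [] [])⟩)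
 (.lf ⟨nat_lit 1, nat_lit 1011, nat_lit 321, (nat_lit 0x1fce42ed966b34fae64312a96f69e1eea7db1de4), (nat_lit 0x1036c9cb59c7d1d38bfd0d1b02f1ed3f0f2a5a830), (nat_lit 0x415784c1c1ad666ce97bfa7fdb7271d17d802e53), (.wt (nat_lit 5) (nat_lit 2) (nat_lit 0x1013b311f48073ba8b0bbcdbbf357347864ed8b93) (.st (nat_lit 903) (unp (nat_lit 5) (nat_lit 0x3bc303)) [] (.st (nat_lit 904) [nat_lit 29, nat_lit 12] [nat_lit 899] (.st (nat_lit 255) [nat_lit 30] [] (.st (nat_lit 260) (unp (nat_lit 5) (nat_lit 0x4be403)) [] (.st (nat_lit 646) [nat_lit 14] [] (.st (nat_lit 665) (unp (nat_lit 5) (nat_lit 0x47e303)) [] (.st (nat_lit 908) (unp (nat_lit 5) (nat_lit 0x3be403)) [] (.st (nat_lit 916) [nat_lit 18] [] (.st (nat_lit 1011) [nat_lit 30, nat_lit 15] [] .nil))))))))) [nat_lit 4, nat_lit 18] [])⟩))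
 (.nd (nat_lit 1016) (.lf ⟨nat_lit 1, nat_lit 321, nat_lit 1011, (nat_lit 0x2ba2cea7bd829f6f53bc17c3f6c7dba59a18cc2c5), (nat_lit 0x21cec166ad1b3c24724d68f93ade322f8d61c6032), (nat_lit 0x1093a1e1b051738d4803b687d318f7b707ff9ff72), (.wt (nat_lit 0) (nat_lit 0) (nat_lit 0x1fce42ed966b34fae64312a96f69e1eea7db1de4) (.st (nat_lit 1014) [] [] .nil) (unp (nat_lit 5) (nat_lit 0x3fc403)) [])⟩)
 (.lf ⟨nat_lit 1, nat_lit 1011, nat_lit 254, (nat_lit 0x3eba12c3c3234cd354a978de13ad53d6c7be58abc), (nat_lit 0x8e9a1934b8e90ba85cc22011ac9110e0af8035db), (nat_lit 0x120b643a96c6536b66505e4d2c9582a40683ad08), (.wt (nat_lit 5) (nat_lit 2) (nat_lit 0x192a1fcdffc5fcc04a76ef7862b8bfbc1c73dcc0) (.st (nat_lit 605) [nat_lit 31, nat_lit 16] [] (.st (nat_lit 261) (unp (nat_lit 5) (nat_lit 0x27e403)) [] (.st (nat_lit 262) [nat_lit 31, nat_lit 12] [] (.st (nat_lit 625) (unp (nat_lit 5)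 (nat_lit 0x57c303)) [] (.st (nat_lit 595) [nat_lit 30, nat_lit 14] [nat_lit 649] (.st (nat_lit 675) [nat_lit 4, nat_lit 13] [] (.st (nat_lit 908) (unp (nat_lit 5) (nat_lit 0x1bc403)) [] (.st (nat_lit 916) [nat_lit 31, nat_lit 16] [] (.st (nat_lit 1011) (unp (nat_lit 5) (nat_lit 0x23a403)) [nat_lit 917] .nil))))))))) [nat_lit 13] [])⟩))))
 (.nd (nat_lit 1021) (.nd (nat_lit 1019) (.nd (nat_lit 1018) (.lf ⟨nat_lit 1, nat_lit 254, nat_lit 1011, (nat_lit 0xf6d11ea1f2003230c9ae98d7ebf7a100d6421009), (nat_lit 0x5a5e616d2c0f0c0abe9e24c47f10f196ab2be1ba), (nat_lit 0x22126799542513a2e89271de024ca3524f564040), (.wt (nat_lit 0) (nat_lit 0) (nat_lit 0x3eba12c3c3234cd354a978de13ad53d6c7be58abc) (.st (nat_lit 1016) [] [] .nil) (unp (nat_lit 5) (nat_lit 0x57e403)) [])⟩)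
 (.lf ⟨nat_lit 1, nat_lit 1011, nat_lit 898, (nat_lit 0x125910161e8d6fe6d72746c6acb95732f82b12d8b), (nat_lit 0x3eab6f861a6f99d876d327989b0ec5282a1e50b8), (nat_lit 0x1d80882ba63464e4dd98772f218df6cbb31b5ffa5), (.wt (nat_lit 5) (nat_lit 2) (nat_lit 0x1139f84a980c7d0dbcc5b58db3b4b5943673b60d9) (.st (nat_lit 900) [nat_lit 30, nat_lit 11] [] (.st (nat_lit 901) (unp (nat_lit 5) (nat_lit 0x3fe403)) [] (.st (nat_lit 908) (unp (nat_lit 5) (nat_lit 0x43c403)) [] (.st (nat_lit 924) [nat_lit 3, nat_lit 30] [] (.st (nat_lit 930) [nat_lit 31, nat_lit 15] [nat_lit 926] (.st (nat_lit 905) [nat_lit 8] [] (.st (nat_lit 912) [nat_lit 29, nat_lit 20] [] (.st (nat_lit 916) (unp (nat_lit 5) (nat_lit 0x53e403)) [nat_lit 909] (.st (nat_lit 1011) [nat_lit 3, nat_lit 19] [nat_lit 918] .nil))))))))) (unp (nat_lit 5) (nat_lit 0x3be303)) [])⟩))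
 (.nd (nat_lit 1020) (.lf ⟨nat_lit 1, nat_lit 898, nat_lit 1011, (nat_lit 0x29d069dd4289881cb0b1977aaf1daee2c113e4bec), (nat_lit 0x2a836e1d6c12044692b02d728bf184cec2a4bcf0), (nat_lit 0x1d4db9eee27fc187fd08a75b2b8f17e82b9ad6a3a), (.wt (nat_lit 0) (nat_lit 0) (nat_lit 0x125910161e8d6fe6d72746c6acb95732f82b12d8b) (.st (nat_lit 1018) [] [] .nil) (unp (nat_lit 5) (nat_lit 0x1be403)) [])⟩)
 (.lf ⟨nat_lit 1, nat_lit 916, nat_lit 1020, (nat_lit 0x125910161e8d6fe6d72746c6acb95732f82b12d8b), one, one, (.df [nat_lit 2, nat_lit 8])⟩)))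
 (.nd (nat_lit 1023) (.nd (nat_lit 1022) (.lf ⟨nat_lit 0, nat_lit 1020, nat_lit 1020, (nat_lit 0x176708afc7d76226519823ab768f79ea6a430c16), one, (nat_lit 0x7dcd174186f28e3e3e974bcb3afd44cfed1ce549), (.cmp (nat_lit 1020) (nat_lit 1020) (unp (nat_lit 5) (nat_lit 0x27a303)) [nat_lit 922])⟩)
 (.lf ⟨nat_lit 1, nat_lit 1020, nat_lit 916, one, (nat_lit 0x125910161e8d6fe6d72746c6acb95732f82b12d8b), one, (.wt (nat_lit 0) (nat_lit 0) (nat_lit 0x125910161e8d6fe6d72746c6acb95732f82b12d8b) (.st (nat_lit 1020) [] [] .nil) [] [])⟩))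
 (.nd (nat_lit 1024) (.lf ⟨nat_lit 1, nat_lit 1020, nat_lit 1011, (nat_lit 0x100e0aba0d17c70444d02bf329fd10d7608f1b426), (nat_lit 0x1fcc4265e5f5e8c58e758190706d179ef60cc5dd7), one, (.wt (nat_lit 2) (nat_lit 2) (nat_lit 0xa2ea9a2d0d739cc971a9d423bd96b619a03ddbf2) (.st (nat_lit 1013) [nat_lit 4, nat_lit 22] [] (.st (nat_lit 1020) [] [] .nil)) [] [])⟩)
 (.nd (nat_lit 1025) (.lf ⟨nat_lit 1, nat_lit 1011, nat_lit 1020, (nat_lit 0x100e0aba0d17c70444d02bf329fd10d7608f1b426), (nat_lit 0x3e9bb5a40ffe36717b19c821828fe8c2a374cf1a2), one, (.wt (nat_lit 0) (nat_lit 0) (nat_lit 0x100e0aba0d17c70444d02bf329fd10d7608f1b426) (.st (nat_lit 1023) [] [] .nil) (unp (nat_lit 5) (nat_lit 0x3fe303)) [])⟩)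
 (.lf ⟨nat_lit 1, nat_lit 1020, nat_lit 357, (nat_lit 0x1fce42ed966b34fae64312a96f69e1eea7db1de4), (nat_lit 0x19e924e6d0f830244000a2c3032d76726a6d8d00), (nat_lit 0x302c93ccc975a4590b479b91208b857145ce01d9d), (.wt (nat_lit 5) (nat_lit 2) (nat_lit 0x1232d298530b091c4ff671417d309ff5cedfc387b) (.st (nat_lit 716) [nat_lit 30, nat_lit 9] [] (.st (nat_lit 122) [nat_lit 22] [] (.st (nat_lit 125) [nat_lit 3, nat_lit 11] [] (.st (nat_lit 728) (unp (nat_lit 5) (nat_lit 0x5ba303)) [] (.st (nat_lit 727) (unp (nat_lit 5) (nat_lit 0x43a303)) [nat_lit 725] (.st (nat_lit 701) (unp (nat_lit 5) (nat_lit 0x3fe303)) [] (.st (nat_lit 1015) [nat_lit 3, nat_lit 12] [] (.st (nat_lit 1013) [nat_lit 11] [] (.st (nat_lit 1020) [nat_lit 31, nat_lit 12] [nat_lit 917] .nil))))))))) (unp (nat_lit 5) (nat_lit 0x57c303)) [])⟩)))))))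

noncomputable def T3_1026 : Tr :=
  (.nd (nat_lit 1043) (.nd (nat_lit 1034) (.nd (nat_lit 1030) (.nd (nat_lit 1028) (.nd (nat_lit 1027) (.lf ⟨nat_lit 1, nat_lit 357, nat_lit 1020, (nat_lit 0x3b6020b1ee99f350ad1583cd87ceba46c32e15ab7), (nat_lit 0x186fb6704d029a155f06f46f6f2698fc62d9d263f), (nat_lit 0x209d3b30dd09807c019e06769f80327833bbf04b7), (.wt (nat_lit 0) (nat_lit 0) (nat_lit 0x1fce42ed966b34fae64312a96f69e1eea7db1de4) (.st (nat_lit 1025) [] [] .nil) [nat_lit 30, nat_lit 17] [])⟩)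
 (.lf ⟨nat_lit 1, nat_lit 1020, nat_lit 1020, (nat_lit 0x125910161e8d6fe6d72746c6acb95732f82b12d8b), (nat_lit 0xdc04d3081032958a96cb41b8488e0c8b6b5c4439), (nat_lit 0x28749aa3968710e3e3db7d95d331b6e8f636f316c), (.wt (nat_lit 5) (nat_lit 2) (nat_lit 0x335d681c34867dea93603165f2fc84df71a860118) (.st (nat_lit 1023) [nat_lit 30, nat_lit 17] [] (.st (nat_lit 1016) [nat_lit 31, nat_lit 21] [] (.st (nat_lit 931) (unp (nat_lit 5) (nat_lit 0x1be403)) [] (.st (nat_lit 928) [nat_lit 22] [] (.st (nat_lit 1011) [nat_lit 3, nat_lit 12] [] (.st (nat_lit 1018) (unp (nat_lit 5) (nat_lit 0x57e303)) [] (.st (nat_lit 912) (unp (nat_lit 5) (nat_lit 0x27a403)) [] (.st (nat_lit 916) (unp (nat_lit 5) (nat_lit 0x3fc403)) [] (.st (nat_lit 1020) [nat_lit 3, nat_lit 12] [nat_lit 918] .nil))))))))) (unp (nat_lit 5) (nat_lit 0x57e303)) [])⟩))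
 (.nd (nat_lit 1029) (.lf ⟨nat_lit 1, nat_lit 1020, nat_lit 121, (nat_lit 0x9a472e71a6030c6693ace0c7e5978349d74b3855), (nat_lit 0x30b6320d0518c15c28a0b6bcac3a7bac863235ba6), (nat_lit 0x308ac2ead21dcbd56959805fa320dffeae2ff5bd3), (.wt (nat_lit 5) (nat_lit 2) (nat_lit 0xdd8f1d76b5c64eaaffa8a93eaf892d65fd57a74) (.st (nat_lit 771) (unp (nat_lit 5) (nat_lit 0x33e303)) [] (.st (nat_lit 765) [nat_lit 31, nat_lit 8] [] (.st (nat_lit 624) (unp (nat_lit 5) (nat_lit 0x4be303)) [] (.st (nat_lit 642) (unp (nat_lit 5) (nat_lit 0x47a303)) [] (.st (nat_lit 640) [nat_lit 30, nat_lit 12] [] (.st (nat_lit 907) (unp (nat_lit 5) (nat_lit 0x37a403)) [] (.st (nat_lit 912) (unp (nat_lit 5) (nat_lit 0x43a403)) [] (.st (nat_lit 916) [nat_lit 19] [] (.st (nat_lit 1020) [nat_lit 30, nat_lit 14] [] .nil))))))))) [nat_lit 4, nat_lit 21] [])⟩)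
 (.lf ⟨nat_lit 1, nat_lit 121, nat_lit 1020, (nat_lit 0x3eba12c3c3234cd354a978de13ad53d6c7be58abc), (nat_lit 0x208dd0c49ffbbeffd562e651a8b1a4962b762921f), (nat_lit 0x2d70e9cb593cd316e2d140d7bee7be693208d0af6), (.wt (nat_lit 0) (nat_lit 0) (nat_lit 0x9a472e71a6030c6693ace0c7e5978349d74b3855) (.st (nat_lit 1028) [] [] .nil) [nat_lit 29, nat_lit 11] [])⟩)))
 (.nd (nat_lit 1032) (.nd (nat_lit 1031) (.lf ⟨nat_lit 1, nat_lit 1020, nat_lit 176, (nat_lit 0x3b6020b1ee99f350ad1583cd87ceba46c32e15ab7), (nat_lit 0x367857302dbf38e080b766423565d7413f8ff5a22), (nat_lit 0x7c6d347fc5702ce47f8ab456fa28694059a6c44d), (.wt (nat_lit 5) (nat_lit 2) (nat_lit 0xa2ea9a2d0d739cc971a9d423bd96b619a03ddbf2) (.st (nat_lit 177) [nat_lit 4, nat_lit 22] [] (.st (nat_lit 142) (unp (nat_lit 5) (nat_lit 0x2fe303)) [] (.st (nat_lit 684) [nat_lit 3, nat_lit 11] [nat_lit 145] (.st (nat_lit 151)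 [nat_lit 4, nat_lit 18] [] (.st (nat_lit 578) [nat_lit 3, nat_lit 15] [] (.st (nat_lit 907) [nat_lit 31, nat_lit 6] [] (.st (nat_lit 1019) [nat_lit 31, nat_lit 14] [] (.st (nat_lit 1013) [nat_lit 3, nat_lit 9] [] (.st (nat_lit 1020) [nat_lit 14] [nat_lit 917] .nil))))))))) [nat_lit 30, nat_lit 19] [])⟩)
 (.lf ⟨nat_lit 1, nat_lit 176, nat_lit 1020, (nat_lit 0x2ba2cea7bd829f6f53bc17c3f6c7dba59a18cc2c5), (nat_lit 0x2c7de49e9596a6dc8106bfadcdc5de4c78f8ffa26), (nat_lit 0x6add1c2912b1ee494e4194f5106708da3e9cbdfd), (.wt (nat_lit 0) (nat_lit 0) (nat_lit 0x3b6020b1ee99f350ad1583cd87ceba46c32e15ab7) (.st (nat_lit 1030) [] [] .nil) [nat_lit 29, nat_lit 22] [])⟩))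
 (.nd (nat_lit 1033) (.lf ⟨nat_lit 1, nat_lit 121, nat_lit 1032, (nat_lit 0x29d069dd4289881cb0b1977aaf1daee2c113e4bec), one, one, (.df [nat_lit 2])⟩)
 (.lf ⟨nat_lit 1, nat_lit 1032, nat_lit 121, one, (nat_lit 0x29d069dd4289881cb0b1977aaf1daee2c113e4bec), one, (.wt (nat_lit 0) (nat_lit 0) (nat_lit 0x29d069dd4289881cb0b1977aaf1daee2c113e4bec) (.st (nat_lit 1032) [] [] .nil) [] [])⟩))))
 (.nd (nat_lit 1038) (.nd (nat_lit 1036) (.nd (nat_lit 1035) (.lf ⟨nat_lit 1, nat_lit 1032, nat_lit 762, (nat_lit 0x100e0aba0d17c70444d02bf329fd10d7608f1b426), (nat_lit 0x3cf5d5c5b3b18573f6d284f173d1fdcf39c168577), (nat_lit 0x388b615b67b0326e052f661dd47356698088015db), (.wt (nat_lit 2) (nat_lit 2) (nat_lit 0x200d102c9eb32a3f0e7902b3f06d5e6f5d023808c) (.st (nat_lit 770) (unp (nat_lit 5) (nat_lit 0x57e303)) [] (.st (nat_lit 1032) [] [] .nil)) [] [])⟩)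
 (.lf ⟨nat_lit 1, nat_lit 762, nat_lit 1032, (nat_lit 0x3eba12c3c3234cd354a978de13ad53d6c7be58abc), (nat_lit 0x25280e917bccbbb7db6f6503efbf9e01c84f9cb8d), (nat_lit 0x2bd57b63b6e1e54e728f1917e9c240084ef712c03), (.wt (nat_lit 0) (nat_lit 0) (nat_lit 0x100e0aba0d17c70444d02bf329fd10d7608f1b426) (.st (nat_lit 1034) [] [] .nil) [nat_lit 3, nat_lit 11] [])⟩))
 (.nd (nat_lit 1037) (.lf ⟨nat_lit 1, nat_lit 1032, nat_lit 202, (nat_lit 0x3b6020b1ee99f350ad1583cd87ceba46c32e15ab7), (nat_lit 0x11081d9814021f1986cd33c2910019be898265d47), (nat_lit 0x3aec2571e263a066500040cbc55aede2e5309cf62), (.wt (nat_lit 5) (nat_lit 2) (nat_lit 0x19cfcba24b62fe6e635c93b9296774dd827509074) (.st (nat_lit 203) (unp (nat_lit 5) (nat_lit 0x27a303)) [] (.st (nat_lit 91) [nat_lit 29, nat_lit 14] [] (.st (nat_lit 176) (unp (nat_lit 5) (nat_lit 0x27e303)) [] (.st (nat_lit 1031) (unp (nat_lit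 5) (nat_lit 0x3ba303)) [nat_lit 539] (.st (nat_lit 1030) [nat_lit 4, nat_lit 19] [nat_lit 1021] (.st (nat_lit 575) [nat_lit 30, nat_lit 6] [] (.st (nat_lit 634) [nat_lit 30, nat_lit 19] [] (.st (nat_lit 587) [nat_lit 20] [] (.st (nat_lit 1032) [nat_lit 4, nat_lit 14] [] .nil))))))))) [nat_lit 3, nat_lit 19] [])⟩)
 (.lf ⟨nat_lit 1, nat_lit 202, nat_lit 1032, (nat_lit 0x9a472e71a6030c6693ace0c7e5978349d74b3855), (nat_lit 0x1eec39f1727ee1e3eff9172691c3c747f6b6ecc00), (nat_lit 0x29d23d1b965e806682299c4550eb4bbdcba628341), (.wt (nat_lit 0) (nat_lit 0) (nat_lit 0x3b6020b1ee99f350ad1583cd87ceba46c32e15ab7) (.st (nat_lit 1036) [] [] .nil) (unp (nat_lit 5) (nat_lit 0x47e403)) [])⟩)))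
 (.nd (nat_lit 1040) (.nd (nat_lit 1039) (.lf ⟨nat_lit 1, nat_lit 79, nat_lit 79, (nat_lit 0x29d069dd4289881cb0b1977aaf1daee2c113e4bec), (nat_lit 0x29d069dd4289881cb0b1977aaf1daee2c113e4bec), (nat_lit 0x176708afc7d76226519823ab768f79ea6a430c16), (.ren (nat_lit 119) [] [] [nat_lit 556])⟩)
 (.lf ⟨nat_lit 1, nat_lit 1032, nat_lit 1000, (nat_lit 0xf6d11ea1f2003230c9ae98d7ebf7a100d6421009), (nat_lit 0x31f481641b348263875f80902d50d9c57118568fd), (nat_lit 0x29ceca1682be0f6e2992e589a43f04a4b4e58c3cb), (.wt (nat_lit 5) (nat_lit 2) (nat_lit 0x154d4d84058f950103afc2a86301958892b8be546) (.st (nat_lit 1002) [nat_lit 29, nat_lit 9] [] (.st (nat_lit 1000) [nat_lit 29, nat_lit 11] [nat_lit 813] (.st (nat_lit 1005) (unp (nat_lit 5) (nat_lit 0x5ba403)) [] (.st (nat_lit 668) (unp (nat_lit 5) (nat_lit 0x53a403)) [] (.st (nat_lit 164) [nat_lit 8] [] (.st (nat_lit 122) (unp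 (nat_lit 5) (nat_lit 0x3fa403)) [] (.st (nat_lit 1038) (unp (nat_lit 5) (nat_lit 0x27e303)) [] (.st (nat_lit 121) (unp (nat_lit 5) (nat_lit 0x43a303)) [nat_lit 80] (.st (nat_lit 1032) (unp (nat_lit 5) (nat_lit 0x37a403)) [] .nil))))))))) (unp (nat_lit 5) (nat_lit 0x27a303)) [])⟩))
 (.nd (nat_lit 1041) (.lf ⟨nat_lit 1, nat_lit 1000, nat_lit 1032, (nat_lit 0xf6d11ea1f2003230c9ae98d7ebf7a100d6421009), (nat_lit 0x91c4294343808a97e9c28249636b6c934f42a9d4), (nat_lit 0x39d451a64fc6f205ebcf06ab10eef016ea6fca61a), (.wt (nat_lit 0) (nat_lit 0) (nat_lit 0xf6d11ea1f2003230c9ae98d7ebf7a100d6421009) (.st (nat_lit 1039) [] [] .nil) [nat_lit 4, nat_lit 6] [])⟩)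
 (.nd (nat_lit 1042) (.lf ⟨nat_lit 1, nat_lit 1032, nat_lit 880, (nat_lit 0x3eba12c3c3234cd354a978de13ad53d6c7be58abc), (nat_lit 0xe6ebc08329c78c923dec030bdca5b8edd3eb730c), (nat_lit 0x24cd08706330fc18d59c2fd6797b7f7ede9ab7514), (.wt (nat_lit 5) (nat_lit 2) (nat_lit 0x3cd9483b5aa798d29199bbbb5ad6398c0067ec3a0) (.st (nat_lit 883) (unp (nat_lit 5) (nat_lit 0x1ba303)) [] (.st (nat_lit 807) (unp (nat_lit 5) (nat_lit 0x27e303)) [nat_lit 811] (.st (nat_lit 599) [nat_lit 3, nat_lit 19] [nat_lit 632] (.st (nat_lit 1031) [nat_lit 30, nat_lit 18] [nat_lit 539] (.st (nat_lit 1025) [nat_lit 30, nat_lit 18] [] (.st (nat_lit 359) [nat_lit 4, nat_lit 21] [nat_lit 705] (.st (nat_lit 360) [nat_lit 30, nat_lit 14] [nat_lit 613] (.st (nat_lit 716) [nat_lit 15] [] (.st (nat_lit 1032) (unp (nat_lit 5) (nat_lit 0x27a403)) [] .nil))))))))) [nat_lit 11] [])⟩)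
 (.lf ⟨nat_lit 1, nat_lit 880, nat_lit 1032, (nat_lit 0x1fce42ed966b34fae64312a96f69e1eea7db1de4), (nat_lit 0x212c1738a8f75355713728200ad543f38505b5c25), (nat_lit 0x38fe22fc3c31669bd84cf9a678471df3c6e8c7c2e), (.wt (nat_lit 0) (nat_lit 0) (nat_lit 0x3eba12c3c3234cd354a978de13ad53d6c7be58abc) (.st (nat_lit 1041) [] [] .nil) (unp (nat_lit 5) (nat_lit 0x43e403)) [])⟩))))))
 (.nd (nat_lit 1051) (.nd (nat_lit 1047) (.nd (nat_lit 1045) (.nd (nat_lit 1044) (.lf ⟨nat_lit 1, nat_lit 1032, nat_lit 819, (nat_lit 0x1fce42ed966b34fae64312a96f69e1eea7db1de4), (nat_lit 0x2af313514976270404549e47b946e2c2349293647), (nat_lit 0x15cfc2f444b06ce862fe783b0130696af9c71c587), (.wt (nat_lit 5) (nat_lit 2) (nat_lit 0x1661201f66afd020087abe57834ace32c42190adf) (.st (nat_lit 822) (unp (nat_lit 5) (nat_lit 0x3ba303)) [] (.st (nat_lit 807) (unp (nat_lit 5) (nat_lit 0x4ba403)) [] (.st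 (nat_lit 269) (unp (nat_lit 5) (nat_lit 0x47c303)) [nat_lit 632] (.st (nat_lit 793) [nat_lit 29, nat_lit 18] [] (.st (nat_lit 788) (unp (nat_lit 5) (nat_lit 0x33a403)) [nat_lit 786] (.st (nat_lit 683) (unp (nat_lit 5) (nat_lit 0x23a303)) [] (.st (nat_lit 677) [nat_lit 31, nat_lit 20] [] (.st (nat_lit 164) [nat_lit 30, nat_lit 8] [] (.st (nat_lit 1032) [nat_lit 31, nat_lit 11] [] .nil))))))))) (unp (nat_lit 5) (nat_lit 0x5be303)) [])⟩)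
 (.lf ⟨nat_lit 1, nat_lit 819, nat_lit 1032, (nat_lit 0x125910161e8d6fe6d72746c6acb95732f82b12d8b), (nat_lit 0x3997cbff62e14e83f9855175bd287fe8886f58f61), (nat_lit 0x748d99809f7b78f96ded74e02bb08cfc9e9824a3), (.wt (nat_lit 0) (nat_lit 0) (nat_lit 0x1fce42ed966b34fae64312a96f69e1eea7db1de4) (.st (nat_lit 1043) [] [] .nil) [nat_lit 4, nat_lit 13] [])⟩))
 (.nd (nat_lit 1046) (.lf ⟨nat_lit 1, nat_lit 1032, nat_lit 146, (nat_lit 0x29d069dd4289881cb0b1977aaf1daee2c113e4bec), (nat_lit 0x3ffb5ce05d756adc585c520d27c9aa5f916a0bab9), (nat_lit 0x2c3989b5d6a4cbd29c25ea38d9314e4c07281ddc0), (.wt (nat_lit 5) (nat_lit 2) (nat_lit 0x7b70b72c684395c27dff1eb8700dc983860d1539) (.st (nat_lit 581) [nat_lit 31, nat_lit 14] [] (.st (nat_lit 560) [nat_lit 30, nat_lit 15] [] (.st (nat_lit 164) [nat_lit 4, nat_lit 31] [] (.st (nat_lit 1029) [nat_lit 31, nat_lit 8] [] (.st (nat_lit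 1025) (unp (nat_lit 5) (nat_lit 0x37a303)) [nat_lit 1021] (.st (nat_lit 1026) (unp (nat_lit 5) (nat_lit 0x2fc403)) [nat_lit 705] (.st (nat_lit 1027) [nat_lit 31, nat_lit 21] [nat_lit 1021] (.st (nat_lit 1028) [nat_lit 17] [] (.st (nat_lit 1032) (unp (nat_lit 5) (nat_lit 0x2fe303)) [] .nil))))))))) (unp (nat_lit 5) (nat_lit 0x37a303)) [])⟩)
 (.lf ⟨nat_lit 1, nat_lit 146, nat_lit 1032, (nat_lit 0x125910161e8d6fe6d72746c6acb95732f82b12d8b), (nat_lit 0x35a3c35cb11a4ca0c054d89152cb0e9ee3b8f08cc), (nat_lit 0x3f07912dda83acdac1d91680dd5d6e3b6fa3e79ec), (.wt (nat_lit 0) (nat_lit 0) (nat_lit 0x29d069dd4289881cb0b1977aaf1daee2c113e4bec) (.st (nat_lit 1045) [] [] .nil) (unp (nat_lit 5) (nat_lit 0x27a303)) [])⟩)))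
 (.nd (nat_lit 1049) (.nd (nat_lit 1048) (.lf ⟨nat_lit 1, nat_lit 1032, nat_lit 294, (nat_lit 0x9a472e71a6030c6693ace0c7e5978349d74b3855), (nat_lit 0x629ea08bcf3022f99c2343565cd4c01ae6dd9c1f), (nat_lit 0x225ce03a83a9bcd6902ab00b540aa48ec791c5091), (.wt (nat_lit 5) (nat_lit 2) (nat_lit 0x40342fd203ddecba214e1bc96d782c8ddc6e5e86) (.st (nat_lit 673) [nat_lit 30, nat_lit 18] [] (.st (nat_lit 232) [nat_lit 29, nat_lit 8] [] (.st (nat_lit 785) (unp (nat_lit 5) (nat_lit 0x3ba303)) [] (.st (nat_lit 792) (unp (nat_lit 5) (nat_lit 0x47a403)) [] (.st (nat_lit 607) [nat_lit 31, nat_lit 8] [] (.st (nat_lit 587) [nat_lit 30, nat_lit 18] [] (.st (nat_lit 122) [nat_lit 31, nat_lit 16] [] (.st (nat_lit 121) (unp (nat_lit 5) (nat_lit 0x23a303)) [nat_lit 80] (.st (nat_lit 1032) [nat_lit 29, nat_lit 13] [] .nil))))))))) (unp (nat_lit 5) (nat_lit 0x5ba403)) [])⟩)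
 (.lf ⟨nat_lit 1, nat_lit 294, nat_lit 1032, (nat_lit 0xf6d11ea1f2003230c9ae98d7ebf7a100d6421009), (nat_lit 0x5054ff1751f9cc912ce12de5c888a3e230a04e9c), (nat_lit 0x2fc263169cb97e14ba6a91515dbde5b4c720164b1), (.wt (nat_lit 0) (nat_lit 0) (nat_lit 0x9a472e71a6030c6693ace0c7e5978349d74b3855) (.st (nat_lit 1047) [] [] .nil) (unp (nat_lit 5) (nat_lit 0x27c403)) [])⟩))
 (.nd (nat_lit 1050) (.lf ⟨nat_lit 1, nat_lit 149, nat_lit 142, (nat_lit 0xf6d11ea1f2003230c9ae98d7ebf7a100d6421009), (nat_lit 0x101a9bb0cd78fd6acd5da0e2a421f08e4085c65d1), (nat_lit 0xc080a3e4306cc8986d7c253f00526df1eb9478fe), (.ren (nat_lit 410) [] [] [nat_lit 506])⟩)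
 (.lf ⟨nat_lit 1, nat_lit 1032, nat_lit 135, (nat_lit 0x2ba2cea7bd829f6f53bc17c3f6c7dba59a18cc2c5), (nat_lit 0x25a378fd6b08fc56804fb5121508fe77bb982f3a8), (nat_lit 0x2820e4d03131624d7a24285e2ccbd9e874800fb4), (.wt (nat_lit 5) (nat_lit 2) (nat_lit 0x13aedb433996f075ffd075485e2324037e63382da) (.st (nat_lit 136) (unp (nat_lit 5) (nat_lit 0x47c303)) [] (.st (nat_lit 691) (unp (nat_lit 5) (nat_lit 0x2fa303)) [] (.st (nat_lit 109) (unp (nat_lit 5) (nat_lit 0x3ba403)) [nat_lit 75] (.st (nat_lit 590) (unp (nat_lit 5) (nat_lit 0x1ba303)) [] (.st (nat_lit 153) [nat_lit 31, nat_lit 6] [] (.st (nat_lit 1049) [nat_lit 29, nat_lit 20] [] (.st (nat_lit 518) (unp (nat_lit 5) (nat_lit 0x2fc303)) [] (.st (nat_lit 124) [nat_lit 3, nat_lit 17] [] (.st (nat_lit 1032) (unp (nat_lit 5) (nat_lit 0x3ba303)) [] .nil))))))))) (unp (nat_lit 5) (nat_lit 0x47a403)) [])⟩))))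
 (.nd (nat_lit 1055) (.nd (nat_lit 1053) (.nd (nat_lit 1052) (.lf ⟨nat_lit 1, nat_lit 135, nat_lit 1032, (nat_lit 0x3eba12c3c3234cd354a978de13ad53d6c7be58abc), (nat_lit 0x1790dbbe356c8df5e059f76388d208e32d99576e2), (nat_lit 0x1a4356431548040444e39717736a1f6a0b9edc2e9), (.wt (nat_lit 0) (nat_lit 0) (nat_lit 0x2ba2cea7bd829f6f53bc17c3f6c7dba59a18cc2c5) (.st (nat_lit 1050) [] [] .nil) [nat_lit 3, nat_lit 21] [])⟩)
 (.lf ⟨nat_lit 1, nat_lit 121, nat_lit 1052, (nat_lit 0x1fce42ed966b34fae64312a96f69e1eea7db1de4), one, one, (.df [nat_lit 8])⟩))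
 (.nd (nat_lit 1054) (.lf ⟨nat_lit 1, nat_lit 1052, nat_lit 121, one, (nat_lit 0x1fce42ed966b34fae64312a96f69e1eea7db1de4), one, (.wt (nat_lit 0) (nat_lit 0) (nat_lit 0x1fce42ed966b34fae64312a96f69e1eea7db1de4) (.st (nat_lit 1052) [] [] .nil) [] [])⟩)
 (.lf ⟨nat_lit 1, nat_lit 1052, nat_lit 135, (nat_lit 0x100e0aba0d17c70444d02bf329fd10d7608f1b426), (nat_lit 0x3d3ac199bb48a69b8ae015514fc004c9b67d28e2c), (nat_lit 0x1d800abf4f312b8fd51d047b94ef4597569c1447e), (.wt (nat_lit 2) (nat_lit 2) (nat_lit 0x6e33c5b4bcc2cb6fb171e9142ff3ddc978c72f23) (.st (nat_lit 587) (unp (nat_lit 5) (nat_lit 0x37c403)) [] (.st (nat_lit 1052) [] [] .nil)) [] [])⟩)))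
 (.nd (nat_lit 1057) (.nd (nat_lit 1056) (.lf ⟨nat_lit 1, nat_lit 135, nat_lit 1052, (nat_lit 0x1fce42ed966b34fae64312a96f69e1eea7db1de4), (nat_lit 0x19e5d65e14fc254b980cae4ac007f35748f29ebef), (nat_lit 0x1d800abf4f312b8fd51d047b94ef4597569c1447e), (.wt (nat_lit 0) (nat_lit 0) (nat_lit 0x100e0aba0d17c70444d02bf329fd10d7608f1b426) (.st (nat_lit 1054) [] [] .nil) [nat_lit 31, nat_lit 18] [])⟩)
 (.lf ⟨nat_lit 1, nat_lit 1052, nat_lit 1032, (nat_lit 0x3eba12c3c3234cd354a978de13ad53d6c7be58abc), (nat_lit 0x32e5058ff9a89677ce8e9dcb8412a5677f0a38c3b), (nat_lit 0x1d4e0a29f7e2c90e9739eb547f335464017f70b6d), (.wt (nat_lit 5) (nat_lit 2) (nat_lit 0x57f628e5d37b98c9d5df1bb848825b5aab37e504) (.st (nat_lit 1034) (unp (nat_lit 5) (nat_lit 0x57a403)) [] (.st (nat_lit 768) (unp (nat_lit 5) (nat_lit 0x53e303)) [nat_lit 763] (.st (nat_lit 676) [nat_lit 3, nat_lit 20] [] (.st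 (nat_lit 336) (unp (nat_lit 5) (nat_lit 0x1bc303)) [] (.st (nat_lit 334) [nat_lit 30, nat_lit 21] [nat_lit 663] (.st (nat_lit 576) [nat_lit 29, nat_lit 6] [] (.st (nat_lit 1031) [nat_lit 3, nat_lit 20] [] (.st (nat_lit 1028) (unp (nat_lit 5) (nat_lit 0x3bc403)) [nat_lit 1021] (.st (nat_lit 1052) (unp (nat_lit 5) (nat_lit 0x2fa403)) [] .nil))))))))) (unp (nat_lit 5) (nat_lit 0x3fc403)) [])⟩))
 (.nd (nat_lit 1058) (.lf ⟨nat_lit 1, nat_lit 1032, nat_lit 1052, (nat_lit 0x125910161e8d6fe6d72746c6acb95732f82b12d8b), (nat_lit 0x15b9952899cb505184828069e4ecd8d9dd21993c9), (nat_lit 0x1aadeae81fa03fa234cc0d29e75d72068f479f22a), (.wt (nat_lit 0) (nat_lit 0) (nat_lit 0x3eba12c3c3234cd354a978de13ad53d6c7be58abc) (.st (nat_lit 1056) [] [] .nil) (unp (nat_lit 5) (nat_lit 0x43a403)) [])⟩)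
 (.nd (nat_lit 1059) (.lf ⟨nat_lit 1, nat_lit 1052, nat_lit 162, (nat_lit 0x29d069dd4289881cb0b1977aaf1daee2c113e4bec), (nat_lit 0x3893f968b17732678679859a378c713954475cef1), (nat_lit 0x144f71aeb2b26463c2b6d4f30c0d3e252450edb2b), (.wt (nat_lit 5) (nat_lit 2) (nat_lit 0x306d7b621701e18e2b9379790d8edfd09378e9c3e) (.st (nat_lit 586) (unp (nat_lit 5) (nat_lit 0x43e403)) [] (.st (nat_lit 678) (unp (nat_lit 5) (nat_lit 0x2fe303)) [] (.st (nat_lit 333) (unp (nat_lit 5) (nat_lit 0x5be303)) [] (.st (nat_lit 335) (unp (nat_lit 5) (nat_lit 0x1be403)) [nat_lit 663] (.st (nat_lit 640) (unp (nat_lit 5) (nat_lit 0x27c303)) [] (.st (nat_lit 205) (unp (nat_lit 5) (nat_lit 0x33c403)) [] (.st (nat_lit 1037) [nat_lit 4, nat_lit 13] [] (.st (nat_lit 1033) (unp (nat_lit 5) (nat_lit 0x2fa403)) [] (.st (nat_lit 1052) (unp (nat_lit 5) (nat_lit 0x23a303)) [] .nil))))))))) [nat_lit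 29, nat_lit 13] [])⟩)
 (.lf ⟨nat_lit 1, nat_lit 162, nat_lit 1052, (nat_lit 0x3eba12c3c3234cd354a978de13ad53d6c7be58abc), (nat_lit 0x1c15ce4154e672a8e2d0c3910acbdddd5d1cefd22), (nat_lit 0xa2ea9a2d0d739cc971a9d423bd96b619a03ddbf2), (.wt (nat_lit 0) (nat_lit 0) (nat_lit 0x29d069dd4289881cb0b1977aaf1daee2c113e4bec) (.st (nat_lit 1058) [] [] .nil) (unp (nat_lit 5) (nat_lit 0x47e403)) [])⟩)))))))

noncomputable def T3_1060 : Tr :=
  (.nd (nat_lit 1077) (.nd (nat_lit 1068) (.nd (nat_lit 1064) (.nd (nat_lit 1062) (.nd (nat_lit 1061) (.lf ⟨nat_lit 1, nat_lit 1052, nat_lit 202, (nat_lit 0xf6d11ea1f2003230c9ae98d7ebf7a100d6421009), (nat_lit 0x8fe6403340141586f70aaa04711743acbe36cd29), (nat_lit 0x30a37c240240e214bbac0467b94450710bf48f0ce), (.wt (nat_lit 5) (nat_lit 2) (nat_lit 0x304f828d3badc7fcd031b1e86f18301ce116546c2) (.st (nat_lit 203) (unp (nat_lit 5) (nat_lit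 0x57a303)) [] (.st (nat_lit 91) (unp (nat_lit 5) (nat_lit 0x57a403)) [] (.st (nat_lit 162) [nat_lit 31, nat_lit 8] [] (.st (nat_lit 667) [nat_lit 30, nat_lit 6] [] (.st (nat_lit 465) (unp (nat_lit 5) (nat_lit 0x43e403)) [] (.st (nat_lit 700) [nat_lit 16] [] (.st (nat_lit 126) (unp (nat_lit 5) (nat_lit 0x27c303)) [nat_lit 557] (.st (nat_lit 121) [nat_lit 29, nat_lit 19] [] (.st (nat_lit 1052) (unp (nat_lit 5) (nat_lit 0x3be403)) [] .nil))))))))) [nat_lit 18] [])⟩)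
 (.lf ⟨nat_lit 1, nat_lit 202, nat_lit 1052, (nat_lit 0x125910161e8d6fe6d72746c6acb95732f82b12d8b), (nat_lit 0x1845839c67deb24771cf5df1e3c5784671932d235), (nat_lit 0x3a152c47ac32663ec6417051281314bb055e65426), (.wt (nat_lit 0) (nat_lit 0) (nat_lit 0xf6d11ea1f2003230c9ae98d7ebf7a100d6421009) (.st (nat_lit 1060) [] [] .nil) [nat_lit 30, nat_lit 21] [])⟩))
 (.nd (nat_lit 1063) (.lf ⟨nat_lit 1, nat_lit 1052, nat_lit 1011, (nat_lit 0x9a472e71a6030c6693ace0c7e5978349d74b3855), (nat_lit 0x1673900fcddc16a06c12d6f578fa76716cf9a6a7c), (nat_lit 0x4bcd175a4299bcf4b8d0265ad6fd4dd52b7214c7), (.wt (nat_lit 5) (nat_lit 2) (nat_lit 0x22892aa4a6a3d65ac4cd6843e83fc176157a733f8) (.st (nat_lit 1024) [nat_lit 19] [] (.st (nat_lit 1027) (unp (nat_lit 5) (nat_lit 0x23e403)) [nat_lit 1021] (.st (nat_lit 1030) (unp (nat_lit 5) (nat_lit 0x43e403)) [] (.st (nat_lit 598) [nat_lit 29,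 nat_lit 19] [nat_lit 539] (.st (nat_lit 269) [nat_lit 30, nat_lit 19] [] (.st (nat_lit 889) [nat_lit 29, nat_lit 8] [] (.st (nat_lit 892) (unp (nat_lit 5) (nat_lit 0x37e403)) [nat_lit 890, nat_lit 897] (.st (nat_lit 716) (unp (nat_lit 5) (nat_lit 0x37a303)) [] (.st (nat_lit 1052) [nat_lit 29, nat_lit 14] [] .nil))))))))) (unp (nat_lit 5) (nat_lit 0x57e403)) [])⟩)
 (.lf ⟨nat_lit 1, nat_lit 1011, nat_lit 1052, (nat_lit 0x9a472e71a6030c6693ace0c7e5978349d74b3855), (nat_lit 0x1681fd3f9bb0b4f6c166a633f5c1069964859b63b), (nat_lit 0x4bcd175a4299bcf4b8d0265ad6fd4dd52b7214c7), (.wt (nat_lit 0) (nat_lit 0) (nat_lit 0x9a472e71a6030c6693ace0c7e5978349d74b3855) (.st (nat_lit 1062) [] [] .nil) [nat_lit 29, nat_lit 18] [])⟩)))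
 (.nd (nat_lit 1066) (.nd (nat_lit 1065) (.lf ⟨nat_lit 1, nat_lit 1052, nat_lit 321, (nat_lit 0x1fce42ed966b34fae64312a96f69e1eea7db1de4), (nat_lit 0xef153e98b72519e9e55a29a140a314f87cff2878), (nat_lit 0x2c5ecd602d34dae1eab9f7811b609531f306e0b0f), (.wt (nat_lit 5) (nat_lit 2) (nat_lit 0x352f8b50bcde8d62eebce5cc3c6fb11545a62aa1f) (.st (nat_lit 697) [nat_lit 4, nat_lit 13] [] (.st (nat_lit 579) [nat_lit 3, nat_lit 30] [] (.st (nat_lit 143) [nat_lit 29, nat_lit 9] [] (.st (nat_lit 138) [nat_lit 4, nat_lit 11] [] (.st (nat_lit 326) [nat_lit 4, nat_lit 22] [] (.st (nat_lit 700) [nat_lit 3, nat_lit 13] [] (.st (nat_lit 126) [nat_lit 17] [] (.st (nat_lit 121) [nat_lit 29, nat_lit 9] [nat_lit 80] (.st (nat_lit 1052) [nat_lit 29, nat_lit 9] [] .nil))))))))) [nat_lit 29, nat_lit 9] [])⟩)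
 (.lf ⟨nat_lit 1, nat_lit 321, nat_lit 1052, (nat_lit 0x29d069dd4289881cb0b1977aaf1daee2c113e4bec), (nat_lit 0x3f41da188107cfa5926116f1fab90b39b68554257), (nat_lit 0x366867966a6c6ec52f8801e6a4bd2792bf67472be), (.wt (nat_lit 0) (nat_lit 0) (nat_lit 0x1fce42ed966b34fae64312a96f69e1eea7db1de4) (.st (nat_lit 1064) [] [] .nil) [nat_lit 8] [])⟩))
 (.nd (nat_lit 1067) (.lf ⟨nat_lit 1, nat_lit 1052, nat_lit 402, (nat_lit 0x125910161e8d6fe6d72746c6acb95732f82b12d8b), (nat_lit 0x31f7936c60e4cc53928389ee357b63f5090bb4e47), (nat_lit 0x65e460788e78c465035b45e09fad6e8e3768df9d), (.wt (nat_lit 5) (nat_lit 2) (nat_lit 0x9bd9bc0d7023a195c9a555c2acffce91a74bf737) (.st (nat_lit 997) [nat_lit 29, nat_lit 15] [] (.st (nat_lit 1004) [nat_lit 3, nat_lit 13] [] (.st (nat_lit 1007) [nat_lit 30, nat_lit 8] [nat_lit 1001] (.st (nat_lit 608) (unp (nat_lit 5) (nat_lit 0x4be303)) []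 (.st (nat_lit 677) [nat_lit 30, nat_lit 14] [] (.st (nat_lit 164) [nat_lit 29] [] (.st (nat_lit 771) [nat_lit 3, nat_lit 22] [] (.st (nat_lit 770) (unp (nat_lit 5) (nat_lit 0x1bc403)) [nat_lit 763] (.st (nat_lit 1052) [nat_lit 12] [] .nil))))))))) [nat_lit 30, nat_lit 21] [])⟩)
 (.lf ⟨nat_lit 1, nat_lit 402, nat_lit 1052, (nat_lit 0x3eba12c3c3234cd354a978de13ad53d6c7be58abc), (nat_lit 0x810895a1f768203a555069f0b0370053656768ec), (nat_lit 0x3ded5d5f59f71aab66814b1a9e8676aa3f34ba4c), (.wt (nat_lit 0) (nat_lit 0) (nat_lit 0x125910161e8d6fe6d72746c6acb95732f82b12d8b) (.st (nat_lit 1066) [] [] .nil) [nat_lit 30, nat_lit 8] [])⟩))))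
 (.nd (nat_lit 1072) (.nd (nat_lit 1070) (.nd (nat_lit 1069) (.lf ⟨nat_lit 1, nat_lit 1052, nat_lit 794, (nat_lit 0x3b6020b1ee99f350ad1583cd87ceba46c32e15ab7), (nat_lit 0x352f8b50bcde8d62eebce5cc3c6fb11545a62aa1f), (nat_lit 0x70c395c028efee21b49127639cb326e96e4047c6), (.wt (nat_lit 5) (nat_lit 2) (nat_lit 0x3f9a4b201a4979f6a1289ded8e82540c24008c8fe) (.st (nat_lit 801) [nat_lit 30, nat_lit 15] [] (.st (nat_lit 680) [nat_lit 30, nat_lit 17] [] (.st (nat_lit 888) (unp (nat_lit 5) (nat_lit 0x33a403)) [] (.st (nat_lit 883) (unp (nat_lit 5) (nat_lit 0x1ba403)) [] (.st (nat_lit 819) [nat_lit 3, nat_lit 11] [nat_lit 806] (.st (nat_lit 1044) (unp (nat_lit 5) (nat_lit 0x5ba303)) [] (.st (nat_lit 1034) [nat_lit 3, nat_lit 22] [] (.st (nat_lit 770) [nat_lit 4, nat_lit 30] [nat_lit 763] (.st (nat_lit 1052) [nat_lit 14] [] .nil))))))))) [nat_lit 30, nat_lit 19] [])⟩)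
 (.lf ⟨nat_lit 1, nat_lit 794, nat_lit 1052, (nat_lit 0x3b6020b1ee99f350ad1583cd87ceba46c32e15ab7), (nat_lit 0x11280c04200430c04061209120880c141a0c08040), (nat_lit 0x1cc75165bcf115c1ffe094ecb7c8d41f64e519fff), (.wt (nat_lit 0) (nat_lit 0) (nat_lit 0x3b6020b1ee99f350ad1583cd87ceba46c32e15ab7) (.st (nat_lit 1068) [] [] .nil) [nat_lit 4, nat_lit 13] [])⟩))
 (.nd (nat_lit 1071) (.lf ⟨nat_lit 1, nat_lit 125, nat_lit 1070, (nat_lit 0xf6d11ea1f2003230c9ae98d7ebf7a100d6421009), one, one, (.df (unp (nat_lit 2) (nat_lit 0x2203)))⟩)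
 (.lf ⟨nat_lit 1, nat_lit 1070, nat_lit 125, one, (nat_lit 0xf6d11ea1f2003230c9ae98d7ebf7a100d6421009), one, (.wt (nat_lit 0) (nat_lit 0) (nat_lit 0xf6d11ea1f2003230c9ae98d7ebf7a100d6421009) (.st (nat_lit 1070) [] [] .nil) [] [])⟩)))
 (.nd (nat_lit 1074) (.nd (nat_lit 1073) (.lf ⟨nat_lit 1, nat_lit 1070, nat_lit 1070, (nat_lit 0x100e0aba0d17c70444d02bf329fd10d7608f1b426), (nat_lit 0x3625e83b5991f26315be83b602f93508ce83eeeee), (nat_lit 0x117599dd406b9c62bc98b30c2b04f63dc2e97fcf1), (.wt (nat_lit 2) (nat_lit 2) (nat_lit 0x96689540f2d8d3c81aea94b519fd1ede2f4f5ed2) (.st (nat_lit 1071) [nat_lit 4, nat_lit 15] [] (.st (nat_lit 1070) [] [nat_lit 557] .nil)) [] [])⟩)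
 (.lf ⟨nat_lit 1, nat_lit 1070, nat_lit 186, (nat_lit 0x3b6020b1ee99f350ad1583cd87ceba46c32e15ab7), (nat_lit 0x37644f1ccc84b9d69d8c6cef3899d917d8a756b3d), (nat_lit 0x37ba9a9559aa2310165c28ece765fc6e7adc346a0), (.wt (nat_lit 5) (nat_lit 2) (nat_lit 0x800f29700f902f11b2533973d0d603c0959e83e6) (.st (nat_lit 187) [nat_lit 31, nat_lit 21] [] (.st (nat_lit 225) (unp (nat_lit 5) (nat_lit 0x3fe403)) [] (.st (nat_lit 714) [nat_lit 29, nat_lit 20] [] (.st (nat_lit 997) (unp (nat_lit 5) (nat_lit 0x47e303)) [nat_lit 591] (.st (nat_lit 996) [nat_lit 31, nat_lit 19] [nat_lit 991] (.st (nat_lit 997) (unp (nat_lit 5) (nat_lit 0x1bc403)) [nat_lit 591] (.st (nat_lit 999) [nat_lit 31] [nat_lit 991] (.st (nat_lit 694) (unp (nat_lit 5) (nat_lit 0x53a403)) [] (.st (nat_lit 1070) [nat_lit 4, nat_lit 14] [nat_lit 557] .nil))))))))) [nat_lit 3, nat_lit 19] [])⟩))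
 (.nd (nat_lit 1075) (.lf ⟨nat_lit 1, nat_lit 186, nat_lit 1070, (nat_lit 0x9a472e71a6030c6693ace0c7e5978349d74b3855), (nat_lit 0x254bcbf3dd604d22874eac7ee9045a1cf25294967), (nat_lit 0x31203af919ac789b9c39d64860c29dda42946a63b), (.wt (nat_lit 0) (nat_lit 0) (nat_lit 0x3b6020b1ee99f350ad1583cd87ceba46c32e15ab7) (.st (nat_lit 1073) [] [] .nil) [nat_lit 31, nat_lit 8] [])⟩)
 (.nd (nat_lit 1076) (.lf ⟨nat_lit 1, nat_lit 1070, nat_lit 774, (nat_lit 0x29d069dd4289881cb0b1977aaf1daee2c113e4bec), (nat_lit 0x2d823440ae56df6c42c32fa324eb54d50fe1d1572), (nat_lit 0x2e14d3856e9cd8b670742057862b108daea8bcee2), (.wt (nat_lit 5) (nat_lit 2) (nat_lit 0x2e6fe950927f25ed3e2309acb3af05ee5dfb21f91) (.st (nat_lit 777) (unp (nat_lit 5) (nat_lit 0x57e403)) [] (.st (nat_lit 360) [nat_lit 30] [] (.st (nat_lit 716) [nat_lit 31, nat_lit 11] [] (.st (nat_lit 122) (unp (nat_lit 5) (nat_lit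 0x33e403)) [] (.st (nat_lit 1038) [nat_lit 18] [] (.st (nat_lit 81) [nat_lit 30, nat_lit 15] [] (.st (nat_lit 79) [nat_lit 29, nat_lit 16] [nat_lit 62] (.st (nat_lit 125) (unp (nat_lit 5) (nat_lit 0x43e403)) [] (.st (nat_lit 1070) (unp (nat_lit 5) (nat_lit 0x23a303)) [nat_lit 557] .nil))))))))) [nat_lit 29, nat_lit 13] [])⟩)
 (.lf ⟨nat_lit 1, nat_lit 774, nat_lit 1070, (nat_lit 0x3eba12c3c3234cd354a978de13ad53d6c7be58abc), (nat_lit 0x280ccb9cd86d394ba50a278ea3977b10b168a511f), (nat_lit 0x2eedf0e9cbd60adceeb154a336a8c77720b2827a7), (.wt (nat_lit 0) (nat_lit 0) (nat_lit 0x29d069dd4289881cb0b1977aaf1daee2c113e4bec) (.st (nat_lit 1075) [] [] .nil) (unp (nat_lit 5) (nat_lit 0x5bc403)) [])⟩))))))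
 (.nd (nat_lit 1086) (.nd (nat_lit 1081) (.nd (nat_lit 1079) (.nd (nat_lit 1078) (.lf ⟨nat_lit 1, nat_lit 1070, nat_lit 352, (nat_lit 0x2ba2cea7bd829f6f53bc17c3f6c7dba59a18cc2c5), (nat_lit 0xbc73acc20b4853daa27c6a10ab6024b89400c555), (nat_lit 0x38836132a9f5fa3fe4f9cf9ce6c8ece3bc0ac9f63), (.wt (nat_lit 5) (nat_lit 2) (nat_lit 0x331b0a082a29f881d775675b6fee388fb5713b852) (.st (nat_lit 360) (unp (nat_lit 5) (nat_lit 0x3fc403)) [] (.st (nat_lit 359) (unp (nat_lit 5) (nat_lit 0x2fc403)) [nat_lit 705] (.st (nat_lit 784) [nat_lit 4, nat_lit 11] [] (.st (nat_lit 781) [nat_lit 31, nat_lit 22] [nat_lit 775] (.st (nat_lit 659) [nat_lit 3, nat_lit 31] [] (.st (nat_lit 465) (unp (nat_lit 5) (nat_lit 0x23c403)) [] (.st (nat_lit 700) (unp (nat_lit 5) (nat_lit 0x1ba303)) [] (.st (nat_lit 694) (unp (nat_lit 5) (nat_lit 0x53c403)) [] (.st (nat_lit 1070) (unp (nat_lit 5)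 (nat_lit 0x3bc303)) [nat_lit 557] .nil))))))))) [nat_lit 3] [])⟩)
 (.lf ⟨nat_lit 1, nat_lit 352, nat_lit 1070, (nat_lit 0x9a472e71a6030c6693ace0c7e5978349d74b3855), (nat_lit 0x130548b17e0ba584d7a95281828eca78e9d63f039), (nat_lit 0x23573ac692ef22734e4dd163daa77abd7ac684216), (.wt (nat_lit 0) (nat_lit 0) (nat_lit 0x2ba2cea7bd829f6f53bc17c3f6c7dba59a18cc2c5) (.st (nat_lit 1077) [] [] .nil) [nat_lit 4, nat_lit 17] [])⟩))
 (.nd (nat_lit 1080) (.lf ⟨nat_lit 1, nat_lit 1070, nat_lit 254, (nat_lit 0xf6d11ea1f2003230c9ae98d7ebf7a100d6421009), (nat_lit 0x2fc263169cb97e14ba6a91515dbde5b4c720164b1), (nat_lit 0xe5e69e2b5c85d337b1ca17f5afda00948aa39fc9), (.wt (nat_lit 5) (nat_lit 2) (nat_lit 0x2af775942db2b3184bc98854cb1e96cffbe698891) (.st (nat_lit 605) (unp (nat_lit 5) (nat_lit 0x5be303)) [] (.st (nat_lit 617) (unp (nat_lit 5) (nat_lit 0x57c403)) [] (.st (nat_lit 759)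 (unp (nat_lit 5) (nat_lit 0x53c303)) [] (.st (nat_lit 758) (unp (nat_lit 5) (nat_lit 0x43e403)) [nat_lit 751] (.st (nat_lit 642) [nat_lit 29] [] (.st (nat_lit 644) [nat_lit 4, nat_lit 19] [] (.st (nat_lit 995) (unp (nat_lit 5) (nat_lit 0x43e303)) [] (.st (nat_lit 999) (unp (nat_lit 5) (nat_lit 0x53c403)) [] (.st (nat_lit 1070) (unp (nat_lit 5) (nat_lit 0x37a403)) [] .nil))))))))) (unp (nat_lit 5) (nat_lit 0x27a303)) [])⟩)
 (.lf ⟨nat_lit 1, nat_lit 254, nat_lit 1070, (nat_lit 0x2ba2cea7bd829f6f53bc17c3f6c7dba59a18cc2c5), (nat_lit 0x1d215cd091f2355ea7ccc3287808958ad884331e4), (nat_lit 0x113a82ffd2fa1cfc14b0dde44999e309948c436c6), (.wt (nat_lit 0) (nat_lit 0) (nat_lit 0xf6d11ea1f2003230c9ae98d7ebf7a100d6421009) (.st (nat_lit 1079) [] [] .nil) (unp (nat_lit 5) (nat_lit 0x27a403)) [])⟩)))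
 (.nd (nat_lit 1083) (.nd (nat_lit 1082) (.lf ⟨nat_lit 1, nat_lit 1070, nat_lit 924, (nat_lit 0x3eba12c3c3234cd354a978de13ad53d6c7be58abc), (nat_lit 0x8a836431669b7a97e8cafd770be64bbe33bb727e), (nat_lit 0xfbce02e564270a742205c392827542a1a48b9150), (.wt (nat_lit 5) (nat_lit 2) (nat_lit 0x24dc5e4d6fc915bc043bc90b72a18f39ef9c43d7c) (.st (nat_lit 932) (unp (nat_lit 5) (nat_lit 0x1ba303)) [] (.st (nat_lit 927) [nat_lit 29, nat_lit 12] [] (.st (nat_lit 910) (unp (nat_lit 5) (nat_lit 0x47c303)) [] (.st (nat_lit 674) (unp (nat_lit 5) (nat_lit 0x3ba303)) [] (.st (nat_lit 645) [nat_lit 21] [] (.st (nat_lit 640) [nat_lit 30, nat_lit 22] [] (.st (nat_lit 698) (unp (nat_lit 5) (nat_lit 0x37a303)) [] (.st (nat_lit 700) [nat_lit 29, nat_lit 8] [] (.st (nat_lit 1070) (unp (nat_lit 5) (nat_lit 0x27a403)) [] .nil))))))))) [nat_lit 11] [])⟩)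
 (.lf ⟨nat_lit 1, nat_lit 924, nat_lit 1070, (nat_lit 0xf6d11ea1f2003230c9ae98d7ebf7a100d6421009), (nat_lit 0x3f43f6b739fd7db459c66c45d8dabe1e8fe7d0d40), (nat_lit 0xfbce02e564270a742205c392827542a1a48b9150), (.wt (nat_lit 0) (nat_lit 0) (nat_lit 0x3eba12c3c3234cd354a978de13ad53d6c7be58abc) (.st (nat_lit 1081) [] [] .nil) (unp (nat_lit 5) (nat_lit 0x3bc303)) [])⟩))
 (.nd (nat_lit 1084) (.lf ⟨nat_lit 1, nat_lit 1070, nat_lit 1052, (nat_lit 0x1fce42ed966b34fae64312a96f69e1eea7db1de4), (nat_lit 0x2d807977004c569a83f0593ac00439aa46285d50e), (nat_lit 0x3515f93199c4127aade46c63f6c4fd14ffab7f500), (.wt (nat_lit 5) (nat_lit 2) (nat_lit 0xce932164857bab00cb55c128122080632e462053) (.st (nat_lit 1062) [nat_lit 31, nat_lit 19] [] (.st (nat_lit 1014) [nat_lit 14] [nat_lit 1012] (.st (nat_lit 903) [nat_lit 31, nat_lit 6] [] (.st (nat_lit 1019) [nat_lit 4, nat_lit 30]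 [nat_lit 899] (.st (nat_lit 1014) (unp (nat_lit 5) (nat_lit 0x23e403)) [] (.st (nat_lit 700) [nat_lit 4, nat_lit 6] [] (.st (nat_lit 126) [nat_lit 29, nat_lit 20] [] (.st (nat_lit 125) (unp (nat_lit 5) (nat_lit 0x43c403)) [nat_lit 80] (.st (nat_lit 1070) [nat_lit 31, nat_lit 11] [nat_lit 557] .nil))))))))) (unp (nat_lit 5) (nat_lit 0x5be303)) [])⟩)
 (.nd (nat_lit 1085) (.lf ⟨nat_lit 1, nat_lit 1052, nat_lit 1070, (nat_lit 0x2ba2cea7bd829f6f53bc17c3f6c7dba59a18cc2c5), (nat_lit 0x236105b8a0404766063c4c098fa5b0f3c26e739a9), (nat_lit 0x3269eb1d64dfffffd545f43878355d186fcbc6518), (.wt (nat_lit 0) (nat_lit 0) (nat_lit 0x1fce42ed966b34fae64312a96f69e1eea7db1de4) (.st (nat_lit 1083) [] [] .nil) (unp (nat_lit 5) (nat_lit 0x33a403)) [])⟩)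
 (.lf ⟨nat_lit 1, nat_lit 1070, nat_lit 162, (nat_lit 0x9a472e71a6030c6693ace0c7e5978349d74b3855), (nat_lit 0x19cebc1c48c12ac69b7a0a9292e438d8984151ce3), (nat_lit 0x1eaa3b02eb39efc912eddee28aaea30318f3e1c61), (.wt (nat_lit 5) (nat_lit 2) (nat_lit 0x290c71a06a5cb240dc87eaacd94f88f19e49f41ed) (.st (nat_lit 667) [nat_lit 3, nat_lit 6] [] (.st (nat_lit 886) [nat_lit 3, nat_lit 12] [] (.st (nat_lit 1042) (unp (nat_lit 5) (nat_lit 0x27c303)) [nat_lit 881] (.st (nat_lit 1057) [nat_lit 31, nat_lit 13] [] (.st (nat_lit 1068) [nat_lit 3, nat_lit 20] [] (.st (nat_lit 803) (unp (nat_lit 5) (nat_lit 0x3be403)) [nat_lit 795] (.st (nat_lit 997) (unp (nat_lit 5) (nat_lit 0x3ba403)) [] (.st (nat_lit 999) (unp (nat_lit 5) (nat_lit 0x53a403)) [nat_lit 991] (.st (nat_lit 1070) [nat_lit 29, nat_lit 13] [] .nil))))))))) (unp (nat_lit 5) (nat_lit 0x5ba403)) [])⟩)))))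
 (.nd (nat_lit 1090) (.nd (nat_lit 1088) (.nd (nat_lit 1087) (.lf ⟨nat_lit 1, nat_lit 162, nat_lit 1070, (nat_lit 0xf6d11ea1f2003230c9ae98d7ebf7a100d6421009), (nat_lit 0x11b16e7f1d8042294dc79106db7e1e5dbcd091bd5), (nat_lit 0x1eaa3b02eb39efc912eddee28aaea30318f3e1c61), (.wt (nat_lit 0) (nat_lit 0) (nat_lit 0x9a472e71a6030c6693ace0c7e5978349d74b3855) (.st (nat_lit 1085) [] [] .nil) [nat_lit 29, nat_lit 12] [])⟩)
 (.lf ⟨nat_lit 1, nat_lit 1070, nat_lit 319, (nat_lit 0x125910161e8d6fe6d72746c6acb95732f82b12d8b), (nat_lit 0x3f8471c201d0d282ecd494928274e28b6aefe99c), (nat_lit 0x98b2154ca236c43dec85ffc3fe2557b5e428d05c), (.wt (nat_lit 5) (nat_lit 2) (nat_lit 0x3e61d82ba4cee95327547728dbd519394eddec6b3) (.st (nat_lit 320) [nat_lit 4, nat_lit 12] [] (.st (nat_lit 112) (unp (nat_lit 5) (nat_lit 0x43e303)) [] (.st (nat_lit 352) (unp (nat_lit 5) (nat_lit 0x27c403))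 [] (.st (nat_lit 612) [nat_lit 19] [] (.st (nat_lit 203) (unp (nat_lit 5) (nat_lit 0x3fe403)) [nat_lit 532] (.st (nat_lit 744) [nat_lit 12] [] (.st (nat_lit 85) [nat_lit 30, nat_lit 14] [] (.st (nat_lit 125) (unp (nat_lit 5) (nat_lit 0x47e403)) [] (.st (nat_lit 1070) [nat_lit 12] [] .nil))))))))) [nat_lit 30, nat_lit 21] [])⟩))
 (.nd (nat_lit 1089) (.lf ⟨nat_lit 1, nat_lit 319, nat_lit 1070, (nat_lit 0xf6d11ea1f2003230c9ae98d7ebf7a100d6421009), (nat_lit 0x25a9514e9aea0335d643edd355f9725439401994f), (nat_lit 0x98b2154ca236c43dec85ffc3fe2557b5e428d05c), (.wt (nat_lit 0) (nat_lit 0) (nat_lit 0x125910161e8d6fe6d72746c6acb95732f82b12d8b) (.st (nat_lit 1087) [] [] .nil) [nat_lit 6] [])⟩)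
 (.lf ⟨nat_lit 1, nat_lit 101, nat_lit 238, (nat_lit 0x29d069dd4289881cb0b1977aaf1daee2c113e4bec), (nat_lit 0x1b63158867b42fb9efd06a79ae1d9e2b7ee295939), (nat_lit 0x17b639d6f05878698a666c3dc7102322ccfdaa0fa), (.ren (nat_lit 306) [] [] [nat_lit 468])⟩)))
 (.nd (nat_lit 1092) (.nd (nat_lit 1091) (.lf ⟨nat_lit 1, nat_lit 105, nat_lit 105, (nat_lit 0x3b6020b1ee99f350ad1583cd87ceba46c32e15ab7), (nat_lit 0x522e6f86265b7a28451f430379680a861e68edb2), (nat_lit 0x1ebfb9c0de2a25cb903dc7b4860ee3b518eaeccb9), (.ren (nat_lit 317) [] [] [nat_lit 569])⟩)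
 (.lf ⟨nat_lit 1, nat_lit 105, nat_lit 82, (nat_lit 0x9a472e71a6030c6693ace0c7e5978349d74b3855), (nat_lit 0x12c463f988697046890d6f0f1badd701b5d183312), (nat_lit 0x2383ac03fb3a95d44eb101c911e2bffffd66f3ff), (.ren (nat_lit 337) [] [] [nat_lit 508, nat_lit 542])⟩))
 (.nd (nat_lit 1093) (.lf ⟨nat_lit 1, nat_lit 109, nat_lit 95, (nat_lit 0x2ba2cea7bd829f6f53bc17c3f6c7dba59a18cc2c5), (nat_lit 0x1942f1a0686ed4efcfbf3163e2e8176feb55f3f1b), (nat_lit 0x3656d610c86ed6a56703c826fcb7a0fafff4d5a17), (.ren (nat_lit 363) [] [] [nat_lit 527])⟩)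
 (.nd (nat_lit 1094) (.lf ⟨nat_lit 1, nat_lit 138, nat_lit 109, (nat_lit 0x100e0aba0d17c70444d02bf329fd10d7608f1b426), (nat_lit 0xb6640dad88c279bec6138a9ebbc678bb3ef898d7), (nat_lit 0x11687f571aacc5668219c3864e6e103421803bdca), (.ren (nat_lit 159) [] [] [nat_lit 511])⟩)
 (.lf ⟨nat_lit 1, nat_lit 176, nat_lit 176, (nat_lit 0x9a472e71a6030c6693ace0c7e5978349d74b3855), (nat_lit 0x2dcd54525235dedaf690d4b5f2eebfa72abb4828d), (nat_lit 0x4bcd175a4299bcf4b8d0265ad6fd4dd52b7214c7), (.ren (nat_lit 493) [] [] [nat_lit 495])⟩)))))))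

noncomputable def T3 : Tr :=
  (.nd (nat_lit 547) (.nd (nat_lit 273) (.nd (nat_lit 136) (.nd (nat_lit 68) (.nd (nat_lit 34) T3_0
 T3_34)
 (.nd (nat_lit 102) T3_68
 T3_102))
 (.nd (nat_lit 204) (.nd (nat_lit 170) T3_136
 T3_170)
 (.nd (nat_lit 238) T3_204
 T3_238)))
 (.nd (nat_lit 410) (.nd (nat_lit 341) (.nd (nat_lit 307) T3_273
 T3_307)
 (.nd (nat_lit 375) T3_341
 T3_375))
 (.nd (nat_lit 478) (.nd (nat_lit 444) T3_410
 T3_444)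
 (.nd (nat_lit 512) T3_478
 T3_512))))
 (.nd (nat_lit 821) (.nd (nat_lit 684) (.nd (nat_lit 615) (.nd (nat_lit 581) T3_547
 T3_581)
 (.nd (nat_lit 649) T3_615
 T3_649))
 (.nd (nat_lit 752) (.nd (nat_lit 718) T3_684
 T3_718)
 (.nd (nat_lit 786) T3_752
 T3_786)))
 (.nd (nat_lit 958) (.nd (nat_lit 889) (.nd (nat_lit 855) T3_821
 T3_855)
 (.nd (nat_lit 923) T3_889
 T3_923))
 (.nd (nat_lit 1026) (.nd (nat_lit 992) T3_958
 T3_992)
 (.nd (nat_lit 1060) T3_1026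
 T3_1060)))))

noncomputable def q3_1_0 : Net :=
  mkNet (nat_lit 5) (nat_lit 10) (nat_lit 0x10000010040f00010)

noncomputable def q3_1_2 : Net :=
  mkNet (nat_lit 5) (nat_lit 10) (nat_lit 0x1440800300c0500801)

noncomputable def q3_1_4 : Net :=
  mkNet (nat_lit 5) (nat_lit 10) (nat_lit 0x10040f00044)

noncomputable def q3_1_8 : Net :=
  mkNet (nat_lit 5) (nat_lit 10) (nat_lit 0x110040010040f0cc54)

noncomputable def q3_1_9 : Net :=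
  mkNet (nat_lit 5) (nat_lit 10) (nat_lit 0x110040010040504410)

noncomputable def q3_1_10 : Net :=
  mkNet (nat_lit 5) (nat_lit 10) (nat_lit 0x40c0000000608804)

noncomputable def q3_1_11 : Net :=
  mkNet (nat_lit 5) (nat_lit 10) (nat_lit 0x4084010040200404)

noncomputable def q3_1_12 : Net :=
  mkNet (nat_lit 5) (nat_lit 10) (nat_lit 0x10044010040800454)

noncomputable def q3_1 : List Net :=
  [q3_1_0, q3_1_0, q3_1_2, rv q3_1_2, q3_1_4, q3_1_4, Net.nil, Net.nil, q3_1_8, q3_1_9, q3_1_10, q3_1_11, q3_1_12]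

noncomputable def Qs3 : List (ℕ × ℕ × List Net) :=
  [(nat_lit 10, nat_lit 5, q3_1)]

noncomputable def ls3 : List Ld :=
  [⟨[(nat_lit 3, [nat_lit 12]), (nat_lit 29, [nat_lit 11]), (nat_lit 11, (unp (nat_lit 4) (nat_lit 0xb948305)))], [⟨nat_lit 0, [nat_lit 0, nat_lit 2], (nat_lit 0xe102bf0afdfbf7efdfbf080c0840afdfbf040c3057efc1bf7efc100), nat_lit 16⟩, ⟨nat_lit 2, [nat_lit 0, nat_lit 1], (nat_lit 0x7efdfbf7efdfbf7efdfbf7efdfbf7efc1bf7efdfbf02fdf827e01fbf), nat_lit 4⟩, ⟨nat_lit 4, [nat_lit 0], (nat_lit 0x7efdfbf7efdfbf7efdfbf7efdfbf7efc0bf7efdfbf04fdf807efdfbf), nat_lit 3⟩], [[nat_lit 1], [nat_lit 3]], (nat_lit 0xc31944221020)⟩]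

noncomputable def lk3 : List (List ℕ) :=
  [[]]

noncomputable def d3_0 : Nd :=
  ⟨nat_lit 1, nat_lit 10, [(nat_lit 3, [nat_lit 12]), (nat_lit 33, (unp (nat_lit 4) (nat_lit 0xcca03))), (nat_lit 11, (unp (nat_lit 4) (nat_lit 0xa998005)))], [⟨nat_lit 0, [nat_lit 0, nat_lit 2], (nat_lit 0x40c2bf06fdfbf7efdfbf0a1020208fdfbf0a042867efc1bf7efc380), nat_lit 16⟩, ⟨nat_lit 2, [nat_lit 0, nat_lit 1], (nat_lit 0x7efdfbf7efdfbf7efdfbf7efdfbf7efc13f7efdfbf04fdf817e01fbf), nat_lit 4⟩, ⟨nat_lit 4, [nat_lit 0], (nat_lit 0x7efdfbf7efdfbf7efdfbf7efdfbf7efc0bf7efdfbf04fdf807efdfbf), nat_lit 3⟩],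
  [⟨(unp (nat_lit 2) (nat_lit 0x2403)), (nat_lit 0x210c2118800), [(nat_lit 34, nat_lit 0, []), (nat_lit 35, nat_lit 9, (unp (nat_lit 2) (nat_lit 0x3203))), (nat_lit 36, nat_lit 1, [nat_lit 3])]⟩]⟩

noncomputable def d3_1 : Nd :=
  ⟨nat_lit 36, nat_lit 80, [(nat_lit 44, [nat_lit 10, nat_lit 10]), (nat_lit 37, (unp (nat_lit 4) (nat_lit 0xc9483006)))], [⟨nat_lit 0, [nat_lit 0, nat_lit 1], (nat_lit 0x7e0dfbf06fdfbf7efdfbf7e0813f7efdfbf7efdf847efc0bf7efc180), nat_lit 8⟩, ⟨nat_lit 2, [nat_lit 0], (nat_lit 0x7efdfbf7efdfbf7efdfbf7efdfbf7efc13f7efdfbf02fdfbf7e01fbf), nat_lit 3⟩],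
  [⟨[nat_lit 0, nat_lit 1], (nat_lit 0x10888320800), [(nat_lit 46, nat_lit 0, []), (nat_lit 47, nat_lit 9, (unp (nat_lit 2) (nat_lit 0x3203))), (nat_lit 48, nat_lit 1, [nat_lit 3])]⟩]⟩

noncomputable def d3_2 : Nd :=
  ⟨nat_lit 48, nat_lit 640, [(nat_lit 49, (unp (nat_lit 4) (nat_lit 0xccaa948308)))], [⟨nat_lit 0, [nat_lit 0], (nat_lit 0x7efdfbf02fdfbf7efdfbf7e09fbf7efdfbf7efdfbf7efdfbf7efdf80), nat_lit 3⟩],
  [⟨[nat_lit 0], (nat_lit 0x11002010000), [(nat_lit 51, nat_lit 0, []), (nat_lit 52, nat_lit 9, (unp (nat_lit 2) (nat_lit 0x3203))), (nat_lit 53, nat_lit 2, [nat_lit 2]), (nat_lit 61, nat_lit 6, [nat_lit 2, nat_lit 0]), (nat_lit 87, nat_lit 1, [nat_lit 3]), (nat_lit 89, nat_lit 4, [nat_lit 2, nat_lit 8])]⟩]⟩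

noncomputable def d3_3 : Nd :=
  ⟨nat_lit 53, nat_lit 320, [(nat_lit 54, (unp (nat_lit 4) (nat_lit 0xb99480207))), (nat_lit 58, (unp (nat_lit 4) (nat_lit 0xa99403307)))], [⟨nat_lit 0, [nat_lit 0, nat_lit 1], (nat_lit 0x7efdfbf7efdf827efdfbf7efdfbf7e09fbf7e0413f02fdfbf7efdf80), nat_lit 6⟩],
  [⟨[nat_lit 0, nat_lit 1], (nat_lit 0x10842200400), [(nat_lit 56, nat_lit 0, []), (nat_lit 66, nat_lit 9, (unp (nat_lit 2) (nat_lit 0x3203))), (nat_lit 71, nat_lit 1, [nat_lit 3]), (nat_lit 74, nat_lit 3, (unp (nat_lit 2) (nat_lit 0x2203)))]⟩]⟩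

noncomputable def d3_4 : Nd :=
  ⟨nat_lit 61, nat_lit 320, [(nat_lit 62, (unp (nat_lit 4) (nat_lit 0xb99480207))), (nat_lit 68, (unp (nat_lit 4) (nat_lit 0xccaa99482280b)))], [⟨nat_lit 0, [nat_lit 0, nat_lit 1], (nat_lit 0x2fdfbf7efdfbf7efdfbf7e09fbf7efdfbf7e0413f7efc13f7efdf80), nat_lit 6⟩],
  [⟨[nat_lit 0, nat_lit 1], (nat_lit 0x20842100400), [(nat_lit 64, nat_lit 0, []), (nat_lit 65, nat_lit 9, (unp (nat_lit 2) (nat_lit 0x3203))), (nat_lit 79, nat_lit 1, [nat_lit 3]), (nat_lit 82, nat_lit 3, (unp (nat_lit 2) (nat_lit 0x2203)))]⟩]⟩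

noncomputable def d3_5 : Nd :=
  ⟨nat_lit 71, nat_lit 960, [(nat_lit 72, (unp (nat_lit 4) (nat_lit 0xccaa9948020a)))], [⟨nat_lit 0, [nat_lit 0], (nat_lit 0x7efdfbf7efdfbf7efdfbf7efdfbf7efdfbf7efc0bf7efdfbf7efdf80), nat_lit 2⟩],
  [⟨[nat_lit 0], (nat_lit 0x10042000400), [(nat_lit 73, nat_lit 0, []), (nat_lit 78, nat_lit 9, (unp (nat_lit 2) (nat_lit 0x3203))), (nat_lit 692, nat_lit 1, [nat_lit 3]), (nat_lit 95, nat_lit 3, (unp (nat_lit 2) (nat_lit 0x2203))), (nat_lit 97, nat_lit 4, [nat_lit 2, nat_lit 8]), (nat_lit 101, nat_lit 7, [nat_lit 2, nat_lit 2])]⟩]⟩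

noncomputable def d3_6 : Nd :=
  ⟨nat_lit 74, nat_lit 960, [(nat_lit 75, (unp (nat_lit 4) (nat_lit 0xc9484806)))], [⟨nat_lit 0, [nat_lit 0], (nat_lit 0x7efc0bf7efdfbf7efdfbf7efdfbf7efdfbf7efdfbf7efdfbf7efdf80), nat_lit 2⟩],
  [⟨[nat_lit 0], (nat_lit 0x10840008000), [(nat_lit 76, nat_lit 0, []), (nat_lit 77, nat_lit 9, (unp (nat_lit 2) (nat_lit 0x3203))), (nat_lit 105, nat_lit 1, [nat_lit 3]), (nat_lit 693, nat_lit 2, [nat_lit 2]), (nat_lit 109, nat_lit 4, [nat_lit 2, nat_lit 8]), (nat_lit 757, nat_lit 5, [nat_lit 8])]⟩]⟩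

noncomputable def d3_7 : Nd :=
  ⟨nat_lit 79, nat_lit 960, [(nat_lit 80, (unp (nat_lit 4) (nat_lit 0xca003)))], [⟨nat_lit 0, [nat_lit 0], (nat_lit 0x7efdfbf7efdfbf7efdfbf7efdfbf7efdfbf7efdfbf7efdfbf7efc080), nat_lit 2⟩],
  [⟨[nat_lit 0], (nat_lit 0x10840008000), [(nat_lit 81, nat_lit 0, []), (nat_lit 86, nat_lit 9, (unp (nat_lit 2) (nat_lit 0x3203))), (nat_lit 117, nat_lit 1, [nat_lit 3]), (nat_lit 1038, nat_lit 2, [nat_lit 2]), (nat_lit 121, nat_lit 4, [nat_lit 2, nat_lit 8]), (nat_lit 125, nat_lit 5, [nat_lit 8])]⟩]⟩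

noncomputable def d3_8 : Nd :=
  ⟨nat_lit 82, nat_lit 960, [(nat_lit 83, (unp (nat_lit 4) (nat_lit 0xcaa9483408)))], [⟨nat_lit 0, [nat_lit 0], (nat_lit 0x7efdfbf7efdfbf7efdfbf7efdf817efdfbf7efdfbf7efdfbf7efdf80), nat_lit 2⟩],
  [⟨[nat_lit 0], (nat_lit 0x10840100000), [(nat_lit 84, nat_lit 0, []), (nat_lit 85, nat_lit 9, (unp (nat_lit 2) (nat_lit 0x3203))), (nat_lit 691, nat_lit 1, [nat_lit 3]), (nat_lit 492, nat_lit 2, [nat_lit 2]), (nat_lit 745, nat_lit 3, (unp (nat_lit 2) (nat_lit 0x2203))), (nat_lit 135, nat_lit 5, [nat_lit 8])]⟩]⟩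

noncomputable def d3_9 : Nd :=
  ⟨nat_lit 87, nat_lit 1920, [], [],
  [⟨[], (nat_lit 0), [(nat_lit 88, nat_lit 0, []), (nat_lit 92, nat_lit 9, (unp (nat_lit 2) (nat_lit 0x3203))), (nat_lit 138, nat_lit 1, [nat_lit 3]), (nat_lit 142, nat_lit 2, [nat_lit 2]), (nat_lit 615, nat_lit 3, (unp (nat_lit 2) (nat_lit 0x2203))), (nat_lit 593, nat_lit 4, [nat_lit 2, nat_lit 8]), (nat_lit 162, nat_lit 5, [nat_lit 8]), (nat_lit 638, nat_lit 6, [nat_lit 2, nat_lit 0]), (nat_lit 176, nat_lit 7, [nat_lit 2, nat_lit 2]), (nat_lit 585, nat_lit 8, [nat_lit 8, nat_lit 0])]⟩]⟩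

noncomputable def d3_10 : Nd :=
  ⟨nat_lit 89, nat_lit 1920, [], [],
  [⟨[], (nat_lit 0), [(nat_lit 90, nat_lit 0, []), (nat_lit 91, nat_lit 9, (unp (nat_lit 2) (nat_lit 0x3203))), (nat_lit 186, nat_lit 1, [nat_lit 3]), (nat_lit 744, nat_lit 2, [nat_lit 2]), (nat_lit 200, nat_lit 3, (unp (nat_lit 2) (nat_lit 0x2203))), (nat_lit 202, nat_lit 4, [nat_lit 2, nat_lit 8]), (nat_lit 208, nat_lit 5, [nat_lit 8]), (nat_lit 597, nat_lit 6, [nat_lit 2, nat_lit 0]), (nat_lit 225, nat_lit 7, [nat_lit 2, nat_lit 2]), (nat_lit 229, nat_lit 8, [nat_lit 8, nat_lit 0])]⟩]⟩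

noncomputable def d3_11 : Nd :=
  ⟨nat_lit 95, nat_lit 1920, [], [],
  [⟨[], (nat_lit 0), [(nat_lit 96, nat_lit 0, []), (nat_lit 104, nat_lit 9, (unp (nat_lit 2) (nat_lit 0x3203))), (nat_lit 141, nat_lit 5, [nat_lit 8]), (nat_lit 254, nat_lit 1, [nat_lit 3]), (nat_lit 258, nat_lit 2, [nat_lit 2]), (nat_lit 260, nat_lit 3, (unp (nat_lit 2) (nat_lit 0x2203))), (nat_lit 262, nat_lit 4, [nat_lit 2, nat_lit 8]), (nat_lit 266, nat_lit 6, [nat_lit 2, nat_lit 0]), (nat_lit 703, nat_lit 7, [nat_lit 2, nat_lit 2]), (nat_lit 626, nat_lit 8, [nat_lit 8, nat_lit 0])]⟩]⟩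

noncomputable def d3_12 : Nd :=
  ⟨nat_lit 97, nat_lit 960, [(nat_lit 453, (unp (nat_lit 4) (nat_lit 0x28204)))], [⟨nat_lit 0, [nat_lit 0], (nat_lit 0x7efdfbf7efc0bf7efdfbf7efdfbf7efdfbf7efdfbf7efdfbf7efdf80), nat_lit 2⟩],
  [⟨[nat_lit 0], (nat_lit 0x210800100000), [(nat_lit 98, nat_lit 0, []), (nat_lit 279, nat_lit 1, [nat_lit 3]), (nat_lit 671, nat_lit 2, [nat_lit 2]), (nat_lit 287, nat_lit 3, (unp (nat_lit 2) (nat_lit 0x2203))), (nat_lit 294, nat_lit 5, [nat_lit 8]), (nat_lit 296, nat_lit 6, [nat_lit 2, nat_lit 0])]⟩]⟩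

noncomputable def d3_13 : Nd :=
  ⟨nat_lit 101, nat_lit 960, [(nat_lit 460, (unp (nat_lit 4) (nat_lit 0xca9028007)))], [⟨nat_lit 0, [nat_lit 0], (nat_lit 0x7efdfbf7efdfbf02fdfbf7efdfbf7efdfbf7efdfbf7efdfbf7efdf80), nat_lit 2⟩],
  [⟨[nat_lit 0], (nat_lit 0x10802008000), [(nat_lit 102, nat_lit 0, []), (nat_lit 103, nat_lit 9, (unp (nat_lit 2) (nat_lit 0x3203))), (nat_lit 211, nat_lit 1, [nat_lit 3]), (nat_lit 1089, nat_lit 2, [nat_lit 2]), (nat_lit 582, nat_lit 4, [nat_lit 2, nat_lit 8]), (nat_lit 651, nat_lit 6, [nat_lit 2, nat_lit 0])]⟩]⟩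

noncomputable def d3_14 : Nd :=
  ⟨nat_lit 105, nat_lit 1920, [], [],
  [⟨[], (nat_lit 0), [(nat_lit 106, nat_lit 0, []), (nat_lit 112, nat_lit 9, (unp (nat_lit 2) (nat_lit 0x3203))), (nat_lit 474, nat_lit 7, [nat_lit 2, nat_lit 2]), (nat_lit 1090, nat_lit 1, [nat_lit 3]), (nat_lit 319, nat_lit 2, [nat_lit 2]), (nat_lit 321, nat_lit 3, (unp (nat_lit 2) (nat_lit 0x2203))), (nat_lit 576, nat_lit 4, [nat_lit 2, nat_lit 8]), (nat_lit 634, nat_lit 5, [nat_lit 8]), (nat_lit 333, nat_lit 6, [nat_lit 2, nat_lit 0]), (nat_lit 1091, nat_lit 8, [nat_lit 8, nat_lit 0])]⟩]⟩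

noncomputable def d3_15 : Nd :=
  ⟨nat_lit 109, nat_lit 1920, [], [],
  [⟨[], (nat_lit 0), [(nat_lit 110, nat_lit 0, []), (nat_lit 111, nat_lit 9, (unp (nat_lit 2) (nat_lit 0x3203))), (nat_lit 352, nat_lit 1, [nat_lit 3]), (nat_lit 603, nat_lit 2, [nat_lit 2]), (nat_lit 590, nat_lit 3, (unp (nat_lit 2) (nat_lit 0x2203))), (nat_lit 357, nat_lit 4, [nat_lit 2, nat_lit 8]), (nat_lit 610, nat_lit 5, [nat_lit 8]), (nat_lit 1092, nat_lit 6, [nat_lit 2, nat_lit 0]), (nat_lit 588, nat_lit 7, [nat_lit 2, nat_lit 2]), (nat_lit 618, nat_lit 8, [nat_lit 8, nat_lit 0])]⟩]⟩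

noncomputable def d3_16 : Nd :=
  ⟨nat_lit 117, nat_lit 960, [(nat_lit 554, (unp (nat_lit 4) (nat_lit 0xcc99402208)))], [⟨nat_lit 0, [nat_lit 0], (nat_lit 0x7efdfbf7efdfbf7efdfbf7efdfbf7efdfbf7efdfbf7efdf817efdf80), nat_lit 2⟩],
  [⟨[nat_lit 0], (nat_lit 0x840008400), [(nat_lit 118, nat_lit 0, []), (nat_lit 124, nat_lit 9, (unp (nat_lit 2) (nat_lit 0x3203))), (nat_lit 189, nat_lit 4, [nat_lit 2, nat_lit 8]), (nat_lit 577, nat_lit 1, [nat_lit 3]), (nat_lit 402, nat_lit 5, [nat_lit 8]), (nat_lit 411, nat_lit 8, [nat_lit 8, nat_lit 0])]⟩]⟩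

noncomputable def d3_17 : Nd :=
  ⟨nat_lit 121, nat_lit 1920, [], [],
  [⟨[], (nat_lit 0), [(nat_lit 122, nat_lit 0, []), (nat_lit 123, nat_lit 9, (unp (nat_lit 2) (nat_lit 0x3203))), (nat_lit 165, nat_lit 1, [nat_lit 3]), (nat_lit 572, nat_lit 8, [nat_lit 8, nat_lit 0]), (nat_lit 715, nat_lit 3, (unp (nat_lit 2) (nat_lit 0x2203))), (nat_lit 771, nat_lit 6, [nat_lit 2, nat_lit 0]), (nat_lit 773, nat_lit 4, [nat_lit 2, nat_lit 8]), (nat_lit 1029, nat_lit 7, [nat_lit 2, nat_lit 2]), (nat_lit 1032, nat_lit 2, [nat_lit 2]), (nat_lit 1052, nat_lit 5, [nat_lit 8])]⟩]⟩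

noncomputable def d3_18 : Nd :=
  ⟨nat_lit 125, nat_lit 960, [(nat_lit 557, (unp (nat_lit 4) (nat_lit 0x822004)))], [⟨nat_lit 0, [nat_lit 0], (nat_lit 0x7efdfbf7efdf817efdfbf7efdfbf7efdfbf7efdfbf7efdfbf7efdf80), nat_lit 2⟩],
  [⟨[nat_lit 0], (nat_lit 0x210840000000), [(nat_lit 126, nat_lit 0, []), (nat_lit 694, nat_lit 1, [nat_lit 3]), (nat_lit 701, nat_lit 5, [nat_lit 8]), (nat_lit 728, nat_lit 4, [nat_lit 2, nat_lit 8]), (nat_lit 998, nat_lit 2, [nat_lit 2]), (nat_lit 1070, nat_lit 3, (unp (nat_lit 2) (nat_lit 0x2203)))]⟩]⟩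

noncomputable def d3_19 : Nd :=
  ⟨nat_lit 135, nat_lit 1920, [], [],
  [⟨[], (nat_lit 0), [(nat_lit 136, nat_lit 0, []), (nat_lit 678, nat_lit 9, (unp (nat_lit 2) (nat_lit 0x3203))), (nat_lit 559, nat_lit 2, [nat_lit 2]), (nat_lit 560, nat_lit 6, [nat_lit 2, nat_lit 0]), (nat_lit 587, nat_lit 8, [nat_lit 8, nat_lit 0]), (nat_lit 562, nat_lit 3, (unp (nat_lit 2) (nat_lit 0x2203))), (nat_lit 606, nat_lit 4, [nat_lit 2, nat_lit 8]), (nat_lit 791, nat_lit 1, [nat_lit 3]), (nat_lit 1051, nat_lit 7, [nat_lit 2, nat_lit 2]), (nat_lit 1055, nat_lit 5, [nat_lit 8])]⟩]⟩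

noncomputable def d3_20 : Nd :=
  ⟨nat_lit 138, nat_lit 1920, [], [],
  [⟨[], (nat_lit 0), [(nat_lit 139, nat_lit 0, []), (nat_lit 140, nat_lit 6, [nat_lit 2, nat_lit 0]), (nat_lit 1093, nat_lit 9, (unp (nat_lit 2) (nat_lit 0x3203))), (nat_lit 627, nat_lit 2, [nat_lit 2]), (nat_lit 326, nat_lit 4, [nat_lit 2, nat_lit 8]), (nat_lit 616, nat_lit 5, [nat_lit 8]), (nat_lit 620, nat_lit 3, (unp (nat_lit 2) (nat_lit 0x2203))), (nat_lit 642, nat_lit 7, [nat_lit 2, nat_lit 2]), (nat_lit 685, nat_lit 8, [nat_lit 8, nat_lit 0]), (nat_lit 759, nat_lit 1, [nat_lit 3])]⟩]⟩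

noncomputable def d3_21 : Nd :=
  ⟨nat_lit 142, nat_lit 960, [(nat_lit 145, (unp (nat_lit 4) (nat_lit 0xc9822006)))], [⟨nat_lit 0, [nat_lit 0], (nat_lit 0x7efdfbf7efdf817efdfbf7efdfbf7efdfbf7efdfbf7efdfbf7efdf80), nat_lit 2⟩],
  [⟨[nat_lit 0], (nat_lit 0x840008400), [(nat_lit 143, nat_lit 0, []), (nat_lit 146, nat_lit 1, [nat_lit 3]), (nat_lit 149, nat_lit 4, [nat_lit 2, nat_lit 8]), (nat_lit 684, nat_lit 9, (unp (nat_lit 2) (nat_lit 0x3203))), (nat_lit 518, nat_lit 8, [nat_lit 8, nat_lit 0]), (nat_lit 578, nat_lit 5, [nat_lit 8])]⟩]⟩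

noncomputable def d3_22 : Nd :=
  ⟨nat_lit 146, nat_lit 960, [(nat_lit 147, (unp (nat_lit 4) (nat_lit 0xccaa9948020a)))], [⟨nat_lit 0, [nat_lit 0], (nat_lit 0x7efdfbf7efdfbf7efdfbf7efdfbf7efdfbf7efc0bf7efdfbf7efdf80), nat_lit 2⟩],
  [⟨[nat_lit 0], (nat_lit 0x10042000020), [(nat_lit 148, nat_lit 0, []), (nat_lit 153, nat_lit 9, (unp (nat_lit 2) (nat_lit 0x3203))), (nat_lit 257, nat_lit 3, (unp (nat_lit 2) (nat_lit 0x2203))), (nat_lit 581, nat_lit 2, [nat_lit 2]), (nat_lit 574, nat_lit 7, [nat_lit 2, nat_lit 2]), (nat_lit 1046, nat_lit 4, [nat_lit 2, nat_lit 8])]⟩]⟩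

noncomputable def d3_23 : Nd :=
  ⟨nat_lit 149, nat_lit 960, [(nat_lit 150, [nat_lit 10, nat_lit 12])], [⟨nat_lit 2, [nat_lit 0], (nat_lit 0x7efdfbf7efdfbf7efdfbf7efdfbf7efdfbf7efdfbf02fdfbf7e01fbf), nat_lit 2⟩],
  [⟨[nat_lit 0], (nat_lit 0x42100020), [(nat_lit 151, nat_lit 0, []), (nat_lit 152, nat_lit 9, (unp (nat_lit 2) (nat_lit 0x3203))), (nat_lit 767, nat_lit 7, [nat_lit 2, nat_lit 2]), (nat_lit 1049, nat_lit 3, (unp (nat_lit 2) (nat_lit 0x2203))), (nat_lit 639, nat_lit 2, [nat_lit 2]), (nat_lit 547, nat_lit 8, [nat_lit 8, nat_lit 0])]⟩]⟩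

noncomputable def d3_24 : Nd :=
  ⟨nat_lit 162, nat_lit 1920, [], [],
  [⟨[], (nat_lit 0), [(nat_lit 163, nat_lit 0, []), (nat_lit 164, nat_lit 4, [nat_lit 2, nat_lit 8]), (nat_lit 586, nat_lit 9, (unp (nat_lit 2) (nat_lit 0x3203))), (nat_lit 619, nat_lit 6, [nat_lit 2, nat_lit 0]), (nat_lit 667, nat_lit 5, [nat_lit 8]), (nat_lit 676, nat_lit 2, [nat_lit 2]), (nat_lit 747, nat_lit 8, [nat_lit 8, nat_lit 0]), (nat_lit 769, nat_lit 1, [nat_lit 3]), (nat_lit 1059, nat_lit 7, [nat_lit 2, nat_lit 2]), (nat_lit 1086, nat_lit 3, (unp (nat_lit 2) (nat_lit 0x2203)))]⟩]⟩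

noncomputable def d3_25 : Nd :=
  ⟨nat_lit 176, nat_lit 960, [(nat_lit 539, (unp (nat_lit 4) (nat_lit 0xa9402206)))], [⟨nat_lit 0, [nat_lit 0], (nat_lit 0x7efdfbf7efdfbf7efdfbf7efdfbf7efdfbf7efdfbf7efdf817efdf80), nat_lit 2⟩],
  [⟨[nat_lit 0], (nat_lit 0x200800000420), [(nat_lit 177, nat_lit 0, []), (nat_lit 575, nat_lit 4, [nat_lit 2, nat_lit 8]), (nat_lit 1094, nat_lit 8, [nat_lit 8, nat_lit 0]), (nat_lit 598, nat_lit 3, (unp (nat_lit 2) (nat_lit 0x2203))), (nat_lit 739, nat_lit 5, [nat_lit 8]), (nat_lit 1031, nat_lit 6, [nat_lit 2, nat_lit 0])]⟩]⟩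

noncomputable def d3_26 : Nd :=
  ⟨nat_lit 186, nat_lit 1920, [], [],
  [⟨[], (nat_lit 0), [(nat_lit 187, nat_lit 0, []), (nat_lit 188, nat_lit 2, [nat_lit 2]), (nat_lit 205, nat_lit 9, (unp (nat_lit 2) (nat_lit 0x3203))), (nat_lit 579, nat_lit 6, [nat_lit 2, nat_lit 0]), (nat_lit 548, nat_lit 3, (unp (nat_lit 2) (nat_lit 0x2203))), (nat_lit 571, nat_lit 7, [nat_lit 2, nat_lit 2]), (nat_lit 641, nat_lit 5, [nat_lit 8]), (nat_lit 698, nat_lit 4, [nat_lit 2, nat_lit 8]), (nat_lit 907, nat_lit 1, [nat_lit 3]), (nat_lit 1074, nat_lit 8, [nat_lit 8, nat_lit 0])]⟩]⟩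

noncomputable def d3_27 : Nd :=
  ⟨nat_lit 200, nat_lit 960, [(nat_lit 649, (unp (nat_lit 4) (nat_lit 0xa902205)))], [⟨nat_lit 0, [nat_lit 0], (nat_lit 0x7efdfbf7efdfbf7efdfbf7efdfbf7efdfbf7efdfbf7efdf817efdf80), nat_lit 2⟩],
  [⟨[nat_lit 0], (nat_lit 0x40108020), [(nat_lit 201, nat_lit 0, []), (nat_lit 228, nat_lit 9, (unp (nat_lit 2) (nat_lit 0x3203))), (nat_lit 628, nat_lit 8, [nat_lit 8, nat_lit 0]), (nat_lit 595, nat_lit 7, [nat_lit 2, nat_lit 2]), (nat_lit 629, nat_lit 2, [nat_lit 2]), (nat_lit 762, nat_lit 5, [nat_lit 8])]⟩]⟩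

noncomputable def d3_28 : Nd :=
  ⟨nat_lit 202, nat_lit 960, [(nat_lit 532, (unp (nat_lit 4) (nat_lit 0xa02804)))], [⟨nat_lit 0, [nat_lit 0], (nat_lit 0x7efdf817efdfbf7efdfbf7efdfbf7efdfbf7efdfbf7efdfbf7efdf80), nat_lit 2⟩],
  [⟨[nat_lit 0], (nat_lit 0x42000420), [(nat_lit 203, nat_lit 0, []), (nat_lit 204, nat_lit 9, (unp (nat_lit 2) (nat_lit 0x3203))), (nat_lit 611, nat_lit 7, [nat_lit 2, nat_lit 2]), (nat_lit 774, nat_lit 3, (unp (nat_lit 2) (nat_lit 0x2203))), (nat_lit 1037, nat_lit 8, [nat_lit 8, nat_lit 0]), (nat_lit 1061, nat_lit 4, [nat_lit 2, nat_lit 8])]⟩]⟩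

noncomputable def d3_29 : Nd :=
  ⟨nat_lit 208, nat_lit 1920, [], [],
  [⟨[], (nat_lit 0), [(nat_lit 209, nat_lit 0, []), (nat_lit 210, nat_lit 1, [nat_lit 3]), (nat_lit 232, nat_lit 9, (unp (nat_lit 2) (nat_lit 0x3203))), (nat_lit 282, nat_lit 5, [nat_lit 8]), (nat_lit 708, nat_lit 4, [nat_lit 2, nat_lit 8]), (nat_lit 589, nat_lit 2, [nat_lit 2]), (nat_lit 552, nat_lit 6, [nat_lit 2, nat_lit 0]), (nat_lit 608, nat_lit 7, [nat_lit 2, nat_lit 2]), (nat_lit 672, nat_lit 3, (unp (nat_lit 2) (nat_lit 0x2203))), (nat_lit 1008, nat_lit 8, [nat_lit 8, nat_lit 0])]⟩]⟩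

noncomputable def d3_30 : Nd :=
  ⟨nat_lit 225, nat_lit 1920, [], [],
  [⟨[], (nat_lit 0), [(nat_lit 226, nat_lit 0, []), (nat_lit 227, nat_lit 9, (unp (nat_lit 2) (nat_lit 0x3203))), (nat_lit 583, nat_lit 4, [nat_lit 2, nat_lit 8]), (nat_lit 584, nat_lit 1, [nat_lit 3]), (nat_lit 596, nat_lit 8, [nat_lit 8, nat_lit 0]), (nat_lit 601, nat_lit 2, [nat_lit 2]), (nat_lit 645, nat_lit 5, [nat_lit 8]), (nat_lit 675, nat_lit 6, [nat_lit 2, nat_lit 0]), (nat_lit 714, nat_lit 7, [nat_lit 2, nat_lit 2]), (nat_lit 995, nat_lit 3, (unp (nat_lit 2) (nat_lit 0x2203)))]⟩]⟩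

noncomputable def d3_31 : Nd :=
  ⟨nat_lit 229, nat_lit 960, [(nat_lit 450, (unp (nat_lit 4) (nat_lit 0xaa02005)))], [⟨nat_lit 0, [nat_lit 0], (nat_lit 0x7efdfbf7efdfbf7efdfbf7efdfbf7efdfbf7efdfbf7efdfbf02fdf80), nat_lit 2⟩],
  [⟨[nat_lit 0], (nat_lit 0x800108020), [(nat_lit 230, nat_lit 0, []), (nat_lit 231, nat_lit 9, (unp (nat_lit 2) (nat_lit 0x3203))), (nat_lit 637, nat_lit 8, [nat_lit 8, nat_lit 0]), (nat_lit 550, nat_lit 5, [nat_lit 8]), (nat_lit 785, nat_lit 2, [nat_lit 2]), (nat_lit 794, nat_lit 6, [nat_lit 2, nat_lit 0])]⟩]⟩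

noncomputable def d3_32 : Nd :=
  ⟨nat_lit 238, nat_lit 960, [(nat_lit 239, (unp (nat_lit 4) (nat_lit 0xca003)))], [⟨nat_lit 0, [nat_lit 0], (nat_lit 0x7efdfbf7efdfbf7efdfbf7efdfbf7efdfbf7efdfbf7efdfbf7efc080), nat_lit 2⟩],
  [⟨[nat_lit 0], (nat_lit 0x10040108000), [(nat_lit 600, nat_lit 0, []), (nat_lit 245, nat_lit 9, (unp (nat_lit 2) (nat_lit 0x3203))), (nat_lit 602, nat_lit 1, [nat_lit 3]), (nat_lit 647, nat_lit 5, [nat_lit 8]), (nat_lit 665, nat_lit 7, [nat_lit 2, nat_lit 2]), (nat_lit 780, nat_lit 2, [nat_lit 2])]⟩]⟩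

noncomputable def d3_33 : Nd :=
  ⟨nat_lit 241, nat_lit 192, [(nat_lit 242, (unp (nat_lit 4) (nat_lit 0xcc948306))), (nat_lit 653, (unp (nat_lit 4) (nat_lit 0xcca99482809)))], [⟨nat_lit 0, [nat_lit 0, nat_lit 1], (nat_lit 0xa05fbf7efdfbf7e09fbf0805fbf7efdfbf7e0823f7e0c1bf7efdf80), nat_lit 10⟩],
  [⟨[nat_lit 0, nat_lit 1], (nat_lit 0x208c4408c80), [(nat_lit 702, nat_lit 0, []), (nat_lit 244, nat_lit 9, (unp (nat_lit 2) (nat_lit 0x3203)))]⟩]⟩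

noncomputable def d3_34 : Nd :=
  ⟨nat_lit 254, nat_lit 1920, [], [],
  [⟨[], (nat_lit 0), [(nat_lit 255, nat_lit 0, []), (nat_lit 256, nat_lit 8, [nat_lit 8, nat_lit 0]), (nat_lit 265, nat_lit 9, (unp (nat_lit 2) (nat_lit 0x3203))), (nat_lit 594, nat_lit 4, [nat_lit 2, nat_lit 8]), (nat_lit 567, nat_lit 5, [nat_lit 8]), (nat_lit 605, nat_lit 1, [nat_lit 3]), (nat_lit 905, nat_lit 7, [nat_lit 2, nat_lit 2]), (nat_lit 931, nat_lit 2, [nat_lit 2]), (nat_lit 1017, nat_lit 3, (unp (nat_lit 2) (nat_lit 0x2203))), (nat_lit 1080, nat_lit 6, [nat_lit 2, nat_lit 0])]⟩]⟩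

noncomputable def d3_35 : Nd :=
  ⟨nat_lit 258, nat_lit 960, [(nat_lit 632, (unp (nat_lit 4) (nat_lit 0xccaa02007)))], [⟨nat_lit 0, [nat_lit 0], (nat_lit 0x7efdfbf7efdfbf7efdfbf7efdfbf7efdfbf7efdfbf7efdfbf02fdf80), nat_lit 2⟩],
  [⟨[nat_lit 0], (nat_lit 0x10000100420), [(nat_lit 259, nat_lit 0, []), (nat_lit 269, nat_lit 9, (unp (nat_lit 2) (nat_lit 0x3203))), (nat_lit 599, nat_lit 6, [nat_lit 2, nat_lit 0]), (nat_lit 614, nat_lit 5, [nat_lit 8]), (nat_lit 805, nat_lit 3, (unp (nat_lit 2) (nat_lit 0x2203))), (nat_lit 880, nat_lit 7, [nat_lit 2, nat_lit 2])]⟩]⟩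

noncomputable def d3_36 : Nd :=
  ⟨nat_lit 260, nat_lit 1920, [], [],
  [⟨[], (nat_lit 0), [(nat_lit 261, nat_lit 0, []), (nat_lit 633, nat_lit 9, (unp (nat_lit 2) (nat_lit 0x3203))), (nat_lit 580, nat_lit 2, [nat_lit 2]), (nat_lit 604, nat_lit 6, [nat_lit 2, nat_lit 0]), (nat_lit 617, nat_lit 5, [nat_lit 8]), (nat_lit 646, nat_lit 3, (unp (nat_lit 2) (nat_lit 0x2203))), (nat_lit 659, nat_lit 1, [nat_lit 3]), (nat_lit 679, nat_lit 8, [nat_lit 8, nat_lit 0]), (nat_lit 782, nat_lit 7, [nat_lit 2, nat_lit 2]), (nat_lit 888, nat_lit 4, [nat_lit 2, nat_lit 8])]⟩]⟩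

noncomputable def d3_37 : Nd :=
  ⟨nat_lit 262, nat_lit 960, [(nat_lit 650, (unp (nat_lit 4) (nat_lit 0xa902205)))], [⟨nat_lit 0, [nat_lit 0], (nat_lit 0x7efdfbf7efdfbf7efdfbf7efdfbf7efdfbf7efdfbf7efdf817efdf80), nat_lit 2⟩],
  [⟨[nat_lit 0], (nat_lit 0x40100420), [(nat_lit 263, nat_lit 0, []), (nat_lit 264, nat_lit 9, (unp (nat_lit 2) (nat_lit 0x3203))), (nat_lit 623, nat_lit 3, (unp (nat_lit 2) (nat_lit 0x2203))), (nat_lit 624, nat_lit 7, [nat_lit 2, nat_lit 2]), (nat_lit 625, nat_lit 5, [nat_lit 8]), (nat_lit 766, nat_lit 8, [nat_lit 8, nat_lit 0])]⟩]⟩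

noncomputable def d3_38 : Nd :=
  ⟨nat_lit 266, nat_lit 960, [(nat_lit 636, (unp (nat_lit 4) (nat_lit 0xcc99402208)))], [⟨nat_lit 0, [nat_lit 0], (nat_lit 0x7efdfbf7efdfbf7efdfbf7efdfbf7efdfbf7efdfbf7efdf817efdf80), nat_lit 2⟩],
  [⟨[nat_lit 0], (nat_lit 0x840108000), [(nat_lit 267, nat_lit 0, []), (nat_lit 268, nat_lit 9, (unp (nat_lit 2) (nat_lit 0x3203))), (nat_lit 607, nat_lit 1, [nat_lit 3]), (nat_lit 706, nat_lit 5, [nat_lit 8]), (nat_lit 793, nat_lit 2, [nat_lit 2]), (nat_lit 889, nat_lit 8, [nat_lit 8, nat_lit 0])]⟩]⟩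

noncomputable def d3_39 : Nd :=
  ⟨nat_lit 279, nat_lit 1920, [], [],
  [⟨[], (nat_lit 0), [(nat_lit 280, nat_lit 0, []), (nat_lit 281, nat_lit 6, [nat_lit 2, nat_lit 0]), (nat_lit 657, nat_lit 9, (unp (nat_lit 2) (nat_lit 0x3203))), (nat_lit 464, nat_lit 3, (unp (nat_lit 2) (nat_lit 0x2203))), (nat_lit 465, nat_lit 7, [nat_lit 2, nat_lit 2]), (nat_lit 658, nat_lit 5, [nat_lit 8]), (nat_lit 668, nat_lit 4, [nat_lit 2, nat_lit 8]), (nat_lit 749, nat_lit 1, [nat_lit 3]), (nat_lit 886, nat_lit 8, [nat_lit 8, nat_lit 0]), (nat_lit 1006, nat_lit 2, [nat_lit 2])]⟩]⟩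

noncomputable def d3_40 : Nd :=
  ⟨nat_lit 287, nat_lit 960, [(nat_lit 670, (unp (nat_lit 4) (nat_lit 0xa02804)))], [⟨nat_lit 0, [nat_lit 0], (nat_lit 0x7efdf817efdfbf7efdfbf7efdfbf7efdfbf7efdfbf7efdfbf7efdf80), nat_lit 2⟩],
  [⟨[nat_lit 0], (nat_lit 0x42000420), [(nat_lit 288, nat_lit 0, []), (nat_lit 901, nat_lit 9, (unp (nat_lit 2) (nat_lit 0x3203))), (nat_lit 666, nat_lit 4, [nat_lit 2, nat_lit 8]), (nat_lit 674, nat_lit 8, [nat_lit 8, nat_lit 0]), (nat_lit 898, nat_lit 3, (unp (nat_lit 2) (nat_lit 0x2203))), (nat_lit 908, nat_lit 7, [nat_lit 2, nat_lit 2])]⟩]⟩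

noncomputable def d3_41 : Nd :=
  ⟨nat_lit 294, nat_lit 1920, [], [],
  [⟨[], (nat_lit 0), [(nat_lit 295, nat_lit 0, []), (nat_lit 681, nat_lit 9, (unp (nat_lit 2) (nat_lit 0x3203))), (nat_lit 673, nat_lit 2, [nat_lit 2]), (nat_lit 680, nat_lit 8, [nat_lit 8, nat_lit 0]), (nat_lit 683, nat_lit 6, [nat_lit 2, nat_lit 0]), (nat_lit 686, nat_lit 5, [nat_lit 8]), (nat_lit 789, nat_lit 4, [nat_lit 2, nat_lit 8]), (nat_lit 802, nat_lit 1, [nat_lit 3]), (nat_lit 826, nat_lit 7, [nat_lit 2, nat_lit 2]), (nat_lit 1048, nat_lit 3, (unp (nat_lit 2) (nat_lit 0x2203)))]⟩]⟩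

noncomputable def d3_42 : Nd :=
  ⟨nat_lit 296, nat_lit 120, [(nat_lit 690, (unp (nat_lit 4) (nat_lit 0xcc9404))), (nat_lit 696, (unp (nat_lit 4) (nat_lit 0xaa99405))), (nat_lit 565, (unp (nat_lit 4) (nat_lit 0x9940305))), (nat_lit 479, (unp (nat_lit 4) (nat_lit 0xa99822807)))], [⟨nat_lit 0, [nat_lit 2, nat_lit 3], (nat_lit 0x2fdfbf7efc13f7efdfbf7efdfbf7efc0bf7efdfbf7efdfbf7efdf80), nat_lit 4⟩, ⟨nat_lit 1, [nat_lit 0, nat_lit 1], (nat_lit 0x7efdfbf7efdfbf7efdfbf7efdfbf7efdfbf7efdfbf02fdf827e0403f), nat_lit 4⟩],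
  [⟨(unp (nat_lit 2) (nat_lit 0x2403)), (nat_lit 0x230804210020), [(nat_lit 297, nat_lit 0, []), (nat_lit 717, nat_lit 2, [nat_lit 2]), (nat_lit 729, nat_lit 6, [nat_lit 2, nat_lit 0])]⟩]⟩

noncomputable def d3_43 : Nd :=
  ⟨nat_lit 319, nat_lit 1920, [], [],
  [⟨[], (nat_lit 0), [(nat_lit 320, nat_lit 0, []), (nat_lit 336, nat_lit 9, (unp (nat_lit 2) (nat_lit 0x3203))), (nat_lit 609, nat_lit 1, [nat_lit 3]), (nat_lit 630, nat_lit 2, [nat_lit 2]), (nat_lit 640, nat_lit 7, [nat_lit 2, nat_lit 2]), (nat_lit 643, nat_lit 8, [nat_lit 8, nat_lit 0]), (nat_lit 644, nat_lit 6, [nat_lit 2, nat_lit 0]), (nat_lit 677, nat_lit 5, [nat_lit 8]), (nat_lit 682, nat_lit 4, [nat_lit 2, nat_lit 8]), (nat_lit 1088, nat_lit 3, (unp (nat_lit 2) (nat_lit 0x2203)))]⟩]⟩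

noncomputable def d3_44 : Nd :=
  ⟨nat_lit 321, nat_lit 1920, [], [],
  [⟨[], (nat_lit 0), [(nat_lit 322, nat_lit 0, []), (nat_lit 475, nat_lit 9, (unp (nat_lit 2) (nat_lit 0x3203))), (nat_lit 325, nat_lit 5, [nat_lit 8]), (nat_lit 697, nat_lit 1, [nat_lit 3]), (nat_lit 699, nat_lit 3, (unp (nat_lit 2) (nat_lit 0x2203))), (nat_lit 700, nat_lit 7, [nat_lit 2, nat_lit 2]), (nat_lit 761, nat_lit 8, [nat_lit 8, nat_lit 0]), (nat_lit 903, nat_lit 4, [nat_lit 2, nat_lit 8]), (nat_lit 1015, nat_lit 6, [nat_lit 2, nat_lit 0]), (nat_lit 1065, nat_lit 2, [nat_lit 2])]⟩]⟩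

noncomputable def d3_45 : Nd :=
  ⟨nat_lit 333, nat_lit 480, [(nat_lit 663, (unp (nat_lit 4) (nat_lit 0xccb80206))), (nat_lit 661, (unp (nat_lit 4) (nat_lit 0xccaa99403380b)))], [⟨nat_lit 0, [nat_lit 0, nat_lit 1], (nat_lit 0x7efdfbf7efdfbf7e05fbf04fdfbf7efdfbf7efc0bf7efdfbf7efdf80), nat_lit 4⟩],
  [⟨[nat_lit 0, nat_lit 1], (nat_lit 0x11042010400), [(nat_lit 334, nat_lit 0, []), (nat_lit 335, nat_lit 9, (unp (nat_lit 2) (nat_lit 0x3203))), (nat_lit 740, nat_lit 1, [nat_lit 3]), (nat_lit 750, nat_lit 4, [nat_lit 2, nat_lit 8])]⟩]⟩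

noncomputable def d3_46 : Nd :=
  ⟨nat_lit 352, nat_lit 960, [(nat_lit 613, (unp (nat_lit 4) (nat_lit 0xa8203)))], [⟨nat_lit 0, [nat_lit 0], (nat_lit 0x7efdfbf7efdfbf7efdfbf7efdfbf7e05fbf7efdfbf7efdfbf7efdf80), nat_lit 2⟩],
  [⟨[nat_lit 0], (nat_lit 0x40100420), [(nat_lit 353, nat_lit 0, []), (nat_lit 360, nat_lit 9, (unp (nat_lit 2) (nat_lit 0x3203))), (nat_lit 612, nat_lit 7, [nat_lit 2, nat_lit 2]), (nat_lit 778, nat_lit 3, (unp (nat_lit 2) (nat_lit 0x2203))), (nat_lit 784, nat_lit 5, [nat_lit 8]), (nat_lit 1078, nat_lit 8, [nat_lit 8, nat_lit 0])]⟩]⟩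

noncomputable def d3_47 : Nd :=
  ⟨nat_lit 357, nat_lit 960, [(nat_lit 705, (unp (nat_lit 4) (nat_lit 0xca9904)))], [⟨nat_lit 1, [nat_lit 0], (nat_lit 0x7efdfbf7efdfbf7efdfbf7efdfbf7efdfbf7efdfbf7efdf817efc03f), nat_lit 2⟩],
  [⟨[nat_lit 0], (nat_lit 0x10802100000), [(nat_lit 358, nat_lit 0, []), (nat_lit 359, nat_lit 9, (unp (nat_lit 2) (nat_lit 0x3203))), (nat_lit 707, nat_lit 6, [nat_lit 2, nat_lit 0]), (nat_lit 716, nat_lit 3, (unp (nat_lit 2) (nat_lit 0x2203))), (nat_lit 893, nat_lit 2, [nat_lit 2]), (nat_lit 1026, nat_lit 1, [nat_lit 3])]⟩]⟩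

noncomputable def d3_48 : Nd :=
  ⟨nat_lit 402, nat_lit 960, [(nat_lit 591, (unp (nat_lit 4) (nat_lit 0xb99804)))], [⟨nat_lit 0, [nat_lit 0], (nat_lit 0x7efdfbf7efdfbf7efdfbf7efdfbf7efdfbf7efdf817efdfbf7efdf80), nat_lit 2⟩],
  [⟨[nat_lit 0], (nat_lit 0x40100420), [(nat_lit 403, nat_lit 0, []), (nat_lit 414, nat_lit 9, (unp (nat_lit 2) (nat_lit 0x3203))), (nat_lit 713, nat_lit 8, [nat_lit 8, nat_lit 0]), (nat_lit 804, nat_lit 3, (unp (nat_lit 2) (nat_lit 0x2203))), (nat_lit 997, nat_lit 5, [nat_lit 8]), (nat_lit 1067, nat_lit 7, [nat_lit 2, nat_lit 2])]⟩]⟩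

noncomputable def d3_49 : Nd :=
  ⟨nat_lit 411, nat_lit 192, [(nat_lit 592, (unp (nat_lit 4) (nat_lit 0xccaa04))), (nat_lit 710, (unp (nat_lit 4) (nat_lit 0xccaa990208)))], [⟨nat_lit 0, [nat_lit 0, nat_lit 1], (nat_lit 0x7efdfbf7efdfbf7efdfbf7efdfbf7efc13f7efdf847efc1bf7e05f80), nat_lit 5⟩, ⟨nat_lit 2, [nat_lit 0], (nat_lit 0x7efdfbf7efdfbf7efdfbf7efdfbf7efc0bf7efdfbf7efdfbf7e01fbf), nat_lit 2⟩],
  [⟨[nat_lit 0, nat_lit 1], (nat_lit 0x208c4408c80), [(nat_lit 412, nat_lit 0, []), (nat_lit 413, nat_lit 9, (unp (nat_lit 2) (nat_lit 0x3203)))]⟩]⟩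

noncomputable def d3_50 : Nd :=
  ⟨nat_lit 717, nat_lit 120, [(nat_lit 721, [nat_lit 0]), (nat_lit 719, (unp (nat_lit 4) (nat_lit 0xcc9483007))), (nat_lit 723, (unp (nat_lit 4) (nat_lit 0xa99822807))), (nat_lit 718, (unp (nat_lit 4) (nat_lit 0xccaa99020420b)))], [⟨nat_lit 0, (unp (nat_lit 2) (nat_lit 0xe404)), (nat_lit 0x20c13f04fdfbf7efdfbf040808208fdfbf020c1837efc13f7efc080), nat_lit 16⟩],
  [⟨(unp (nat_lit 2) (nat_lit 0x3403)), (nat_lit 0x200c2108840), [(nat_lit 726, nat_lit 0, []), (nat_lit 727, nat_lit 7, [nat_lit 2, nat_lit 2]), (nat_lit 737, nat_lit 9, (unp (nat_lit 2) (nat_lit 0x3203)))]⟩]⟩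

noncomputable def d3_51 : Nd :=
  ⟨nat_lit 729, nat_lit 120, [(nat_lit 730, [nat_lit 11, nat_lit 12]), (nat_lit 731, [nat_lit 10, nat_lit 12]), (nat_lit 732, [nat_lit 0]), (nat_lit 733, (unp (nat_lit 4) (nat_lit 0xaa9484807)))], [⟨nat_lit 0, [nat_lit 2, nat_lit 3], (nat_lit 0x4fc0bf7efdfbf7efdfbf7efdfbf7efdfbf7efdfbf7efdfbf7efc080), nat_lit 4⟩, ⟨nat_lit 2, [nat_lit 0, nat_lit 1], (nat_lit 0x7efdfbf7efdfbf7efdfbf7efdfbf7efc13f7efdfbf02fdf817e01fbf), nat_lit 4⟩],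
  [⟨(unp (nat_lit 2) (nat_lit 0x2403)), (nat_lit 0x30084208420), [(nat_lit 735, nat_lit 0, []), (nat_lit 736, nat_lit 9, (unp (nat_lit 2) (nat_lit 0x3203))), (nat_lit 738, nat_lit 7, [nat_lit 2, nat_lit 2])]⟩]⟩

noncomputable def d3_52 : Nd :=
  ⟨nat_lit 740, nat_lit 480, [(nat_lit 741, [nat_lit 11, nat_lit 12]), (nat_lit 742, [nat_lit 10, nat_lit 12])], [⟨nat_lit 2, [nat_lit 0, nat_lit 1], (nat_lit 0x7efdfbf7efdfbf7efdfbf7efdfbf7efc13f7efdfbf02fdf817e01fbf), nat_lit 4⟩],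
  [⟨[nat_lit 0, nat_lit 1], (nat_lit 0x842110800), [(nat_lit 743, nat_lit 0, []), (nat_lit 746, nat_lit 1, [nat_lit 3]), (nat_lit 748, nat_lit 8, [nat_lit 8, nat_lit 0]), (nat_lit 756, nat_lit 9, (unp (nat_lit 2) (nat_lit 0x3203)))]⟩]⟩

noncomputable def d3_53 : Nd :=
  ⟨nat_lit 750, nat_lit 480, [(nat_lit 751, (unp (nat_lit 4) (nat_lit 0xccb9842808))), (nat_lit 752, (unp (nat_lit 4) (nat_lit 0xccaa9948020a)))], [⟨nat_lit 0, [nat_lit 0, nat_lit 1], (nat_lit 0x7efdfbf7efdfbf7efdfbf02fdfbf7efdfbf7e080bf7efdfbf7efdf80), nat_lit 4⟩],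
  [⟨[nat_lit 0, nat_lit 1], (nat_lit 0x11002110020), [(nat_lit 754, nat_lit 0, []), (nat_lit 755, nat_lit 9, (unp (nat_lit 2) (nat_lit 0x3203))), (nat_lit 758, nat_lit 2, [nat_lit 2]), (nat_lit 760, nat_lit 6, [nat_lit 2, nat_lit 0])]⟩]⟩

noncomputable def d3_54 : Nd :=
  ⟨nat_lit 762, nat_lit 960, [(nat_lit 763, (unp (nat_lit 4) (nat_lit 0xccaa9948020a)))], [⟨nat_lit 0, [nat_lit 0], (nat_lit 0x7efdfbf7efdfbf7efdfbf7efdfbf7efdfbf7efc0bf7efdfbf7efdf80), nat_lit 2⟩],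
  [⟨[nat_lit 0], (nat_lit 0x10002100020), [(nat_lit 764, nat_lit 0, []), (nat_lit 765, nat_lit 9, (unp (nat_lit 2) (nat_lit 0x3203))), (nat_lit 768, nat_lit 6, [nat_lit 2, nat_lit 0]), (nat_lit 770, nat_lit 3, (unp (nat_lit 2) (nat_lit 0x2203))), (nat_lit 772, nat_lit 2, [nat_lit 2]), (nat_lit 1035, nat_lit 7, [nat_lit 2, nat_lit 2])]⟩]⟩

noncomputable def d3_55 : Nd :=
  ⟨nat_lit 774, nat_lit 960, [(nat_lit 775, (unp (nat_lit 4) (nat_lit 0xcaa99822809)))], [⟨nat_lit 0, [nat_lit 0], (nat_lit 0x2fdfbf7efdfbf7efdfbf7efdfbf7efdfbf7efdfbf7efdfbf7efdf80), nat_lit 2⟩],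
  [⟨[nat_lit 0], (nat_lit 0x42100020), [(nat_lit 776, nat_lit 0, []), (nat_lit 777, nat_lit 9, (unp (nat_lit 2) (nat_lit 0x3203))), (nat_lit 779, nat_lit 2, [nat_lit 2]), (nat_lit 781, nat_lit 8, [nat_lit 8, nat_lit 0]), (nat_lit 783, nat_lit 3, (unp (nat_lit 2) (nat_lit 0x2203))), (nat_lit 1076, nat_lit 7, [nat_lit 2, nat_lit 2])]⟩]⟩

noncomputable def d3_56 : Nd :=
  ⟨nat_lit 785, nat_lit 960, [(nat_lit 786, [nat_lit 10, nat_lit 12])], [⟨nat_lit 2, [nat_lit 0], (nat_lit 0x7efdfbf7efdfbf7efdfbf7efdfbf7efdfbf7efdfbf02fdfbf7e01fbf), nat_lit 2⟩],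
  [⟨[nat_lit 0], (nat_lit 0x10800008400), [(nat_lit 787, nat_lit 0, []), (nat_lit 788, nat_lit 1, [nat_lit 3]), (nat_lit 790, nat_lit 5, [nat_lit 8]), (nat_lit 792, nat_lit 6, [nat_lit 2, nat_lit 0]), (nat_lit 798, nat_lit 9, (unp (nat_lit 2) (nat_lit 0x3203))), (nat_lit 800, nat_lit 4, [nat_lit 2, nat_lit 8])]⟩]⟩

noncomputable def d3_57 : Nd :=
  ⟨nat_lit 794, nat_lit 960, [(nat_lit 795, (unp (nat_lit 4) (nat_lit 0xcc9483007)))], [⟨nat_lit 0, [nat_lit 0], (nat_lit 0x7efdfbf7efdfbf7efdfbf7efc0bf7efdfbf7efdfbf7efdfbf7efdf80), nat_lit 2⟩],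
  [⟨[nat_lit 0], (nat_lit 0x42008400), [(nat_lit 796, nat_lit 0, []), (nat_lit 797, nat_lit 9, (unp (nat_lit 2) (nat_lit 0x3203))), (nat_lit 799, nat_lit 7, [nat_lit 2, nat_lit 2]), (nat_lit 801, nat_lit 8, [nat_lit 8, nat_lit 0]), (nat_lit 803, nat_lit 4, [nat_lit 2, nat_lit 8]), (nat_lit 1069, nat_lit 1, [nat_lit 3])]⟩]⟩

noncomputable def d3_58 : Nd :=
  ⟨nat_lit 805, nat_lit 320, [(nat_lit 811, [nat_lit 9, nat_lit 9]), (nat_lit 806, (unp (nat_lit 4) (nat_lit 0xcaa94828009)))], [⟨nat_lit 0, [nat_lit 1], (nat_lit 0x7efdfbf02fdfbf7efdfbf7efdfbf7efdfbf7efdfbf7efdfbf7efdf80), nat_lit 2⟩, ⟨nat_lit 1, [nat_lit 0], (nat_lit 0x7efdfbf7efdfbf7efdfbf7efdfbf7efc0bf7efdfbf7efdf827efc03f), nat_lit 3⟩],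
  [⟨[nat_lit 0, nat_lit 1], (nat_lit 0x20844008400), [(nat_lit 807, nat_lit 0, []), (nat_lit 812, nat_lit 1, [nat_lit 3]), (nat_lit 819, nat_lit 4, [nat_lit 2, nat_lit 8]), (nat_lit 884, nat_lit 9, (unp (nat_lit 2) (nat_lit 0x3203)))]⟩]⟩

noncomputable def d3_59 : Nd :=
  ⟨nat_lit 812, nat_lit 320, [(nat_lit 813, (unp (nat_lit 4) (nat_lit 0xccb998007))), (nat_lit 817, (unp (nat_lit 4) (nat_lit 0xcc99828008)))], [⟨nat_lit 0, [nat_lit 0, nat_lit 1], (nat_lit 0x4fdfbf02fdfbf7efdfbf7efdfbf7efdfbf0209fbf7efc13f7efdf80), nat_lit 6⟩],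
  [⟨[nat_lit 0, nat_lit 1], (nat_lit 0x20844008400), [(nat_lit 815, nat_lit 0, []), (nat_lit 824, nat_lit 9, (unp (nat_lit 2) (nat_lit 0x3203))), (nat_lit 990, nat_lit 1, [nat_lit 3]), (nat_lit 1000, nat_lit 4, [nat_lit 2, nat_lit 8])]⟩]⟩

noncomputable def d3_60 : Nd :=
  ⟨nat_lit 819, nat_lit 640, [(nat_lit 820, (unp (nat_lit 4) (nat_lit 0xc9483406)))], [⟨nat_lit 0, [nat_lit 0], (nat_lit 0x7efdfbf7efdfbf7efdfbf7efdf827efdfbf7efdf817efdfbf7efdf80), nat_lit 3⟩],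
  [⟨[nat_lit 0], (nat_lit 0x1040010400), [(nat_lit 822, nat_lit 0, []), (nat_lit 823, nat_lit 9, (unp (nat_lit 2) (nat_lit 0x3203))), (nat_lit 825, nat_lit 1, [nat_lit 3]), (nat_lit 827, nat_lit 5, [nat_lit 8]), (nat_lit 828, nat_lit 8, [nat_lit 8, nat_lit 0]), (nat_lit 1044, nat_lit 4, [nat_lit 2, nat_lit 8])]⟩]⟩

noncomputable def d3_61 : Nd :=
  ⟨nat_lit 828, nat_lit 80, [(nat_lit 829, (unp (nat_lit 4) (nat_lit 0xcca03))), (nat_lit 836, (unp (nat_lit 4) (nat_lit 0xc9982206)))], [⟨nat_lit 0, [nat_lit 0, nat_lit 1], (nat_lit 0x7efdfbf02fdfbf0611f847efdfbf7efc1bf7efc13f7efc13f7efdf80), nat_lit 8⟩, ⟨nat_lit 2, [nat_lit 0], (nat_lit 0x7efdfbf7efdfbf7efdfbf7efdfbf7efdfbf7efdfbf04fdf817e01fbf), nat_lit 3⟩],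
  [⟨[nat_lit 0, nat_lit 1], (nat_lit 0x622008208060), [(nat_lit 831, nat_lit 0, []), (nat_lit 834, nat_lit 6, [nat_lit 2, nat_lit 0]), (nat_lit 837, nat_lit 2, [nat_lit 2])]⟩]⟩

noncomputable def d3_62 : Nd :=
  ⟨nat_lit 837, nat_lit 10, [(nat_lit 838, [nat_lit 12, nat_lit 12]), (nat_lit 854, [nat_lit 9, nat_lit 12]), (nat_lit 841, (unp (nat_lit 4) (nat_lit 0xcca9482808)))], [⟨nat_lit 0, (unp (nat_lit 2) (nat_lit 0x2403)), (nat_lit 0x60dfbf7efdf84061023f0405fbf0615f847efc1027e0dfbf7e15f80), nat_lit 16⟩, ⟨nat_lit 1, [nat_lit 0, nat_lit 1], (nat_lit 0x7efdfbf7efdfbf7efdfbf7efdfbf7efc0bf7efdfbf06fdf827efc03f), nat_lit 4⟩, ⟨nat_lit 4, [nat_lit 0], (nat_lit 0x7efdfbf7efdfbf7efdfbf7efdfbf7efc13f7efdfbf02fdf807efdfbf), nat_lit 3⟩],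
  [⟨[nat_lit 1, nat_lit 2], (nat_lit 0xa21908018400), [(nat_lit 846, nat_lit 0, []), (nat_lit 857, nat_lit 4, [nat_lit 2, nat_lit 8]), (nat_lit 858, nat_lit 1, [nat_lit 3])]⟩]⟩

noncomputable def d3_63 : Nd :=
  ⟨nat_lit 858, nat_lit 1, [(nat_lit 869, [nat_lit 12]), (nat_lit 863, [nat_lit 10]), (nat_lit 879, (unp (nat_lit 4) (nat_lit 0xcc9404))), (nat_lit 859, (unp (nat_lit 4) (nat_lit 0xc998405)))], [⟨nat_lit 0, (unp (nat_lit 2) (nat_lit 0x3903)), (nat_lit 0x81428602142840a102040618104040c184061420308082050a14280), nat_lit 32⟩, ⟨nat_lit 1, [nat_lit 1, nat_lit 2], (nat_lit 0x7efdfbf7efdfbf7efdfbf7efdfbf7efc1bf7efdfbf02fdf837e0803f), nat_lit 5⟩, ⟨nat_lit 2, [nat_lit 0, nat_lit 1], (nat_lit 0x7efdfbf7efdfbf7efdfbf7efdfbf7efc0bf7efdfbf04fdf837e01fbf), nat_lit 4⟩, ⟨nat_lit 4, [nat_lit 0], (nat_lit 0x7efdfbf7efdfbf7efdfbf7efdfbf7efc0bf7efdfbf04fdf807efdfbf),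 nat_lit 3⟩],
  [⟨(unp (nat_lit 2) (nat_lit 0x3903)), (nat_lit 0xa308c6220c40), [(nat_lit 872, nat_lit 0, [])]⟩]⟩

noncomputable def d3_64 : Nd :=
  ⟨nat_lit 880, nat_lit 960, [(nat_lit 881, (unp (nat_lit 4) (nat_lit 0xccb9484808)))], [⟨nat_lit 0, [nat_lit 0], (nat_lit 0x7efc0bf7efdfbf7efdfbf7efdfbf7efdfbf7efdfbf7efdfbf7efdf80), nat_lit 2⟩],
  [⟨[nat_lit 0], (nat_lit 0x40108020), [(nat_lit 882, nat_lit 0, []), (nat_lit 883, nat_lit 9, (unp (nat_lit 2) (nat_lit 0x3203))), (nat_lit 885, nat_lit 7, [nat_lit 2, nat_lit 2]), (nat_lit 887, nat_lit 2, [nat_lit 2]), (nat_lit 1010, nat_lit 8, [nat_lit 8, nat_lit 0]), (nat_lit 1042, nat_lit 5, [nat_lit 8])]⟩]⟩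

noncomputable def d3_65 : Nd :=
  ⟨nat_lit 889, nat_lit 192, [(nat_lit 890, (unp (nat_lit 4) (nat_lit 0xccaa04))), (nat_lit 895, (unp (nat_lit 4) (nat_lit 0xc94804)))], [⟨nat_lit 0, [nat_lit 0, nat_lit 1], (nat_lit 0x7efdfbf7efdfbf7efdfbf7efdfbf7efc23f7efdf817efc13f7e0df80), nat_lit 5⟩, ⟨nat_lit 2, [nat_lit 0], (nat_lit 0x7efdfbf7efdfbf7efdfbf7efdfbf7efc0bf7efdfbf7efdfbf7e01fbf), nat_lit 2⟩],
  [⟨[nat_lit 0, nat_lit 1], (nat_lit 0x41888118820), [(nat_lit 891, nat_lit 0, []), (nat_lit 892, nat_lit 9, (unp (nat_lit 2) (nat_lit 0x3203)))]⟩]⟩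

noncomputable def d3_66 : Nd :=
  ⟨nat_lit 898, nat_lit 960, [(nat_lit 899, (unp (nat_lit 4) (nat_lit 0xcaa99822809)))], [⟨nat_lit 0, [nat_lit 0], (nat_lit 0x2fdfbf7efdfbf7efdfbf7efdfbf7efdfbf7efdfbf7efdfbf7efdf80), nat_lit 2⟩],
  [⟨[nat_lit 0], (nat_lit 0x842008000), [(nat_lit 900, nat_lit 0, []), (nat_lit 902, nat_lit 1, [nat_lit 3]), (nat_lit 904, nat_lit 8, [nat_lit 8, nat_lit 0]), (nat_lit 906, nat_lit 4, [nat_lit 2, nat_lit 8]), (nat_lit 912, nat_lit 9, (unp (nat_lit 2) (nat_lit 0x3203))), (nat_lit 1019, nat_lit 2, [nat_lit 2])]⟩]⟩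

noncomputable def d3_67 : Nd :=
  ⟨nat_lit 908, nat_lit 320, [(nat_lit 914, (unp (nat_lit 4) (nat_lit 0xc9822006))), (nat_lit 909, (unp (nat_lit 4) (nat_lit 0xccaa9948020a)))], [⟨nat_lit 0, [nat_lit 0, nat_lit 1], (nat_lit 0x7efdfbf7efdf817efdfbf7efdfbf7e081bf7efc0bf7efdfbf04fdf80), nat_lit 6⟩],
  [⟨[nat_lit 0, nat_lit 1], (nat_lit 0x10042200440), [(nat_lit 910, nat_lit 0, []), (nat_lit 911, nat_lit 9, (unp (nat_lit 2) (nat_lit 0x3203))), (nat_lit 916, nat_lit 3, (unp (nat_lit 2) (nat_lit 0x2203))), (nat_lit 924, nat_lit 7, [nat_lit 2, nat_lit 2])]⟩]⟩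

noncomputable def d3_68 : Nd :=
  ⟨nat_lit 916, nat_lit 320, [(nat_lit 917, (unp (nat_lit 4) (nat_lit 0xccaa948308))), (nat_lit 921, (unp (nat_lit 4) (nat_lit 0xccb94020420a)))], [⟨nat_lit 0, [nat_lit 0, nat_lit 1], (nat_lit 0x4fdfbf02fdfbf7efdfbf7e09fbf7efdfbf02fc13f7efdfbf7efdf80), nat_lit 6⟩],
  [⟨[nat_lit 0, nat_lit 1], (nat_lit 0x10842008400), [(nat_lit 919, nat_lit 0, []), (nat_lit 929, nat_lit 9, (unp (nat_lit 2) (nat_lit 0x3203))), (nat_lit 1011, nat_lit 1, [nat_lit 3]), (nat_lit 1020, nat_lit 4, [nat_lit 2, nat_lit 8])]⟩]⟩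

noncomputable def d3_69 : Nd :=
  ⟨nat_lit 924, nat_lit 640, [(nat_lit 925, (unp (nat_lit 4) (nat_lit 0xca9482807)))], [⟨nat_lit 0, [nat_lit 0], (nat_lit 0x7e09fbf7efdfbf7efdfbf7efdfbf7efdfbf7efdf817efdfbf7efdf80), nat_lit 3⟩],
  [⟨[nat_lit 0], (nat_lit 0x10082000800), [(nat_lit 927, nat_lit 0, []), (nat_lit 928, nat_lit 9, (unp (nat_lit 2) (nat_lit 0x3203))), (nat_lit 930, nat_lit 7, [nat_lit 2, nat_lit 2]), (nat_lit 932, nat_lit 4, [nat_lit 2, nat_lit 8]), (nat_lit 933, nat_lit 1, [nat_lit 3]), (nat_lit 1082, nat_lit 3, (unp (nat_lit 2) (nat_lit 0x2203)))]⟩]⟩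

noncomputable def d3_70 : Nd :=
  ⟨nat_lit 933, nat_lit 80, [(nat_lit 942, (unp (nat_lit 4) (nat_lit 0xcb99405))), (nat_lit 934, (unp (nat_lit 4) (nat_lit 0xccb94828009)))], [⟨nat_lit 0, [nat_lit 0, nat_lit 1], (nat_lit 0x7efdfbf04fc23f7efdf837e05fbf7efdf847efdfbf7e0c13f7efdf80), nat_lit 8⟩, ⟨nat_lit 1, [nat_lit 0], (nat_lit 0x7efdfbf7efdfbf7efdfbf7efdfbf7efdfbf7efdfbf02fdfbf7e0803f), nat_lit 3⟩],
  [⟨[nat_lit 0, nat_lit 1], (nat_lit 0x820808318040), [(nat_lit 935, nat_lit 0, []), (nat_lit 943, nat_lit 2, [nat_lit 2]), (nat_lit 944, nat_lit 6, [nat_lit 2, nat_lit 0])]⟩]⟩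

noncomputable def d3_71 : Nd :=
  ⟨nat_lit 944, nat_lit 10, [(nat_lit 945, (unp (nat_lit 4) (nat_lit 0xcca03))), (nat_lit 964, (unp (nat_lit 4) (nat_lit 0xc9903))), (nat_lit 947, (unp (nat_lit 4) (nat_lit 0x9980405)))], [⟨nat_lit 0, (unp (nat_lit 2) (nat_lit 0x2403)), (nat_lit 0x8fdfbf04fc23f0611f847e0dfbf7efc20308080bf7e081bf06fdf80), nat_lit 16⟩, ⟨nat_lit 1, [nat_lit 0, nat_lit 1], (nat_lit 0x7efdfbf7efdfbf7efdfbf7efdfbf7efdfbf7efdfbf02fdf827e0803f), nat_lit 4⟩, ⟨nat_lit 2, [nat_lit 0], (nat_lit 0x7efdfbf7efdfbf7efdfbf7efdfbf7efdfbf7efdfbf04fdf817e01fbf), nat_lit 3⟩],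
  [⟨[nat_lit 1, nat_lit 2], (nat_lit 0x830804418040), [(nat_lit 954, nat_lit 0, []), (nat_lit 961, nat_lit 2, [nat_lit 2]), (nat_lit 967, nat_lit 6, [nat_lit 2, nat_lit 0])]⟩]⟩

noncomputable def d3_72 : Nd :=
  ⟨nat_lit 967, nat_lit 1, [(nat_lit 977, [nat_lit 12, nat_lit 12]), (nat_lit 980, (unp (nat_lit 4) (nat_lit 0xcca03))), (nat_lit 989, (unp (nat_lit 4) (nat_lit 0xcb9904))), (nat_lit 971, (unp (nat_lit 4) (nat_lit 0xb998405)))], [⟨nat_lit 0, [nat_lit 2, nat_lit 3], (nat_lit 0x41030706204070a183050c1c10406183070a0c2810a102860e14200), nat_lit 32⟩, ⟨nat_lit 1, [nat_lit 2], (nat_lit 0x7efdfbf7efdfbf7efdfbf7efdfbf7efc13f7efdfbf02fdf847e0c03f), nat_lit 5⟩, ⟨nat_lit 2, [nat_lit 0, nat_lit 1], (nat_lit 0x7efdfbf7efdfbf7efdfbf7efdfbf7efc1bf7efdfbf04fdf817e01fbf), nat_lit 4⟩, ⟨nat_lit 4, [nat_lit 0], (nat_lit 0x7efdfbf7efdfbf7efdfbf7efdfbf7efc13f7efdfbf02fdf807efdfbf),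 nat_lit 3⟩],
  [⟨[nat_lit 2, nat_lit 3], (nat_lit 0xc508c8410860), [(nat_lit 982, nat_lit 0, [])]⟩]⟩

noncomputable def d3_73 : Nd :=
  ⟨nat_lit 990, nat_lit 960, [(nat_lit 991, (unp (nat_lit 4) (nat_lit 0xcc948306)))], [⟨nat_lit 0, [nat_lit 0], (nat_lit 0x7efdfbf7efdfbf7efdfbf7e05fbf7efdfbf7efdfbf7efdfbf7efdf80), nat_lit 2⟩],
  [⟨[nat_lit 0], (nat_lit 0x10002100020), [(nat_lit 992, nat_lit 0, []), (nat_lit 993, nat_lit 7, [nat_lit 2, nat_lit 2]), (nat_lit 994, nat_lit 2, [nat_lit 2]), (nat_lit 996, nat_lit 6, [nat_lit 2, nat_lit 0]), (nat_lit 999, nat_lit 3, (unp (nat_lit 2) (nat_lit 0x2203))), (nat_lit 1004, nat_lit 9, (unp (nat_lit 2) (nat_lit 0x3203)))]⟩]⟩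

noncomputable def d3_74 : Nd :=
  ⟨nat_lit 1000, nat_lit 960, [(nat_lit 1001, (unp (nat_lit 4) (nat_lit 0xc9484806)))], [⟨nat_lit 0, [nat_lit 0], (nat_lit 0x7efc0bf7efdfbf7efdfbf7efdfbf7efdfbf7efdfbf7efdfbf7efdf80), nat_lit 2⟩],
  [⟨[nat_lit 0], (nat_lit 0x840000420), [(nat_lit 1002, nat_lit 0, []), (nat_lit 1003, nat_lit 9, (unp (nat_lit 2) (nat_lit 0x3203))), (nat_lit 1005, nat_lit 5, [nat_lit 8]), (nat_lit 1007, nat_lit 8, [nat_lit 8, nat_lit 0]), (nat_lit 1009, nat_lit 4, [nat_lit 2, nat_lit 8]), (nat_lit 1040, nat_lit 3, (unp (nat_lit 2) (nat_lit 0x2203)))]⟩]⟩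

noncomputable def d3_75 : Nd :=
  ⟨nat_lit 1011, nat_lit 960, [(nat_lit 1012, [nat_lit 10, nat_lit 12])], [⟨nat_lit 2, [nat_lit 0], (nat_lit 0x7efdfbf7efdfbf7efdfbf7efdfbf7efdfbf7efdfbf02fdfbf7e01fbf), nat_lit 2⟩],
  [⟨[nat_lit 0], (nat_lit 0x40008420), [(nat_lit 1013, nat_lit 0, []), (nat_lit 1014, nat_lit 5, [nat_lit 8]), (nat_lit 1016, nat_lit 7, [nat_lit 2, nat_lit 2]), (nat_lit 1018, nat_lit 4, [nat_lit 2, nat_lit 8]), (nat_lit 1024, nat_lit 9, (unp (nat_lit 2) (nat_lit 0x3203))), (nat_lit 1063, nat_lit 8, [nat_lit 8, nat_lit 0])]⟩]⟩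

noncomputable def d3_76 : Nd :=
  ⟨nat_lit 1020, nat_lit 960, [(nat_lit 1021, (unp (nat_lit 4) (nat_lit 0xccaa9948020a)))], [⟨nat_lit 0, [nat_lit 0], (nat_lit 0x7efdfbf7efdfbf7efdfbf7efdfbf7efdfbf7efc0bf7efdfbf7efdf80), nat_lit 2⟩],
  [⟨[nat_lit 0], (nat_lit 0x840008400), [(nat_lit 1022, nat_lit 0, []), (nat_lit 1023, nat_lit 9, (unp (nat_lit 2) (nat_lit 0x3203))), (nat_lit 1025, nat_lit 5, [nat_lit 8]), (nat_lit 1027, nat_lit 4, [nat_lit 2, nat_lit 8]), (nat_lit 1028, nat_lit 8, [nat_lit 8, nat_lit 0]), (nat_lit 1030, nat_lit 1, [nat_lit 3])]⟩]⟩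

noncomputable def d3_77 : Nd :=
  ⟨nat_lit 1032, nat_lit 1920, [], [],
  [⟨[], (nat_lit 0), [(nat_lit 1033, nat_lit 0, []), (nat_lit 1034, nat_lit 9, (unp (nat_lit 2) (nat_lit 0x3203))), (nat_lit 1036, nat_lit 1, [nat_lit 3]), (nat_lit 1039, nat_lit 3, (unp (nat_lit 2) (nat_lit 0x2203))), (nat_lit 1041, nat_lit 7, [nat_lit 2, nat_lit 2]), (nat_lit 1043, nat_lit 5, [nat_lit 8]), (nat_lit 1045, nat_lit 2, [nat_lit 2]), (nat_lit 1047, nat_lit 8, [nat_lit 8, nat_lit 0]), (nat_lit 1050, nat_lit 6, [nat_lit 2, nat_lit 0]), (nat_lit 1057, nat_lit 4, [nat_lit 2, nat_lit 8])]⟩]⟩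

noncomputable def d3_78 : Nd :=
  ⟨nat_lit 1052, nat_lit 1920, [], [],
  [⟨[], (nat_lit 0), [(nat_lit 1053, nat_lit 0, []), (nat_lit 1054, nat_lit 9, (unp (nat_lit 2) (nat_lit 0x3203))), (nat_lit 1056, nat_lit 7, [nat_lit 2, nat_lit 2]), (nat_lit 1058, nat_lit 2, [nat_lit 2]), (nat_lit 1060, nat_lit 3, (unp (nat_lit 2) (nat_lit 0x2203))), (nat_lit 1062, nat_lit 8, [nat_lit 8, nat_lit 0]), (nat_lit 1064, nat_lit 5, [nat_lit 8]), (nat_lit 1066, nat_lit 4, [nat_lit 2, nat_lit 8]), (nat_lit 1068, nat_lit 1, [nat_lit 3]), (nat_lit 1084, nat_lit 6, [nat_lit 2, nat_lit 0])]⟩]⟩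

noncomputable def d3_79 : Nd :=
  ⟨nat_lit 1070, nat_lit 1920, [], [],
  [⟨[], (nat_lit 0), [(nat_lit 1071, nat_lit 0, []), (nat_lit 1072, nat_lit 9, (unp (nat_lit 2) (nat_lit 0x3203))), (nat_lit 1073, nat_lit 1, [nat_lit 3]), (nat_lit 1075, nat_lit 2, [nat_lit 2]), (nat_lit 1077, nat_lit 6, [nat_lit 2, nat_lit 0]), (nat_lit 1079, nat_lit 3, (unp (nat_lit 2) (nat_lit 0x2203))), (nat_lit 1081, nat_lit 7, [nat_lit 2, nat_lit 2]), (nat_lit 1083, nat_lit 5, [nat_lit 8]), (nat_lit 1085, nat_lit 8, [nat_lit 8, nat_lit 0]), (nat_lit 1087, nat_lit 4, [nat_lit 2, nat_lit 8])]⟩]⟩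

noncomputable def ds3 : List Nd :=
  [d3_0, d3_1, d3_2, d3_3, d3_4, d3_5, d3_6, d3_7, d3_8, d3_9, d3_10, d3_11, d3_12, d3_13, d3_14, d3_15, d3_16, d3_17, d3_18, d3_19, d3_20, d3_21, d3_22, d3_23, d3_24, d3_25, d3_26, d3_27, d3_28, d3_29, d3_30, d3_31, d3_32, d3_33, d3_34, d3_35, d3_36, d3_37, d3_38, d3_39, d3_40, d3_41, d3_42, d3_43, d3_44, d3_45, d3_46, d3_47, d3_48, d3_49, d3_50, d3_51, d3_52, d3_53, d3_54, d3_55, d3_56, d3_57, d3_58, d3_59, d3_60, d3_61, d3_62, d3_63, d3_64, d3_65, d3_66, d3_67, d3_68, d3_69, d3_70, d3_71, d3_72, d3_73, d3_74, d3_75, d3_76, d3_77, d3_78, d3_79]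

noncomputable def ks3 : List ℕ :=
  (unp (nat_lit 11) (nat_lit 0x85d072043fc7e6fa1ef3c7760e95ce394718e09bcb706b4d159e333658c958d31160cbe9772e45b2b34cd9922ca580a694127e4a09311f22e428831042043f8788ee1ca384680ca1902e8580a212a2484708a10e1f43c8750da1a4328610be1642b85209e1282383d06a0c01200150))

def kc3 : List (ℕ × ℕ) := [(0, 1), (1, 10), (36, 80), (48, 640), (53, 320), (61, 320), (71, 960), (74, 960), (79, 960), (82, 960), (87, 1920), (89, 1920), (95, 1920), (97, 960), (101, 960), (105, 1920), (109, 1920), (117, 960), (121, 1920), (125, 960), (135, 1920), (138, 1920), (142, 960), (146, 960), (149, 960), (162, 1920), (176, 960), (186, 1920), (200, 960), (202, 960), (208, 1920), (225, 1920), (229, 960), (238, 960), (241, 192), (254, 1920), (258, 960), (260, 1920), (262, 960), (266, 960), (279, 1920), (287, 960), (294, 1920), (296, 120), (319, 1920), (321, 1920),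 (333, 480), (352, 960), (357, 960), (402, 960), (411, 192), (717, 120), (729, 120), (740, 480), (750, 480), (762, 960), (774, 960), (785, 960), (794, 960), (805, 320), (812, 320), (819, 640), (828, 80), (837, 10), (858, 1), (880, 960), (889, 192), (898, 960), (908, 320), (916, 320), (924, 640), (933, 80), (944, 10), (967, 1), (990, 960), (1000, 960), (1011, 960), (1020, 960), (1032, 1920), (1052, 1920), (1070, 1920)]

theorem Rn4 : Nat.beq R4.length 21 = true := by decide +kernel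

theorem Nn4 : Nat.beq N4.length 7 = true := by decide +kernel

theorem hr3 : relsOk mul one lc3 dom3 nodes3 1 (2 * 4) R4 sb3 1 rs3 = true := by decide +kernel

theorem hc3_0 : rng (chk mul one wf T3 lc3 (mapR (fun e => e.2.2) rs3) 1) (nat_lit 0) (nat_lit 1095) = true := by decide +kernel

theorem AQ3_1_p : actP 5 10 q3_1 13 = true := by decide +kernel

theorem AQ3_1_l_0 : rng (actL 5 10 q3_1 dom3 (2 * 4) us3) (nat_lit 0) (nat_lit 13) = true := by decide +kernel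

theorem AQ3_1_r_0 : rng (fun i => relN 5 10 q3_1 (2 * 4) (nthD ([], nat_lit 0) R3 i)) (nat_lit 0) (nat_lit 14) = true := by decide +kernel

theorem la3 : ldA mul one T3 1095 lc3 32 7 n3 ls3 1 = true := by decide +kernel

theorem lb3 : ldB 1920 Qs3 ls3 1 = true := by decide +kernel

theorem na3_0 : rng (fun i => ndA mul one T3 1095 lc3 32 7 n3 1920 (nthD ⟨nat_lit 0, nat_lit 0, [], [], []⟩ ds3 i)) (nat_lit 0) (nat_lit 80) = true := by decide +kernel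

theorem nb3_0 : rng (fun i => ndB mul one T3 1095 lc3 ks3 Qs3 1 (nthD ⟨nat_lit 0, nat_lit 0, [], [], []⟩ ds3 i)) (nat_lit 0) (nat_lit 80) = true := by decide +kernel

theorem dn3 : Nat.beq ds3.length 80 = true := by decide +kernel

theorem hk3 : ks3 = ds3.map Nd.k := by decide +kernel

theorem hkc3 : kc3 = (0, 1) :: ds3.map fun d => (d.k, d.c) := by decide +kernel

theorem lo3 : linkOk mul one T3 1095 ks3 lk3 1 = true := by decide +kernel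

theorem do3 : domOk dom3 [0, 1, 2, 3] nodes3 1 R4 sb3 1 = true := by decide +kernel

theorem hc3 : ∀ i < 1095, (chk mul one wf T3 lc3 (mapR (fun e => e.2.2) rs3) 1) i = true :=
  (rng_add rng_zero hc3_0)

theorem AQ3_1_l : ∀ i < 13, (actL 5 10 q3_1 dom3 (2 * 4) us3) i = true :=
  (rng_add rng_zero AQ3_1_l_0)

theorem AQ3_1_r : ∀ i < 14, (fun i => relN 5 10 q3_1 (2 * 4) (nthD ([], nat_lit 0) R3 i)) i = true :=
  (rng_add rng_zero AQ3_1_r_0)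

theorem na3 : ∀ i < 80, (fun i => ndA mul one T3 1095 lc3 32 7 n3 1920 (nthD ⟨nat_lit 0, nat_lit 0, [], [], []⟩ ds3 i)) i = true :=
  (rng_add rng_zero na3_0)

theorem nb3 : ∀ i < 80, (fun i => ndB mul one T3 1095 lc3 ks3 Qs3 1 (nthD ⟨nat_lit 0, nat_lit 0, [], [], []⟩ ds3 i)) i = true :=
  (rng_add rng_zero nb3_0)

section
universe u v
variable {R : Type v} {ι : Type} [CommRing R] [Fintype ι] [DecidableEq ι] (V : VCod R ι 9 18 app wfT) (h2 : V.mat one = 1)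

theorem AQ3_1 : Act.{0} (((S V h2).sub (mdl (g V h2) dom3)).gen lc3) 10 5 q3_1 :=
  act_of_up (L3 V h2) (U3 V h2) AQ3_1_p AQ3_1_l (by decide) (allR Rn3 AQ3_1_r)

theorem C3 : Cert.{u} ((S V h2).sub (mdl (g V h2) dom3)) T3 1095 (mgen (g V h2) dom3) dom3 [0, 1, 2, 3] nodes3 1 (R3 ++ N4) kc3 :=
  have := fin3 V h2
  cert_of (L3 V h2) (card3 V h2).le (A3 V h2) (Qs := Qs3) (List.forall_mem_cons.2 ⟨AQ3_1 V h2, List.forall_mem_nil _⟩) hr3 hc3 la3 lb3 hk3 (allR dn3 na3) (allR dn3 nb3) lo3 do3 hkc3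

end

end L.HJce
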