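import Cfsg.Agent.H15.J3B
import Cfsg.Agent.H15.J3Af
import Cfsg.Agent.H27.U34

/-! The third Janko group: words in the model (an element of order 19, the subgroup `SL2(16)`). -/

set_option maxRecDepth 100000

namespace L.J3S
open H13 H15
open H15.J3 (one app wfT mul wf h1 S lc5 dom5 zs)
open H27.MG (opT)
open H27.U34 (AT MT)

noncomputable def e19 : List (ℕ × List ℕ) :=
  [((nat_lit 0x14de81cae0d86ebe78274bc2cc9637eee6eff7258), (unp (nat_lit 4) (nat_lit 0x8486205))),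
  ((nat_lit 0x12e80f05086f1a1bc2c99cc189e44d719ab933bb1), (unp (nat_lit 4) (nat_lit 0x46826279330a))),
  ((nat_lit 0x100002000040000800010000200004000080001), [])]

theorem e19_so : H15.slpOk mul one lc5 e19 = true := by decide +kernel

theorem e19_r : rig1 mul one zs (mapR Prod.fst e19) 19 9 3 1 = true := by decide +kernel

noncomputable def e16 : List (ℕ × List ℕ) :=
  [((nat_lit 0x100002000040000800010000200004000080001), []),
  ((nat_lit 0x1a16394f5a46b5676fe03e153a1c54c536715b1a7), (unp (nat_lit 3) (nat_lit 0x6ba605))),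
  ((nat_lit 0xdd821757241bdeae3052faca587574bc2a446c79), (unp (nat_lit 3) (nat_lit 0xb303))),
  ((nat_lit 0x287c3416943106f77a40ce5347256171626c8842), (unp (nat_lit 3) (nat_lit 0xd74cb308))),
  ((nat_lit 0x12821bbd596e286e6e3dd511a97bf7756a17d99da), (unp (nat_lit 3) (nat_lit 0x2ade8f209))),
  ((nat_lit 0x1cc1a9ce567d40ebfa9cf65617bae7ecbe9556c24), (unp (nat_lit 3) (nat_lit 0xd1ccb308))),
  ((nat_lit 0x1445984ed4052780f4415b34b67410c0acc254558), (unp (nat_lit 3) (nat_lit 0x347a606))),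
  ((nat_lit 0xf5ff1449a5217e793a1642fa37c55c49ab38e53b), (unp (nat_lit 3) (nat_lit 0x68e605))),
  ((nat_lit 0x681a17b946ed4eb55ec80b4267ff31670f7d8c7c), (unp (nat_lit 3) (nat_lit 0xba28b408))),
  ((nat_lit 0x16946af52513168843751f2689df06e842f749ce5), (unp (nat_lit 3) (nat_lit 0x19259b07))),
  ((nat_lit 0xa55d2881b7ab42d807deb93bd8cb59c9e6d9f1c1), (unp (nat_lit 3) (nat_lit 0x7a28b208))),
  ((nat_lit 0xf19c27feb432eac65a5685db9e515ff4e9e5b4c5), (unp (nat_lit 3) (nat_lit 0x19ccb407))),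
  ((nat_lit 0xb5991bd8e3b8b4f8f7dadfba011f0c5d05c1e105), (unp (nat_lit 3) (nat_lit 0x1691b06))),
  ((nat_lit 0xf09d10d6a13d4ce6aa52e3b8b4c416300afdb5c4), (unp (nat_lit 3) (nat_lit 0x44b2ce309))),
  ((nat_lit 0xc8240cafe05198d2b956655814a06b53ab712c42), (unp (nat_lit 3) (nat_lit 0x8e204))),
  ((nat_lit 0x1d8bdb035b691eee3d0cf9c901dee28e08b782d1e), (unp (nat_lit 3) (nat_lit 0xd7579b08))),
  ((nat_lit 0x100002000040000800010000200004000080001), []),
  ((nat_lit 0x65590abf0599da573f1a553be65b22a9443539e7), (unp (nat_lit 3) (nat_lit 0x19b79207))),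
  ((nat_lit 0xdfb304d326787a79648577d242e57ffba0abc898), (unp (nat_lit 3) (nat_lit 0x1abd3307))),
  ((nat_lit 0x46a912e704424e9ac8409a02e791040b0d6f54a8), (unp (nat_lit 3) (nat_lit 0xb967aa08))),
  ((nat_lit 0xc0a021e5f0fcf8d82c44bd1317496947e871cc1e), (unp (nat_lit 3) (nat_lit 0xf203))),
  ((nat_lit 0xd655142a27c2be043c8150e049c816ca04aa0069), (unp (nat_lit 3) (nat_lit 0xcdbcb208))),
  ((nat_lit 0x1c96984d9a4ae3a82804e3543632b3c30c37da983), (unp (nat_lit 3) (nat_lit 0x56f2ce209))),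
  ((nat_lit 0x122dfadbd543792ea8354705b7c851aa4c65fc022), (unp (nat_lit 3) (nat_lit 0x152d7307))),
  ((nat_lit 0xa2ec2668708bd0a7a2456840fe5c7a50a8521dc3), (unp (nat_lit 3) (nat_lit 0x15653307))),
  ((nat_lit 0x19e20aec3f23cc0ece9d0c2dad575760826dfd966), (unp (nat_lit 3) (nat_lit 0x8b3c9408))),
  ((nat_lit 0xef30160845432fd0c4732108a24724fa016785e), (unp (nat_lit 3) (nat_lit 0xd5e79c08))),
  ((nat_lit 0x1cf7c95602144cc02540d3061e022270ec762192d), (unp (nat_lit 3) (nat_lit 0x93204))),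
  ((nat_lit 0x13bd999320759e6cb1fd6bfb8aa2017268a9a740a), (unp (nat_lit 3) (nat_lit 0x172cf407))),
  ((nat_lit 0x75b92ec9574d6a0bfb9cbdea3bd3461aacf1453e), (unp (nat_lit 3) (nat_lit 0xca699208))),
  ((nat_lit 0x40bc1ff581a8bcb2f95b0a6aeadf35f50971bc93), (unp (nat_lit 3) (nat_lit 0x3489606))),
  ((nat_lit 0x1f39fb4a5f61bdec60ecea0d33a033dd0c6e32871), (unp (nat_lit 3) (nat_lit 0x12203)))]

theorem e16_so : H15.slpOk mul one lc5 e16 = true := by decide +kernel

theorem e16_w : allL (fun e : ℕ × List ℕ => allL (fun l => Nat.blt l 8) e.2) e16 = true := by decide +kernel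

/-- the codes -/
noncomputable def cx (a : ℕ) : ℕ := nthD one (mapR Prod.fst e16) a

/-- inverses in the field -/
def iv (a : ℕ) : ℕ := [0, 1, 9, 14, 13, 11, 7, 6, 15, 2, 12, 5, 10, 4, 3, 8].getD a 0

theorem e16_a : allLt (fun a => allLt (fun b => band (Nat.beq (cx (opT 16 4 AT a b)) (mul (cx a) (cx b)))
    (Nat.beq (cx (16 + opT 16 4 AT a b)) (mul (cx (16 + a)) (cx (16 + b))))) 16) 16 = true := by decide +kernel

theorem e16_b : allLt (fun a => bor (Nat.beq a 0) (force (mul (mul (cx a) (cx (16 + iv a))) (cx a)) fun w => allLt (fun b =>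
    Nat.beq (mul w (cx b)) (mul (cx (16 + opT 16 4 MT (opT 16 4 MT (iv a) (iv a)) b)) w)) 16)) 16 = true := by decide +kernel

theorem e16_c : (∀ a < 16, opT 16 4 AT a a = 0 ∧ iv a < 16 ∧ (a ≠ 0 → opT 16 4 MT a (iv a) = 1)) ∧ cx 1 ∉ zs := by
  decide +kernel

end L.J3S
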