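import Cfsg.Agent.L.MinRep
import Cfsg.Agent.H09.AutPSL1
import Cfsg.Agent.H09.GLStab

/-!
# Weights of transvection groups in representations of `SL` (namespace `L.SR`)

* `tvS v φ` (total version of `H09.slTv`), `Kd v`, `cov g φ` (action on covectors), product,
  conjugation and commutator formulas
* `fP ρ v`, `fH ρ φ` : the groups with given centre / axis; `chi ψ x` their characters
* `exists_mult`, `exists_mult'` : `dim = a + (q^(n-1) - 1) b`; `sl_bound` (Landazuri-Seitz)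
* `exists_baseChange`
-/

namespace L.SR

open Module Matrix L.Wt L.Orb

theorem exists_baseChange {G K K' : Type*} [Group G] [Field K] [Field K'] (f : K →+* K') {d : ℕ}
    (ρ : G →* GL (Fin d) K) : ∃ ρ' : G →* Module.End K' (Fin d → K'), ρ'.ker ≤ ρ.ker := by
  refine ⟨{ toFun := fun g => Matrix.toLin' ((ρ g : Matrix (Fin d) (Fin d) K).map f)
            map_one' := by simp [Matrix.map_one f (map_zero f) (map_one f), Module.End.one_eq_id]
            map_mul' := fun g h => by simp [Matrix.map_mul, Module.End.mul_eq_comp] },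
    fun g hg => ?_⟩
  have h1 : Matrix.toLin' ((ρ g : Matrix (Fin d) (Fin d) K).map f) = Matrix.toLin' 1 := by
    rw [Matrix.toLin'_one]; exact hg
  have h2 := Matrix.toLin'.injective h1
  rw [← Matrix.map_one f (map_zero _) (map_one _)] at h2
  exact Units.ext (Matrix.map_injective f.injective h2)

theorem finrank_eq_sum_dual {F A K V : Type*} [Field F] [Fintype F] [AddCommGroup A] [Module F A]
    [FiniteDimensional F A] [Fintype (Dual F A)] [Field K] [AddCommGroup V] [Module K V]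
    [FiniteDimensional K V] {ψ : AddChar F K} (hψ : ψ ≠ 1) (hK : (Fintype.card F : K) ≠ 0)
    (f : A → Module.End K V) (h0 : f 0 = 1) (hf : ∀ a b, f (a + b) = f a * f b)
    (W : Submodule K V) (hW : ∀ a, ∀ v ∈ W, f a v ∈ W) :
    finrank K W = ∑ l : Dual F A, finrank K ↥(W ⊓ wt f fun a => ψ (l a)) := by
  classical
  let b := Module.finBasis F A
  rw [finrank_eq_sum hψ hK (fun c => f (b.equivFun.symm c)) (by simpa using h0)
    (fun _ _ => by rw [map_add, hf]) W (fun _ => hW _)]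
  refine (Fintype.sum_equiv b.dualBasis.equivFun.toEquiv _ _ fun l => ?_).symm
  have : wt f (fun a => ψ (l a)) = wt (fun c => f (b.equivFun.symm c))
      fun a => ψ (b.dualBasis.equivFun.toEquiv l ⬝ᵥ a) := by
    have key : ∀ c, l (b.equivFun.symm c) = b.dualBasis.equivFun.toEquiv l ⬝ᵥ c := fun c => by
      simp [dotProduct, mul_comm]
    ext v
    refine ⟨fun h c => by simp only [← key]; exact h _, fun h a => ?_⟩
    have := h (b.equivFun a)
    simpa only [← key, LinearEquiv.symm_apply_apply] using this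
  rw [this]

variable {ι : Type} [Fintype ι] [DecidableEq ι] {F : Type*} [Field F]

local notation "SL'" => Matrix.SpecialLinearGroup ι F

open Classical in
/-- the transvection `x ↦ x + (φ ⬝ᵥ x) • v` -/
noncomputable def tvS (v φ : ι → F) : SL' := if h : φ ⬝ᵥ v = 0 then H09.slTv v φ h else 1

theorem tvS_val {v φ : ι → F} (h : φ ⬝ᵥ v = 0) : (tvS v φ).1 = 1 + vecMulVec v φ := by
  rw [tvS, dif_pos h]; rfl

theorem smul_eq (g : SL') (x : ι → F) : g • x = g.1 *ᵥ x := rfl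

theorem tvS_smul {v φ : ι → F} (h : φ ⬝ᵥ v = 0) (x : ι → F) :
    tvS v φ • x = x + (φ ⬝ᵥ x) • v := by
  rw [smul_eq, tvS_val h, H09.one_add_vecMulVec_mulVec]

theorem sl_ext {g h : SL'} (H : ∀ x : ι → F, g • x = h • x) : g = h :=
  Subtype.ext (H10.matrix_eq_iff_mulVec.2 H)

theorem smul_smul' (g : SL') (c : F) (x : ι → F) : g • c • x = c • g • x := smul_comm _ _ _

/-- contragredient action -/
def cov (g : SL') (φ : ι → F) : ι → F := φ ᵥ* (g⁻¹).1

theorem cov_dot (g : SL') (φ x : ι → F) : cov g φ ⬝ᵥ x = φ ⬝ᵥ (g⁻¹ • x) := by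
  rw [cov, smul_eq, dotProduct_mulVec]

theorem cov_dot_smul (g : SL') (φ x : ι → F) : cov g φ ⬝ᵥ (g • x) = φ ⬝ᵥ x := by
  rw [cov_dot, inv_smul_smul]

theorem dot_ext {φ θ : ι → F} (h : ∀ x, φ ⬝ᵥ x = θ ⬝ᵥ x) : φ = θ := by
  ext i; simpa using h (Pi.single i 1)

theorem cov_cov_inv (g : SL') (φ : ι → F) : cov g (cov g⁻¹ φ) = φ :=
  dot_ext fun x => by rw [cov_dot, cov_dot]; simp

theorem tvS_conj (g : SL') {v φ : ι → F} (h : φ ⬝ᵥ v = 0) :
    g * tvS v φ * g⁻¹ = tvS (g • v) (cov g φ) := sl_ext fun x => by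
  rw [mul_smul, mul_smul, tvS_smul h, tvS_smul (by rwa [cov_dot_smul]), smul_add, smul_inv_smul,
    cov_dot, smul_smul']

theorem tvS_zero (v : ι → F) : tvS v 0 = 1 := sl_ext fun x => by simp [tvS_smul]

theorem tvS_zero_left (φ : ι → F) : tvS 0 φ = 1 := sl_ext fun x => by simp [tvS_smul]

theorem tvS_add {v φ θ : ι → F} (h : φ ⬝ᵥ v = 0) (h' : θ ⬝ᵥ v = 0) :
    tvS v (φ + θ) = tvS v φ * tvS v θ := sl_ext fun x => by
  rw [mul_smul, tvS_smul h, tvS_smul h', tvS_smul (by simp [h, h'])]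
  simp only [dotProduct_add, dotProduct_smul, h, add_dotProduct, smul_eq_mul]
  module

theorem tvS_add_left {v w φ : ι → F} (h : φ ⬝ᵥ v = 0) (h' : φ ⬝ᵥ w = 0) :
    tvS (v + w) φ = tvS v φ * tvS w φ := sl_ext fun x => by
  rw [mul_smul, tvS_smul h, tvS_smul h', tvS_smul (by simp [h, h'])]
  simp only [dotProduct_add, dotProduct_smul, h', smul_eq_mul]
  module

theorem tvS_smul_left (c : F) {v φ : ι → F} (h : φ ⬝ᵥ v = 0) : tvS (c • v) φ = tvS v (c • φ) :=
  sl_ext fun x => by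
    rw [tvS_smul (by simp [h]), tvS_smul (by simp [h])]
    simp only [smul_dotProduct, smul_eq_mul]
    module

theorem tvS_comm {v w θ φ : ι → F} (h : θ ⬝ᵥ v = 0) (h' : φ ⬝ᵥ w = 0) (h'' : φ ⬝ᵥ v = 0) :
    tvS v θ * tvS w φ = tvS ((θ ⬝ᵥ w) • v) φ * (tvS w φ * tvS v θ) := sl_ext fun x => by
  rw [mul_smul, mul_smul, mul_smul, tvS_smul h, tvS_smul h', tvS_smul h, tvS_smul h',
    tvS_smul (by simp [h''])]
  simp only [dotProduct_add, dotProduct_smul, h', h'', smul_eq_mul]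
  module

theorem tvS_commute {v w θ φ : ι → F} (h : θ ⬝ᵥ v = 0) (h' : φ ⬝ᵥ w = 0) (h'' : φ ⬝ᵥ v = 0)
    (h3 : θ ⬝ᵥ w = 0) : tvS v θ * tvS w φ = tvS w φ * tvS v θ := by
  rw [tvS_comm h h' h'', h3, zero_smul, tvS_zero_left, one_mul]

theorem tvS_pow {v φ : ι → F} (h : φ ⬝ᵥ v = 0) (n : ℕ) : tvS v φ ^ n = tvS v (n • φ) := by
  induction n with
  | zero => simp [tvS_zero]
  | succ n ih => rw [pow_succ, ih, succ_nsmul, tvS_add (by rw [smul_dotProduct, h, smul_zero]) h]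

theorem tvS_pow_char {v φ : ι → F} (h : φ ⬝ᵥ v = 0) : tvS v φ ^ ringChar F = 1 := by
  rw [tvS_pow h, ← Nat.cast_smul_eq_nsmul F, ringChar.Nat.cast_ringChar, zero_smul, tvS_zero]

theorem slInvT_tvS {v φ : ι → F} (h : φ ⬝ᵥ v = 0) : H09.slInvT (tvS v φ) = tvS (-φ) v :=
  Subtype.ext (by rw [H09.slInvT_tv h (tvS_val h), tvS_val (by simp [dotProduct_comm v, h])])

theorem tvS_eq_one {v φ : ι → F} (h : φ ⬝ᵥ v = 0) (h1 : tvS v φ = 1) : v = 0 ∨ φ = 0 := by
  by_contra hc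
  push Not at hc
  obtain ⟨x, hx⟩ := H09.exists_dot_one hc.2
  have := tvS_smul h x
  rw [h1, one_smul, dotProduct_comm, hx, one_smul, left_eq_add] at this
  exact hc.1 this

theorem eq_top_of_tvS {H : Subgroup SL'} (h : ∀ v φ, φ ⬝ᵥ v = 0 → tvS v φ ∈ H) : H = ⊤ :=
  H09.eq_top_of_transvection_mem H fun i j hij c => by
    have h0 : (c • (Pi.single j 1 : ι → F)) ⬝ᵥ Pi.single i 1 = 0 := by simp [Pi.single_apply, hij]
    convert h _ _ h0 using 1
    exact Subtype.ext (by rw [H09.transvection_val, tvS_val h0])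

/-- the covectors vanishing at `v` -/
def Kd (v : ι → F) : Submodule F (ι → F) := LinearMap.ker (dotProductBilin F F v)

theorem mem_Kd {v φ : ι → F} : φ ∈ Kd v ↔ φ ⬝ᵥ v = 0 := by
  rw [dotProduct_comm]; rfl

theorem Kd.dot {v : ι → F} (φ : Kd v) : φ.1 ⬝ᵥ v = 0 := mem_Kd.1 φ.2

theorem Kd.dot' {v : ι → F} (φ : Kd v) : v ⬝ᵥ φ.1 = 0 := φ.2

theorem finrank_Kd {v : ι → F} (hv : v ≠ 0) : finrank F (Kd v) = Fintype.card ι - 1 := by
  have := H09.finrank_ker_dot hv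
  unfold Kd; omega

theorem exists_dual_eq {U : Submodule F (ι → F)} (l : Dual F U) : ∃ x, ∀ φ : U, l φ = φ.1 ⬝ᵥ x := by
  obtain ⟨l', hl'⟩ := LinearMap.exists_extend l
  refine ⟨fun i => l' (Pi.single i 1), fun φ => ?_⟩
  rw [← hl', LinearMap.comp_apply, Submodule.subtype_apply, LinearMap.pi_apply_eq_sum_univ]
  refine Finset.sum_congr rfl fun i _ => ?_
  rw [smul_eq_mul]
  congr 2
  ext j; simp [Pi.single_apply, eq_comm]

theorem tvCl_sl : TvCl {k : Module.End F (ι → F) | ∃ g : SL', ∀ x, g • x = k x} := by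
  refine ⟨?_, ?_, fun l v hl => ?_⟩
  · rintro k ⟨g, hg⟩ x y h
    exact MulAction.injective g (by simp only [hg, h])
  · rintro k ⟨g, hg⟩ k' ⟨g', hg'⟩
    exact ⟨g * g', fun x => by rw [mul_smul, hg', hg]; rfl⟩
  · obtain ⟨φ, hφ⟩ := exists_dual_eq (U := ⊤) (l ∘ₗ (⊤ : Submodule F (ι → F)).subtype)
    have : ∀ x, φ ⬝ᵥ x = l x := fun x => by rw [dotProduct_comm]; exact (hφ ⟨x, trivial⟩).symm
    exact ⟨tvS v φ, fun x => by rw [tvS_smul (by rw [this, hl]), this]; rfl⟩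

theorem exists_map (U : Submodule F (ι → F)) (hU : finrank F U + 2 ≤ Fintype.card ι)
    {x y : ι → F} (hx : x ∉ U) (hy : y ∉ U) : ∃ g : SL', g • x = y ∧ ∀ u ∈ U, g • u = u := by
  obtain ⟨k, ⟨g, hg⟩, h1, h2⟩ := tvCl_sl.exists_map U (by simpa using hU) hx hy
  exact ⟨g, by rw [hg, h1], fun u hu => by rw [hg, h2 u hu]⟩

theorem exists_map_pair (hn : 3 ≤ Fintype.card ι) {v x v' x' : ι → F} (hv : v ≠ 0)
    (hx : x ∉ F ∙ v) (hv' : v' ≠ 0) (hx' : x' ∉ F ∙ v') : ∃ g : SL', g • v = v' ∧ g • x = x' := by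
  obtain ⟨g, h1, -⟩ := exists_map ⊥ (by simp; omega) (x := v) (y := v') hv hv'
  obtain ⟨g', h2, h3⟩ := exists_map (F ∙ v') (by rw [finrank_span_singleton hv']; omega)
    (x := g • x) (y := x') (fun h => hx (by
      obtain ⟨c, hc⟩ := Submodule.mem_span_singleton.1 h
      rw [← h1, ← smul_smul'] at hc
      exact Submodule.mem_span_singleton.2 ⟨c, MulAction.injective g hc⟩)) hx'
  exact ⟨g' * g, by rw [mul_smul, h1, h3 _ (Submodule.mem_span_singleton_self _)],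
    by rw [mul_smul, h2]⟩

theorem notMem_span_of_dot {v x φ : ι → F} (h : φ ⬝ᵥ v = 0) (h' : φ ⬝ᵥ x ≠ 0) : x ∉ F ∙ v := by
  intro hx
  obtain ⟨c, rfl⟩ := Submodule.mem_span_singleton.1 hx
  simp [h] at h'

variable {K M : Type*} [Field K] [AddCommGroup M] [Module K M]
  (ρ : Matrix.SpecialLinearGroup ι F →* Module.End K M)

/-- transvections with centre `v` -/
noncomputable def fP (v : ι → F) (φ : Kd v) : Module.End K M := ρ (tvS v φ)

/-- transvections with axis `φ` -/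
noncomputable def fH (φ : ι → F) (w : Kd φ) : Module.End K M := ρ (tvS w φ)

/-- characters of the transvection groups -/
def chi (ψ : AddChar F K) (v x : ι → F) (φ : Kd v) : K := ψ (φ.1 ⬝ᵥ x)

theorem rho_injective (g : SL') : Function.Injective (ρ g) := fun x y h => by
  have := congrArg (ρ g⁻¹) h
  rwa [← Module.End.mul_apply, ← Module.End.mul_apply, ← map_mul, inv_mul_cancel, map_one] at this

theorem rho_mul (g h : SL') (y : M) : ρ (g * h) y = ρ g (ρ h y) := by rw [map_mul]; rfl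

variable {ρ}

theorem mem_wt_conj {ψ : AddChar F K} {v x : ι → F} {y : M} (hy : y ∈ wt (fP ρ v) (chi ψ v x))
    (g : SL') : ρ g y ∈ wt (fP ρ (g • v)) (chi ψ (g • v) (g • x)) := fun φ => by
  have h0 : cov g⁻¹ φ.1 ⬝ᵥ v = 0 := by rw [cov_dot, inv_inv, Kd.dot φ]
  have := hy ⟨cov g⁻¹ φ.1, mem_Kd.2 h0⟩
  rw [fP, chi, ← cov_cov_inv g φ.1, ← tvS_conj g h0, ← rho_mul, inv_mul_cancel_right, rho_mul,
    cov_dot_smul]
  rw [fP, chi] at this
  rw [this, map_smul]

theorem wt_fH (ψ : AddChar F K) (φ θ : ι → F) :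
    wt (fH ρ φ) (chi ψ φ θ) = wt (fP (ρ.comp H09.slInvT.toMonoidHom) φ) (chi ψ φ (-θ)) := by
  have key : ∀ w : Kd φ, fP (ρ.comp H09.slInvT.toMonoidHom) φ w = fH ρ φ (-w) := fun w => by
    simp [fP, fH, slInvT_tvS (Kd.dot w)]
  ext y
  refine ⟨fun h w => ?_, fun h w => ?_⟩
  · rw [key, h]; simp [chi]
  · have := h (-w)
    rw [key, neg_neg] at this
    rw [this]; simp [chi]

theorem fP_zero (v : ι → F) : fP ρ v 0 = 1 := by simp [fP, tvS_zero]

theorem fP_add (v : ι → F) (φ θ : Kd v) : fP ρ v (φ + θ) = fP ρ v φ * fP ρ v θ := by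
  simp [fP, tvS_add (Kd.dot φ) (Kd.dot θ)]

theorem fH_zero (φ : ι → F) : fH ρ φ 0 = 1 := by simp [fH, tvS_zero_left]

theorem fH_add (φ : ι → F) (v w : Kd φ) : fH ρ φ (v + w) = fH ρ φ v * fH ρ φ w := by
  simp [fH, tvS_add_left (Kd.dot' v) (Kd.dot' w)]

theorem chi_of_mem (ψ : AddChar F K) {v x : ι → F} (h : x ∈ F ∙ v) : chi ψ v x = chi ψ v 0 := by
  obtain ⟨c, rfl⟩ := Submodule.mem_span_singleton.1 h
  ext φ; simp [chi, Kd.dot φ]

theorem mem_wt_zero {ψ : AddChar F K} {v : ι → F} {f : Kd v → Module.End K M}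
    {y : M} : y ∈ wt f (chi ψ v 0) ↔ ∀ φ, f φ y = y := by
  simp [mem_wt, chi]

section
variable [Fintype F] [FiniteDimensional K M] {ψ : AddChar F K} (hψ : ψ ≠ 1)
  (hK : (Fintype.card F : K) ≠ 0)
include hψ hK

theorem finrank_eq_add {v : ι → F} (hv : v ≠ 0) (f : Kd v → Module.End K M) (h0 : f 0 = 1)
    (hf : ∀ a b, f (a + b) = f a * f b) (W : Submodule K M) (hW : ∀ a, ∀ y ∈ W, f a y ∈ W) {b : ℕ}
    (hb : ∀ x, x ∉ F ∙ v → finrank K ↥(W ⊓ wt f (chi ψ v x)) = b) :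
    finrank K W = finrank K ↥(W ⊓ wt f (chi ψ v 0)) +
      (Fintype.card F ^ (Fintype.card ι - 1) - 1) * b := by
  classical
  haveI : Finite (Dual F (Kd v)) := Module.finite_of_finite F
  haveI := Fintype.ofFinite (Dual F (Kd v))
  rw [finrank_eq_sum_dual hψ hK f h0 hf W hW, ← Finset.add_sum_erase _ _ (Finset.mem_univ 0)]
  congr 1
  · rw [show (fun a => ψ ((0 : Dual F (Kd v)) a)) = chi ψ v 0 from funext fun φ => by simp [chi]]
  rw [Finset.sum_congr rfl (g := fun _ => b), Finset.sum_const, smul_eq_mul,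
    Finset.card_erase_of_mem (Finset.mem_univ _), Finset.card_univ, Module.card_eq_pow_finrank (K := F),
    Subspace.dual_finrank_eq, finrank_Kd hv]
  intro l hl
  obtain ⟨x, hx⟩ := exists_dual_eq l
  rw [← hb x fun h => ?_]
  · rw [show (fun a => ψ (l a)) = chi ψ v x from funext fun φ => by simp [chi, hx]]
  · obtain ⟨c, rfl⟩ := Submodule.mem_span_singleton.1 h
    exact Finset.ne_of_mem_erase hl (LinearMap.ext fun φ => by simp [hx, Kd.dot φ])

variable (ρ) in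
theorem exists_mult (hn : 3 ≤ Fintype.card ι) : ∃ b : ℕ,
    (∀ v x, v ≠ 0 → x ∉ F ∙ v → finrank K (wt (fP ρ v) (chi ψ v x)) = b) ∧
    ∀ v, v ≠ 0 → finrank K M = finrank K (wt (fP ρ v) (chi ψ v 0)) +
      (Fintype.card F ^ (Fintype.card ι - 1) - 1) * b := by
  have key : ∀ v x v' x', v ≠ 0 → x ∉ F ∙ v → v' ≠ 0 → x' ∉ F ∙ v' →
      finrank K (wt (fP ρ v) (chi ψ v x)) ≤ finrank K (wt (fP ρ v') (chi ψ v' x')) := by
    intro v x v' x' hv hx hv' hx'
    obtain ⟨g, rfl, rfl⟩ := exists_map_pair hn hv hx hv' hx'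
    have := finrank_wt_le (W := ⊤) (W' := ⊤) (χ := chi ψ v x) (ρ g) (rho_injective ρ g)
      fun y _ hy => ⟨trivial, mem_wt_conj hy g⟩
    rwa [top_inf_eq, top_inf_eq] at this
  obtain ⟨i, j, hij⟩ := Fintype.exists_pair_of_one_lt_card (show 1 < Fintype.card ι by omega)
  have h1 : (Pi.single i 1 : ι → F) ≠ 0 := by simp
  have h2 : (Pi.single j 1 : ι → F) ∉ F ∙ (Pi.single i 1 : ι → F) :=
    notMem_span_of_dot (φ := Pi.single j 1) (by simp [Pi.single_apply, hij.symm]) (by simp)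
  have h3 := fun v x hv hx => le_antisymm (key v x _ _ hv hx h1 h2) (key _ _ v x h1 h2 hv hx)
  refine ⟨_, h3, fun v hv => ?_⟩
  have := finrank_eq_add hψ hK hv (fP ρ v) (fP_zero v) (fP_add v) ⊤ (fun _ _ _ => trivial)
    (fun x hx => by rw [top_inf_eq]; exact h3 v x hv hx)
  rwa [top_inf_eq, finrank_top] at this

variable (ρ) in
theorem exists_mult' (hn : 3 ≤ Fintype.card ι) : ∃ b : ℕ,
    (∀ φ θ, φ ≠ 0 → θ ∉ F ∙ φ → finrank K (wt (fH ρ φ) (chi ψ φ θ)) = b) ∧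
    ∀ φ, φ ≠ 0 → finrank K M = finrank K (wt (fH ρ φ) (chi ψ φ 0)) +
      (Fintype.card F ^ (Fintype.card ι - 1) - 1) * b := by
  obtain ⟨b, h1, h2⟩ := exists_mult (ρ.comp H09.slInvT.toMonoidHom) hψ hK hn
  refine ⟨b, fun φ θ h h' => ?_, fun φ h => ?_⟩
  · rw [wt_fH, h1 _ _ h (by simpa using h')]
  · rw [wt_fH, neg_zero, h2 _ h]

omit hψ hK in
theorem exists_tvS (h : ρ.ker ≠ ⊤) : ∃ v φ, φ ⬝ᵥ v = 0 ∧ v ≠ 0 ∧ φ ≠ 0 ∧ ρ (tvS v φ) ≠ 1 := by
  by_contra hc
  push Not at hc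
  refine h (eq_top_of_tvS fun v φ h => ?_)
  by_cases hv : v = 0
  · rw [hv, tvS_zero_left]; exact one_mem _
  by_cases hφ : φ = 0
  · rw [hφ, tvS_zero]; exact one_mem _
  exact hc v φ h hv hφ

theorem mult_pos (h : ρ.ker ≠ ⊤) {b : ℕ}
    (hb : ∀ v, v ≠ 0 → finrank K M = finrank K (wt (fP ρ v) (chi ψ v 0)) +
      (Fintype.card F ^ (Fintype.card ι - 1) - 1) * b) : 1 ≤ b := by
  obtain ⟨v, φ, h1, h2, -, h4⟩ := exists_tvS h
  by_contra h5
  have := hb v h2
  rw [show b = 0 by omega, mul_zero, add_zero] at this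
  have := Submodule.eq_top_of_finrank_eq this.symm
  exact h4 (LinearMap.ext fun y => mem_wt_zero.1 (this ▸ Submodule.mem_top) ⟨φ, mem_Kd.2 h1⟩)

theorem mult_pos' (h : ρ.ker ≠ ⊤) {b : ℕ}
    (hb : ∀ φ, φ ≠ 0 → finrank K M = finrank K (wt (fH ρ φ) (chi ψ φ 0)) +
      (Fintype.card F ^ (Fintype.card ι - 1) - 1) * b) : 1 ≤ b := by
  obtain ⟨v, φ, h1, -, h3, h4⟩ := exists_tvS h
  by_contra h5
  have := hb φ h3
  rw [show b = 0 by omega, mul_zero, add_zero] at this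
  have := Submodule.eq_top_of_finrank_eq this.symm
  exact h4 (LinearMap.ext fun y => mem_wt_zero.1 (this ▸ Submodule.mem_top) ⟨v, h1⟩)

theorem sl_bound (hn : 3 ≤ Fintype.card ι) (h : ρ.ker ≠ ⊤) :
    Fintype.card F ^ (Fintype.card ι - 1) - 1 ≤ finrank K M := by
  obtain ⟨b, -, h2⟩ := exists_mult ρ hψ hK hn
  have h3 := mult_pos hψ hK h h2
  obtain ⟨v, -, -, hv, -⟩ := exists_tvS h
  rw [h2 v hv]
  exact le_add_left (Nat.le_mul_of_pos_right _ h3)

end

theorem card_ne_zero_of {F K : Type*} [Field F] [Fintype F] [Field K]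
    (h : ((ringChar F : ℕ) : K) ≠ 0) : (Fintype.card F : K) ≠ 0 := by
  obtain ⟨n, -, hn⟩ := FiniteField.card F (ringChar F)
  rw [hn, Nat.cast_pow]
  exact pow_ne_zero _ h

theorem center_ne_top (hn : 2 ≤ Fintype.card ι) : Subgroup.center SL' ≠ ⊤ := by
  intro h
  obtain ⟨i, j, hij⟩ := Fintype.exists_pair_of_one_lt_card (show 1 < Fintype.card ι by omega)
  have h0 : (Pi.single j 1 : ι → F) ⬝ᵥ Pi.single i 1 = 0 := by simp [Pi.single_apply, hij.symm]
  have : tvS (Pi.single i 1) (Pi.single j 1 : ι → F) ∈ Subgroup.center SL' := h ▸ Subgroup.mem_top _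
  obtain ⟨r, -, hr⟩ := Matrix.SpecialLinearGroup.mem_center_iff.1 this
  rw [tvS_val h0] at hr
  have := congrFun (congrFun hr i) j
  simp [hij, vecMulVec_apply] at this

end L.SR
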