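import Cfsg.Agent.L.SZ0

/-! Recognition of the sporadic Suzuki group (namespace `L.SZ`): checks in the permutation models. -/

set_option autoImplicit false
set_option maxRecDepth 100000

namespace L.SZ
open H13 H14.PK H14.PK.TS H27.PKx H27.MG L.DC

theorem slp_ok : slpOk 13 1782 T13 PS H27.Suz.Ls = true := by decide +kernel
theorem r7_ok : allL (fun r => e0 [r.1, r.2.1] r.2.2) R7 = true := by decide +kernel
theorem act_ok : allLt (fun i => allLt (fun a => e0 (i :: w7 a) (apd (w7 (ac i a)) [i])) 128) 12 = true := by decide +kernel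
theorem cube_ok : ∀ i < 5, e0 [7 + i, 7 + i, 7 + i] [] = true := by decide +kernel
theorem rc_ok : allL (fun r => band (ec (apd r.1 r.2.1) (apd r.2.1 (apd wr (w7 r.2.2)))) (band (c12 r.1) (band (c12 r.2.1) (band (Nat.blt r.2.2 128)
    (anyL (fun a => e0 (apd r.1 r.1) (w7 a)) SQR))))) RC = true := by decide +kernel
theorem r_ok : e0 (apd wr wr) [1] = true ∧ e0 (apd wr1 wr1) [] = true ∧ c12 wr = true ∧ c12 wr1 = true ∧
    (∀ i < 7, i = 2 ∨ apw wr (p2 i) = nd 0 (ln 192) i ∧ apw wr1 (p2 i) = nd 0 (ln 12) i) ∧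
    apV 13 1782 Ts [0] 1 ≠ 1 := by decide +kernel
theorem k_ok : (∀ g < 2, c12 (nd [] KW g) = true ∧ apw (nd [] KW g) 2 = 2 ∧ (∀ i < 6,
      ec (apd (nd [] KW g) (nd [] AW i)) (apd (ex AW (nd [] (nd [] AN g) i)) (nd [] KW g)) = true ∧
      allL (fun i => Nat.blt i 6) (nd [] (nd [] AN g) i) = true) ∧
    e0 (12 :: nd [] KW g) (apd (kx (nd [] SV g)) [12]) = true ∧ ec (2 :: nd [] KW g) (apd (kx (nd [] SQ g)) [2]) = true ∧
    c12 (kx (nd [] SV g)) = true ∧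
    ec (kx (List.replicate 15 g)) [] = true ∧ ec (kx ((List.replicate 15 (nd [] SV g)).flatten)) [] = true) ∧
    (∀ j < 3, ec (apd wf (nd [] AW (j + 2))) (apd (nd [] AW (j + 3)) wf) = true) ∧
    (∀ j < 5, e0 (12 :: nd [] AW (j + 1)) (apd (nd [] AW (j + 1)) [12]) = true) ∧ e0 [12, 0] [0, 1, 12] = true ∧ e0 [12, 12] [] = true ∧
    e0 (apd wu wu) [] = true := by decide +kernel
theorem ru_ok : allL (fun r => anyL (fun k => ec (ux [r.1, r.2.1]) (ux (apd r.2.2 k))) [[], [12], [12, 12]]) L.U4.RU = true := by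
  decide +kernel
theorem cy2_ok : (∀ i < 13, i = 11 ∨ ec (ux [i, 12]) (ux [12, i]) = true) ∧ ec [7, 7, 7] [] = true ∧
    uk (nd [] IK 0) (ux [10]) = true ∧ uk (nd [] IK 1) (ux [9]) = true ∧ uk (nd [] IK 2) (ux [4]) = true ∧ uk (nd [] IK 3) (ux [3]) = true ∧
    uk (nd [] IK 4) (ux [0]) = true ∧ uk (nd [] IK 5) (ux [1]) = true ∧ uk (nd [] IK 6) (ux [12]) = true ∧
    ec (kx (nd [] IK 0)) (ux [4]) = true ∧ ec (kx (nd [] IK 1)) (ux [3]) = true ∧ ec (kx (nd [] IK 2)) (ux [10]) = true ∧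
    ec (kx (nd [] IK 3)) (ux [9]) = true ∧ ec (kx (nd [] IK 4)) (ux [1]) = true ∧ ec (kx (nd [] IK 5)) (ux [0]) = true ∧
    ec (kx (nd [] IK 6)) (ux [12]) = true := by decide +kernel
theorem o_ok : allL (fun r => bor (memL 1 r) (ec (ex OW r) [])) H13.Suz.rels = true ∧ e0 [0] [13] = true ∧
    ec (ux (nd [] OU 7)) (ex OW [3, 2, 3]) = true ∧ ec (ex [[7], we] [0, 1, 0, 1, 0, 1]) [] = true ∧
    ec (ex [[7], we] [0, 0, 1, 0, 0, 1, 0, 0, 1]) [] = true ∧ c12 we = true ∧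
    apV 13 1782 Ts (7 :: we) 1 ≠ apV 13 1782 Ts (apd we [7]) 1 ∧
    (∀ i ∈ [0, 2, 5, 6], ec (ex OW [4, i]) (ex OW [i, 4]) = true) := by decide +kernel
theorem d_ok : (∀ i < 13, i = 11 ∨ ec (apd wd (ux [i])) (apd (ux (nd [] DW i)) wd) = true) ∧ ec wd (apd (ux dh) (kx dK)) = true ∧
    uk dK (apd (ux dw2) wd) = true ∧ nd [] DW 11 = dh ++ 11 :: dw2 := by decide +kernel
theorem e_ok : allL (fun w => ec (apd we (ux w)) (apd (ux w) we)) LS = true ∧ allL (fun t => band (ec (apd (ux t.2.1) we) (apd (kx t.2.2.1) (ux t.2.1)))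
    (band (uk t.2.2.1 t.2.2.2) (ec (apd (ux t.1) t.2.2.2) (apd we (ux t.1))))) LT2 = true ∧
    LW = LS ++ LT2.map fun t => t.1 ++ 11 :: t.2.1 := by decide +kernel
theorem rr_ok : uk (rr 0) (rr 1) = true ∧ ec (apd (ux mp2) (rr 1)) (apd (kx (rr 2)) (ux mp2)) = true ∧ uk (rr 2) (rr 3) = true ∧
    ec (apd (ux mp) (rr 3)) (apd (rr 4) (ux mp)) = true ∧ ec (apd (ux mp) (kx (rr 0))) (apd (kx (rr 5)) (ux mp)) = true ∧
    uk (rr 5) (rr 6) = true ∧ ec (apd (ux mp2) (rr 6)) (apd (kx (rr 7)) (ux mp2)) = true ∧ uk (rr 7) (rr 8) = true ∧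
    c12 (rr 4) = true ∧ c12 (rr 8) = true ∧ apV 13 1782 Ts (rr 4) 0 ≠ apV 13 1782 Ts (rr 8) 0 := by decide +kernel
theorem u_ok : allL (fun r => bor (bn (memL 1 r)) (bor (memL 3 r) (bor (memL 4 r) (eU (ex OU r) [])))) H13.Suz.rels = true ∧
    eU (ex OU (List.replicate 5 [1, 2, 7]).flatten) [] = true ∧ eU (ex DW bw) bw = true ∧ eU (ex LW lw) bw = true ∧
    eU (ex OU mx1) mp = true ∧ eU (ex OU mx2) (11 :: apd mp2 [11]) = true := by decide +kernel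
theorem n_ok : eqX 13 1782 H27.Suz.bs H27.Suz.Ls (ex O7 (apd mx1 mx2)) (apd (ex O7 (apd mx2 mx1)) (apd w5 w5)) = true ∧
    (∀ i ∈ ex O7 (apd mx1 mx2), i ∈ [0, 1, 2, 3, 5, 6]) ∧ ∀ i ∈ apd (ex O7 (apd mx2 mx1)) (apd w5 w5), i ∈ [0, 1, 2, 3, 5, 6] := by
  decide +kernel
theorem ls_ok : ∀ i < 7, tabW 13 1782 H13.Suz.nW [i] = nd (idv 13 1782) H27.Suz.Ls i := by decide +kernel

end L.SZ
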