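import Cfsg.Agent.L.SZ0b
import Cfsg.Agent.H13.WE6
import Cfsg.Agent.H03.LX1

/-! Recognition of the sporadic Suzuki group (namespace `L.SZ`): the centraliser of the involution. -/

set_option autoImplicit false
set_option maxRecDepth 100000

namespace L.SZ
open H13 H14.PK H14.PK.TS H27.PKx H27.MG L.DC Subgroup Cfsg

variable {G : Type*} [Group G]

/-- the coded elements of the extraspecial group -/
noncomputable def th (g : ℕ → G) (a : ℕ) : G := evalW g (w7 (a % 128))

theorem evalW_ex (g : ℕ → G) (ds : List (List ℕ)) (w : List ℕ) : evalW g (ex ds w) = evalW (fun i => evalW g (nd [] ds i)) w := by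
  induction w with
  | nil => rfl
  | cons i w ih => rw [evalW_cons, ← ih, ← evalW_append, ← apd_eq]; rfl

theorem m7_lt (a b : ℕ) : m7 a b < 128 := q_lt _ (Nat.mod_lt _ (by decide)) _ (Nat.mod_lt _ (by decide))

theorem m7_mod (a b : ℕ) : m7 (a % 128) (b % 128) = m7 a b := congrArg₂ q0 (Nat.mod_mod a 128) (Nat.mod_mod b 128)

theorem th_lt (g : ℕ → G) {a : ℕ} (h : a < 128) : th g a = evalW g (w7 a) := by rw [th, Nat.mod_eq_of_lt h]

theorem th_p2 (g : ℕ → G) {i : ℕ} (h : i < 7) : th g (p2 i) = g i := by rw [th, (q_ep i h).2.1]; simp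

theorem th_one (g : ℕ → G) : th g 1 = g 0 := th_p2 g (i := 0) (by decide)

theorem th_two (g : ℕ → G) : th g 2 = g 1 := th_p2 g (i := 1) (by decide)

theorem cg7 {g : ℕ → G} (h : Holds g R7) (z1 : g 0 ≠ 1) : CG 128 m7 i7 (th g) := by
  have m : ∀ a : ℕ, a % 128 < 128 := fun a => Nat.mod_lt _ (by decide)
  have r : ∀ a, th g (a % 128) = th g a := fun a => by rw [th, Nat.mod_mod]; rfl
  have kg : ∀ a < 128, ∀ i < 7, th g (m7 a (p2 i)) = th g a * g i := fun a ha i hi => by
    have := eqW_spec h (allLt_iff.1 (allLt_iff.1 q_gen a ha) i hi)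
    rw [apd_eq, evalW_append] at this
    rw [th_lt g ha, th_lt g (m7_lt _ _)]; simpa using this.symm
  have km : ∀ b < 128, ∀ a < 128, th g (m7 a b) = th g a * th g b := fun b => by
    induction b using Nat.strong_induction_on with
    | _ b ih =>
      intro hb a ha
      rcases q_tree b hb with rfl | ⟨i, hi, hc, e1, e2⟩
      · rw [(q_basic a ha).1]; exact (mul_one _).symm
      · rw [Nat.eq_of_beq_eq_true (allLt_iff.1 e2 a ha), kg _ (m7_lt _ _) i hi, ih _ hc (hc.trans hb) a ha, mul_assoc,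
          ← kg _ (hc.trans hb) i hi, e1]
  have mul : ∀ a b, th g a * th g b = th g (m7 a b) := fun a b => by
    rw [← r a, ← r b, ← km _ (m b) _ (m a), m7_mod]
  have iv : ∀ a, i7 (a % 128) = i7 a := fun a => congrArg₂ Nat.xor (Nat.mod_mod a 128) (m7_mod a a)
  have inv : ∀ a, (th g a)⁻¹ = th g (i7 a) := fun a => by
    rw [inv_eq_iff_mul_eq_one, ← r a, ← iv, mul, (q_basic _ (m a)).2.2.1]; rfl
  refine ⟨mul, inv, rfl, fun a => ⟨_, m a, r a⟩, fun a ha b hb e => (q_basic a ha).2.2.2.2.2.2.2.2.2 b hb ?_, m7_lt,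
    fun a => iv a ▸ (q_basic _ (m a)).2.1⟩
  have e1 : th g (m7 a (i7 b)) = 1 := by rw [← mul, ← inv, e, mul_inv_cancel]
  rcases (q_basic _ (m7_lt a (i7 b))).2.2.2.2.2.1 with c | c | ⟨x, -, c⟩
  · exact c
  · exact (z1 (by rw [← th_one g, ← c, e1])).elim
  · generalize m7 a (i7 b) = d at *
    have := congrArg (th g) c
    rw [← mul, ← mul, ← mul x, e1, th_one, one_mul, mul_one] at this
    exact (z1 (left_eq_mul.1 this)).elim

/-- the automorphism of the codes induced by an element -/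
def Im (g : ℕ → G) (c : G) (α : ℕ → ℕ) : Prop := ∀ a < 128, α a < 128 ∧ c * th g a * c⁻¹ = th g (α a)

/-- an automorphism of the codes -/
structure Au (α : ℕ → ℕ) : Prop where
  lt : ∀ a < 128, α a < 128
  mul : ∀ a < 128, ∀ b < 128, α (m7 a b) = m7 (α a) (α b)
  inj : ∀ a < 128, ∀ b < 128, α a = α b → a = b
  one : α 1 = 1

theorem Im.mul {g : ℕ → G} {c d : G} {α β : ℕ → ℕ} (h : Im g c α) (k : Im g d β) : Im g (c * d) (fun a => α (β a)) := fun a ha =>
  ⟨(h _ (k a ha).1).1, by rw [← (h _ (k a ha).1).2, ← (k a ha).2]; group⟩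

theorem Im.au {g : ℕ → G} {c : G} {α : ℕ → ℕ} (h : Im g c α) (k : CG 128 m7 i7 (th g)) (z : c * g 0 = g 0 * c) : Au α :=
  ⟨fun a ha => (h a ha).1, fun a ha b hb => k.inj _ (h _ (m7_lt _ _)).1 _ (m7_lt _ _) (by
      rw [← (h _ (m7_lt _ _)).2, ← k.mul, ← k.mul, ← (h a ha).2, ← (h b hb).2, conj_mul]),
    fun a ha b hb e => k.inj a ha b hb (by simpa [← (h b hb).2] using (h a ha).2.trans (congrArg (th g) e)),
    k.inj _ (h 1 (by decide)).1 _ (by decide) (by rw [← (h 1 (by decide)).2, th_one, z, mul_inv_cancel_right])⟩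

theorem Au.zero {α : ℕ → ℕ} (h : Au α) : α 0 = 0 :=
  (q_basic _ (h.lt 0 (by decide))).2.2.2.1 (h.mul 0 (by decide) 0 (by decide)).symm

theorem Au.comp {α β : ℕ → ℕ} (h : Au α) (k : Au β) : Au fun a => α (β a) :=
  ⟨fun a ha => h.lt _ (k.lt a ha), fun a ha b hb => by simp only [k.mul a ha b hb, h.mul _ (k.lt a ha) _ (k.lt b hb)],
    fun a ha b hb e => k.inj a ha b hb (h.inj _ (k.lt a ha) _ (k.lt b hb) e), by simp only [k.one, h.one]⟩

theorem Au.ext {α β : ℕ → ℕ} (h : Au α) (k : Au β) (e : ∀ i < 7, α (p2 i) = β (p2 i)) : ∀ a < 128, α a = β a := fun b => by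
  induction b using Nat.strong_induction_on with
  | _ b ih =>
    intro hb
    rcases q_tree b hb with rfl | ⟨i, hi, hc, e1, -⟩
    · rw [h.zero, k.zero]
    · rw [← e1, h.mul _ (hc.trans hb) _ (q_ep i hi).1, k.mul _ (hc.trans hb) _ (q_ep i hi).1, ih _ hc (hc.trans hb), e i hi]

theorem au_id : Au fun a => a := ⟨fun _ h => h, fun _ _ _ _ => rfl, fun _ _ _ _ h => h, rfl⟩

/-- the letters in the Suzuki group -/
noncomputable abbrev g0 : ℕ → Spor.Suz := gn H27.Suz.S Ts

theorem inT : ∀ t ∈ Ts, H27.Suz.S.In ⊤ t := fun t ht => by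
  rw [Ts, apd_eq] at ht
  exact (List.mem_append.1 ht).elim (In.slp slp_ok H27.Suz.model.mem t) (H27.Suz.model.mem t)

theorem e0s {u v : List ℕ} (h : e0 u v = true) : evalW g0 u = evalW g0 v := eqX_spec H27.Suz.model.base inT h

theorem ne0 {u v : List ℕ} {p : ℕ} (hp : p < 1782) (h : apV 13 1782 Ts u p ≠ apV 13 1782 Ts v p) : evalW g0 u ≠ evalW g0 v :=
  fun e => h (by rw [apV_spec inT u p hp, apV_spec inT v p hp, e])

theorem z0_ne : g0 0 ≠ 1 := fun e => ne0 (u := [0]) (v := []) (by decide) r_ok.2.2.2.2.2 (by simpa using e)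

theorem hold0 : Holds g0 R7 := fun r hr => by simpa using e0s (allL_iff.1 r7_ok r hr)

theorem cg0 : CG 128 m7 i7 (th g0) := cg7 hold0 z0_ne

theorem apw_append (u v : List ℕ) (a : ℕ) : apw (u ++ v) a = apw u (apw v a) := by
  induction u with
  | nil => rfl
  | cons i u ih => exact congrArg (ac i) ih

theorem c12_iff {w : List ℕ} : c12 w = true ↔ ∀ i ∈ w, i < 12 := by simp [c12, allL_iff]

theorem im0 {w : List ℕ} (h : c12 w = true) : Im g0 (evalW g0 w) (apw w) := by
  induction w with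
  | nil => exact fun a ha => ⟨ha, by simp; rfl⟩
  | cons i w ih =>
    obtain ⟨a, b⟩ := List.forall_mem_cons.1 (c12_iff.1 h)
    refine Im.mul (α := ac i) (fun x hx => ⟨get_lt 7 _ _, ?_⟩) (ih (c12_iff.2 b))
    have := e0s (allLt_iff.1 (allLt_iff.1 act_ok i a) x hx)
    rw [apd_eq, evalW_append, evalW_cons, evalW_cons, evalW_nil, mul_one] at this
    rw [th_lt _ hx, this, mul_inv_cancel_right]; exact (th_lt _ (get_lt 7 _ _)).symm

theorem z0c {w : List ℕ} (h : c12 w = true) : evalW g0 w * g0 0 = g0 0 * evalW g0 w := by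
  induction w with
  | nil => simp
  | cons i w ih =>
    obtain ⟨a, b⟩ := List.forall_mem_cons.1 (c12_iff.1 h)
    have := (im0 (w := [i]) (c12_iff.2 (by simpa using a)) 1 (by decide)).2
    rw [show apw [i] 1 = 1 from (by decide +kernel : ∀ i < 12, apw [i] 1 = 1) i a, th_one, mul_inv_eq_iff_eq_mul] at this
    rw [evalW_cons, mul_assoc, ih (c12_iff.2 b), ← mul_assoc, ← mul_assoc]; simpa using this

theorem auw {w : List ℕ} (h : c12 w = true) : Au (apw w) := (im0 h).au cg0 (z0c h)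

theorem Au.norm {α : ℕ → ℕ} (h : Au α) : ∀ k < 7, ∃ w, c12 w = true ∧ (∀ i < k, apw w (α (p2 i)) = p2 i) ∧
    (apw w (α (p2 k)) = p2 k ∨ k = 6 ∧ apw w (α (p2 k)) = 96) := fun k => by
  induction k with
  | zero => exact fun _ => ⟨[], rfl, fun _ r => absurd r (by simp), .inl h.one⟩
  | succ k ih =>
    intro hk
    obtain ⟨w, a, b, c⟩ := ih (by omega)
    have b' : ∀ i < k + 1, apw w (α (p2 i)) = p2 i := fun i hi =>
      (Nat.lt_succ_iff_lt_or_eq.1 hi).elim (b i) fun r => r ▸ c.resolve_right (by omega)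
    have H := (auw a).comp h
    have s : ∀ x < 2, apw w (α x) = x := fun x hx => by interval_cases x; exacts [H.zero, H.one]
    obtain ⟨q1, -, q2, q3, q4⟩ := q_ep _ hk
    have := allLt_iff.1 ((lv_ok _ hk).resolve_left (by omega)) _ (H.lt _ q1)
    simp only [cond, bor_eq_true, band_eq_true, bn_iff, anyL_iff, allLt_iff, Nat.beq_eq, Nat.blt_eq] at this
    obtain ⟨e, -, e1, e2, e3, e4⟩ := this.resolve_left fun r => r ⟨by
        by_contra r
        have := H.inj _ q1 _ (by omega : apw w (α (p2 (k + 1))) < 128) (s _ (by omega)).symm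
        have := q3 (by omega)
        omega, by rw [← H.mul _ q1 _ q1]; exact s _ q2, fun i hi => by
        have p := (q_ep i (by omega)).1
        have := congrArg (fun a => apw w (α a)) (q4 i (by omega)).2
        simp only [H.mul _ q1 _ p, H.mul _ (m7_lt _ _) _ ((q4 i (by omega)).1.trans (by decide)), H.mul _ p _ q1, b' i hi,
          s _ (q4 i (by omega)).1] at this
        exact this⟩
    refine ⟨e.2 ++ w, c12_iff.2 (List.forall_mem_append.2 ⟨c12_iff.1 e2, c12_iff.1 a⟩), fun i hi => ?_, ?_⟩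
    · rw [apw_append, b' i hi, e3 i hi]
    · rwa [apw_append]

theorem inv_cube {x : G} (h : x ^ 3 = 1) : x⁻¹ = x * x := by
  rw [inv_eq_iff_mul_eq_one, ← pow_three, h]

/-- the order of a group generated by the letters -/
theorem bound {g : ℕ → G} {N : Subgroup G} [Finite N] (c : Nat.card N ≤ 128) (n : ∀ i < 12, g i ∈ normalizer (N : Set G))
    (m : ∀ i < 7, g i ∈ N) (h3 : ∀ i < 5, g (7 + i) ^ 3 = 1) (h2 : ∀ r ∈ RC, evalW g r.1 * evalW g r.1 ∈ N) :
    CardLe (Subgroup.closure {x | ∃ i < 12, g i = x}) 3317760 := by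
  let M := normalizer (N : Set G)
  let π := QuotientGroup.mk' (N.subgroupOf M)
  let x : ℕ → M := fun i => if h : i < 12 then ⟨g i, n i h⟩ else 1
  have e : ∀ i < 12, (x i : G) = g i := fun i hi => by simp only [x, dif_pos hi]
  have k : ∀ w : List ℕ, (∀ i ∈ w, i < 12) → (evalW x w : M) = evalW g w := fun w hw => by
    induction w with
    | nil => rfl
    | cons i w ih => rw [evalW_cons, coe_mul, ih fun j hj => hw j (List.mem_cons_of_mem _ hj), e i (hw i List.mem_cons_self), evalW_cons]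
  have k2 : ∀ r ∈ RC, evalW (fun i => π (x i)) r.1 ^ 2 = 1 := fun r hr => by
    rw [← map_evalW, ← map_pow]
    refine (QuotientGroup.eq_one_iff _).2 (mem_subgroupOf.2 ?_)
    rw [pow_two, coe_mul, k _ (c12_iff.1 (band_eq_true.1 (band_eq_true.1 (allL_iff.1 rc_ok r hr)).2).1)]
    exact h2 r hr
  have k3 : ∀ i < 5, π (x (7 + i)) ^ 3 = 1 := fun i hi => by
    rw [← map_pow, show x (7 + i) ^ 3 = 1 from Subtype.ext (by rw [coe_pow, e _ (by omega), h3 i hi, coe_one]), map_one]
  simp only [RC, List.forall_mem_cons, evalW_cons, evalW_nil, mul_one, ← mul_assoc] at k2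
  obtain ⟨a0, a1, a2, a3, a4, a5, a6, a7, a8, a9, -⟩ := k2
  obtain ⟨f, b⟩ := WE6.bound (fun i => π (x (7 + i))) k3 a0 a1 a2 a3 a4 a5 a6 a7 (by rw [inv_cube (k3 2 (by decide))]; exact a8)
    (by rw [inv_cube (k3 2 (by decide)), inv_cube (k3 3 (by decide)), ← mul_assoc]; exact a9)
  generalize hJ : Subgroup.closure (G := M ⧸ N.subgroupOf M) _ = J at f b
  have f1 : Finite (N.subgroupOf M) := Finite.of_equiv _ (subgroupOfEquivOfLe le_normalizer).toEquiv.symm
  have c1 : Nat.card (J.comap π) = Nat.card J * Nat.card (N.subgroupOf M) := by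
    exact (Nat.card_congr (QuotientGroup.preimageMkEquivSubgroupProdSet _ (J : Set (M ⧸ N.subgroupOf M)))).trans
      ((Nat.card_prod _ _).trans (mul_comm _ _))
  have c2 : Nat.card (N.subgroupOf M) = Nat.card N := Nat.card_congr (subgroupOfEquivOfLe le_normalizer).toEquiv
  have f2 : Finite (J.comap π) := Nat.finite_of_card_ne_zero (by rw [c1]; exact Nat.mul_ne_zero Nat.card_pos.ne' Nat.card_pos.ne')
  refine CardLe.mono (H := (J.comap π).map M.subtype) ⟨Finite.of_surjective _ (M.subtype.subgroupMap_surjective _), ?_⟩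
    ((closure_le _).2 ?_) le_rfl
  · rw [card_subtype, c1, c2]; exact Nat.mul_le_mul b c
  rintro _ ⟨i, hi, rfl⟩
  refine ⟨x i, ?_, e i hi⟩
  rcases Nat.lt_or_ge i 7 with r | r
  · exact mem_comap.2 ((show π (x i) = 1 from (QuotientGroup.eq_one_iff _).2 (mem_subgroupOf.2 (e i hi ▸ m i r))).symm ▸ one_mem J)
  · refine mem_comap.2 (hJ ▸ Subgroup.subset_closure ?_)
    interval_cases i <;> simp

theorem evalW_mem {g : ℕ → G} {K : Subgroup G} {n : ℕ} (h : ∀ i < n, g i ∈ K) {w : List ℕ} (hw : ∀ i ∈ w, i < n) : evalW g w ∈ K := by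
  induction w with
  | nil => exact one_mem _
  | cons i w ih => exact mul_mem (h i (hw i List.mem_cons_self)) (ih fun j hj => hw j (List.mem_cons_of_mem _ hj))

theorem mem_norm {g : ℕ → G} (k : CG 128 m7 i7 (th g)) {c : G} {α : ℕ → ℕ} (h : Im g c α) : c ∈ normalizer (k.sub : Set G) := by
  have : Finite k.sub := Nat.finite_of_card_ne_zero (by rw [k.card]; decide)
  refine mem_normalizer_fintype fun x hx => ?_
  obtain ⟨a, ha, rfl⟩ := k.mem.1 hx
  exact (h a ha).2 ▸ k.mem' _

theorem exists_im {g : ℕ → G} (k : CG 128 m7 i7 (th g)) {c : G} (h : c ∈ normalizer (k.sub : Set G)) : ∃ α, Im g c α := by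
  choose α a b using fun a => k.mem.1 ((mem_normalizer_iff.1 h _).1 (k.mem' a))
  exact ⟨α, fun x _ => ⟨a x, (b x).symm⟩⟩

/-- the subgroup generated by the letters -/
def C0 : Subgroup Spor.Suz := Subgroup.closure {x | ∃ i < 12, g0 i = x}

theorem mem_C0 {w : List ℕ} (h : c12 w = true) : evalW g0 w ∈ C0 := 
  evalW_mem (fun i hi => Subgroup.subset_closure (by exact ⟨i, hi, rfl⟩)) (c12_iff.1 h)

theorem card_C0 : Nat.card C0 ≤ 3317760 := by
  have : Finite cg0.sub := Nat.finite_of_card_ne_zero (by rw [cg0.card]; decide)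
  refine (bound cg0.card.le (fun i hi => ?_) (fun i hi => th_p2 g0 hi ▸ cg0.mem' _) (fun i hi => ?_) fun r hr => ?_).2
  · simpa using mem_norm cg0 (im0 (w := [i]) (c12_iff.2 (by simpa using hi)))
  · simpa [pow_three] using e0s (cube_ok i hi)
  · obtain ⟨a, ha, e⟩ := anyL_iff.1 (band_eq_true.1 (band_eq_true.1 (band_eq_true.1 (band_eq_true.1 (allL_iff.1 rc_ok r hr)).2).2).2).2
    have := e0s e
    rw [apd_eq, evalW_append, ← th_lt _ ((by decide : ∀ a ∈ SQR, a < 128) a ha)] at this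
    exact this ▸ cg0.mem' _

theorem C0_le : C0 ≤ centralizer {g0 0} := (closure_le _).2 (by
  rintro _ ⟨i, hi, rfl⟩
  simpa using mem_centralizer_singleton_iff.2 (z0c (w := [i]) (c12_iff.2 (by simpa using hi))))

end L.SZ
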