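import Cfsg.Agent.L.SZ1

/-! Recognition of the sporadic Suzuki group (namespace `L.SZ`): letters in the centraliser. -/

set_option autoImplicit false
set_option maxRecDepth 100000

namespace L.SZ
open H13 H14.PK H14.PK.TS H27.PKx H27.MG L.DC Subgroup Cfsg

variable {G : Type*} [Group G]

theorem two_cases {z x : G} (h2 : z * z = 1) (h : x ∈ zpowers z) : x = 1 ∨ x = z := by
  obtain ⟨k, rfl⟩ := h
  have h2 : z ^ (2 : ℤ) = 1 := by rw [zpow_ofNat, pow_two, h2]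
  rcases Int.emod_two_eq_zero_or_one k with e | e
  · left; simp only; rw [zpow_eq_zpow_emod k h2, e, zpow_zero]
  · right; simp only; rw [zpow_eq_zpow_emod k h2, e, zpow_one]

theorem card_split {H X : Type*} [Group H] [Group X] (f : H →* X) (D : Subgroup H) :
    Nat.card (f.ker.subgroupOf D) * Nat.card (D.map f) = Nat.card D := by
  rw [← relIndex_ker]; exact card_mul_index _

/-- pairs of letters -/
noncomputable def gp (g : ℕ → G) (i : ℕ) : Spor.Suz × G := (g0 i, g i)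

theorem ev_gp (g : ℕ → G) (w : List ℕ) : evalW (gp g) w = (evalW g0 w, evalW g w) := by
  induction w with
  | nil => rfl
  | cons i w ih => rw [evalW_cons, ih]; rfl

theorem th_gp (g : ℕ → G) (a : ℕ) : th (gp g) a = (th g0 a, th g a) := ev_gp _ _

theorem cgp {g : ℕ → G} (h : Holds g R7) : CG 128 m7 i7 (th (gp g)) :=
  cg7 (fun r hr => by rw [ev_gp]; exact Prod.ext (hold0 r hr) (h r hr)) fun e => z0_ne (congrArg Prod.fst e)

theorem im_gp {g : ℕ → G} {p : Spor.Suz × G} {α : ℕ → ℕ} : Im (gp g) p α ↔ Im g0 p.1 α ∧ Im g p.2 α := by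
  simp only [Im, th_gp, Prod.ext_iff]
  exact ⟨fun h => ⟨fun a ha => ⟨(h a ha).1, (h a ha).2.1⟩, fun a ha => ⟨(h a ha).1, (h a ha).2.2⟩⟩,
    fun h a ha => ⟨(h.1 a ha).1, (h.1 a ha).2, (h.2 a ha).2⟩⟩

theorem Im.eq {g : ℕ → G} (k : CG 128 m7 i7 (th g)) {c : G} {α β : ℕ → ℕ} (h : Im g c α) (h' : Im g c β) {a : ℕ} (ha : a < 128) :
    α a = β a := k.inj _ (h a ha).1 _ (h' a ha).1 ((h a ha).2.symm.trans (h' a ha).2)

theorem im_one (g : ℕ → G) : Im g 1 fun a => a := fun a ha => ⟨ha, by simp⟩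

theorem im_z {g : ℕ → G} (k : CG 128 m7 i7 (th g)) : Im g (g 0) fun a => a := fun a ha => ⟨ha, by
  rw [mul_inv_eq_iff_eq_mul, ← th_one g, k.meq, (q_basic a ha).2.2.2.2.1]⟩

theorem c12_w7 (a : ℕ) : c12 (w7 (a % 128)) = true :=
  c12_iff.2 fun i hi => ((q_basic _ (Nat.mod_lt _ (by decide))).2.2.2.2.2.2.1 i hi).trans (by decide)

/-- a frame -/
structure Fr (Q : Subgroup G) (g : ℕ → G) : Prop where
  es : H03.ES Q (g 0)
  hr : Holds g R7
  sub : ∀ x, x ∈ Q ↔ ∃ a < 128, th g a = x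
  card : Nat.card (centralizer ({g 0} : Set G)) = 3317760

namespace Fr
variable {Q : Subgroup G} {g : ℕ → G} (h : Fr Q g)
include h

theorem z2 : g 0 * g 0 = 1 := h.hr (0, 0, []) (by decide)

theorem z1 : g 0 ≠ 1 := fun e => by have := h.es.aes.ord; rw [e, orderOf_one] at this; omega

theorem cg : CG 128 m7 i7 (th g) := cg7 h.hr h.z1

theorem subq : h.cg.sub = Q := Subgroup.ext fun x => h.cg.mem.trans (h.sub x).symm

theorem inQ (a : ℕ) : th g a ∈ Q := h.subq ▸ h.cg.mem' a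

/-- pairs with the same action -/
def P : Subgroup (Spor.Suz × G) := normalizer ((cgp h.hr).sub : Set _)

theorem memP {p : Spor.Suz × G} {α : ℕ → ℕ} (a : Im g0 p.1 α) (b : Im g p.2 α) : p ∈ h.P := mem_norm _ (im_gp.2 ⟨a, b⟩)

theorem imP {p : Spor.Suz × G} (r : p ∈ h.P) {β : ℕ → ℕ} (a : Im g0 p.1 β) : Im g p.2 β := by
  obtain ⟨α, b⟩ := exists_im _ r
  obtain ⟨b, c⟩ := im_gp.1 b
  exact fun x hx => b.eq cg0 a hx ▸ c x hx

theorem im {c : G} (r : c * g 0 = g 0 * c) : ∃ α, Im g c α :=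
  exists_im h.cg (by rw [h.subq]; exact h.es.norm (mem_centralizer_singleton_iff.2 r))

theorem uq {c d : G} {α : ℕ → ℕ} (a : Im g c α) (b : Im g d α) : d = c ∨ d = c * g 0 := by
  have : c⁻¹ * d ∈ zpowers (g 0) := h.es.cent fun x hx => by
    obtain ⟨x, x1, rfl⟩ := (h.sub x).1 hx
    calc _ = c⁻¹ * (c * th g x * c⁻¹) * d := by group
      _ = _ := by rw [(a x x1).2, ← (b x x1).2]; group
  exact (two_cases h.z2 this).imp (fun r => (inv_mul_eq_one.1 r).symm) fun r => by rw [← r]; group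

theorem uqP {p q : Spor.Suz × G} (a : p ∈ h.P) (b : q ∈ h.P) (e : p.1 = q.1) : q.2 = p.2 ∨ q.2 = p.2 * g 0 := by
  obtain ⟨α, r⟩ := exists_im _ a
  exact h.uq (im_gp.1 r).2 (h.imP b (e ▸ (im_gp.1 r).1))

theorem pair {c d : G} {α β : ℕ → ℕ} (a : Im g c α) (b : Im g d β) (cz : c * g 0 = g 0 * c) (dz : d * g 0 = g 0 * d) {u v : List ℕ}
    (hu : c12 u = true) (hv : c12 v = true) (e : ∀ i < 7, apw u (α (p2 i)) = apw v (β (p2 i))) :
    ((evalW g0 u)⁻¹ * evalW g0 v, c * d⁻¹) ∈ h.P := by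
  obtain ⟨γ, r⟩ := h.im (c := d⁻¹) (Commute.inv_left dz)
  refine h.memP (fun x hx => ⟨((a.mul r) x hx).1, ?_⟩) (a.mul r)
  have e1 : β (γ x) = x := (b.mul r).eq h.cg (by simpa using im_one g) hx
  have e2 := ((auw hu).comp (a.au h.cg cz)).ext ((auw hv).comp (b.au h.cg dz)) e _ (r x hx).1
  simp only [e1] at e2
  have e3 := (im0 hv x hx).2
  rw [← e2, ← (im0 hu _ (a _ (r x hx).1).1).2] at e3
  calc _ = (evalW g0 u)⁻¹ * (evalW g0 v * th g0 x * (evalW g0 v)⁻¹) * evalW g0 u := by group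
    _ = _ := by rw [e3]; group

variable [Finite G] (no : ∀ K : Subgroup G, Q ≤ K → K ≤ centralizer {g 0} → (∀ x ∈ centralizer {g 0}, ∀ y ∈ centralizer {g 0},
  x ∈ K ∨ y ∈ K ∨ x * y⁻¹ ∈ K) → centralizer {g 0} ≤ K)
include no

theorem onto : (h.P ⊓ C0.prod (centralizer {g 0})).map (MonoidHom.snd _ _) = centralizer {g 0} := by
  have le : (h.P ⊓ C0.prod (centralizer {g 0})).map (MonoidHom.snd _ _) ≤ centralizer {g 0} := by
    rintro _ ⟨p, a, rfl⟩; exact a.2.2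
  refine le_antisymm le (no _ (fun x hx => ?_) le fun x hx y hy => ?_)
  · obtain ⟨a, -, rfl⟩ := (h.sub x).1 hx
    exact ⟨th (gp g) a, ⟨le_normalizer ((cgp h.hr).mem' a), th_gp g a ▸ ⟨mem_C0 (c12_w7 a), H03.aes_le h.es.aes hx⟩⟩, congrArg Prod.snd (th_gp g a)⟩
  have k : ∀ x ∈ centralizer {g 0}, x ∈ (h.P ⊓ C0.prod (centralizer {g 0})).map (MonoidHom.snd _ _) ∨ ∃ α w, Im g x α ∧ c12 w = true ∧
      ∀ i < 7, apw w (α (p2 i)) = if i = 6 then 96 else p2 i := fun x hx => by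
    have xz := mem_centralizer_singleton_iff.1 hx
    obtain ⟨α, a⟩ := h.im xz
    obtain ⟨w, b, c, d | d⟩ := (a.au h.cg xz).norm 6 (by decide)
    · exact .inl ⟨_, ⟨h.pair a (im_one g) xz (by simp) b (v := []) rfl fun i hi =>
        (Nat.lt_succ_iff_lt_or_eq.1 hi).elim (c i) fun r => r ▸ d, C0.mul_mem (C0.inv_mem (mem_C0 b)) C0.one_mem, by simpa using hx⟩, by simp⟩
    · refine .inr ⟨α, w, a, b, fun i hi => ?_⟩
      split_ifs with r
      exacts [r ▸ d.2, c i (by omega)]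
  rcases k x hx with r | ⟨α, u, a1, a2, a3⟩
  · exact .inl r
  rcases k y hy with r | ⟨β, v, b1, b2, b3⟩
  · exact .inr (.inl r)
  exact .inr (.inr ⟨_, ⟨h.pair a1 b1 (mem_centralizer_singleton_iff.1 hx) (mem_centralizer_singleton_iff.1 hy) a2 b2 fun i hi =>
    (a3 i hi).trans (b3 i hi).symm, C0.mul_mem (C0.inv_mem (mem_C0 a2)) (mem_C0 b2), Subgroup.mul_mem _ hx (Subgroup.inv_mem _ hy)⟩, rfl⟩)

theorem onto0 : (h.P ⊓ C0.prod (centralizer {g 0})).map (MonoidHom.fst _ _) = C0 ∧ Nat.card C0 = 3317760 := by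
  have a := card_split (MonoidHom.snd _ _) (h.P ⊓ C0.prod (centralizer {g 0}))
  have b := card_split (MonoidHom.fst _ _) (h.P ⊓ C0.prod (centralizer {g 0}))
  rw [h.onto no, h.card] at a
  have a1 : 1 < Nat.card ((MonoidHom.snd _ _).ker.subgroupOf (h.P ⊓ C0.prod (centralizer {g 0}))) :=
    (one_lt_card_iff_ne_bot _).2 fun r => z0_ne (congrArg (·.1.1) (mem_bot.1 (r.le (show (⟨(g0 0, 1), h.memP (im_z cg0) (im_one g),
      by simpa using mem_C0 (w := [0]) rfl, one_mem _⟩ : (h.P ⊓ C0.prod (centralizer {g 0}) : Subgroup _)) ∈ _ from rfl))))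
  have b1 : Nat.card ((MonoidHom.fst _ _).ker.subgroupOf (h.P ⊓ C0.prod (centralizer {g 0}))) ≤ 2 := by
    rw [← h.es.card_z]
    refine Nat.card_le_card_of_injective (fun p => ⟨p.1.1.2, ?_⟩) fun p q r =>
      Subtype.ext (Subtype.ext (Prod.ext (p.2.trans q.2.symm) (congrArg Subtype.val r)))
    rcases h.uqP (one_mem _) p.1.2.1 p.2.symm with r | r <;> rw [r] <;> simp
  have le : (h.P ⊓ C0.prod (centralizer {g 0})).map (MonoidHom.fst _ _) ≤ C0 := by rintro _ ⟨p, a, rfl⟩; exact a.2.1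
  have c := card_C0
  have d := card_le_of_le le
  have : 3317760 ≤ Nat.card ((h.P ⊓ C0.prod (centralizer {g 0})).map (MonoidHom.fst _ _)) := by nlinarith
  exact ⟨eq_of_le_of_card_ge le (by omega), by omega⟩

end Fr

/-- letters acting as those of the Suzuki group -/
structure Pre (Q : Subgroup G) (g : ℕ → G) : Prop extends Fr Q g where
  sim : ∀ i < 12, Im g (g i) (ac i)
  cube : ∀ i < 5, g (7 + i) ^ 3 = 1
  onto : ∀ c, c * g 0 = g 0 * c → ∃ c0 ∈ C0, ∃ α, Im g0 c0 α ∧ Im g c α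
  c0 : Nat.card C0 = 3317760

theorem im0' {i : ℕ} (hi : i < 12) : Im g0 (g0 i) (ac i) :=
  mul_one (g0 i) ▸ im0 (w := [i]) (c12_iff.2 (by simpa using hi))

theorem Pre.congr {Q : Subgroup G} {g g' : ℕ → G} (h : Fr Q g) (e : ∀ i < 7, g' i = g i) : th g' = th g ∧ Fr Q g' := by
  have k : ∀ w : List ℕ, (∀ i ∈ w, i < 7) → evalW g' w = evalW g w := fun w hw => by
    unfold evalW; rw [List.map_congr_left fun i hi => e i (hw i hi)]
  have t : th g' = th g := funext fun a => k _ (q_basic _ (Nat.mod_lt _ (by decide))).2.2.2.2.2.2.1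
  refine ⟨t, e 0 (by decide) ▸ h.es, fun r hr => ?_, t ▸ h.sub, e 0 (by decide) ▸ h.card⟩
  obtain ⟨a, b, c⟩ := (by decide : ∀ r ∈ R7, r.1 < 7 ∧ r.2.1 < 7 ∧ ∀ i ∈ r.2.2, i < 7) r hr
  rw [e _ a, e _ b, k _ c, h.hr r hr]

theorem Fr.pre [Finite G] {Q : Subgroup G} {g : ℕ → G} (h : Fr Q g) (no : ∀ K : Subgroup G, Q ≤ K → K ≤ centralizer {g 0} →
    (∀ x ∈ centralizer {g 0}, ∀ y ∈ centralizer {g 0}, x ∈ K ∨ y ∈ K ∨ x * y⁻¹ ∈ K) → centralizer {g 0} ≤ K) :
    ∃ g', g' 0 = g 0 ∧ Pre Q g' := by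
  have : ∀ i, ∃ x, i < 5 → Im g x (ac (7 + i)) ∧ x ^ 3 = 1 := fun i => by
    by_cases hi : i < 5
    swap
    · exact ⟨1, fun r => (hi r).elim⟩
    obtain ⟨p, ⟨a, -, c⟩, b⟩ := (h.onto0 no).1.ge (show g0 (7 + i) ∈ C0 from Subgroup.subset_closure ⟨_, by omega, rfl⟩)
    have i1 := h.imP a (show Im g0 p.1 _ from b ▸ im0' (by omega : 7 + i < 12))
    have : p.1 ^ 3 = 1 := by rw [show p.1 = _ from b]; simpa [pow_three] using e0s (cube_ok i hi)
    rcases h.uqP (one_mem _) (pow_mem a 3) this.symm with r | r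
    · exact ⟨_, fun _ => ⟨i1, r⟩⟩
    · refine ⟨_, fun _ => ⟨i1.mul (im_z h.cg), ?_⟩⟩
      rw [(show Commute p.2 (g 0) from mem_centralizer_singleton_iff.1 c).mul_pow, show p.2 ^ 3 = g 0 by simpa using r, pow_three, h.z2,
        mul_one, h.z2]
  choose x hx using this
  obtain ⟨t, k⟩ := Pre.congr h (g' := fun i => if i < 7 then g i else x (i - 7)) fun i hi => if_pos hi
  refine ⟨_, if_pos (by decide), k, fun i hi => ?_, fun i hi => ?_, fun c hc => ?_, (h.onto0 no).2⟩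
  · by_cases r : i < 7
    · exact k.imP (p := gp _ i) (by rw [← th_p2 (gp _) r]; exact le_normalizer ((cgp k.hr).mem' _)) (im0' hi)
    · obtain ⟨j, rfl⟩ : ∃ j, i = 7 + j := ⟨i - 7, by omega⟩
      simpa only [Im, t, if_neg r, Nat.add_sub_cancel_left] using (hx j (by omega)).1
  · simpa using (hx i hi).2
  · obtain ⟨p, ⟨a, b, -⟩, rfl⟩ := (h.onto no).ge (mem_centralizer_singleton_iff.2 hc)
    obtain ⟨α, r⟩ := exists_im _ a
    exact ⟨_, b, α, (im_gp.1 r).1, by simp only [Im, t]; exact (im_gp.1 r).2⟩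

end L.SZ
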