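import Cfsg.Agent.L.SZM

/-! Recognition of the sporadic Suzuki group (namespace `L.SZ`): two conjugate extraspecial groups. -/

set_option autoImplicit false
set_option maxRecDepth 100000

namespace L.SZ
open H13 H14.PK H14.PK.TS H27.PKx H27.MG L.DC Subgroup Cfsg

variable {G : Type*} [Group G]

theorem x_ok : (∀ c < 128, 1 < c → m7 c c = 0 → anyL (fun e => band (c12 e.2) (Nat.beq (apw e.2 c) 2)) (nd [] LV 1) = true) ∧
    (∀ c < 4, m7 c 8 = 8 + c ∧ m7 c 16 = 16 + c ∧ m7 c 32 = 32 + c ∧ m7 c 64 = 64 + c) ∧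
    (∀ n < 256, ∀ i < 7, nd 0 (ln n) i < 128) ∧ apw wf 2 = 2 ∧ c12 wf = true := by decide +kernel

theorem ln_inj {n m : ℕ} (hn : n < 256) (hm : m < 256) (e : ∀ i < 7, i ≠ 2 → nd 0 (ln n) i = nd 0 (ln m) i) : n = m := by
  have a : 8 + n % 4 = 8 + m % 4 := e 3 (by decide) (by decide)
  have b : 16 + n / 4 % 4 = 16 + m / 4 % 4 := e 4 (by decide) (by decide)
  have c : 32 + n / 16 % 4 = 32 + m / 16 % 4 := e 5 (by decide) (by decide)
  have d : 64 + n / 64 % 4 = 64 + m / 64 % 4 := e 6 (by decide) (by decide)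
  omega

theorem pr_lt (l : List ℕ) : pr m7 l < 128 := by
  cases l with
  | nil => exact (by decide : 0 < 128)
  | cons a l => exact m7_lt _ _

theorem Pre.imw {Q : Subgroup G} {g : ℕ → G} (h : Pre Q g) {w : List ℕ} (hw : c12 w = true) : Im g (evalW g w) (apw w) := by
  induction w with
  | nil => exact im_one g
  | cons i w ih =>
    obtain ⟨a, b⟩ := List.forall_mem_cons.1 (c12_iff.1 hw)
    exact (h.sim i a).mul (ih (c12_iff.2 b))

theorem Pre.zc {Q : Subgroup G} {g : ℕ → G} (h : Pre Q g) {w : List ℕ} (hw : c12 w = true) : evalW g w * g 0 = g 0 * evalW g w := by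
  have := (h.imw hw 1 (by decide)).2
  rwa [(auw hw).one, th_one, mul_inv_eq_iff_eq_mul] at this

theorem Pre.sc {Q : Subgroup G} {g : ℕ → G} (h : Pre Q g) {w : List ℕ} (hw : c12 w = true) (e : apw w 2 = 2) :
    evalW g w * g 1 = g 1 * evalW g w := by
  have := (h.imw hw 2 (by decide)).2
  rwa [e, th_two, mul_inv_eq_iff_eq_mul] at this

/-- the four-group -/
def V (g : ℕ → G) (x : G) : Prop := x = 1 ∨ x = g 0 ∨ x = g 1 ∨ x = g 0 * g 1

theorem V.comm {g : ℕ → G} {x y : G} (h : V g x) (a : y * g 0 = g 0 * y) (b : y * g 1 = g 1 * y) : Commute y x := by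
  rcases h with rfl | rfl | rfl | rfl
  exacts [Commute.one_right _, a, b, Commute.mul_right a b]

theorem V.mem {g : ℕ → G} {x : G} (h : V g x) {K : Subgroup G} (a : g 0 ∈ K) (b : g 1 ∈ K) : x ∈ K := by
  rcases h with rfl | rfl | rfl | rfl
  exacts [one_mem _, a, b, mul_mem a b]

theorem V_th (g : ℕ → G) {c : ℕ} (h : c < 4) : V g (th g c) := by
  interval_cases c
  exacts [.inl rfl, .inr (.inl (th_one g)), .inr (.inr (.inl (th_two g))), .inr (.inr (.inr (congrArg _ (mul_one _))))]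

theorem V.th {g : ℕ → G} {x : G} (h : V g x) : ∃ c < 4, th g c = x := by
  rcases h with rfl | rfl | rfl | rfl
  exacts [⟨0, by decide, rfl⟩, ⟨1, by decide, th_one g⟩, ⟨2, by decide, th_two g⟩, ⟨3, by decide, congrArg _ (mul_one _)⟩]

/-- the action on the centraliser of `s` in `Q` -/
def Ac (g : ℕ → G) (a : G) (n : ℕ) : Prop := ∀ i < 7, i ≠ 2 → a * g i * a⁻¹ = th g (nd 0 (ln n) i)

namespace Fr
variable {Q : Subgroup G} {g : ℕ → G} (h : Fr Q g)
include h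

theorem s2 : g 1 * g 1 = 1 := h.hr (1, 1, []) (by decide)

theorem sz : g 1 * g 0 = g 0 * g 1 := by simpa using h.hr (1, 0, [0, 1]) (by decide)

theorem zs : g 0 ≠ g 1 := fun e => absurd (h.cg.inj 1 (by decide) 2 (by decide) (by rwa [th_one, th_two])) (by decide)

theorem s1 : g 1 ≠ 1 := fun e => absurd (h.cg.inj 2 (by decide) 0 (by decide) (by rwa [th_two])) (by decide)

theorem gQ {i : ℕ} (hi : i < 7) : g i ∈ Q := th_p2 g hi ▸ h.inQ _

theorem zs1 {x : G} (a : x ∈ zpowers (g 0)) (b : x ∈ zpowers (g 1)) : x = 1 :=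
  (two_cases h.z2 a).elim id fun r => (two_cases h.s2 b).resolve_right fun s => h.zs (r.symm.trans s)

theorem V2 {x : G} (a : V g x) : x * x = 1 := by
  rcases a with rfl | rfl | rfl | rfl
  exacts [mul_one _, h.z2, h.s2, by rw [mul_assoc, ← mul_assoc (g 1), h.sz, mul_assoc, h.s2, mul_one, h.z2]]

theorem gz {i : ℕ} (hi : i < 7) : g i * g 0 = g 0 * g i := mem_centralizer_singleton_iff.1 (H03.aes_le h.es.aes (h.gQ hi))

theorem gs {i : ℕ} (hi : i < 7) (h2 : i ≠ 2) : g i * g 1 = g 1 * g i := by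
  rw [← th_p2 g hi, ← th_two g, h.cg.meq]
  exact (by decide +kernel : ∀ i < 7, i ≠ 2 → m7 (p2 i) 2 = m7 2 (p2 i)) i hi h2

theorem conj_ap {a : G} {n c : ℕ} (r : Ac g a n) (hc : c < 128) (b : bt c 2 = false) : a * th g c * a⁻¹ = th g (ap (ln n) c) := by
  obtain ⟨-, -, -, -, -, -, p, -, q, -⟩ := q_basic c hc
  rw [th_lt g hc, ap, ← h.cg.pr]
  replace q := q b
  generalize w7 c = w at p q
  induction w with
  | nil => simp
  | cons i w ih =>
    simp only [List.mem_cons, forall_eq_or_imp, not_or] at p q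
    rw [evalW_cons, ← conj_mul, ih p.2 q.2, r i p.1 (Ne.symm q.1)]; rfl

theorem cenV [Finite G] {x : G} (r : ∀ i < 7, i ≠ 2 → x * g i = g i * x) : V g x := by
  refine H03.mem_four h.z2 h.s2 h.sz ((sup_le ?_ ?_ : _ ≤ Subgroup.closure {g 0, g 1})
    (h.es.cent_cent1 (h.gQ (by decide)) h.s2 fun y hy => ?_))
  · exact zpowers_le.2 (Subgroup.subset_closure (by simp))
  · exact zpowers_le.2 (Subgroup.subset_closure (by simp))
  obtain ⟨c, hc, rfl⟩ := (h.sub y).1 hy.1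
  have := mem_centralizer_singleton_iff.1 hy.2
  rw [← th_two g, h.cg.meq] at this
  obtain ⟨-, -, -, -, -, -, p, b, q, -⟩ := q_basic c hc
  replace q := q (b this)
  rw [th_lt g hc]
  generalize w7 c = w at p q
  induction w with
  | nil => simp
  | cons i w ih =>
    simp only [List.mem_cons, forall_eq_or_imp, not_or] at p q
    exact Commute.mul_left (r i p.1 (Ne.symm q.1)).symm (ih p.2 q.2)

theorem same [Finite G] {a b : G} {n : ℕ} (r : Ac g a n) (s : Ac g b n) : V g (b⁻¹ * a) := h.cenV fun i hi h2 => by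
  calc _ = b⁻¹ * (a * g i * a⁻¹) * a := by group
    _ = _ := by rw [r i hi h2, ← s i hi h2]; group

end Fr

/-- an element interchanging `z` and `s` -/
structure Sw (Q : Subgroup G) (g : ℕ → G) (t : G) : Prop extends Pre Q g where
  tz : t * g 0 * t⁻¹ = g 1
  ts : t * g 1 * t⁻¹ = g 0

theorem Pre.sw [Finite G] {Q : Subgroup G} {g : ℕ → G} (h : Pre Q g) {a : G} (h1 : a * g 0 * a⁻¹ ∈ Q) (h2 : a * g 0 * a⁻¹ ≠ g 0) :
    ∃ t, Sw Q g t := by
  obtain ⟨c, hc, e⟩ := (h.sub _).1 h1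
  obtain ⟨p, -, r⟩ := anyL_iff.1 (x_ok.1 c hc (by
    by_contra r
    interval_cases c
    exacts [h.z1 (conj_eq_one_iff.1 e.symm), h2 (e.symm.trans (th_one g))]) (h.cg.meq1.1 (e ▸ cj_sq h.z2)))
  obtain ⟨r1, r2⟩ := band_eq_true.1 r
  have k := (h.imw r1 c hc).2
  rw [Nat.eq_of_beq_eq_true r2, th_two, e] at k
  replace k : evalW g p.2 * a * g 0 * (evalW g p.2 * a)⁻¹ = g 1 := by rw [← k]; group
  obtain ⟨t, -, t1, t2⟩ := H03.exists_trans h.es.lx (k ▸ (h.es.cj _).lx) (h.gQ (by decide))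
    (h.es.lx.sym' (k ▸ h.gQ (by decide)) (by rw [← h.subq, h.cg.card]; decide)) h.zs.symm (u := g 1) (v := g 0)
    (Subgroup.subset_closure (by simp)) (Subgroup.subset_closure (by simp)) h.s1 h.z1 h.zs.symm
  exact ⟨t, h, t1, t2⟩

namespace Sw
variable {Q : Subgroup G} {g : ℕ → G} {t : G} (h : Sw Q g t)
include h

theorem es' : H03.ES (BG.cj t Q) (g 1) := h.tz ▸ h.es.cj t

theorem zq : g 0 ∈ BG.cj t Q := h.ts ▸ BG.conj_mem_cj _ (h.gQ (by decide))

theorem nQ {x a : G} (r : x * g 0 = g 0 * x) (ha : a ∈ Q) : x * a * x⁻¹ ∈ Q :=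
  (mem_normalizer_iff.1 (h.es.norm (mem_centralizer_singleton_iff.2 r)) a).1 ha

theorem nQ' {x a : G} (r : x * g 1 = g 1 * x) (ha : a ∈ BG.cj t Q) : x * a * x⁻¹ ∈ BG.cj t Q :=
  (mem_normalizer_iff.1 (h.es'.norm (mem_centralizer_singleton_iff.2 r)) a).1 ha

theorem cs {a : G} (ha : a ∈ BG.cj t Q) : a * g 1 = g 1 * a := mem_centralizer_singleton_iff.1 (H03.aes_le h.es'.aes ha)

theorem VQ' {x : G} (a : V g x) : x ∈ BG.cj t Q := a.mem h.zq h.es'.aes.mem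

theorem inter {x : G} (a : x ∈ Q) (b : x ∈ BG.cj t Q) : V g x := by
  obtain ⟨c, hc, rfl⟩ := (h.sub _).1 a
  have p := h.cs b
  rw [← th_two g, h.cg.meq] at p
  refine V_th g ((f5_ok c hc ((q_basic c hc).2.2.2.2.2.2.2.1 p) (h.cg.meq1.1 ?_)).resolve_right fun r => r (h.cg.meq.1 ?_))
  · rw [← pow_two]; exact h.zs1 (h.es.aes.pow _ a) (h.es'.aes.pow _ b)
  · rw [← (h.imw x_ok.2.2.2.2 c hc).2]
    exact commutatorElement_eq_one_iff_mul_comm.1 (h.zs1 (h.es.aes.comm _ a _ (h.nQ (h.zc x_ok.2.2.2.2) a))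
      (h.es'.aes.comm _ b _ (h.nQ' (h.sc x_ok.2.2.2.2 x_ok.2.2.2.1) b)))

theorem exAc {a : G} (ha : a ∈ BG.cj t Q) (z : a * g 0 = g 0 * a) : ∃ n < 256, Ac g a n := by
  have k : ∀ i < 7, i ≠ 2 → ∃ c < 4, a * g i * a⁻¹ = th g (m7 c (p2 i)) := fun i hi h2 => by
    obtain ⟨c, c1, c2⟩ := (h.inter (x := a * g i * a⁻¹ * (g i)⁻¹) (mul_mem (h.nQ z (h.gQ hi)) (inv_mem (h.gQ hi))) (by
      simpa only [mul_assoc] using mul_mem ha (h.nQ' (h.gs hi h2) (inv_mem ha)))).th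
    exact ⟨c, c1, by rw [← h.cg.mul, c2, th_p2 g hi, inv_mul_cancel_right]⟩
  obtain ⟨c3, a3, b3⟩ := k 3 (by decide) (by decide)
  obtain ⟨c4, a4, b4⟩ := k 4 (by decide) (by decide)
  obtain ⟨c5, a5, b5⟩ := k 5 (by decide) (by decide)
  obtain ⟨c6, a6, b6⟩ := k 6 (by decide) (by decide)
  refine ⟨c3 + 4 * c4 + 16 * c5 + 64 * c6, by omega, fun i hi h2 => ?_⟩
  interval_cases i
  · rw [z, mul_inv_cancel_right]; exact (th_one g).symm
  · rw [h.cs ha, mul_inv_cancel_right]; exact (th_two g).symm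
  · exact (h2 rfl).elim
  · exact b3.trans (congrArg (th g) ((x_ok.2.1 _ a3).1.trans (by change _ = 8 + _ % 4; omega)))
  · exact b4.trans (congrArg (th g) ((x_ok.2.1 _ a4).2.1.trans (by change _ = 16 + _ / 4 % 4; omega)))
  · exact b5.trans (congrArg (th g) ((x_ok.2.1 _ a5).2.2.1.trans (by change _ = 32 + _ / 16 % 4; omega)))
  · exact b6.trans (congrArg (th g) ((x_ok.2.1 _ a6).2.2.2.trans (by change _ = 64 + _ / 64 % 4; omega)))

variable [Finite G]

theorem f2 {a b : G} {n m : ℕ} (ha : a ∈ BG.cj t Q) (hb : b ∈ BG.cj t Q) (r : Ac g a n) (s : Ac g b m) (hn : n < 256) (hm : m < 256)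
    (e : Nat.land n 170 = Nat.land m 170) : V g (b⁻¹ * a) ∧ n = m := by
  have k := (bor_eq_true.1 (allLt_iff.1 (allLt_iff.1 xt_ok n hn) m hm)).resolve_left fun r => bn_iff.1 r (Nat.beq_eq ▸ e)
  simp only [force_eq, allL_iff, Nat.beq_eq] at k
  generalize get 7 XT _ = x at k
  have s' : Ac g (th g x * b) n := fun i hi h2 => by
    rw [← k i (by interval_cases i <;> simp at h2 ⊢), ← h.cg.cj, ← s i hi h2]; group
  have v := h.same r s'
  have xv := h.inter (h.inQ x) (by simpa using mul_mem (mul_mem ha (inv_mem (h.VQ' v))) (inv_mem hb))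
  have bz : b * g 0 = g 0 * b := mul_inv_eq_iff_eq_mul.1 ((s 0 (by decide) (by decide)).trans (th_one g))
  have p : Ac g b n := fun i hi h2 => by
    rw [← s' i hi h2, ← (xv.comm bz (h.cs hb)).eq, mul_assoc b (th g x), ← (xv.comm (h.gz hi) (h.gs hi h2)).eq]; group
  exact ⟨h.same r p, ln_inj hn hm fun i hi h2 => h.cg.inj _ (x_ok.2.2.1 n hn i hi) _ (x_ok.2.2.1 m hm i hi)
    ((p i hi h2).symm.trans (s i hi h2))⟩

omit [Finite G] in
theorem step {j n : ℕ} (hj : j ∈ [0, 1]) (r : n < 256 ∧ ∃ a ∈ BG.cj t Q, a * a = g 1 ∧ Ac g a n) :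
    tk j n < 256 ∧ ∃ a ∈ BG.cj t Q, a * a = g 1 ∧ Ac g a (tk j n) := by
  obtain ⟨hn, a, a1, a2, a3⟩ := r
  replace hj : j < 2 := by simp at hj; omega
  obtain ⟨k1, k2, -⟩ := k_ok.1 j hj
  have s := h.sc k1 k2
  refine ⟨get_lt 8 _ _, _, h.nQ' s a1, by rw [conj_mul, a2, s, mul_inv_cancel_right], fun i hi h2 => ?_⟩
  obtain ⟨b1, b2, b3, b4⟩ := (tk_ok j hj i hi).resolve_left h2
  rw [← Nat.eq_of_beq_eq_true (allLt_iff.1 b4 n hn), ← (h.imw k1 (ap _ _) (pr_lt _)).2, ← h.conj_ap a3 b1 b2, ← th_p2 g hi, ← b3,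
    ← (h.imw k1 _ b1).2]
  group

theorem wq {a : G} {n : ℕ} {w : List ℕ} (hw : c12 w = true) (e : ∀ i < 7, i ≠ 2 → apw w (p2 i) = nd 0 (ln n) i) (a1 : a ∈ BG.cj t Q)
    (a2 : a * a = g 1) (a3 : Ac g a n) : evalW g w ∈ BG.cj t Q ∧ evalW g w * evalW g w = g 1 := by
  have v := h.same (a := evalW g w) (fun i hi h2 => by rw [← e i hi h2, ← (h.imw hw _ (q_ep i hi).1).2, th_p2 g hi]) a3
  have az : a * g 0 = g 0 * a := mul_inv_eq_iff_eq_mul.1 ((a3 0 (by decide) (by decide)).trans (th_one g))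
  rw [← mul_inv_cancel_left a (evalW g w)]
  generalize a⁻¹ * evalW g w = x at v
  exact ⟨mul_mem a1 (h.VQ' v), by rw [(v.comm az (h.cs a1)).symm.mul_mul_mul_comm, a2, h.V2 v, mul_one]⟩

theorem b1 : evalW g wr ∈ BG.cj t Q ∧ evalW g wr * evalW g wr = g 1 := by
  have tz : ∀ {x}, x * g 1 = g 1 * x → t * x * t⁻¹ * g 0 = g 0 * (t * x * t⁻¹) := fun r => h.ts ▸ cj_comm r
  have a1 : t * g 5 * t⁻¹ ∈ BG.cj t Q := BG.conj_mem_cj _ (h.gQ (by decide))
  have a2 : t * g 5 * t⁻¹ * (t * g 5 * t⁻¹) = g 1 := by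
    rw [conj_mul, show g 5 * g 5 = g 0 by simpa using h.hr (5, 5, [0]) (by decide), h.tz]
  obtain ⟨n, hn, a3⟩ := h.exAc a1 (tz (h.gs (by decide) (by decide)))
  generalize t * g 5 * t⁻¹ = a at a1 a2 a3
  have o := orb_spec (P := fun n => n < 256 ∧ ∃ a ∈ BG.cj t Q, a * a = g 1 ∧ Ac g a n) (fun j hj n => h.step hj) 100 (st := [n]) (M := sb 0 n)
    (fun p hp => List.mem_singleton.1 hp ▸ ⟨hn, a, a1, a2, a3⟩)
    fun p hp => List.mem_singleton.1 (bt_mkM (l := [n]) hp) ▸ ⟨hn, a, a1, a2, a3⟩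
  have k := allLt_iff.1 orb_ok n hn
  simp only [orbOk, force_eq, bor_eq_true] at k
  generalize orb tk _ _ _ _ = M at o k
  rcases k with k | k | k | k | k
  · have := (h.f2 a1 (one_mem _) a3 (m := 0) (fun i hi h2 => by
      rw [(by decide : ∀ i < 7, i ≠ 2 → nd 0 (ln 0) i = p2 i) i hi h2, th_p2 g hi]; simp) hn (by decide) (Nat.eq_of_beq_eq_true k)).1
    rw [inv_one, one_mul] at this
    exact (h.s1 (a2.symm.trans (h.V2 this))).elim
  · obtain ⟨-, b, b1, b2, b3⟩ := o _ k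
    exact h.wq r_ok.2.2.1 (fun i hi h2 => ((r_ok.2.2.2.2.1 i hi).resolve_left h2).1) b1 b2 b3
  · obtain ⟨-, b, b1, b2, b3⟩ := o _ k
    have := (h.wq r_ok.2.2.2.1 (fun i hi h2 => ((r_ok.2.2.2.2.1 i hi).resolve_left h2).2) b1 b2 b3).2
    have p := h.memP (p := (_, _)) (im0 r_ok.2.2.2.1) (h.imw r_ok.2.2.2.1)
    have q := e0s r_ok.2.1
    rw [apd_eq, evalW_append] at q
    rcases h.uqP (one_mem _) (mul_mem p p) q.symm with r | r
    exacts [(h.s1 (this.symm.trans r)).elim, (h.zs ((one_mul _).symm.trans (r.symm.trans this))).elim]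
  · refine (bn_iff.1 k (allLt_iff.2 fun m hm => ?_)).elim
    simp only [bor_eq_true, bn_iff, Nat.beq_eq]
    by_contra r
    simp only [not_or, not_not] at r
    obtain ⟨-, b, b1, -, b3⟩ := o _ r.1
    exact r.2.1 (h.f2 b1 a1 b3 a3 hm hn r.2.2).2
  obtain ⟨k1, k2⟩ := band_eq_true.1 k
  have t2 : ∀ {x}, x ∈ BG.cj t Q → t * x * t⁻¹ ∈ Q := fun {x} r => by
    have := h.nQ (x := t * t) (by
      rw [← mul_inv_eq_iff_eq_mul]; exact Eq.trans (by rw [← h.tz]; group) h.ts) (BG.mem_cj.1 r)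
    simpa [mul_assoc] using this
  have ts : ∀ {x}, x * g 0 = g 0 * x → t * x * t⁻¹ * g 1 = g 1 * (t * x * t⁻¹) := fun r => h.tz ▸ cj_comm r
  have az : ∀ {a n}, Ac g a n → a * g 0 = g 0 * a := fun r => mul_inv_eq_iff_eq_mul.1 ((r 0 (by decide) (by decide)).trans (th_one g))
  have n2 : ∀ {c}, c < 128 → th g c * g 1 = g 1 * th g c → bt c 2 = false := fun {c} hc r =>
    (q_basic c hc).2.2.2.2.2.2.2.1 (h.cg.meq.1 (by rwa [th_two]))
  obtain ⟨c, hc, e⟩ := (h.sub _).1 (t2 a1)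
  have c2 := n2 hc (e ▸ ts (az a3))
  replace k2 := allLt_iff.1 k2 c hc
  simp only [c2, bor_eq_true, bn_iff, Nat.beq_eq, allLt_iff, force_eq, Bool.false_eq_true, false_or] at k2
  refine (k2.elim (fun r => r (h.cg.inj _ (m7_lt _ _) _ (by decide) ?_)) fun r => r fun m hm => ?_).elim
  · rw [← h.cg.mul, e, conj_mul, a2, h.ts, th_one]
  refine or_iff_not_imp_left.2 fun r => ?_
  obtain ⟨-, b, b1, -, b3⟩ := o _ (not_not.1 r)
  obtain ⟨d, hd, f⟩ := (h.sub _).1 (BG.mem_cj.1 b1)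
  have f' : b = t * th g d * t⁻¹ := by rw [f]; group
  have d2 := n2 hd (by rw [← mul_right_inj t, ← mul_left_inj t⁻¹, ← conj_mul, ← conj_mul, ← f', h.ts, az b3])
  have p := h.conj_ap a3 hd d2
  have q := h.conj_ap b3 hc c2
  replace k1 := allLt_iff.1 k1 d hd
  simp only [d2, bor_eq_true, Nat.beq_eq, force_eq, Bool.false_eq_true, false_or] at k1
  refine k1.imp (fun r => h.cg.inj _ (pr_lt _) _ hc ?_) fun r => h.cg.inj _ (pr_lt _) _ (m7_lt _ _) ?_
  · rw [r, mul_inv_eq_iff_eq_mul] at p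
    rw [← ap, ← q, e, f', ← cj_comm p, mul_inv_cancel_right]
  · rw [r, ← h.cg.mul, th_two, mul_inv_eq_iff_eq_mul, mul_assoc, ← h.cs a1, ← mul_assoc] at p
    have : b * th g c = th g c * b * g 0 := by
      rw [e, f', ← h.ts, conj_mul, conj_mul, conj_mul, p, mul_assoc _ (g 1), h.s2, mul_one]
    rw [← ap, ← q, ← h.cg.mul, th_one, this, mul_assoc _ b, az b3]; group

end Sw

end L.SZ
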