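import Cfsg.Agent.L.SZ2

/-! Recognition of the sporadic Suzuki group (namespace `L.SZ`): the interface `Mid` between the local analysis and the end. -/

set_option autoImplicit false
set_option maxRecDepth 100000

namespace L.SZ
open H13 H14.PK H14.PK.TS H27.PKx H27.MG L.DC Subgroup Cfsg

variable {G : Type*} [Group G]

/-- the letters `0..11` generate a copy of the centraliser in the Suzuki group, and `wu` acts as it should -/
structure Mid (Q : Subgroup G) (g : ℕ → G) : Prop extends Pre Q g where
  tr : ∀ u v, c12 u = true → c12 v = true → (evalW g u = evalW g v ↔ evalW g0 u = evalW g0 v)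
  wd : ∀ c, c * g 0 = g 0 * c → ∃ w, c12 w = true ∧ evalW g w = c
  uk : ∀ w w', uk w w' = true → evalW g wu * evalW g (kx w) = evalW g w' * evalW g wu
  u2 : evalW g wu * evalW g wu = 1

/-- transfer of relations from `PSU(4,3)`, modulo the element of order three -/
def U4tr (g : ℕ → G) : Prop := ∀ u v, eU u v = true → ∃ k : ℕ, evalW g (ux u) = evalW g (ux v) * g 7 ^ k

theorem ec_of {g : ℕ → G} (tr : ∀ u v, c12 u = true → c12 v = true → (evalW g u = evalW g v ↔ evalW g0 u = evalW g0 v))
    {u v : List ℕ} (e : ec u v = true) : evalW g u = evalW g v := by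
  obtain ⟨a, b⟩ := band_eq_true.1 e
  obtain ⟨a, c⟩ := band_eq_true.1 a
  exact (tr u v a c).2 (e0s b)

theorem Mid.ec {Q : Subgroup G} {g : ℕ → G} (h : Mid Q g) {u v : List ℕ} (e : ec u v = true) : evalW g u = evalW g v := ec_of h.tr e

theorem ex_append (ds : List (List ℕ)) (u v : List ℕ) (g : ℕ → G) : evalW g (ex ds (u ++ v)) = evalW g (ex ds u) * evalW g (ex ds v) := by
  rw [evalW_ex, evalW_ex, evalW_ex, evalW_append]

theorem Mid.cy {Q : Subgroup G} {g : ℕ → G} (h : Mid Q g) (w : List ℕ) : Commute (evalW g (ux w)) (g 7) := by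
  rw [ux, evalW_ex]
  have k : ∀ i, Commute (evalW g (nd [] UV i)) (g 7) := fun i => by
    by_cases hi : i < 13
    · rcases cy2_ok.1 i hi with rfl | r
      · have a := h.uk _ _ cy2_ok.2.2.2.2.2.2.2.2.1
        rw [h.ec cy2_ok.2.2.2.2.2.2.2.2.2.2.2.2.2.2.2, show ux [12] = [7] by decide +kernel] at a
        simp only [evalW_cons, evalW_nil, mul_one] at a
        exact a
      · have a := h.ec r
        simp only [ux, evalW_ex, evalW_cons, evalW_nil, mul_one, show nd [] UV 12 = [7] by decide +kernel] at a
        exact a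
    · rw [nd_eq, List.getD_eq_default _ _ (by simpa [UV, UW] using hi)]; exact Commute.one_left _
  induction w with
  | nil => exact Commute.one_left _
  | cons i w ih => exact (k i).mul_left ih

end L.SZ
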