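import Cfsg.Agent.L.UB
import Cfsg.Agent.S1265

/-! The centraliser of an involution in a group of type `U₄(3)` (namespace `L.U4`): `setup`, `exu`, `build`. -/

set_option autoImplicit false
set_option maxRecDepth 100000

namespace L.U4
open H13 H14.PK L.DC Subgroup Cfsg

variable {G : Type*} [Group G]

theorem gen3' {S : Subgroup S3} (a : sA ∈ S) (b : sB ∈ S) (s : S3) : s ∈ S := by
  obtain ⟨w, -, rfl⟩ := gen3 s
  exact evalW_mem fun l _ => by split_ifs <;> assumption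

theorem setup0 {z : G} (z1 : z ≠ 1) (z2 : z * z = 1) (zc : ∀ g, g * z = z * g) {H₁ H₂ : Subgroup G}
    (hn₁ : (H₁.subgroupOf (H₁ ⊔ H₂)).Normal) (hn₂ : (H₂.subgroupOf (H₁ ⊔ H₂)).Normal) (e₁ : H₁ ≃* S3) (e₂ : H₂ ≃* S3)
    (hm : H₁ ⊓ H₂ = zpowers z) : ∃ e : ℕ → G, ∃ h : CG 288 MK IK e, e 1 = z ∧ h.sub = H₁ ⊔ H₂ := by
  have p : ∀ {H : Subgroup G} (f : H ≃* S3), z ∈ H → ∃ ψ : S3 →* G, ψ sZ = z ∧ ∀ x, x ∈ H ↔ ∃ s, ψ s = x := fun {H} f hz => by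
    refine ⟨H.subtype.comp f.symm.toMonoidHom, ?_, fun x => ⟨fun r => ⟨f ⟨x, r⟩, by simp⟩, by rintro ⟨s, rfl⟩; exact Subtype.prop _⟩⟩
    rcases sq3.2.2 (f ⟨z, hz⟩) (by rw [← map_mul, f.map_eq_one_iff]; exact Subtype.ext z2) with r | r
    · exact (z1 (congrArg Subtype.val (f.map_eq_one_iff.1 r))).elim
    · simp [← r]
  have zz := hm.ge (mem_zpowers z)
  obtain ⟨ψ₁, a1, a2⟩ := p e₁ zz.1
  obtain ⟨ψ₂, b1, b2⟩ := p e₂ zz.2
  have c3 : ∀ x ∈ H₁, x ^ 3 = 1 → ∀ y ∈ H₂, x * y = y * x := fun x hx x3 y hy => by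
    have : y * x * y⁻¹ * x⁻¹ ∈ zpowers z := hm.le ⟨mul_mem (hn₁.conj_mem ⟨x, mem_sup_left hx⟩ hx ⟨y, mem_sup_right hy⟩) (H₁.inv_mem hx),
      by simpa [mul_assoc] using mul_mem hy (hn₂.conj_mem ⟨y⁻¹, mem_sup_right (inv_mem hy)⟩ (inv_mem hy) ⟨x, mem_sup_left hx⟩)⟩
    obtain ⟨k, hk⟩ := mem_zpowers_iff.1 this
    have r := eq_mul_inv_iff_mul_eq.1 hk
    have k3 : (z ^ k * x) ^ 3 = 1 := by rw [r, conj_pow, x3]; simp
    have k2 : z ^ k * z ^ k = 1 := by rw [← (Commute.refl z).mul_zpow, z2, one_zpow]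
    rw [((show Commute x z from zc x).zpow_right k).symm.mul_pow, x3, mul_one, pow_three, k2, mul_one] at k3
    rw [k3, one_mul] at r
    exact eq_mul_inv_iff_mul_eq.1 r
  have cm : ∀ s t, Commute (ψ₁ s) (ψ₂ t) := fun s t => mem_centralizer_singleton_iff.1 (gen3' (S := (centralizer {ψ₂ t}).comap ψ₁)
    (mem_centralizer_singleton_iff.2 (c3 _ ((a2 _).2 ⟨_, rfl⟩) (by rw [← map_pow, sq3.1, map_one]) _ ((b2 _).2 ⟨_, rfl⟩)))
    (mem_centralizer_singleton_iff.2 (c3 _ ((a2 _).2 ⟨_, rfl⟩) (by rw [← map_pow, sq3.2.1, map_one]) _ ((b2 _).2 ⟨_, rfl⟩))) s)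
  let ψ := ψ₁.noncommCoprod ψ₂ cm
  have q : ∀ x, ψ x = ψ₁ x.1 * ψ₂ x.2 := fun _ => rfl
  have k : ∀ {x y}, eqS x y → ψ x = ψ y := by
    rintro x y (rfl | rfl)
    · rfl
    · rw [map_mul, q (sZ, sZ), a1, b1, z2, mul_one]
  have g0 : ψ (lt 0) = z := by rw [q]; exact (congrArg₂ _ a1 (map_one ψ₂)).trans (mul_one z)
  have h := CG.ofRules (g := fun i => ψ (lt i)) (fun r hr => by simpa [map_evalW] using k (ruS r hr)) (g0 ▸ z1) twoK
  have m : ∀ {c x}, eqS (evalW lt (wc 9 WTK c)) x → ψ₁ x.1 * ψ₂ x.2 ∈ h.sub := fun {c x} r => ⟨c, by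
    rw [el_wc, ← map_evalW, k r, q]⟩
  refine ⟨_, h, (el_eq (by decide +kernel)).trans g0, le_antisymm ?_ (sup_le (fun x hx => ?_) fun x hx => ?_)⟩
  · rintro _ ⟨c, rfl⟩
    rw [el_wc, ← map_evalW, q]
    exact mul_mem (mem_sup_left ((a2 _).2 ⟨_, rfl⟩)) (mem_sup_right ((b2 _).2 ⟨_, rfl⟩))
  · obtain ⟨s, rfl⟩ := (a2 x).1 hx
    exact gen3' (S := h.sub.comap ψ₁) (by simpa using m memS.1) (by simpa using m memS.2.1) s
  · obtain ⟨s, rfl⟩ := (b2 x).1 hx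
    exact gen3' (S := h.sub.comap ψ₂) (by simpa using m memS.2.2.1) (by simpa using m memS.2.2.2) s

/-- what is known about the subgroup of index four -/
structure KH (e : ℕ → G) (Q : Subgroup G) : Prop extends CG 288 MK IK e where
  z1 : e 1 ≠ 1
  zc : ∀ a, e a * e 1 = e 1 * e a
  mq : ∀ {x}, x ∈ Q ↔ ∃ q < 32, e q = x
  nk : ∀ c, c * e 1 = e 1 * c → ∀ a, ∃ b < 288, c * e a * c⁻¹ = e b
  nq : ∀ c, c * e 1 = e 1 * c → ∀ x ∈ Q, c * x * c⁻¹ ∈ Q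
  sc : ∀ c, c * e 1 = e 1 * c → (∀ a ∈ [2, 4, 8, 16], c * e a = e a * c) → c ∈ Q

theorem setup [Finite G] {z : G} (hz : orderOf z = 2) {H₁ H₂ : Subgroup (centralizer ({z} : Set G))}
    (hK : H₁ ⊔ H₂ = Subgroup.closure {x | Odd (orderOf x)}) (hn₁ : (H₁.subgroupOf (H₁ ⊔ H₂)).Normal)
    (hn₂ : (H₂.subgroupOf (H₁ ⊔ H₂)).Normal) (e₁ : H₁ ≃* S3) (e₂ : H₂ ≃* S3)
    (hm : (H₁ ⊓ H₂).map (Subgroup.subtype _) = zpowers z) {Q : Subgroup (centralizer ({z} : Set G))} [n : Q.Normal]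
    (hQ : Q = (pCore 2 ↥(H₁ ⊔ H₂)).map (Subgroup.subtype _)) (hF : generalizedFittingSubgroup _ = Q) :
    ∃ e : ℕ → G, e 1 = z ∧ KH e (Q.map (Subgroup.subtype _)) := by
  have : Fact (Nat.Prime 2) := ⟨Nat.prime_two⟩
  have zz : z ∈ centralizer ({z} : Set G) := mem_centralizer_singleton_iff.2 rfl
  have z1 : z ≠ 1 := fun r => by simp [r] at hz
  obtain ⟨e, h, e1, s⟩ := setup0 (z := (⟨z, zz⟩ : centralizer _)) (fun r => z1 (congrArg Subtype.val r))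
    (Subtype.ext (H08.mul_self_of_orderOf hz)) (fun g => Subtype.ext (mem_centralizer_singleton_iff.1 g.2)) hn₁ hn₂ e₁ e₂
    (map_injective (subtype_injective _) (by rw [hm, MonoidHom.map_zpowers]; rfl))
  have e1' : (e 1).1 = z := congrArg Subtype.val e1
  have mq : ∀ {x}, x ∈ Q ↔ ∃ q < 32, e q = x := by
    let Q0 := h.msub (· < 32) (by decide) (fun a _ b _ p q => (q32 a p).2.2 b q) fun a _ p => (q32 a p).1
    have : Q0 ≤ Q := hQ ▸ H02.le_pCoreOf (by rintro _ ⟨a, -, -, rfl⟩; exact s ▸ h.mem' a) (fun x hx => H26.mem_normalizer_of_cj_le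
      (H26.cj_le_iff.2 (by
        obtain ⟨c, hc, rfl⟩ := h.mem.1 (s ▸ hx)
        rintro _ ⟨a, -, ha, rfl⟩
        exact ⟨_, h.cj_lt c a, Nat.blt_eq.mp (allLt_iff.1 (allLt_iff.1 qn c hc) a ha), (h.cj c a).symm⟩)))
      (H26.isPGroup_iff_mem.2 (by
        rintro _ ⟨a, -, ha, rfl⟩
        exact ⟨2, by rw [show 2 ^ 2 = 2 * 2 from rfl, pow_mul, pow_two, pow_two, h.mul, h.meq1, (q32 a ha).2.1]⟩))
    refine fun {x} => ⟨fun hx => ?_, by rintro ⟨q, hq, rfl⟩; exact this ⟨q, by omega, hq, rfl⟩⟩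
    rw [hQ] at hx
    obtain ⟨c, hc, rfl⟩ := h.mem.1 (s ▸ map_subtype_le _ hx)
    obtain ⟨k, hk⟩ := H26.isPGroup_iff_mem.1 ((H02.pCore_isPGroup 2 _).map _) _ hx
    refine ⟨c, Nat.blt_eq ▸ (bor_eq_true.1 (allLt_iff.1 q3 c hc)).resolve_right fun r => ?_, rfl⟩
    simp only [force_eq, band_eq_true, bn_iff, Nat.beq_eq, ← h.meq1, ← h.mul] at r
    refine r.1 ((pow_one _).symm.trans (odd_part (n := 3) (k := k) (by decide) ((pow_three _).trans r.2) ?_))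
    rw [← pow_two, ← pow_two, mul_one, ← pow_mul, ← pow_mul, mul_comm 2, pow_mul, pow_mul', hk, one_pow, one_pow]
  have nK : (H₁ ⊔ H₂).Normal := hK ▸ ⟨fun x hx g => (H26.cj_le_iff.1 (by
    rw [H26.cj_closure]
    exact closure_mono (by rintro _ ⟨y, hy, rfl⟩; exact (congrArg Odd ((MulAut.conj g).orderOf_eq y)).mpr hy)) x hx)⟩
  refine ⟨fun a => e a, e1', ⟨fun a b => congrArg Subtype.val (h.mul a b), fun a => congrArg Subtype.val (h.inv a),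
    congrArg Subtype.val h.zero, fun a => (h.red a).imp fun b r => ⟨r.1, congrArg Subtype.val r.2⟩,
    fun a ha b hb r => h.inj a ha b hb (Subtype.ext r), h.mu_lt, h.iv_lt⟩, ?_, ?_, ?_, ?_, ?_, ?_⟩ <;> try simp only [e1']
  · exact z1
  · exact fun a => mem_centralizer_singleton_iff.1 (e a).2
  · exact fun {x} => ⟨by rintro ⟨x, hx, rfl⟩; exact (mq.1 hx).imp fun q r => ⟨r.1, congrArg Subtype.val r.2⟩,
      by rintro ⟨q, hq, rfl⟩; exact ⟨_, mq.2 ⟨q, hq, rfl⟩, rfl⟩⟩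
  · exact fun c hc a => (h.mem.1 (s ▸ nK.conj_mem _ (s ▸ h.mem' a) ⟨c, mem_centralizer_singleton_iff.2 hc⟩)).imp
      fun b r => ⟨r.1, (congrArg Subtype.val r.2).symm⟩
  · rintro c hc _ ⟨x, hx, rfl⟩
    exact ⟨_, n.conj_mem x hx ⟨c, mem_centralizer_singleton_iff.2 hc⟩, rfl⟩
  · refine fun c hc r => ⟨⟨c, mem_centralizer_singleton_iff.2 hc⟩, hF ▸ Agent.S1265.result fun x hx => ?_, rfl⟩
    obtain ⟨q, hq, rfl⟩ := mq.1 (hF ▸ hx)
    refine Subtype.ext (gen32 (P := fun a => (e a).1 * c = c * e a) (by simp [h.zero]) (fun a ha => ?_) h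
      (fun a _ b _ p q => by rw [← h.mul, coe_mul, mul_assoc, q, ← mul_assoc, p, mul_assoc]) treeK q hq)
    rcases List.mem_cons.1 ha with rfl | ha
    exacts [by rw [e1', hc], (r a ha).symm]

variable {e : ℕ → G} {Q : Subgroup G} {u : G} (h : KH e Q)
include h

theorem mk {a b c : ℕ} (r : MK a b = c) : e a * e b = e c := r ▸ h.mul a b

theorem inQ {q : ℕ} (r : q < 32) : e q ∈ Q := h.mq.2 ⟨q, r, rfl⟩

theorem to2 {x : G} (hx : x ∈ Q) (x2 : x * x = 1) (x1 : x ≠ 1) (xz : x ≠ e 1) : ∃ k, e k * x * (e k)⁻¹ = e 2 := by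
  obtain ⟨q, hq, rfl⟩ := h.mq.1 hx
  rcases cq q hq (h.meq1.1 x2) with rfl | rfl | r
  exacts [(x1 h.zero).elim, (xz rfl).elim, ⟨_, r ▸ h.cj _ q⟩]

/-- an element interchanging the two involutions -/
structure Sw (e : ℕ → G) (u : G) : Prop where
  a : u * e 1 * u⁻¹ = e 2
  b : u * e 2 * u⁻¹ = e 1
  c : ∀ q < 32, ∀ r < 32, u * e q * u⁻¹ = e r → q < 4 ∧ r < 4

theorem exu [Finite G] {g : G} (g1 : g * e 1 * g⁻¹ ∈ Q) (g2 : g * e 1 * g⁻¹ ≠ e 1)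
    (hQ : ∀ g, g * e 1 * g⁻¹ ∈ Q → g * e 1 * g⁻¹ ≠ e 1 → Nat.card (Q ⊓ Q.map (MulAut.conj g).toMonoidHom : Subgroup G) = 4) :
    ∃ u, Sw e u := by
  have z2 : e 1 * e 1 = 1 := h.meq1.2 (by decide +kernel)
  have s2 : e 2 * e 2 = 1 := h.meq1.2 (by decide +kernel)
  have ne : e 2 ≠ e 1 := fun r => absurd (h.inj _ (by decide) _ (by decide) r) (by decide)
  have cz : ∀ k g, g * e k * e 1 * (g * e k)⁻¹ = g * e 1 * g⁻¹ := fun k g => by rw [mul_assoc g, h.zc]; group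
  obtain ⟨g, hg⟩ : ∃ g, g * e 1 * g⁻¹ = e 2 := by
    obtain ⟨k, r⟩ := to2 h g1 (cj_sq z2) (mt conj_eq_one_iff.1 h.z1) g2
    exact ⟨e k * g, by rw [← r]; group⟩
  have c4 := fun g (r : g * e 1 * g⁻¹ = e 2) => hQ g (r ▸ inQ h (by decide)) (r ▸ ne)
  have zD : g⁻¹ * e 1 * g ∈ Q := by
    by_contra c
    have sD : g⁻¹ * e 2 * g ∈ Q := by rw [← hg]; simpa [mul_assoc] using inQ h (by decide : 1 < 32)
    have : Q ⊓ Q.map (MulAut.conj g).toMonoidHom ≤ zpowers (e 2) := by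
      rintro d ⟨d1, d2⟩
      have d3 : g⁻¹ * d * g ∈ Q := H26.mem_cj.1 d2
      obtain ⟨a, ha, rfl⟩ := h.mq.1 d1
      obtain ⟨b, -, r⟩ := h.mq.1 d3
      have cm : ∀ {x}, x * e 2 = e 2 * x ↔ g⁻¹ * x * g * e 1 = e 1 * (g⁻¹ * x * g) := by
        intro x
        rw [← hg, ← mul_right_inj g⁻¹, ← mul_left_inj g]; simp [mul_assoc]
      rcases dz a ha (h.meq.1 (cm.2 (r ▸ h.zc b))) with s | ⟨f, f1, f2⟩
      · interval_cases a
        · rw [h.zero]; exact one_mem _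
        · exact (c d3).elim
        · exact mem_zpowers _
        · refine (c ?_).elim
          simpa [← mk h (by decide +kernel : MK 3 2 = 1), mul_assoc] using mul_mem d3 sD
      · have := mul_mem (inv_mem d3) (h.nq _ ((cm (x := e f)).1 (h.meq.2 ((by decide +kernel : ∀ f ∈ [8, 16], MK f 2 = MK 2 f) f f1))) _ d3)
        rw [show g⁻¹ * e f * g * (g⁻¹ * e a * g) * (g⁻¹ * e f * g)⁻¹ = g⁻¹ * (e f * e a * (e f)⁻¹) * g by group, h.cj, f2,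
          ← h.mul] at this
        exact (c (by simpa [mul_assoc] using this)).elim
    have := card_le_of_le this
    rw [c4 g hg, Nat.card_zpowers, ord2 s2 fun r => absurd ((h.eq1 (by decide)).1 r) (by decide)] at this
    omega
  obtain ⟨k, r⟩ := to2 h zD (by simpa using cj_sq (g := g⁻¹) z2) (by simpa [mul_assoc] using mt (conj_eq_one_iff (a := g⁻¹)).1 h.z1)
    fun r => ne (by rw [← hg]; nth_rw 1 [← r]; group)
  obtain ⟨u, a, b⟩ : ∃ u, u * e 1 * u⁻¹ = e 2 ∧ u * e 2 * u⁻¹ = e 1 :=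
    ⟨g * e (IK k), by rw [cz, hg], by rw [← r, ← h.inv]; group⟩
  have sw : ∀ r < 4, ∃ q < 4, u * e q * u⁻¹ = e r := fun r hr => by
    interval_cases r
    exacts [⟨0, by decide, by simp [h.zero]⟩, ⟨2, by decide, b⟩, ⟨1, by decide, a⟩, ⟨3, by decide, by
      rw [← mk h (by decide +kernel : MK 1 2 = 3), ← conj_mul, a, b, h.zc]⟩]
  refine ⟨u, a, b, fun q hq r hr s => ?_⟩
  have r4 : r < 4 := by
    by_contra c
    have := h.le_card (D := Q ⊓ Q.map (MulAut.conj u).toMonoidHom) (l := [r, 0, 1, 2, 3]) (by simp; omega) fun x hx => by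
      rcases List.mem_cons.1 hx with rfl | hx
      · exact ⟨by omega, inQ h hr, s ▸ H26.conj_mem_cj (inQ h hq)⟩
      · have x4 : x < 4 := by simp at hx; omega
        obtain ⟨y, y1, y2⟩ := sw x x4
        exact ⟨by omega, inQ h (by omega), y2 ▸ H26.conj_mem_cj (inQ h (by omega))⟩
    rw [c4 u a] at this
    simp at this
  obtain ⟨y, y1, y2⟩ := sw r r4
  exact ⟨h.inj y (by omega) q (by omega) (by simpa using y2.trans s.symm) ▸ y1, r4⟩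

variable (H : Sw e u)
include H

theorem cz {x : ℕ} (r : MK x 2 = MK 2 x) : u * e x * u⁻¹ * e 1 = e 1 * (u * e x * u⁻¹) := H.b ▸ cj_comm (h.meq.2 r)

theorem nQ {x : ℕ} (x1 : x < 32) (r : u * e x * u⁻¹ ∈ Q) : x < 4 := by
  obtain ⟨q, hq, s⟩ := h.mq.1 r
  exact (H.c x x1 q hq s.symm).1

theorem act {x : ℕ} (hx : x ∈ [8, 16]) :
    (∀ q < 32, MK q q = 0 → MK q 2 = MK 2 q → u * e x * u⁻¹ * e q ≠ e q * e 1 * (u * e x * u⁻¹)) ∧
    ((∃ q ∈ [8, 16], u * e x * u⁻¹ * e q = e q * e 2 * (u * e x * u⁻¹)) ∨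
      ∃ r < 2, Ind e (u * e (x + r) * u⁻¹) gk aX ∨ Ind e (u * e (x + r) * u⁻¹) gk aY) := by
  obtain ⟨x1, x2, x3, x4, x5⟩ : x < 32 ∧ 4 ≤ x ∧ MK x x = 0 ∧ MK x 2 = MK 2 x ∧ MK x 1 = x + 1 := by revert x; decide +kernel
  obtain ⟨X, hX⟩ : ∃ X, X = u * e x * u⁻¹ := ⟨_, rfl⟩
  have Xz : X * e 1 = e 1 * X := hX ▸ cz h H x4
  have Xs : X * e 2 = e 2 * X := by rw [hX, ← H.a]; exact cj_comm (h.zc x)
  have k : ∀ a ∈ [8, 16], ∃ b < 32, MK b a < 4 ∧ X * e a * X⁻¹ = e b := fun a ha => by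
    obtain ⟨a1, a2, a3⟩ : a < 32 ∧ MK a a = 0 ∧ MK a 2 = MK 2 a := by revert a; decide +kernel
    obtain ⟨b, b1, b2⟩ := h.mq.1 (h.nq X Xz _ (inQ h a1))
    obtain ⟨c, c1, c2⟩ := h.mq.1 (mul_mem (inQ h x1) (h.nq (u⁻¹ * e a * u) (by
      have := cj_comm (g := u⁻¹) (h.meq.2 a3)
      rw [← H.a] at this; simpa [mul_assoc] using this) _ (inv_mem (inQ h x1))))
    refine ⟨b, b1, (H.c c c1 _ ((q32 b b1).2.2 a a1) ?_).2, b2.symm⟩
    rw [c2, ← h.mul, b2, hX, ← inv_self (h.meq1.2 a2)]; simp [mul_assoc, inv_self (h.meq1.2 a2)]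
  obtain ⟨g, a, i, r⟩ := h.srch (u := X) ((h.nil.cons (mul_inv_eq_iff_eq_mul.2 Xz)).cons (mul_inv_eq_iff_eq_mul.2 Xs)) (by
    simp only [LVK, List.forall_mem_cons, List.mem_range]
    obtain ⟨b, b1, b2, b3⟩ := k 8 (by simp)
    obtain ⟨c, c1, c2, c3⟩ := k 16 (by simp)
    obtain ⟨d, d1, d2⟩ := h.mq.1 (h.nq X Xz _ (inQ h (by decide : 4 < 32)))
    exact ⟨⟨b, (by decide +kernel : ∀ b < 32, MK b 8 < 4 → b ∈ [8, 9, 10, 11]) b b1 b2, b3⟩,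
      ⟨c, (by decide +kernel : ∀ b < 32, MK b 16 < 4 → b ∈ [16, 17, 18, 19]) c c1 c2, c3⟩, ⟨d, d1, d2.symm⟩, h.nk X Xz _, h.nk X Xz _,
      fun _ r => nomatch r⟩) bK
  simp only [lfK, bor_eq_true, band_eq_true, anyL_iff, allLt_iff, bn_iff, List.mem_range, Nat.beq_eq] at r
  rcases r with ⟨q, q1, r⟩ | ⟨c, c1, r⟩ | ⟨r1, r2⟩
  · have j := h.nrm i r
    rw [h.zero, mul_one] at j
    have := h.sc (e q * X) (by rw [mul_assoc, Xz, ← mul_assoc, h.zc, mul_assoc]) (by simpa using ⟨j 0, j 1, j 2, j 3⟩)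
    rw [mul_mem_cancel_left (inQ h q1), hX] at this
    exact absurd (nQ h H x1 this) (by omega)
  · obtain ⟨d, d1, d2⟩ := h.trk i r
    simp only [band_eq_true, bn_iff, Nat.beq_eq, Nat.blt_eq] at d1
    rw [W_two h.toCG, h.zero, mul_one, hX, cj_sq (h.meq1.2 x3), one_mul, mul_one] at d2
    exact (d1.2 (h.inj _ d1.1 _ (by simp at c1; omega) d2.symm)).elim
  rw [← hX]
  refine ⟨fun q q1 q2 q3 s => ?_, r2.imp (fun ⟨q, q1, r⟩ => ?_) fun ⟨r, r1, r2⟩ => ?_⟩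
  · obtain ⟨d, d1, d2⟩ := h.alp i ((r1 q q1).resolve_left fun c => c ⟨q2, q3⟩)
    simp only [band_eq_true, bn_iff, Nat.beq_eq, Nat.blt_eq] at d1
    rw [s, mul_left_inj, h.mul] at d2
    exact d1.2 (h.inj _ d1.1 _ (h.mu_lt _ _) d2.symm)
  · obtain ⟨d, d1, d2⟩ := h.alp i r
    exact ⟨q, q1, by rw [d2, Nat.eq_of_beq_eq_true d1, h.mul]⟩
  · replace r2 := r2.imp (h.nrm i) (h.nrm i)
    rw [h.zero, one_mul] at r2
    simp only [List.mem_cons, List.not_mem_nil, or_false] at r1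
    rcases r1 with rfl | rfl
    · exact ⟨0, by decide, by rwa [h.zero, mul_one, hX] at r2⟩
    · exact ⟨1, by decide, by rwa [hX, ← H.a, conj_mul, h.mul, x5] at r2⟩

theorem act2 {x : ℕ} (hx : x ∈ [8, 16]) :
    ∃ r < 2, Ind e (u * e (x + r) * u⁻¹) gk aX ∨ Ind e (u * e (x + r) * u⁻¹) gk aY := by
  obtain ⟨x1, x3, x4⟩ : x < 32 ∧ MK x x = 0 ∧ MK x 2 = MK 2 x := by revert x; decide +kernel
  refine (act h H hx).2.resolve_left fun ⟨y, y1, r⟩ => ?_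
  have m : ∀ y, u * u * y * (u * u)⁻¹ = u * (u * y * u⁻¹) * u⁻¹ := fun y => by group
  obtain ⟨q, q1, q2⟩ := h.mq.1 (h.nq (u * u) (mul_inv_eq_iff_eq_mul.1 (by rw [m, H.a, H.b])) _ (inQ h x1))
  have q3 : e q * e q = 1 := q2 ▸ cj_sq (h.meq1.2 x3)
  refine (act h H y1).1 q q1 (h.meq1.1 q3) (h.meq.1 (by
    have := cj_comm (g := u * u) (h.meq.2 x4)
    rwa [m (e 2), H.b, H.a, ← q2] at this)) ?_
  have s := congrArg (fun t => u * t * u⁻¹) r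
  beta_reduce at s
  rw [← conj_mul, ← conj_mul (c := u * e x * u⁻¹), ← conj_mul (c := e 2), ← m, ← q2, H.b] at s
  have t := cz h H ((by decide +kernel : ∀ f ∈ [8, 16], MK f 2 = MK 2 f) y y1)
  generalize u * e y * u⁻¹ = Y at s t
  calc _ = Y * e 1 * e q * e 1 := by
        rw [mul_assoc Y, ← h.zc, mul_assoc, mul_assoc (e q), h.meq1.2 (by decide +kernel), mul_one]
    _ = _ := by rw [← s, mul_assoc, mul_assoc, t]

theorem pair : ∃ x ∈ C4, ∃ y ∈ C4, MK y x = MK 1 (MK x y) ∧ Ind e (u * e x * u⁻¹) gk aX ∧ Ind e (u * e y * u⁻¹) gk aY := by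
  obtain ⟨r, r1, a⟩ := act2 h H (x := 8) (by simp)
  obtain ⟨s, s1, b⟩ := act2 h H (x := 16) (by simp)
  obtain ⟨c1, c2, c3, c4, c5, c6, c7⟩ : 8 + r ∈ C4 ∧ 16 + s ∈ C4 ∧ MK (16 + s) (8 + r) = MK 1 (MK (8 + r) (16 + s)) ∧
      MK (8 + r) (16 + s) = MK 1 (MK (16 + s) (8 + r)) ∧ MK (IK (8 + r)) (16 + s) < 32 ∧ ¬ MK (IK (8 + r)) (16 + s) < 4 ∧
      MK (MK (IK (8 + r)) (16 + s)) 2 = MK 2 (MK (IK (8 + r)) (16 + s)) := by
    interval_cases r <;> interval_cases s <;> decide +kernel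
  have k : ∀ {l}, Ind e (u * e (8 + r) * u⁻¹) gk l → ¬ Ind e (u * e (16 + s) * u⁻¹) gk l := fun {l} i j => by
    have w : ∀ n, u * e (MK (IK (8 + r)) (16 + s)) * u⁻¹ * e (nd 0 gk n) = e (nd 0 gk n) * (u * e (MK (IK (8 + r)) (16 + s)) * u⁻¹) :=
      fun n => by
      rw [← h.mul, ← h.inv, ← conj_mul, ← conj_inv]
      have i := i n
      have j := j n
      generalize u * e (8 + r) * u⁻¹ = X, u * e (16 + s) * u⁻¹ = Y at i j
      rw [mul_assoc, j, ← mul_assoc, ← mul_assoc, mul_left_inj, inv_mul_eq_iff_eq_mul, ← mul_assoc, i, mul_inv_cancel_right]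
    exact c6 (nQ h H c5 (h.sc _ (cz h H c7) (by simpa using ⟨w 5, w 2, w 4, w 3⟩)))
  rcases a with a | a <;> rcases b with b | b
  exacts [(k a b).elim, ⟨_, c1, _, c2, c3, a, b⟩, ⟨_, c2, _, c1, c4, b, a⟩, (k a b).elim]

theorem build [Finite G] (c : Nat.card (centralizer ({e 1} : Set G)) = 1152) : ∃ e : ℕ → G, Cen 1152 M I e ∧ ∃ v, v * e 1 * v⁻¹ = e 2 ∧
    v * e 2 * v⁻¹ = e 1 ∧ (∃ x ∈ C4, v * e 288 * v⁻¹ = e x) ∧ ∃ x ∈ C4, v * e 576 * v⁻¹ = e x := by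
  obtain ⟨x, x1, y, y1, r, a, b⟩ := pair h H
  have k : ∀ x ∈ C4, x < 32 ∧ MK x x = 0 := by decide +kernel
  have R := h.holds2 (cs := LK) a b (cj_sq (h.meq1.2 (k x x1).2)) (cj_sq (h.meq1.2 (k y y1).2)) (by
    rw [conj_mul, conj_mul, h.mul, r, ← h.mul, ← h.mul, ← conj_mul, H.a]; rfl) hx
  have h' := CG.ofRules R h.z1 two
  have l : ∀ q < 32, el 36 WT (g2 e LK (u * e x * u⁻¹) (u * e y * u⁻¹)) q = e q := fun q hq => by
    rw [el_wc, h.g2w (lowq q hq).1, (lowq q hq).2]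
  have m : ∀ {a b : G}, u * a * u⁻¹ = b → u⁻¹ * b * u⁻¹⁻¹ = a := by rintro a _ rfl; group
  refine ⟨_, h'.cen (by rw [l 1 (by decide)]; exact h.z1) (by rw [l 1 (by decide), c]) zok, u⁻¹, ?_, ?_, ⟨x, x1, ?_⟩, y, y1, ?_⟩
  · rw [l 1 (by decide), l 2 (by decide)]; exact m H.b
  · rw [l 1 (by decide), l 2 (by decide)]; exact m H.a
  · rw [l x (k x x1).1, el_eq (i := 9) (by decide +kernel)]; exact m rfl
  · rw [l y (k y y1).1, el_eq (i := 10) (by decide +kernel)]; exact m rfl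

end L.U4
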