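import Cfsg.Agent.L.UC
import Cfsg.Agent.S0283

/-! Recognition of `PSU(4,3)` from the centraliser of an involution (namespace `L.U4`): `main`. -/

set_option autoImplicit false
set_option maxRecDepth 100000

namespace L.U4
open H13 H14.PK H14.PK.TS H27.PKx H27.MG L.DC Subgroup Cfsg

variable {G : Type*} [Group G]

theorem cc {s z k y : G} {i j : ℕ} (z2 : z * z = 1) (y3 : y ^ 3 = 1) (yk : Commute y k) (ys : Commute y s) (yz : Commute y z)
    (h1 : s * k * s⁻¹ = y ^ i * k⁻¹ * y ^ i) (h2 : s * z * k * (s * z)⁻¹ = y ^ j * k⁻¹ * y ^ j) : z * k = k * z := by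
  obtain ⟨f, f1, f2⟩ : ∃ f ∈ zpowers y, z * k * z⁻¹ = f * k := by
    refine ⟨y ^ j * y ^ j * (y ^ i * y ^ i)⁻¹, by apply_rules [mul_mem, inv_mem, npow_mem_zpowers], ?_⟩
    rw [mul_assoc _ k⁻¹, ← (yk.pow_left _).inv_right.eq, ← mul_assoc, ← pow_add] at h1 h2
    rw [← pow_add, ← pow_add]
    calc _ = s⁻¹ * (s * z * k * (s * z)⁻¹) * s := by group
      _ = s⁻¹ * (y ^ (j + j) * (y ^ (i + i))⁻¹ * s) * k := by rw [h2, ← mul_inv_eq_iff_eq_mul.2 h1]; group
      _ = _ := by rw [((ys.pow_left _).mul_left (ys.pow_left _).inv_left).eq, inv_mul_cancel_left]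
  obtain ⟨n, rfl⟩ := mem_zpowers_iff.1 f1
  have a : y ^ n * (y ^ n * k) = k := by
    calc _ = z * (z * k * z⁻¹) * z⁻¹ := by rw [f2, ← conj_mul, f2, ← (yz.zpow_left n).eq, mul_inv_cancel_right]
      _ = z * z * k * (z * z)⁻¹ := by group
      _ = _ := by rw [z2]; simp
  have b : (y ^ n) ^ 3 = 1 := by rw [← zpow_natCast, ← zpow_mul, mul_comm, zpow_mul, zpow_natCast, y3, one_zpow]
  rw [← mul_assoc, mul_eq_right] at a
  rw [pow_three, a, mul_one] at b
  rwa [b, one_mul, mul_inv_eq_iff_eq_mul] at f2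

variable {e : ℕ → G} {u : G} (h : Cen 1152 M I e)
include h

theorem mm {a b c : ℕ} (r : M a b = c) : e a * e b = e c := r ▸ h.mul a b

theorem jj {a b c : ℕ} (r : cj M I a b = c) : e a * e b * (e a)⁻¹ = e c := r ▸ h.cj a b

theorem cb {x : G} {n : ℕ} (hn : Odd n) (x1 : x ^ n = 1) {c : ℕ} (hc : c < 1152) (r : e c = x) : M c (M c c) = 0 := by
  have := allLt_iff.1 ex24 c hc
  simp only [force_eq, Nat.beq_eq, ← h.meq1, ← h.mul] at this
  rw [← h.meq1, ← h.mul, ← pow_three]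
  exact odd_part (k := 3) hn (r ▸ x1) (by rw [← this]; simp [pow_succ, mul_assoc])

theorem exists_u {v : G} (h1 : v * e 1 * v⁻¹ = e 2) (h2 : v * e 2 * v⁻¹ = e 1) (h3 : ∃ x ∈ C4, v * e 288 * v⁻¹ = e x)
    (h4 : ∃ x ∈ C4, v * e 576 * v⁻¹ = e x) : ∃ u, Ind e u gs as ∧ u * u = 1 := by
  have k : ∀ a, M a 2 = M 2 a → ∃ b ∈ RL, v * e a * v⁻¹ = e b := fun a r => by
    obtain ⟨b, b1, b2, b3⟩ := h.img h1 h2 r
    exact ⟨b, memL_iff.1 ((bor_eq_true.1 (allLt_iff.1 rl b b1)).resolve_left fun s => bn_iff.1 s (Nat.beq_eq ▸ b2)), b3⟩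
  obtain ⟨g, a, i, r⟩ := h.srch ((h.nil.cons h1).cons h2) (by
    simp only [LV, List.forall_mem_cons]
    exact ⟨h3, h4, k 8 (by decide +kernel), k 16 (by decide +kernel), fun _ r => nomatch r⟩) b2
  obtain ⟨r, -, r1⟩ := anyL_iff.1 ((bor_eq_true.1 r).resolve_right (h.bad i))
  have i := h.nrm i r1
  generalize e 0 * v * e r = u at i
  obtain ⟨c, -, c1, c2⟩ := h.fixp i sq
  rw [W_rep, h.zero, mul_one, pow_two] at c2
  simp only [memL_iff, List.mem_cons, List.not_mem_nil, or_false] at c1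
  rcases c1 with rfl | rfl
  · exact ⟨u, i, c2.trans h.zero⟩
  refine ⟨u * e 1, fun k => by rw [mul_assoc, ← h.zc, ← mul_assoc, i, mul_assoc], ?_⟩
  calc _ = u * e 1 * u⁻¹ * (u * u) * e 1 := by group
    _ = 1 := by rw [show u * e 1 * u⁻¹ = e 2 from mul_inv_eq_iff_eq_mul.2 (i 5), c2, mm h (c := 1) (by decide +kernel), h.z2]

variable [Finite G] (i : Ind e u gs as) (s : u * u = 1)
include i s

theorem loc : W e u [160, 268, 224, 132, 224, 268, 160, 132] = 1 := by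
  have : Fact (Nat.Prime 3) := ⟨Nat.prime_three⟩
  have my := (h.comm3 i s cm2).2
  obtain ⟨d, d1, mz⟩ := h.trk i (l := [0, 132]) (WR := WR) (c := 1) (k := fun d => Nat.beq d 579) (by decide +kernel)
  rw [Nat.eq_of_beq_eq_true d1, W_two h.toCG] at mz
  obtain ⟨m, hm⟩ : ∃ m, m = u * e 132 * u := ⟨_, rfl⟩
  rw [← hm] at my mz
  suffices r : m * e 160 * m⁻¹ * e 160 = e 160 * (m * e 160 * m⁻¹) by
    have a : e 268 = (e 132)⁻¹ := by rw [h.inv]; exact congrArg e (by decide +kernel)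
    have b : e 224 = (e 160)⁻¹ := by rw [h.inv]; exact congrArg e (by decide +kernel)
    calc _ = m * e 160 * m⁻¹ * (m * e 160 * m⁻¹ * e 160)⁻¹ * e 160 := by simp [W, hm, a, b, mul_assoc, inv_self s]
      _ = 1 := by rw [r]; group
  by_contra hc
  let K := h.msub (· ∈ K9) (by decide) (fun a _ b _ p q => ((k9 a p).2.2.2.2.1 b q).1) fun a _ p => (k9 a p).1
  have lt : ∀ a ∈ K9, a < 1152 := by decide
  have inK : ∀ a ∈ K9, e a ∈ K := fun a r => ⟨a, lt a r, r, rfl⟩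
  have ab : ∀ x ∈ K, ∀ y ∈ K, x * y = y * x := by
    rintro _ ⟨a, -, p, rfl⟩ _ ⟨b, -, q, rfl⟩
    exact h.meq.2 ((k9 a p).2.2.2.2.1 b q).2
  have mD : ∀ {x}, x ∈ centralizer (K : Set G) → x * e 128 = e 128 * x ∧ x * e 160 = e 160 * x := fun r =>
    ⟨(r _ (inK 128 (by decide))).symm, (r _ (inK 160 (by decide))).symm⟩
  have zD : e 1 ∈ centralizer (K : Set G) := by rintro _ ⟨a, -, -, rfl⟩; exact h.zc a
  have iz : ∀ g : G, g * e 1 * g⁻¹ ∈ centralizer (K : Set G) → e 1 * (g * e 1 * g⁻¹) = g * e 1 * g⁻¹ * e 1 → g * e 1 * g⁻¹ = e 1 :=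
    fun g a b => by
    obtain ⟨c, c1, c2⟩ := (h.cen _).1 b.symm
    have := (bor_eq_true.1 (allLt_iff.1 ck c c1)).resolve_left fun r => bn_iff.1 r (by
      simp only [band_eq_true, Nat.beq_eq, ← h.meq, ← h.meq1, c2]
      exact ⟨cj_sq h.z2, mD a⟩)
    rw [Nat.blt_eq] at this
    interval_cases c
    exacts [(h.z1 (conj_eq_one_iff.1 (c2.symm.trans h.zero))).elim, c2.symm]
  obtain ⟨L, l1, l2, l3, l4⟩ := zo2 zD h.z2 fun g hg => iz g (mul_mem (mul_mem hg zD) (inv_mem hg))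
  have nK : ∀ c, (∀ a ∈ K9, cj M I c a ∈ K9) → e c ∈ normalizer ((centralizer (K : Set G) : Subgroup G) : Set G) := fun c r =>
    H26.normalizer_le_normalizer_centralizer K (H26.mem_normalizer_of_cj_le (H26.cj_le_iff.2 (by
      rintro _ ⟨a, -, p, rfl⟩
      exact h.cj c a ▸ inK _ (r a p))))
  have nk' : ∀ {c a}, c < 1152 → a ∈ K9 → e c * e 128 * (e c)⁻¹ = e a → a ∈ [128, 256] ∧ (M c (M c c) = 0 → c ∈ K9) :=
    fun {c a} c1 a1 r => by
    have := allLt_iff.1 nk c c1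
    rw [h.cj, h.eq (h.cj_lt _ _) (lt a a1)] at r
    simp only [force_eq, r, bor_eq_true, band_eq_true, bn_iff, memL_iff, Nat.beq_eq] at this
    exact (this.resolve_left fun r => r a1).imp_right fun r t => r.resolve_right fun r => r t
  have y2 : e 256 = e 128 ^ 2 := by rw [pow_two, mm h (c := 256) (by decide +kernel)]
  have pw : ∀ a ∈ [0, 128, 256], ∃ n : ℕ, e a = e 128 ^ n := by
    simpa using ⟨⟨0, by simp [h.zero]⟩, ⟨1, by simp⟩, 2, y2⟩
  have mp : ∀ n : ℕ, m * e 128 ^ n * m⁻¹ = e 128 ^ n := fun n => by rw [← conj_pow, my, mul_inv_cancel_right]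
  have A : ∀ x ∈ L, e 579 * x = x * e 579 → ∃ n : ℕ, x = e 128 ^ n := fun x hx r => by
    obtain ⟨c, c1, c2⟩ := (h.cen (m⁻¹ * x * m)).1 (by
      rw [mul_assoc, mz, mul_assoc, ← mul_assoc x, ← r, ← mul_right_inj m, ← mul_assoc m (e 1), mz]; group)
    have xc : x = m * e c * m⁻¹ := by rw [c2]; group
    have c3 := (nk' c1 (by decide : 128 ∈ K9) (by
      rw [c2, mul_assoc _ m, my, mul_assoc m⁻¹, ← mul_assoc x, (mD (l1 hx)).1, ← mul_right_inj m, my]; group)).2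
      (cb h l2 (x := m⁻¹ * x * m⁻¹⁻¹) (by
        rw [conj_pow, show x ^ _ = 1 from congrArg Subtype.val (pow_card_eq_one' (x := (⟨x, hx⟩ : L)))]; simp) c1 (by simpa using c2))
    rcases (k9 c c3).2.2.2.2.2 with r | ⟨a, a1, r⟩
    · obtain ⟨n, r⟩ := pw c r
      exact ⟨n, by rw [xc, r, mp]⟩
    obtain ⟨n, a2⟩ := pw a a1
    have p : Commute x (e 160) := (mD (l1 hx)).2
    have q : Commute (e 128 ^ n) (e 160) := Commute.pow_left (ab _ (inK 128 (by decide)) _ (inK 160 (by decide))) n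
    refine (hc (show Commute (m * e 160 * m⁻¹) (e 160) from ?_)).elim
    rcases r with r | r <;> nth_rw 1 [← r]
    · rw [← h.mul, ← conj_mul, ← xc, a2, mp]; exact p.mul_left q
    · rw [← h.mul, ← h.mul, ← conj_mul, ← conj_mul, ← xc, a2, mp]; exact p.mul_left (p.mul_left q)
  have n1 := nK 579 fun a r => (k9 a r).2.2.1
  have n2 := nK 296 fun a r => (k9 a r).2.2.2.1
  have C : ∀ k ∈ L, e 1 * k = k * e 1 := fun k hk => by
    obtain ⟨c, c1, c2, c3⟩ := dec l2 (h.meq1.2 (by decide +kernel)) (l3 _ n1) hk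
    obtain ⟨d, d1, d2, d3⟩ := dec l2 (a := e 579 * e 1) (by rw [h.mul, h.meq1]; decide +kernel) (l3 _ (mul_mem n1 (le_normalizer zD))) hk
    obtain ⟨a, rfl⟩ := A c c1 c2
    obtain ⟨b, r⟩ := A _ (l3 _ (inv_mem n2) d d1) (by
      rw [h.mul, ← jj h (by decide +kernel : cj M I 296 579 = M 579 1)] at d2
      rw [← mul_right_inj (e 296), ← mul_left_inj (e 296)⁻¹]
      simpa [mul_assoc] using d2)
    have : d = e 128 ^ (2 * b) := by
      rw [pow_mul, ← y2, ← jj h (by decide +kernel : cj M I 296 128 = 256), conj_pow, ← r]; group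
    exact cc h.z2 (by rw [pow_three, h.mul, h.meq1]; decide +kernel) (mD (l1 hk)).1.symm (h.meq.2 (by decide +kernel)) (h.zc _) c3
      (this ▸ d3)
  have N : ∀ n ∈ normalizer (K : Set G), ∃ c < 1152, e c = n := fun n hn => by
    have a := (mem_normalizer_iff.1 (H26.normalizer_le_normalizer_centralizer K hn) _).1 zD
    refine (h.cen n).1 (mul_inv_eq_iff_eq_mul.1 (iz n a ?_))
    generalize n * e 1 * n⁻¹ = g at a
    refine (mul_inv_eq_iff_eq_mul.1 (iz g (mul_mem (mul_mem a zD) (inv_mem a)) ?_)).symm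
    rw [← mul_left_inj (e 1)⁻¹, mul_assoc, C _ (l4 g a)]; group
  have hK : H26.IsSyl 3 K ⊤ := H26.isSyl_of_normalizer ⟨le_inf le_top le_normalizer, H26.isPGroup_iff_mem.2 (by
      rintro _ ⟨a, -, p, rfl⟩
      exact ⟨1, by rw [pow_one, pow_three, h.mul, h.meq1, (k9 a p).2.1]⟩), fun Q q1 q2 q3 => le_antisymm (fun x hx => by
      obtain ⟨c, c1, rfl⟩ := N x (q3 hx).2
      obtain ⟨a, -, p, r⟩ := (mem_normalizer_iff.1 (q3 hx).2 _).1 (inK 128 (by decide))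
      obtain ⟨k, hk⟩ := H26.isPGroup_iff_mem.1 q1 _ hx
      exact inK c ((nk' c1 p r.symm).2 (cb h (Odd.pow (by decide)) hk c1 rfl))) q2⟩
  have mt : m = u * e 8 * e 128 * (u * e 8)⁻¹ := by
    rw [hm, ← jj h (by decide +kernel : cj M I 8 128 = 132)]; simp [mul_assoc, inv_self s]
  obtain ⟨g, g1, g2⟩ := (hK.mono (K := centralizer {e 128}) (fun x hx => mem_centralizer_singleton_iff.2
    (ab x hx _ (inK 128 (by decide)))) le_top).exists_cj_le (H26.isPGroup_zpowers (x := m) ⟨1, by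
      rw [mt, conj_pow, pow_one, pow_three, h.mul, h.meq1.2 (by decide +kernel)]; simp⟩)
    (zpowers_le.2 (mem_centralizer_singleton_iff.2 my))
  have g3 := g2 (H26.conj_mem_cj (mem_zpowers m))
  have g4 : g * (u * e 8) * e 128 * (g * (u * e 8))⁻¹ = g * m * g⁻¹ := by rw [mt]; group
  obtain ⟨n, n1, n2⟩ := fuse hK (fun x hx => ab x hx _ (inK 128 (by decide))) (g := g * (u * e 8)) fun x hx => ab x hx _ (g4 ▸ g3)
  obtain ⟨c, c1, rfl⟩ := N n n1
  obtain ⟨a, -, p, r⟩ := g3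
  obtain ⟨k, hk⟩ := pw a (List.mem_cons_of_mem _ (nk' c1 p (n2.trans (g4.trans r.symm))).1)
  have : m = e a := by
    rw [hk, ← mul_right_inj g, (Commute.pow_right (mem_centralizer_singleton_iff.1 g1) k).eq, ← hk, r]; group
  rw [this, h.zc, mul_left_inj] at mz
  exact absurd (h.inj _ (by decide) _ (by decide) mz) (by decide)

theorem cls {K : Subgroup G} (hK : h.sub ≤ K) (uK : u ∈ K) : ∀ w ∈ K, w * w = 1 → w ≠ 1 → ∃ g ∈ K, g * w * g⁻¹ = e 1 := fun w a b c => by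
  obtain ⟨g, hg, r, r1, r2⟩ := h.into qok tree cok hK a b c
  have k : ∀ {x y a b : G}, x * a * x⁻¹ = b → y * b * y⁻¹ = e 1 → y * x * a * (y * x)⁻¹ = e 1 := by
    rintro x y a _ rfl r; rw [← r]; group
  have i2 : u * e 2 * u⁻¹ = e 1 := mul_inv_eq_iff_eq_mul.2 (i 4)
  have m := fun a => hK (h.mem' a)
  simp only [List.mem_cons, List.not_mem_nil, or_false] at r1
  rcases r1 with rfl | rfl | rfl | rfl
  · exact ⟨g, hg, r2⟩
  · exact ⟨_, mul_mem uK hg, k r2 i2⟩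
  · exact ⟨_, mul_mem (mul_mem (mul_mem uK (m _)) uK) hg, k r2 (k (mul_inv_eq_iff_eq_mul.2 (i 3))
      (k (jj h (by decide +kernel : cj M I 224 8 = 2)) i2))⟩
  · exact ⟨_, mul_mem (mul_mem (mul_mem uK (m _)) uK) hg, k r2 (k (mul_inv_eq_iff_eq_mul.2 (i 2))
      (k (jj h (by decide +kernel : cj M I 128 16 = 2)) i2))⟩

theorem fin (F : Type*) [Field F] [Fintype F] (hF : Fintype.card F = 9) :
    Nonempty (G ≃* PSU 4 F 3) ∧ Nat.card G = 3265920 ∧ ∀ w, w * w = 1 → w ≠ 1 → IsConj w (e 1) := by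
  obtain ⟨S, m⟩ := H27.U43.model F hF
  have := S.finite
  obtain ⟨-, b, c, d, f, g⟩ := packX m pack
  have h' := CG.ofRules b c two
  obtain ⟨x, -, x1, x2⟩ := h.fixp i cube
  obtain ⟨φ, a, -, b⟩ := h.hom h' (D := D0) (h.rel i alok (by
    simp only [D0, List.forall_mem_cons]
    exact ⟨rfl, rfl, by simp [W, h.zero, s], x2.trans (Nat.eq_of_beq_eq_true x1 ▸ h.zero),
      (congrArg _ (by decide +kernel)).trans (h.comm3 i s cm1).1, (congrArg _ (by decide +kernel)).trans (h.comm3 i s cm2).1,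
      loc h i s, fun _ r => nomatch r⟩)) (h'.rel d alok f) c0
    (g _ (fun a => mem_sup_left (h'.mem' a)) (mem_sup_right (mem_zpowers _))) m.card
  have := Agent.S0283.result (F := F) (q := 3) hF 4 (by decide) (by decide)
  have j : Function.Injective φ := by
    rcases (inferInstance : φ.ker.Normal).eq_bot_or_eq_top with k | k
    · exact (MonoidHom.ker_eq_bot_iff _).1 k
    · exact (h.z1 ((a 1).symm.trans (k.ge (mem_top _)))).elim
  have t : h.sub ⊔ zpowers u = ⊤ := top_of_one (s := e 2) h.z2 (h.meq1.2 (by decide +kernel)) h.z1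
    (fun r => absurd ((h.eq1 (by decide)).1 r) (by decide)) (fun r => absurd (h.inj _ (by decide) _ (by decide) r) (by decide))
    (h.zc 2).symm (fun y r => mem_sup_left (h.mem.2 r)) (cls h i s le_sup_left (mem_sup_right (mem_zpowers u))) fun r => by
      rw [← b] at r
      exact absurd (h'.meq.1 (IsSimpleGroup.comm_iff_isSolvable.2 (Group.isSolvable_of_isSolvable_injective
        (f := (MonoidHom.ofInjective j).toMonoidHom) (MulEquiv.injective _)) _ _)) (by decide +kernel : ¬ M 2 4 = M 4 2)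
  have ψ := (MulEquiv.ofBijective φ ⟨j, MonoidHom.range_eq_top.1 (b.trans t)⟩).symm
  exact ⟨⟨ψ⟩, (Nat.card_congr ψ.toEquiv).trans m.card, fun w a b =>
    isConj_iff.2 ((cls h i s le_top (mem_top u) w (mem_top w) a b).imp fun _ r => r.2)⟩

omit h i s in
theorem main {z : G} (hz : orderOf z = 2) {H₁ H₂ : Subgroup (centralizer ({z} : Set G))}
    (hK : H₁ ⊔ H₂ = Subgroup.closure {x | Odd (orderOf x)}) (hn₁ : (H₁.subgroupOf (H₁ ⊔ H₂)).Normal)
    (hn₂ : (H₂.subgroupOf (H₁ ⊔ H₂)).Normal) (e₁ : H₁ ≃* S3) (e₂ : H₂ ≃* S3)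
    (hm : (H₁ ⊓ H₂).map (Subgroup.subtype _) = zpowers z) {Q : Subgroup (centralizer ({z} : Set G))} [Q.Normal]
    (hQ : Q = (pCore 2 ↥(H₁ ⊔ H₂)).map (Subgroup.subtype _)) (hF : generalizedFittingSubgroup _ = Q)
    (hw : ∃ g : G, (∃ hq : g * z * g⁻¹ ∈ centralizer ({z} : Set G), (⟨g * z * g⁻¹, hq⟩ : centralizer ({z} : Set G)) ∈ Q) ∧
      g * z * g⁻¹ ≠ z) (hH : Nat.card (centralizer ({z} : Set G)) = 2 ^ 7 * 3 ^ 2)
    (hg : ∀ g : G, g * z * g⁻¹ ∈ Q.map (Subgroup.subtype _) → g * z * g⁻¹ ≠ z → Nat.card (Q.map (Subgroup.subtype _) ⊓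
      (Q.map (Subgroup.subtype _)).map (MulAut.conj g).toMonoidHom : Subgroup G) = 4)
    (F : Type*) [Field F] [Fintype F] (h9 : Fintype.card F = 9) :
    Nonempty (G ≃* PSU 4 F 3) ∧ Nat.card G = 3265920 ∧ ∃ z : G, ∀ w, w * w = 1 → w ≠ 1 → IsConj w z := by
  obtain ⟨e, e1, h⟩ := setup hz hK hn₁ hn₂ e₁ e₂ hm hQ hF
  obtain ⟨g, ⟨g1, g2⟩, g3⟩ := hw
  obtain ⟨u, H⟩ := exu h (g := g) (by rw [e1]; exact ⟨_, g2, rfl⟩) (by rwa [e1]) (by rwa [e1])
  obtain ⟨e, h, v, v1, v2, v3, v4⟩ := build h H (by rwa [e1])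
  obtain ⟨u, i, s⟩ := exists_u h v1 v2 v3 v4
  exact (fin h i s F h9).imp_right (And.imp_right fun r => ⟨_, r⟩)

end L.U4
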